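import Mathlib
import Cfsg.Agent.Lib.AutSL2Out
import Cfsg.Agent.Lib.PSL2Torus
import Cfsg.Agent.Lib.PSL2Inv
import Cfsg.Agent.ClassicalGeometry.InvolutiveNorm

/-!
# Field involutions of `PSL(2,F)`

`π : SL(2,F) →* L` surjective with kernel `±1`, `F` a finite field of odd order.
Normal form (Hilbert 90) of an involutory automorphism of `L` that is not induced by `GL(2,F)`.
-/

set_option autoImplicit false

namespace Cfsg.Agent.LFourA.FieldInv

open Matrix Cfsg.Agent.Lib.SL2Mat Cfsg.Agent.Lib.AutSL2 Cfsg.Agent.Lib.AutSL2Out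
  Cfsg.Agent.Lib.PSL2Torus Cfsg.Agent.Lib.PSL2Inv

section scalar

variable {F : Type*} [Field F]

theorem comm_of_conj {k : GL (Fin 2) F} {x y : Matrix.SpecialLinearGroup (Fin 2) F}
    (h : conjGL k x = y) : k.1 * x.1 = y.1 * k.1 := by
  have := congrArg Subtype.val h
  rw [conjGL_val] at this
  rw [← this, Matrix.mul_assoc, inv_val_mul_val, Matrix.mul_one]

theorem gl_det_ne (k : GL (Fin 2) F) : k.1.det ≠ 0 := by
  have := k.isUnit.map (Matrix.detMonoidHom (n := Fin 2) (R := F))
  exact this.ne_zero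

/-- a matrix fixing `up 1` and `lo 1` is scalar -/
theorem exists_scalar {k : GL (Fin 2) F} (h1 : conjGL k (up 1) = up 1) (h2 : conjGL k (lo 1) = lo 1) :
    ∃ c : F, c ≠ 0 ∧ k.1 = c • (1 : Matrix (Fin 2) (Fin 2) F) := by
  have e1 := comm_of_conj h1
  have e2 := comm_of_conj h2
  have a1 := congrFun (congrFun e1 0) 0
  have a2 := congrFun (congrFun e1 0) 1
  have b1 := congrFun (congrFun e2 0) 0
  simp only [Matrix.mul_apply, Fin.sum_univ_two] at a1 a2 b1
  change k.1 0 0 * 1 + k.1 0 1 * 0 = 1 * k.1 0 0 + 1 * k.1 1 0 at a1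
  change k.1 0 0 * 1 + k.1 0 1 * 1 = 1 * k.1 0 1 + 1 * k.1 1 1 at a2
  change k.1 0 0 * 1 + k.1 0 1 * 1 = 1 * k.1 0 0 + 0 * k.1 1 0 at b1
  have c10 : k.1 1 0 = 0 := by linear_combination -a1
  have c01 : k.1 0 1 = 0 := by linear_combination b1
  have c11 : k.1 1 1 = k.1 0 0 := by linear_combination -a2
  have hk : k.1 = k.1 0 0 • (1 : Matrix (Fin 2) (Fin 2) F) := by
    ext i j
    fin_cases i <;> fin_cases j <;> simp [c10, c01, c11]
  refine ⟨k.1 0 0, ?_, hk⟩
  intro h0
  apply gl_det_ne k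
  rw [hk, h0, zero_smul, Matrix.det_zero]

theorem conjGL_scalar {k : GL (Fin 2) F} {c : F}
    (hk : k.1 = c • (1 : Matrix (Fin 2) (Fin 2) F)) (x : Matrix.SpecialLinearGroup (Fin 2) F) :
    conjGL k x = x := by
  apply Subtype.ext
  have h : k.1 * k⁻¹.1 = 1 := by rw [← Units.val_mul, mul_inv_cancel, Units.val_one]
  rw [conjGL_val]
  calc k.1 * x.1 * k⁻¹.1 = x.1 * (k.1 * k⁻¹.1) := by
        rw [hk]; simp
    _ = x.1 := by rw [h, Matrix.mul_one]

/-- conjugation is the same for proportional matrices -/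
theorem conjGL_smul {k l : GL (Fin 2) F} {c : F} (hk : k.1 = c • l.1)
    (x : Matrix.SpecialLinearGroup (Fin 2) F) : conjGL k x = conjGL l x := by
  have h1 : (k * l⁻¹).1 = c • (1 : Matrix (Fin 2) (Fin 2) F) := by
    rw [Units.val_mul, hk, Matrix.smul_mul]
    congr 1
    rw [← Units.val_mul, mul_inv_cancel, Units.val_one]
  have h2 : conjGL k x = conjGL (k * l⁻¹) (conjGL l x) := by
    rw [← MulAut.mul_apply, ← map_mul, inv_mul_cancel_right]
  rw [h2, conjGL_scalar h1]

/-- uniqueness of the decomposition modulo `±1` -/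
theorem eq_one_of_map (h2 : (2 : F) ≠ 0) {k : GL (Fin 2) F} {τ : F ≃+* F}
    (h : ∀ x, conjGL k (fieldAut τ x) = x ∨ conjGL k (fieldAut τ x) = -x) :
    τ = 1 ∧ ∃ c : F, c ≠ 0 ∧ k.1 = c • (1 : Matrix (Fin 2) (Fin 2) F) := by
  have h4 : (4 : F) ≠ 0 := by
    have : (4 : F) = 2 * 2 := by norm_num
    rw [this]; exact mul_ne_zero h2 h2
  have key : ∀ x, tr x = 2 → conjGL k (fieldAut τ x) = x := by
    intro x hx
    rcases h x with h' | h'
    · exact h'
    · exfalso
      have := congrArg tr h'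
      rw [tr_conjGL, tr_fieldAut, hx] at this
      have hneg : tr (-x) = -tr x := by
        change -ent x 0 0 + -ent x 1 1 = -(ent x 0 0 + ent x 1 1)
        ring
      rw [hneg, hx, map_ofNat] at this
      apply h4
      linear_combination this
  have hup : ∀ b : F, conjGL k (up (τ b)) = up b := fun b => by
    rw [← fieldAut_up]; exact key _ (by simp [tr]; norm_num)
  have hlo : ∀ b : F, conjGL k (lo (τ b)) = lo b := fun b => by
    rw [← fieldAut_lo]; exact key _ (by simp [tr]; norm_num)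
  have e1 := hup 1
  have e2 := hlo 1
  rw [map_one] at e1 e2
  obtain ⟨c, hc, hk⟩ := exists_scalar e1 e2
  refine ⟨?_, c, hc, hk⟩
  ext b
  have := hup b
  rw [conjGL_scalar hk] at this
  exact up_inj this

end scalar

section hilbert

variable {F : Type*} [Field F]

/-- `v + A σ(v)` -/
def fv (σ : F ≃+* F) (A : Matrix (Fin 2) (Fin 2) F) (v : Fin 2 → F) : Fin 2 → F :=
  v + A *ᵥ (fun i => σ (v i))

theorem span_fv (σ : F ≃+* F) (hσ : ∃ a, σ a ≠ a) (A : Matrix (Fin 2) (Fin 2) F) :
    Submodule.span F (Set.range (fv σ A)) = ⊤ := by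
  obtain ⟨a, ha⟩ := hσ
  rw [eq_top_iff]
  intro v _
  have h1 : fv σ A v ∈ Submodule.span F (Set.range (fv σ A)) := Submodule.subset_span ⟨v, rfl⟩
  have h2 : fv σ A (a • v) ∈ Submodule.span F (Set.range (fv σ A)) :=
    Submodule.subset_span ⟨a • v, rfl⟩
  have h3 : (fun i => σ ((a • v) i)) = σ a • (fun i => σ (v i)) := by
    funext i
    change σ (a * v i) = σ a * σ (v i)
    rw [map_mul]
  have h4 : fv σ A (a • v) - σ a • fv σ A v = (a - σ a) • v := by
    rw [fv, fv, h3, mulVec_smul, smul_add, sub_smul]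
    abel
  have h5 : (a - σ a) • v ∈ Submodule.span F (Set.range (fv σ A)) := by
    rw [← h4]
    exact Submodule.sub_mem _ h2 (Submodule.smul_mem _ _ h1)
  have h6 : a - σ a ≠ 0 := fun h => ha (sub_eq_zero.1 h).symm
  have := Submodule.smul_mem _ (a - σ a)⁻¹ h5
  rwa [smul_smul, inv_mul_cancel₀ h6, one_smul] at this

/-- Hilbert's Theorem 90 for `GL(2,F)` and an involutory automorphism of `F`. -/
theorem hilbert (σ : F ≃+* F) (hσ2 : ∀ a, σ (σ a) = a) (hσ : ∃ a, σ a ≠ a)
    (A : Matrix (Fin 2) (Fin 2) F) (hA : A * A.map σ = 1) :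
    ∃ B : Matrix (Fin 2) (Fin 2) F, IsUnit B ∧ A * B.map σ = B := by
  obtain ⟨b, hbS, hbspan, hli⟩ := exists_linearIndependent F (Set.range (fv σ A))
  have htop : ⊤ ≤ Submodule.span F (Set.range (Subtype.val : b → (Fin 2 → F))) := by
    rw [Subtype.range_coe, hbspan, span_fv σ hσ]
  let bas : Module.Basis b F (Fin 2 → F) := Module.Basis.mk hli htop
  have hcard : Nat.card b = 2 := by
    rw [← Module.finrank_eq_nat_card_basis bas, Module.finrank_fintype_fun_eq_card,
      Fintype.card_fin]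
  have hfin : Finite b := Nat.finite_of_card_ne_zero (by rw [hcard]; decide)
  let e : b ≃ Fin 2 := Finite.equivFinOfCardEq hcard
  let B : Matrix (Fin 2) (Fin 2) F := fun i j => ((e.symm j : b) : Fin 2 → F) i
  refine ⟨B, ?_, ?_⟩
  · rw [← Matrix.linearIndependent_cols_iff_isUnit]
    exact hli.comp _ e.symm.injective
  · ext i j
    obtain ⟨v, hv⟩ := hbS (e.symm j).2
    have hB : ∀ i, B i j = fv σ A v i := fun i => (congrFun hv i).symm
    rw [hB, Matrix.mul_apply]
    have h1 : (fun k => B.map σ k j) = fun k => σ (fv σ A v k) := by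
      funext k
      change σ (B k j) = _
      rw [hB]
    have h2 : (∑ k, A i k * B.map σ k j) = (A *ᵥ (fun k => σ (fv σ A v k))) i := by
      rw [← h1]; rfl
    rw [h2]
    have h3 : (fun k => σ (fv σ A v k)) = (fun k => σ (v k)) + (A.map σ) *ᵥ v := by
      funext k
      change σ (v k + (A *ᵥ fun i => σ (v i)) k) = σ (v k) + ((A.map σ) *ᵥ v) k
      rw [map_add]
      congr 1
      change σ (∑ l, A k l * σ (v l)) = ∑ l, σ (A k l) * v l
      rw [map_sum]
      apply Finset.sum_congr rfl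
      intro l _
      rw [map_mul, hσ2]
    rw [h3, mulVec_add, mulVec_mulVec, hA, one_mulVec, fv, add_comm]

end hilbert

section main

variable {F : Type*} [Field F] {L : Type*} [Group L]

/-- `α` is the automorphism of `L` induced by the field involution `σ` with fixed field `K`. -/
structure FInv (π : Matrix.SpecialLinearGroup (Fin 2) F →* L) (α : MulAut L) (σ : F ≃+* F)
    (K : Subfield F) : Prop where
  two : (2 : F) ≠ 0
  surj : Function.Surjective π
  ker : ∀ x, π x = 1 ↔ x = 1 ∨ x = -1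
  mem : ∀ a, a ∈ K ↔ σ a = a
  inv : ∀ a, σ (σ a) = a
  ne : ∃ a, σ a ≠ a
  card : Nat.card F = Nat.card K ^ 2
  act : ∀ x, α (π x) = π (fieldAut σ x)

/-- the fixed field of an involutory automorphism -/
theorem exists_fixed [Finite F] (σ : F ≃+* F) (hσ2 : ∀ a, σ (σ a) = a) (hσ : ∃ a, σ a ≠ a) :
    ∃ K : Subfield F, (∀ a, a ∈ K ↔ σ a = a) ∧ Nat.card F = Nat.card K ^ 2 := by
  classical
  have hs : σ ^ 2 = 1 := by
    ext a
    rw [pow_two]
    exact hσ2 a
  have hne : σ ≠ 1 := by
    rintro rfl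
    obtain ⟨a, ha⟩ := hσ
    exact ha rfl
  have hord : orderOf σ = 2 := orderOf_eq_prime hs hne
  have : Finite (F ≃+* F) :=
    Finite.of_injective (fun σ : F ≃+* F => (σ : F → F)) DFunLike.coe_injective
  have : Fintype (Subgroup.zpowers σ) := Fintype.ofFinite _
  let K := FixedPoints.subfield (Subgroup.zpowers σ) F
  have hK : ∀ a, a ∈ K ↔ σ a = a := by
    intro a
    constructor
    · intro h
      exact h ⟨σ, Subgroup.mem_zpowers σ⟩
    · rintro h ⟨τ, hτ⟩
      change τ a = a
      obtain ⟨k, rfl⟩ := Subgroup.mem_zpowers_iff.1 hτ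
      have h1 : σ ∈ MulAction.stabilizer (F ≃+* F) a := h
      exact (MulAction.stabilizer (F ≃+* F) a).zpow_mem h1 k
  refine ⟨K, hK, ?_⟩
  have h1 := FixedPoints.finrank_eq_card (Subgroup.zpowers σ) F
  rw [← Nat.card_eq_fintype_card, Nat.card_zpowers, hord] at h1
  rw [← h1]
  exact Module.natCard_eq_pow_finrank

/-- An involutory automorphism of `L` which is not induced by `GL(2,F)` is a field involution. -/
theorem exists_finv [Finite F] (h2 : (2 : F) ≠ 0) {π : Matrix.SpecialLinearGroup (Fin 2) F →* L}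
    (hπ : Function.Surjective π) (hk : ∀ x, π x = 1 ↔ x = 1 ∨ x = -1) {α : MulAut L}
    (hα : ∀ z, α (α z) = z) (hno : ¬ ∃ g : GL (Fin 2) F, ∀ x, α (π x) = π (conjGL g x)) :
    ∃ (h : GL (Fin 2) F) (σ : F ≃+* F) (K : Subfield F),
      FInv (π.comp (conjGL h).toMonoidHom) α σ K := by
  have hcen : π.ker ≤ Subgroup.center (Matrix.SpecialLinearGroup (Fin 2) F) := by
    intro x hx
    rw [MonoidHom.mem_ker, hk] at hx
    rcases hx with rfl | rfl
    · exact one_mem _
    · rw [Subgroup.mem_center_iff]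
      intro y
      rw [mul_neg, neg_mul, mul_one, one_mul]
  obtain ⟨g, σ, hgσ⟩ := exists_gl_ringEquiv π hπ hcen α
  have hsemi : ∀ (k : GL (Fin 2) F) (x), fieldAut σ (conjGL k x) =
      conjGL (Matrix.GeneralLinearGroup.map σ.toRingHom k) (fieldAut σ x) := by
    intro k x
    have := DFunLike.congr_fun (fieldAut_mul_conjGL σ k) x
    rwa [MulAut.mul_apply, MulAut.mul_apply] at this
  -- the square
  have hsq : ∀ x, conjGL (g * Matrix.GeneralLinearGroup.map σ.toRingHom g) (fieldAut (σ * σ) x) = x ∨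
      conjGL (g * Matrix.GeneralLinearGroup.map σ.toRingHom g) (fieldAut (σ * σ) x) = -x := by
    intro x
    have h1 := hα (π x)
    rw [hgσ, hgσ, hsemi] at h1
    have h3 := (map_eq_iff π hk).1 h1
    have h5 : conjGL (g * Matrix.GeneralLinearGroup.map σ.toRingHom g) (fieldAut (σ * σ) x) =
        conjGL g (conjGL (Matrix.GeneralLinearGroup.map σ.toRingHom g) (fieldAut σ (fieldAut σ x))) := by
      rw [map_mul, map_mul]; rfl
    rw [h5]
    exact h3
  obtain ⟨hσ, c, hc, hgc⟩ := eq_one_of_map h2 hsq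
  have hσ2 : ∀ a, σ (σ a) = a := fun a => DFunLike.congr_fun hσ a
  have hσ1 : σ ≠ 1 := by
    rintro rfl
    apply hno
    refine ⟨g, fun x => ?_⟩
    rw [hgσ, map_one, MulAut.one_apply]
  have hσne : ∃ a, σ a ≠ a := by
    by_contra hcon
    push Not at hcon
    exact hσ1 (RingEquiv.ext hcon)
  have hmap : (Matrix.GeneralLinearGroup.map σ.toRingHom g).1 = g.1.map σ := rfl
  have hgc' : g.1 * g.1.map σ = c • (1 : Matrix (Fin 2) (Fin 2) F) := by
    rw [← hmap, ← Units.val_mul, hgc]
  -- `c` is fixed by `σ`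
  have hgc2 : g.1.map σ * g.1 = σ c • (1 : Matrix (Fin 2) (Fin 2) F) := by
    have h1 := congrArg (fun M : Matrix (Fin 2) (Fin 2) F => σ.toRingHom.mapMatrix M) hgc'
    simp only [map_mul] at h1
    have h3 : σ.toRingHom.mapMatrix (g.1.map σ) = g.1 := by
      ext i j
      exact hσ2 _
    have h4 : σ.toRingHom.mapMatrix (c • (1 : Matrix (Fin 2) (Fin 2) F)) =
        σ c • (1 : Matrix (Fin 2) (Fin 2) F) := by
      ext i j
      change σ (c * (1 : Matrix (Fin 2) (Fin 2) F) i j) = σ c * (1 : Matrix (Fin 2) (Fin 2) F) i j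
      rw [map_mul]
      congr 1
      by_cases hij : i = j
      · rw [hij, Matrix.one_apply_eq, map_one]
      · rw [Matrix.one_apply_ne hij, map_zero]
    rw [h3, h4] at h1
    exact h1
  have hcσ : σ c = c := by
    have h1 : g.1.map σ * (g.1 * g.1.map σ) = c • g.1.map σ := by
      rw [hgc', Matrix.mul_smul, Matrix.mul_one]
    rw [← Matrix.mul_assoc, hgc2, Matrix.smul_mul, Matrix.one_mul] at h1
    by_contra hne
    have h3 : (σ c - c) • g.1.map σ = 0 := by rw [sub_smul, h1, sub_self]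
    have h4 : g.1.map σ = 0 := (smul_eq_zero.1 h3).resolve_left (sub_ne_zero.2 hne)
    rw [h4, Matrix.mul_zero] at hgc'
    have := congrFun (congrFun hgc' 0) 0
    simp at this
    exact hc this.symm
  have hσid : σ.toRingHom ≠ RingHom.id F := by
    intro h
    obtain ⟨a, ha⟩ := hσne
    exact ha (DFunLike.congr_fun h a)
  obtain ⟨μ, hμ⟩ := Cfsg.Agent.ClassicalGeometry.InvolutiveNorm.exists_mul_sigma_eq
    (σ := σ.toRingHom) hσid hσ2 (a := c⁻¹) (by
      change σ c⁻¹ = c⁻¹
      rw [map_inv₀, hcσ])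
  have hμ' : μ * σ μ = c⁻¹ := hμ
  have hμ0 : μ ≠ 0 := by
    rintro rfl
    rw [zero_mul] at hμ'
    exact inv_ne_zero hc hμ'.symm
  have hA : (μ • g.1) * (μ • g.1).map σ = 1 := by
    have h1 : (μ • g.1).map σ = σ μ • g.1.map σ := by
      ext i j
      change σ (μ * g.1 i j) = σ μ * σ (g.1 i j)
      rw [map_mul]
    rw [h1, Matrix.smul_mul, Matrix.mul_smul, hgc', smul_smul, smul_smul, hμ',
      inv_mul_cancel₀ hc, one_smul]
  obtain ⟨B, hBu, hB⟩ := hilbert σ hσ2 hσne (μ • g.1) hA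
  obtain ⟨h, rfl⟩ := hBu
  obtain ⟨K, hK, hcard⟩ := exists_fixed σ hσ2 hσne
  have hbij : Function.Bijective (conjGL h) := (conjGL h).bijective
  refine ⟨h, σ, K, ⟨h2, ?_, ?_, hK, hσ2, hσne, hcard, ?_⟩⟩
  · exact hπ.comp hbij.2
  · intro x
    change π (conjGL h x) = 1 ↔ _
    rw [hk]
    have h1 : conjGL h x = 1 ↔ x = 1 := by
      rw [← (conjGL h).injective.eq_iff (a := x) (b := 1), map_one]
    have h3 : conjGL h x = -1 ↔ x = -1 := by
      have h4 : conjGL h (-1) = -1 := by
        apply Subtype.ext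
        rw [conjGL_val]
        change h.1 * (-(1 : Matrix (Fin 2) (Fin 2) F)) * h⁻¹.1 = -(1 : Matrix (Fin 2) (Fin 2) F)
        rw [Matrix.mul_neg, Matrix.mul_one, Matrix.neg_mul, ← Units.val_mul, mul_inv_cancel,
          Units.val_one]
      rw [← (conjGL h).injective.eq_iff (a := x) (b := -1), h4]
    rw [h1, h3]
  · intro x
    change α (π (conjGL h x)) = π (conjGL h (fieldAut σ x))
    rw [hgσ, hsemi]
    have h1 : conjGL g (conjGL (Matrix.GeneralLinearGroup.map σ.toRingHom h) (fieldAut σ x)) =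
        conjGL (g * Matrix.GeneralLinearGroup.map σ.toRingHom h) (fieldAut σ x) := by
      rw [map_mul]; rfl
    rw [h1]
    congr 1
    apply conjGL_smul (c := μ⁻¹)
    have h3 : (Matrix.GeneralLinearGroup.map σ.toRingHom h).1 = h.1.map σ := rfl
    have h5 : μ⁻¹ • h.1 = μ⁻¹ • (μ • g.1 * h.1.map σ) := by rw [hB]
    rw [Units.val_mul, h3, h5, Matrix.smul_mul, smul_smul, inv_mul_cancel₀ hμ0, one_smul]

end main

section four

variable {F : Type*} [Field F]

/-- a matrix commuting with two anticommuting square roots of `-1` is scalar -/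
theorem scalar_of_quat (h2 : (2 : F) ≠ 0) {i j : Matrix.SpecialLinearGroup (Fin 2) F}
    (hi : i * i = -1) (hj : j * j = -1) (hij : i * j = -(j * i)) {X : Matrix (Fin 2) (Fin 2) F}
    (h1 : X * i.1 = i.1 * X) (h3 : X * j.1 = j.1 * X) :
    X = X 0 0 • (1 : Matrix (Fin 2) (Fin 2) F) := by
  have hi' := tr_of_sq h2 hi
  have hj' := tr_of_sq h2 hj
  have di := det_eq i
  have dj := det_eq j
  rw [hi'] at di
  rw [hj'] at dj
  have e00 := congrFun (congrFun h1 0) 0
  have e01 := congrFun (congrFun h1 0) 1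
  have e10 := congrFun (congrFun h1 1) 0
  have f00 := congrFun (congrFun h3 0) 0
  have f01 := congrFun (congrFun h3 0) 1
  have f10 := congrFun (congrFun h3 1) 0
  have g00 := congrArg (fun x => ent x 0 0) hij
  simp only [Matrix.mul_apply, Fin.sum_univ_two] at e00 e01 e10 f00 f01 f10
  have i11 : i.1 1 1 = - i.1 0 0 := hi'
  have j11 : j.1 1 1 = - j.1 0 0 := hj'
  change ent i 0 0 * -ent i 0 0 - ent i 0 1 * ent i 1 0 = 1 at di
  change ent (i * j) 0 0 = - ent (j * i) 0 0 at g00
  rw [ent_mul, ent_mul] at g00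
  change i.1 0 0 * j.1 0 0 + i.1 0 1 * j.1 1 0 = -(j.1 0 0 * i.1 0 0 + j.1 0 1 * i.1 1 0) at g00
  change i.1 0 0 * -i.1 0 0 - i.1 0 1 * i.1 1 0 = 1 at di
  change j.1 0 0 * -j.1 0 0 - j.1 0 1 * j.1 1 0 = 1 at dj
  rw [i11] at e01
  rw [j11] at f01
  generalize i.1 0 0 = a at *
  generalize i.1 0 1 = b at *
  generalize i.1 1 0 = c at *
  generalize j.1 0 0 = a' at *
  generalize j.1 0 1 = b' at *
  generalize j.1 1 0 = c' at *
  rw [i11] at e10
  rw [j11] at f10
  have k1 : X 0 1 * c = X 1 0 * b := by linear_combination e00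
  have k2 : (X 0 0 - X 1 1) * b = 2 * a * X 0 1 := by linear_combination e01
  have k3 : (X 0 0 - X 1 1) * c = 2 * a * X 1 0 := by linear_combination -e10
  have l1 : X 0 1 * c' = X 1 0 * b' := by linear_combination f00
  have l2 : (X 0 0 - X 1 1) * b' = 2 * a' * X 0 1 := by linear_combination f01
  have l3 : (X 0 0 - X 1 1) * c' = 2 * a' * X 1 0 := by linear_combination -f10
  obtain ⟨d, hd⟩ : ∃ d, d = X 0 0 - X 1 1 := ⟨_, rfl⟩
  rw [← hd] at k2 k3 l2 l3
  obtain ⟨A, hA⟩ : ∃ A, A = d * a + 2 * X 0 1 * c := ⟨_, rfl⟩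
  obtain ⟨B, hB⟩ : ∃ B, B = d * a' + 2 * X 0 1 * c' := ⟨_, rfl⟩
  have m1 : -d = a * A := by rw [hA]; linear_combination d * di + c * k2
  have m2 : -(2 * X 0 1) = b * A := by rw [hA]; linear_combination 2 * X 0 1 * di - a * k2
  have m3 : -(2 * X 1 0) = c * A := by
    rw [hA]; linear_combination 2 * X 1 0 * di - a * k3 - 2 * c * k1
  have n1 : -d = a' * B := by rw [hB]; linear_combination d * dj + c' * l2
  have n2 : -(2 * X 0 1) = b' * B := by rw [hB]; linear_combination 2 * X 0 1 * dj - a' * l2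
  have n3 : -(2 * X 1 0) = c' * B := by
    rw [hB]; linear_combination 2 * X 1 0 * dj - a' * l3 - 2 * c' * l1
  have hB0 : B = 0 := by
    have : 2 * B = 0 := by
      have hB2 : B = d * a' + 2 * X 1 0 * b' := by rw [hB]; linear_combination 2 * l1
      have : 2 * B = (d * a' + 2 * X 0 1 * c') + (d * a' + 2 * X 1 0 * b') := by
        rw [← hB, ← hB2]; ring
      rw [this]
      have s1 : d = -(a * A) := by linear_combination -m1
      have s2 : 2 * X 0 1 = -(b * A) := by linear_combination -m2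
      have s3 : 2 * X 1 0 = -(c * A) := by linear_combination -m3
      rw [s1, s2, s3]
      linear_combination -A * g00
    exact (mul_eq_zero.1 this).resolve_left h2
  rw [hB0, mul_zero] at n1 n2 n3
  have r1 : X 1 1 = X 0 0 := by linear_combination hd + n1
  have r2 : X 0 1 = 0 := by
    have : 2 * X 0 1 = 0 := by linear_combination -n2
    exact (mul_eq_zero.1 this).resolve_left h2
  have r3 : X 1 0 = 0 := by
    have : 2 * X 1 0 = 0 := by linear_combination -n3
    exact (mul_eq_zero.1 this).resolve_left h2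
  ext i' j'
  fin_cases i' <;> fin_cases j' <;> simp [r1, r2, r3]


variable {L : Type*} [Group L]

/-- An automorphism induced by `GL(2,F)` centralizing a four-group `{1,t,u,tu}` is inner, induced by
an element of the four-group. -/
theorem inner_of_four (h2 : (2 : F) ≠ 0) {π : Matrix.SpecialLinearGroup (Fin 2) F →* L}
    (hπ : Function.Surjective π) (hk : ∀ x, π x = 1 ↔ x = 1 ∨ x = -1) {α : MulAut L} {t u : L}
    (ht1 : t ≠ 1) (ht : t * t = 1) (hu1 : u ≠ 1) (hu : u * u = 1) (hut : u ≠ t) (hc : u * t = t * u)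
    (hαt : α t = t) (hαu : α u = u) {g : GL (Fin 2) F} (hg : ∀ x, α (π x) = π (conjGL g x)) :
    ∃ z, (z = 1 ∨ z = t ∨ z = u ∨ z = t * u) ∧ ∀ y, α y = z * y * z⁻¹ := by
  obtain ⟨i, rfl, hii, -⟩ := exists_lift_inv π h2 hπ hk ht1 ht
  obtain ⟨j, rfl, hjj, -⟩ := exists_lift_inv π h2 hπ hk hu1 hu
  have hneg : ∀ x y : Matrix.SpecialLinearGroup (Fin 2) F, -x * y = -(x * y) := fun x y => neg_mul x y
  have hij : i * j = -(j * i) := by
    rw [← map_mul, ← map_mul, map_eq_iff π hk] at hc
    rcases hc with hc | hc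
    · exfalso
      have h5 : (i * j) * (i * j) = 1 := by
        rw [mul_assoc, ← mul_assoc j i j, hc, mul_assoc i j j, hjj, mul_neg, mul_one, mul_neg, hii,
          neg_neg]
      rcases sq_eq_one h2 h5 with h6 | h6
      · apply hut
        rw [map_eq_iff π hk]
        right
        have : i * (i * j) = i := by rw [h6, mul_one]
        rw [← mul_assoc, hii, neg_one_mul] at this
        rw [← this, neg_neg]
      · apply hut
        rw [map_eq_iff π hk]
        left
        have : i * (i * j) = -i := by rw [h6, mul_neg, mul_one]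
        rw [← mul_assoc, hii, neg_one_mul] at this
        exact neg_injective this
    · rw [hc, neg_neg]
  -- signs
  have hgi : conjGL g i = i ∨ conjGL g i = -i := by
    rw [← map_eq_iff π hk, ← hg, hαt]
  have hgj : conjGL g j = j ∨ conjGL g j = -j := by
    rw [← map_eq_iff π hk, ← hg, hαu]
  have hcneg : ∀ x, conjGL g (-x) = -(conjGL g x) := by
    intro x
    apply Subtype.ext
    rw [conjGL_val]
    change g.1 * (-x.1) * g⁻¹.1 = -(conjGL g x).1
    rw [Matrix.mul_neg, Matrix.neg_mul, conjGL_val]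
  -- find `m` with `g m` centralizing `i` and `j`
  have key : ∃ m : Matrix.SpecialLinearGroup (Fin 2) F, (m = 1 ∨ m = i ∨ m = j ∨ m = i * j) ∧
      conjGL g (m * i * m⁻¹) = i ∧ conjGL g (m * j * m⁻¹) = j := by
    have hii' : i⁻¹ = -i := inv_eq_of_mul_eq_one_right (by rw [mul_neg, hii, neg_neg])
    have hjj' : j⁻¹ = -j := inv_eq_of_mul_eq_one_right (by rw [mul_neg, hjj, neg_neg])
    have c1 : i * j * i⁻¹ = -j := by
      rw [hij, hneg, mul_assoc, mul_inv_cancel, mul_one]
    have c2 : j * i * j⁻¹ = -i := by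
      have : j * i = -(i * j) := by rw [hij, neg_neg]
      rw [this, hneg, mul_assoc, mul_inv_cancel, mul_one]
    rcases hgi with h | h <;> rcases hgj with h' | h'
    · exact ⟨1, Or.inl rfl, by simpa using h, by simpa using h'⟩
    · refine ⟨i, Or.inr (Or.inl rfl), ?_, ?_⟩
      · rw [mul_inv_cancel_right, h]
      · rw [c1, hcneg, h', neg_neg]
    · refine ⟨j, Or.inr (Or.inr (Or.inl rfl)), ?_, ?_⟩
      · rw [c2, hcneg, h, neg_neg]
      · rw [mul_inv_cancel_right, h']
    · refine ⟨i * j, Or.inr (Or.inr (Or.inr rfl)), ?_, ?_⟩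
      · have : i * j * i * (i * j)⁻¹ = i * (j * i * j⁻¹) * i⁻¹ := by
          rw [_root_.mul_inv_rev]; simp only [mul_assoc]
        rw [this, c2, mul_neg, neg_mul, mul_inv_cancel_right, hcneg, h, neg_neg]
      · have : i * j * j * (i * j)⁻¹ = i * j * i⁻¹ := by
          rw [_root_.mul_inv_rev]; simp only [mul_assoc, mul_inv_cancel_left]
        rw [this, c1, hcneg, h', neg_neg]
  obtain ⟨m, hm, hmi, hmj⟩ := key
  have hcomp : ∀ x, conjGL (g * Matrix.SpecialLinearGroup.toGL m) x = conjGL g (m * x * m⁻¹) := by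
    intro x
    rw [map_mul, MulAut.mul_apply, conjGL_toGL]
  obtain ⟨k, hkdef⟩ : ∃ k, k = g * Matrix.SpecialLinearGroup.toGL m := ⟨_, rfl⟩
  rw [← hkdef] at hcomp
  have e1 := comm_of_conj (k := k) (x := i) (y := i) (by rw [hcomp, hmi])
  have e2 := comm_of_conj (k := k) (x := j) (y := j) (by rw [hcomp, hmj])
  have hs := scalar_of_quat h2 hii hjj hij e1 e2
  have hid : ∀ x, conjGL g (m * x * m⁻¹) = x := by
    intro x
    rw [← hcomp]
    exact conjGL_scalar hs x
  have hfin : ∀ x, conjGL g x = m⁻¹ * x * m := by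
    intro x
    have := hid (m⁻¹ * x * m)
    rw [← this]
    congr 1
    simp only [mul_assoc, mul_inv_cancel_left, mul_inv_cancel, mul_one]
  refine ⟨(π m)⁻¹, ?_, ?_⟩
  · have hti : (π i)⁻¹ = π i := inv_eq_of_mul_eq_one_right ht
    have hui : (π j)⁻¹ = π j := inv_eq_of_mul_eq_one_right hu
    rcases hm with rfl | rfl | rfl | rfl
    · left; rw [map_one, inv_one]
    · right; left; exact hti
    · right; right; left; exact hui
    · right; right; right
      rw [map_mul, _root_.mul_inv_rev, hti, hui, hc]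
  · intro y
    obtain ⟨x, rfl⟩ := hπ y
    rw [hg, hfin, inv_inv, map_mul, map_mul, map_inv]

/-- **Recognition of field involutions**: an involutory automorphism of `L` centralizing a
four-group and not inner is a field involution. -/
theorem exists_finv_of_four [Finite F] (h2 : (2 : F) ≠ 0)
    {π : Matrix.SpecialLinearGroup (Fin 2) F →* L}
    (hπ : Function.Surjective π) (hk : ∀ x, π x = 1 ↔ x = 1 ∨ x = -1) {α : MulAut L}
    (hα : ∀ z, α (α z) = z) {t u : L}
    (ht1 : t ≠ 1) (ht : t * t = 1) (hu1 : u ≠ 1) (hu : u * u = 1) (hut : u ≠ t) (hc : u * t = t * u)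
    (hαt : α t = t) (hαu : α u = u) (hin : ¬ ∃ z, ∀ y, α y = z * y * z⁻¹) :
    ∃ (h : GL (Fin 2) F) (σ : F ≃+* F) (K : Subfield F),
      FInv (π.comp (conjGL h).toMonoidHom) α σ K := by
  apply exists_finv h2 hπ hk hα
  rintro ⟨g, hg⟩
  obtain ⟨z, -, hz⟩ := inner_of_four h2 hπ hk ht1 ht hu1 hu hut hc hαt hαu hg
  exact hin ⟨z, hz⟩

end four

end Cfsg.Agent.LFourA.FieldInv
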