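import Mathlib
import Cfsg.Agent.Lib.PSL2Torus

/-!
# Automorphisms of odd order of `PSL(2,F)` and `SL(2,F)` centralising a torus (S0510, piece (P2))
-/

set_option autoImplicit false

namespace Cfsg.Agent.LFourA.AutTwo

open Matrix Cfsg.Agent.Lib.SL2Mat Cfsg.Agent.Lib.PSL2Circle Cfsg.Agent.Lib.PSL2Inv Cfsg.Agent.Lib.PSL2Torus

variable {F : Type*} [Field F] [Finite F] {L : Type*} [Group L]

/-- **(P2), the case `PSL(2,F)`.** An automorphism of odd order that fixes an involution `t`, the elements of odd order of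
`C(t)` and an involution `u ≠ t` of `C(t)` is trivial. -/
theorem psl_eq_one (h2 : (2 : F) ≠ 0) (e : L ≃* Matrix.ProjectiveSpecialLinearGroup (Fin 2) F) {t u : L}
    (ht1 : t ≠ 1) (ht : t * t = 1) (hu1 : u ≠ 1) (hu : u * u = 1) (hut : u ≠ t) (hc : u * t = t * u)
    {x : MulAut L} {n : ℕ} (hn : Odd n) (hx : x ^ n = 1) (hxt : x t = t) (hxu : x u = u)
    (hfix : ∀ y, y * t = t * y → Odd (orderOf y) → x y = y) : x = 1 := by
  by_contra hne
  have ho : orderOf x ≠ 1 := fun h => hne (orderOf_eq_one_iff.mp h)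
  have hoodd : Odd (orderOf x) := Odd.of_dvd_nat hn (orderOf_dvd_of_pow_eq_one hx)
  obtain ⟨p, hp, hpx⟩ := Nat.exists_prime_and_dvd ho
  obtain ⟨m, hm⟩ := hpx
  have hp2 : p ≠ 2 := by
    rintro rfl
    rw [hm] at hoodd
    exact (Nat.not_odd_iff_even.mpr (even_two_mul m)) hoodd
  -- `x ^ m` has order `p`
  have hy1 : (x ^ m) ^ p ^ 1 = 1 := by rw [pow_one, ← pow_mul, mul_comm, ← hm, pow_orderOf_eq_one]
  have hfixpow : ∀ (k : ℕ) (y : L), x y = y → (x ^ k) y = y := by
    intro k y hy
    induction k with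
    | zero => rfl
    | succ k ih => rw [pow_succ, MulAut.mul_apply, hy, ih]
  obtain ⟨c, hct, hcp, hcx⟩ := exists_inner_of_fix h2 e ht1 ht hp hp2 hy1 (hfixpow m t hxt) (by
    intro y hy hyo
    refine ⟨0, ?_⟩
    rw [hfixpow m y (hfix y hy hyo), inv_mul_cancel, one_pow])
  have hcu : c * u = u * c := by
    have h1 := hcx u
    rw [hfixpow m u hxu] at h1
    exact (eq_mul_inv_iff_mul_eq.mp h1).symm
  obtain ⟨T, k, hT, -⟩ := exists_torus h2 e ht1 ht
  have hcc : c * c = 1 := by
    rcases hT.centralizer_four hu1 hu hut hc hct hcu with h1 | h1 | h1 | h1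
    · rw [h1, one_mul]
    · rw [h1, ht]
    · rw [h1, hu]
    · rw [h1]
      calc t * u * (t * u) = t * (u * t) * u := by group
        _ = (t * t) * (u * u) := by rw [hc]; group
        _ = 1 := by rw [ht, hu, one_mul]
  have hc1 : c = 1 := by
    rw [pow_one] at hcp
    obtain ⟨j, hj⟩ := hp.odd_of_ne_two hp2
    rw [hj, pow_succ, pow_mul, pow_two, hcc, one_pow, one_mul] at hcp
    exact hcp
  have hxm : x ^ m = 1 := by
    ext y
    rw [hcx, hc1, one_mul, inv_one, mul_one, MulAut.one_apply]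
  have h3 := orderOf_dvd_of_pow_eq_one hxm
  rw [hm] at h3
  have hm0 : m ≠ 0 := by
    rintro rfl
    rw [mul_zero] at hm
    rw [hm] at hoodd
    exact absurd hoodd (by decide)
  have h4 := Nat.le_of_dvd (Nat.pos_of_ne_zero hm0) h3
  have h5 := hp.two_le
  nlinarith [Nat.pos_of_ne_zero hm0]


section sl

omit [Finite F] in
theorem mem_center_iff' (h2 : (2 : F) ≠ 0) {x : Matrix.SpecialLinearGroup (Fin 2) F} :
    x ∈ Subgroup.center (Matrix.SpecialLinearGroup (Fin 2) F) ↔ x = 1 ∨ x = -1 := by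
  constructor
  · intro hx
    apply sq_eq_one h2
    obtain ⟨h01, h10⟩ := mem_center_offdiag hx
    have h00 : ent x 0 0 = ent x 1 1 := by
      have h4 := congrArg (fun y => ent y 0 1) ((Subgroup.mem_center_iff.1 hx) (up 1))
      simp only [ent_mul, up_00, up_01, up_11, h01] at h4
      linear_combination -h4
    have h5 := det_eq x
    rw [h01, zero_mul, sub_zero] at h5
    refine ext_ent ?_ ?_ ?_ ?_
    · rw [ent_mul, h01, zero_mul, add_zero, ent_one_00]
      nth_rw 2 [h00]
      exact h5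
    · rw [ent_mul, h01, mul_zero, zero_mul, add_zero, ent_one_01]
    · rw [ent_mul, h10, zero_mul, mul_zero, add_zero, ent_one_10]
    · rw [ent_mul, h10, zero_mul, zero_add, ent_one_11]
      nth_rw 1 [← h00]
      exact h5
  · rintro (rfl | rfl)
    · exact one_mem _
    · rw [Subgroup.mem_center_iff]
      intro y
      rw [mul_neg, neg_mul, mul_one, one_mul]

omit [Finite F] in
theorem one_ne_neg (h2 : (2 : F) ≠ 0) : (1 : Matrix.SpecialLinearGroup (Fin 2) F) ≠ -1 := by
  intro h
  have h3 := congrArg (fun x => ent x 0 0) h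
  have hn' : ent (-1 : Matrix.SpecialLinearGroup (Fin 2) F) 0 0 = -1 := rfl
  simp only [ent_one_00, hn'] at h3
  exact h2 (by linear_combination h3)

omit [Finite F] in
/-- an element of odd order does not anticommute with anything -/
theorem comm_of_odd (h2 : (2 : F) ≠ 0) {y X : Matrix.SpecialLinearGroup (Fin 2) F} {m : ℕ} (hm : Odd m)
    (hy : y ^ m = 1) (h : y * X = X * y ∨ y * X = -(X * y)) : y * X = X * y := by
  rcases h with h | h
  · exact h
  · exfalso
    have key : ∀ k : ℕ, y ^ k * X = (-1) ^ k * (X * y ^ k) := by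
      intro k
      induction k with
      | zero => simp
      | succ k ih =>
        calc y ^ (k + 1) * X = y ^ k * (y * X) := by rw [pow_succ]; group
          _ = y ^ k * (-1 * (X * y)) := by rw [h, neg_one_mul]
          _ = -1 * (y ^ k * X * y) := by
            rw [neg_one_mul, neg_one_mul, mul_neg]; group
          _ = -1 * ((-1) ^ k * (X * y ^ k) * y) := by rw [ih]
          _ = (-1) ^ (k + 1) * (X * y ^ (k + 1)) := by rw [pow_succ', pow_succ]; group
    have h1 := key m
    rw [hy, one_mul, mul_one, hm.neg_one_pow] at h1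
    refine one_ne_neg h2 ?_
    calc (1 : Matrix.SpecialLinearGroup (Fin 2) F) = X * X⁻¹ := by group
      _ = (-1 * X) * X⁻¹ := by rw [← h1]
      _ = -1 := by group

/-- **(P2), the case `SL(2,F)`.** An automorphism of odd order of `SL(2,F)` that fixes an element `X` of order 4, the
elements of odd order of `C(X)` and an element `j` that inverts `X` is trivial. -/
theorem sl_eq_one (h2 : (2 : F) ≠ 0) {X j : Matrix.SpecialLinearGroup (Fin 2) F} (hX : X * X = -1)
    (hj : j * X * j⁻¹ = X⁻¹) {x : MulAut (Matrix.SpecialLinearGroup (Fin 2) F)} {n : ℕ} (hn : Odd n)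
    (hx : x ^ n = 1) (hxX : x X = X) (hxj : x j = j)
    (hfix : ∀ y, y * X = X * y → Odd (orderOf y) → x y = y) : x = 1 := by
  classical
  have hXinv : X⁻¹ = -X := by
    rw [inv_eq_iff_mul_eq_one, mul_neg, hX, neg_neg]
  have hjX : j * X = -(X * j) := by
    rw [mul_inv_eq_iff_eq_mul.mp hj, hXinv, neg_mul]
  have hXtr : ent X 1 1 = - ent X 0 0 := tr_of_sq h2 hX
  have hjj : j * j = -1 := sq_of_tr (anti h2 hXtr hjX).1
  have hcen : (Subgroup.center (Matrix.SpecialLinearGroup (Fin 2) F)).map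
      (x : Matrix.SpecialLinearGroup (Fin 2) F →* Matrix.SpecialLinearGroup (Fin 2) F) =
      Subgroup.center (Matrix.SpecialLinearGroup (Fin 2) F) :=
    Subgroup.characteristic_iff_map_eq.mp inferInstance x
  set Z := Subgroup.center (Matrix.SpecialLinearGroup (Fin 2) F) with hZ
  set x' : MulAut (Matrix.ProjectiveSpecialLinearGroup (Fin 2) F) := QuotientGroup.congr Z Z x hcen with hx'
  have hx'mk : ∀ y, x' (QuotientGroup.mk' Z y) = QuotientGroup.mk' Z (x y) := fun y => rfl
  have hmk : ∀ y z, QuotientGroup.mk' Z y = QuotientGroup.mk' Z z ↔ y = z ∨ y = -z := by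
    intro y z
    have h1 : QuotientGroup.mk' Z y = QuotientGroup.mk' Z z ↔ y⁻¹ * z ∈ Z := QuotientGroup.eq
    rw [h1, mem_center_iff' h2, inv_mul_eq_iff_eq_mul, inv_mul_eq_iff_eq_mul, mul_one, mul_neg, mul_one]
    constructor
    · rintro (h | h)
      · exact Or.inl h.symm
      · right; rw [h, neg_neg]
    · rintro (h | h)
      · exact Or.inl h.symm
      · right; rw [h, neg_neg]
  have hx'pow : ∀ (k : ℕ) (y), (x' ^ k) (QuotientGroup.mk' Z y) = QuotientGroup.mk' Z ((x ^ k) y) := by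
    intro k
    induction k with
    | zero => intro y; rfl
    | succ k ih => intro y; rw [pow_succ, pow_succ, MulAut.mul_apply, MulAut.mul_apply, hx'mk, ih]
  have h1 : x' = 1 := by
    refine psl_eq_one h2 (MulEquiv.refl _) (t := QuotientGroup.mk' Z X) (u := QuotientGroup.mk' Z j)
      ?_ ?_ ?_ ?_ ?_ ?_ hn ?_ ?_ ?_ ?_
    · intro h
      have h3 := (hmk X 1).mp (by rw [h, map_one])
      rcases h3 with h3 | h3
      · rw [h3, one_mul] at hX; exact one_ne_neg h2 hX
      · rw [h3, neg_mul_neg, one_mul] at hX; exact one_ne_neg h2 hX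
    · rw [← map_mul, hX, ← map_one (QuotientGroup.mk' Z), hmk]; right; rfl
    · intro h
      have h3 := (hmk j 1).mp (by rw [h, map_one])
      rcases h3 with h3 | h3
      · rw [h3, one_mul] at hjj; exact one_ne_neg h2 hjj
      · rw [h3, neg_mul_neg, one_mul] at hjj; exact one_ne_neg h2 hjj
    · rw [← map_mul, hjj, ← map_one (QuotientGroup.mk' Z), hmk]; right; rfl
    · intro h
      have h3 : j * X = X * j := by
        rcases (hmk j X).mp h with h3 | h3
        · rw [h3]
        · rw [h3, neg_mul, mul_neg]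
      have h4 : X * j = -(X * j) := by rw [← hjX, h3]
      refine one_ne_neg h2 ?_
      calc (1 : Matrix.SpecialLinearGroup (Fin 2) F) = (X * j) * (X * j)⁻¹ := by group
        _ = -(X * j) * (X * j)⁻¹ := by rw [← h4]
        _ = -1 := by rw [neg_mul, mul_inv_cancel]
    · rw [← map_mul, ← map_mul, hmk]; right; exact hjX
    · ext y
      obtain ⟨y, rfl⟩ := QuotientGroup.mk'_surjective Z y
      rw [hx'pow, hx]; rfl
    · rw [hx'mk, hxX]
    · rw [hx'mk, hxj]
    · intro y hy hyo
      obtain ⟨y, rfl⟩ := QuotientGroup.mk'_surjective Z y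
      -- a lift of odd order
      set m := orderOf (QuotientGroup.mk' Z y) with hm
      have h3 : y ^ m = 1 ∨ y ^ m = -1 := by
        rw [← hmk, map_pow, hm, pow_orderOf_eq_one, map_one]
      have h4 : ∃ w, (w = y ∨ w = -y) ∧ w ^ m = 1 := by
        rcases h3 with h3 | h3
        · exact ⟨y, Or.inl rfl, h3⟩
        · exact ⟨-y, Or.inr rfl, by rw [hyo.neg_pow, h3, neg_neg]⟩
      obtain ⟨w, hw, hwm⟩ := h4
      have hwy : QuotientGroup.mk' Z w = QuotientGroup.mk' Z y := (hmk w y).mpr hw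
      rw [← hwy] at hy ⊢
      rw [← map_mul, ← map_mul, hmk] at hy
      have hwX := comm_of_odd h2 hyo hwm hy
      rw [hx'mk, hfix w hwX (Odd.of_dvd_nat hyo (orderOf_dvd_of_pow_eq_one hwm))]
  -- `x y = ± y`
  ext1 y
  rw [MulAut.one_apply]
  have h3 : x y = y ∨ x y = -y := by
    rw [← hmk, ← hx'mk, h1, MulAut.one_apply]
  rcases h3 with h3 | h3
  · exact h3
  · exfalso
    have hneg : ∀ y, x (-y) = - x y := by
      intro y
      have h5 : x (-1) * x (-1) = 1 := by rw [← map_mul, neg_mul_neg, mul_one, map_one]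
      have h6 : x (-1) = -1 := by
        rcases sq_eq_one h2 h5 with h7 | h7
        · have h8 : (-1 : Matrix.SpecialLinearGroup (Fin 2) F) = 1 := x.injective (by rw [h7, map_one])
          rw [h8, map_one]
        · exact h7
      rw [← neg_one_mul y, map_mul, h6, neg_one_mul]
    have key : ∀ k : ℕ, (x ^ k) y = (-1) ^ k * y := by
      intro k
      induction k with
      | zero => simp
      | succ k ih =>
        rw [pow_succ', MulAut.mul_apply, ih, map_mul, map_pow, pow_succ', h3]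
        have h6 : x (-1) = -1 := by rw [hneg, map_one]
        rw [h6]
        rw [mul_neg, neg_one_mul, neg_mul]
    have h4 := key n
    rw [hx, MulAut.one_apply, hn.neg_one_pow] at h4
    refine one_ne_neg h2 ?_
    calc (1 : Matrix.SpecialLinearGroup (Fin 2) F) = y * y⁻¹ := by group
      _ = (-1 * y) * y⁻¹ := by rw [← h4]
      _ = -1 := by group

end sl


/-! ### forms for an abstract group and for a subgroup -/

/-- (P2) for `L ≃ SL(2,F)`; `X` has order 4 and `j` inverts `X`. -/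
theorem sl_eq_one' (h2 : (2 : F) ≠ 0) (e : L ≃* Matrix.SpecialLinearGroup (Fin 2) F) {X j : L}
    (hX1 : X * X ≠ 1) (hX : (X * X) * (X * X) = 1) (hj : j * X * j⁻¹ = X⁻¹) {x : MulAut L} {n : ℕ} (hn : Odd n)
    (hx : x ^ n = 1) (hxX : x X = X) (hxj : x j = j)
    (hfix : ∀ y, y * X = X * y → Odd (orderOf y) → x y = y) : x = 1 := by
  set x' : MulAut (Matrix.SpecialLinearGroup (Fin 2) F) := MulAut.congr e x with hx'
  have hx'e : ∀ y, x' (e y) = e (x y) := fun y => by
    rw [hx']
    change e (x (e.symm (e y))) = _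
    rw [e.symm_apply_apply]
  have h1 : x' = 1 := by
    refine sl_eq_one h2 (X := e X) (j := e j) ?_ ?_ hn ?_ ?_ ?_ ?_
    · have h3 : (e (X * X)) * (e (X * X)) = 1 := by rw [← map_mul, hX, map_one]
      rcases sq_eq_one h2 h3 with h4 | h4
      · exact absurd ((map_eq_one_iff e e.injective).mp h4) hX1
      · rw [← map_mul, h4]
    · rw [← map_inv, ← map_mul, ← map_mul, hj, map_inv]
    · rw [hx', ← map_pow, hx, map_one]
    · rw [hx'e, hxX]
    · rw [hx'e, hxj]
    · intro y hy hyo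
      obtain ⟨y, rfl⟩ := e.surjective y
      rw [hx'e, hfix y (e.injective (by rw [map_mul, map_mul, hy])) (by rwa [e.orderOf_eq] at hyo)]
  ext1 y
  rw [MulAut.one_apply]
  apply e.injective
  rw [← hx'e, h1, MulAut.one_apply]

variable {G : Type*} [Group G]

theorem conj_pow_eq_one {A : Subgroup G} {g : G} (hg : g ∈ Subgroup.normalizer (A : Set G)) {n : ℕ} (hn : g ^ n = 1) :
    (A.normalizerMonoidHom ⟨g, hg⟩) ^ n = 1 := by
  have h1 : (⟨g, hg⟩ : Subgroup.normalizer (A : Set G)) ^ n = 1 := Subtype.ext hn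
  rw [← map_pow, h1, map_one]

theorem conj_apply_eq {A : Subgroup G} {g : G} (hg : g ∈ Subgroup.normalizer (A : Set G)) (y : A) :
    A.normalizerMonoidHom ⟨g, hg⟩ y = y ↔ g * y = y * g := by
  rw [Subtype.ext_iff]
  change g * (y : G) * g⁻¹ = y ↔ _
  rw [mul_inv_eq_iff_eq_mul]

/-- (P2), `A ≤ G` isomorphic to `SL(2,F)`: an element `g` of `N_G(A)` of odd order that centralises `X ∈ A` (order 4),
the elements of odd order of `C_A(X)` and an element `j ∈ A` inverting `X` centralises `A`. -/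
theorem sl_centralizes (h2 : (2 : F) ≠ 0) {A : Subgroup G} (e : A ≃* Matrix.SpecialLinearGroup (Fin 2) F) {X j g : G}
    (hXA : X ∈ A) (hjA : j ∈ A) (hX1 : X * X ≠ 1) (hX : (X * X) * (X * X) = 1) (hj : j * X * j⁻¹ = X⁻¹)
    (hg : g ∈ Subgroup.normalizer (A : Set G)) {n : ℕ} (hn : Odd n) (hgn : g ^ n = 1) (hgX : g * X = X * g)
    (hgj : g * j = j * g) (hfix : ∀ y ∈ A, y * X = X * y → Odd (orderOf y) → g * y = y * g) :
    ∀ y ∈ A, g * y = y * g := by
  have h1 := sl_eq_one' h2 e (X := ⟨X, hXA⟩) (j := ⟨j, hjA⟩) (fun h => hX1 (congrArg Subtype.val h))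
    (Subtype.ext hX) (Subtype.ext hj) hn (conj_pow_eq_one hg hgn) ((conj_apply_eq hg _).mpr hgX)
    ((conj_apply_eq hg _).mpr hgj) (fun y hy hyo => (conj_apply_eq hg y).mpr
      (hfix y y.2 (congrArg Subtype.val hy) (by rwa [Subgroup.orderOf_coe])))
  intro y hy
  exact (conj_apply_eq hg ⟨y, hy⟩).mp (by rw [h1, MulAut.one_apply])

/-- (P2), `A ≤ G` isomorphic to `PSL(2,F)`: an element `g` of `N_G(A)` of odd order that centralises an involution
`t ∈ A`, the elements of odd order of `C_A(t)` and an involution `u ≠ t` of `C_A(t)` centralises `A`. -/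
theorem psl_centralizes (h2 : (2 : F) ≠ 0) {A : Subgroup G} (e : A ≃* Matrix.ProjectiveSpecialLinearGroup (Fin 2) F)
    {t u g : G} (htA : t ∈ A) (huA : u ∈ A) (ht1 : t ≠ 1) (ht : t * t = 1) (hu1 : u ≠ 1) (hu : u * u = 1)
    (hut : u ≠ t) (hc : u * t = t * u) (hg : g ∈ Subgroup.normalizer (A : Set G)) {n : ℕ} (hn : Odd n)
    (hgn : g ^ n = 1) (hgt : g * t = t * g) (hgu : g * u = u * g)
    (hfix : ∀ y ∈ A, y * t = t * y → Odd (orderOf y) → g * y = y * g) :
    ∀ y ∈ A, g * y = y * g := by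
  have h1 := psl_eq_one h2 e (t := ⟨t, htA⟩) (u := ⟨u, huA⟩) (fun h => ht1 (congrArg Subtype.val h))
    (Subtype.ext ht) (fun h => hu1 (congrArg Subtype.val h)) (Subtype.ext hu)
    (fun h => hut (congrArg Subtype.val h)) (Subtype.ext hc) hn (conj_pow_eq_one hg hgn)
    ((conj_apply_eq hg _).mpr hgt) ((conj_apply_eq hg _).mpr hgu)
    (fun y hy hyo => (conj_apply_eq hg y).mpr
      (hfix y y.2 (congrArg Subtype.val hy) (by rwa [Subgroup.orderOf_coe])))
  intro y hy
  exact (conj_apply_eq hg ⟨y, hy⟩).mp (by rw [h1, MulAut.one_apply])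


/-! ### versions with an automorphism `j` inverting the torus -/

/-- `PSL(2,F)` has no central elements of odd order -/
theorem psl_center (h2 : (2 : F) ≠ 0) (e : L ≃* Matrix.ProjectiveSpecialLinearGroup (Fin 2) F) {t z : L}
    (ht1 : t ≠ 1) (ht : t * t = 1) (hz : ∀ y, z * y = y * z) {n : ℕ} (hn : Odd n) (hzn : z ^ n = 1) : z = 1 := by
  obtain ⟨T, k, hT, -⟩ := exists_torus h2 e ht1 ht
  obtain ⟨u, hut, huT⟩ := hT.ex
  obtain ⟨hu1, hu, -⟩ := hT.out u hut huT
  have hne : u ≠ t := fun h => huT (h ▸ hT.mem)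
  have hzz : z * z = 1 := by
    rcases hT.centralizer_four hu1 hu hne hut (hz t) (hz u) with h1 | h1 | h1 | h1
    · rw [h1, one_mul]
    · rw [h1, ht]
    · rw [h1, hu]
    · rw [h1]
      calc t * u * (t * u) = t * (u * t) * u := by group
        _ = (t * t) * (u * u) := by rw [hut]; group
        _ = 1 := by rw [ht, hu, one_mul]
  obtain ⟨m, hm⟩ := hn
  rw [hm, pow_succ, pow_mul, pow_two, hzz, one_pow, one_mul] at hzn
  exact hzn

theorem exists_prime_pow {A : Type*} [Group A] {x : A} (hne : x ≠ 1) {n : ℕ} (hn : Odd n) (hx : x ^ n = 1) :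
    ∃ (p m : ℕ), p.Prime ∧ p ≠ 2 ∧ (x ^ m) ^ p = 1 ∧ x ^ m ≠ 1 := by
  have ho : orderOf x ≠ 1 := fun h => hne (orderOf_eq_one_iff.mp h)
  have hoodd : Odd (orderOf x) := Odd.of_dvd_nat hn (orderOf_dvd_of_pow_eq_one hx)
  obtain ⟨p, hp, hpx⟩ := Nat.exists_prime_and_dvd ho
  obtain ⟨m, hm⟩ := hpx
  refine ⟨p, m, hp, ?_, ?_, ?_⟩
  · rintro rfl
    rw [hm] at hoodd
    exact (Nat.not_odd_iff_even.mpr (even_two_mul m)) hoodd
  · rw [← pow_mul, mul_comm, ← hm, pow_orderOf_eq_one]
  · intro hxm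
    have h3 := orderOf_dvd_of_pow_eq_one hxm
    rw [hm] at h3
    have hm0 : m ≠ 0 := by
      rintro rfl
      rw [mul_zero] at hm
      rw [hm] at hoodd
      exact absurd hoodd (by decide)
    have h4 := Nat.le_of_dvd (Nat.pos_of_ne_zero hm0) h3
    have h5 := hp.two_le
    nlinarith [Nat.pos_of_ne_zero hm0]

/-- **(P2bis)** `L ≃ PSL(2,F)`; `x` has odd order, fixes the involution `t` and the elements of odd order of `C(t)` and
commutes with an automorphism `j` that inverts the elements of odd order of `C(t)`. Then `x = 1`. -/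
theorem psl_eq_one_of_aut (h2 : (2 : F) ≠ 0) (e : L ≃* Matrix.ProjectiveSpecialLinearGroup (Fin 2) F) {t : L}
    (ht1 : t ≠ 1) (ht : t * t = 1) {x j : MulAut L} {n : ℕ} (hn : Odd n) (hx : x ^ n = 1) (hxt : x t = t)
    (hjx : j * x = x * j) (hfix : ∀ y, y * t = t * y → Odd (orderOf y) → x y = y)
    (hinv : ∀ y, y * t = t * y → Odd (orderOf y) → j y = y⁻¹) : x = 1 := by
  by_contra hne
  obtain ⟨p, m, hp, hp2, hpm, hm1⟩ := exists_prime_pow hne hn hx
  have hfixpow : ∀ (k : ℕ) (y : L), x y = y → (x ^ k) y = y := by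
    intro k y hy
    induction k with
    | zero => rfl
    | succ k ih => rw [pow_succ, MulAut.mul_apply, hy, ih]
  obtain ⟨c, hct, hcp, hcx⟩ := exists_inner_of_fix h2 e ht1 ht hp hp2 (by rw [pow_one]; exact hpm : (x ^ m) ^ p ^ 1 = 1)
    (hfixpow m t hxt) (by
    intro y hy hyo
    refine ⟨0, ?_⟩
    rw [hfixpow m y (hfix y hy hyo), inv_mul_cancel, one_pow])
  rw [pow_one] at hcp
  have hpodd := hp.odd_of_ne_two hp2
  have hjc : j c = c⁻¹ := hinv c hct (Odd.of_dvd_nat hpodd (orderOf_dvd_of_pow_eq_one hcp))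
  have hjm : j * x ^ m = x ^ m * j := ((show Commute j x from hjx).pow_right m)
  -- `c ^ 2` is central
  have hcen : ∀ y, (c * c) * y = y * (c * c) := by
    intro y
    obtain ⟨w, rfl⟩ := j.surjective y
    have h1 : j ((x ^ m) w) = (x ^ m) (j w) := DFunLike.congr_fun hjm w
    rw [hcx, hcx, map_mul, map_mul, map_inv, hjc, inv_inv] at h1
    -- `c⁻¹ * j w * c = c * j w * c⁻¹`
    calc c * c * j w = c * (c * j w * c⁻¹) * c := by group
      _ = c * (c⁻¹ * j w * c) * c := by rw [h1]
      _ = j w * (c * c) := by group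
  have hcc : c * c = 1 := psl_center h2 e ht1 ht hcen hpodd (by
    rw [(Commute.refl c).mul_pow, hcp, one_mul])
  have hc1 : c = 1 := by
    obtain ⟨k, hk⟩ := hpodd
    rw [hk, pow_succ, pow_mul, pow_two, hcc, one_pow, one_mul] at hcp
    exact hcp
  apply hm1
  ext y
  rw [hcx, hc1, one_mul, inv_one, mul_one, MulAut.one_apply]

section desc

variable (F) in
/-- the automorphism of `PSL(2,F)` induced by an automorphism of `SL(2,F)` -/
theorem exists_desc (x : MulAut (Matrix.SpecialLinearGroup (Fin 2) F)) :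
    ∃ x' : MulAut (Matrix.ProjectiveSpecialLinearGroup (Fin 2) F), ∀ y,
      x' (QuotientGroup.mk' (Subgroup.center (Matrix.SpecialLinearGroup (Fin 2) F)) y) =
        QuotientGroup.mk' (Subgroup.center (Matrix.SpecialLinearGroup (Fin 2) F)) (x y) := by
  have hcen : (Subgroup.center (Matrix.SpecialLinearGroup (Fin 2) F)).map
      (x : Matrix.SpecialLinearGroup (Fin 2) F →* Matrix.SpecialLinearGroup (Fin 2) F) =
      Subgroup.center (Matrix.SpecialLinearGroup (Fin 2) F) :=
    Subgroup.characteristic_iff_map_eq.mp inferInstance x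
  exact ⟨QuotientGroup.congr _ _ x hcen, fun y => rfl⟩

end desc

/-- **(P2)** `x ∈ Aut SL(2,F)` has odd order, fixes an element `X` of order 4 and the elements of odd order of `C(X)` and
commutes with an automorphism `j` that inverts the elements of odd order of `C(X)`. Then `x = 1`. -/
theorem sl_eq_one_of_aut (h2 : (2 : F) ≠ 0) {X : Matrix.SpecialLinearGroup (Fin 2) F} (hX : X * X = -1)
    {x j : MulAut (Matrix.SpecialLinearGroup (Fin 2) F)} {n : ℕ} (hn : Odd n) (hx : x ^ n = 1) (hxX : x X = X)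
    (hjx : j * x = x * j) (hfix : ∀ y, y * X = X * y → Odd (orderOf y) → x y = y)
    (hinv : ∀ y, y * X = X * y → Odd (orderOf y) → j y = y⁻¹) : x = 1 := by
  classical
  obtain ⟨x', hx'⟩ := exists_desc F x
  obtain ⟨j', hj'⟩ := exists_desc F j
  set Z := Subgroup.center (Matrix.SpecialLinearGroup (Fin 2) F) with hZ
  have hmk : ∀ y z, QuotientGroup.mk' Z y = QuotientGroup.mk' Z z ↔ y = z ∨ y = -z := by
    intro y z
    have h1 : QuotientGroup.mk' Z y = QuotientGroup.mk' Z z ↔ y⁻¹ * z ∈ Z := QuotientGroup.eq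
    rw [h1, mem_center_iff' h2, inv_mul_eq_iff_eq_mul, inv_mul_eq_iff_eq_mul, mul_one, mul_neg, mul_one]
    constructor
    · rintro (h | h)
      · exact Or.inl h.symm
      · right; rw [h, neg_neg]
    · rintro (h | h)
      · exact Or.inl h.symm
      · right; rw [h, neg_neg]
  have hx'pow : ∀ (k : ℕ) (y), (x' ^ k) (QuotientGroup.mk' Z y) = QuotientGroup.mk' Z ((x ^ k) y) := by
    intro k
    induction k with
    | zero => intro y; rfl
    | succ k ih => intro y; rw [pow_succ, pow_succ, MulAut.mul_apply, MulAut.mul_apply, hx', ih]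
  -- a lift of odd order
  have hlift : ∀ y, QuotientGroup.mk' Z y * QuotientGroup.mk' Z X = QuotientGroup.mk' Z X * QuotientGroup.mk' Z y →
      Odd (orderOf (QuotientGroup.mk' Z y)) →
      ∃ w, QuotientGroup.mk' Z w = QuotientGroup.mk' Z y ∧ w * X = X * w ∧ Odd (orderOf w) := by
    intro y hy hyo
    set m := orderOf (QuotientGroup.mk' Z y) with hm
    have h3 : y ^ m = 1 ∨ y ^ m = -1 := by
      rw [← hmk, map_pow, hm, pow_orderOf_eq_one, map_one]
    have h4 : ∃ w, (w = y ∨ w = -y) ∧ w ^ m = 1 := by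
      rcases h3 with h3 | h3
      · exact ⟨y, Or.inl rfl, h3⟩
      · exact ⟨-y, Or.inr rfl, by rw [hyo.neg_pow, h3, neg_neg]⟩
    obtain ⟨w, hw, hwm⟩ := h4
    have hwy : QuotientGroup.mk' Z w = QuotientGroup.mk' Z y := (hmk w y).mpr hw
    rw [← hwy, ← map_mul, ← map_mul, hmk] at hy
    exact ⟨w, hwy, comm_of_odd h2 hyo hwm hy, Odd.of_dvd_nat hyo (orderOf_dvd_of_pow_eq_one hwm)⟩
  have h1 : x' = 1 := by
    refine psl_eq_one_of_aut h2 (MulEquiv.refl _) (t := QuotientGroup.mk' Z X) (j := j') ?_ ?_ hn ?_ ?_ ?_ ?_ ?_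
    · intro h
      have h3 := (hmk X 1).mp (by rw [h, map_one])
      rcases h3 with h3 | h3
      · rw [h3, one_mul] at hX; exact one_ne_neg h2 hX
      · rw [h3, neg_mul_neg, one_mul] at hX; exact one_ne_neg h2 hX
    · rw [← map_mul, hX, ← map_one (QuotientGroup.mk' Z), hmk]; right; rfl
    · ext y
      obtain ⟨y, rfl⟩ := QuotientGroup.mk'_surjective Z y
      rw [hx'pow, hx]; rfl
    · rw [hx', hxX]
    · ext y
      obtain ⟨y, rfl⟩ := QuotientGroup.mk'_surjective Z y
      rw [MulAut.mul_apply, MulAut.mul_apply, hx', hj', hj', hx']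
      exact congrArg _ (DFunLike.congr_fun hjx y)
    · intro y hy hyo
      obtain ⟨y, rfl⟩ := QuotientGroup.mk'_surjective Z y
      obtain ⟨w, hwy, hw, hwo⟩ := hlift y hy hyo
      rw [← hwy, hx', hfix w hw hwo]
    · intro y hy hyo
      obtain ⟨y, rfl⟩ := QuotientGroup.mk'_surjective Z y
      obtain ⟨w, hwy, hw, hwo⟩ := hlift y hy hyo
      rw [← hwy, hj', hinv w hw hwo, map_inv]
  -- `x y = ± y`
  ext1 y
  rw [MulAut.one_apply]
  have h3 : x y = y ∨ x y = -y := by
    rw [← hmk, ← hx', h1, MulAut.one_apply]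
  rcases h3 with h3 | h3
  · exact h3
  · exfalso
    have h6 : x (-1) = -1 := by
      have h5 : x (-1) * x (-1) = 1 := by rw [← map_mul, neg_mul_neg, mul_one, map_one]
      rcases sq_eq_one h2 h5 with h7 | h7
      · have h8 : (-1 : Matrix.SpecialLinearGroup (Fin 2) F) = 1 := x.injective (by rw [h7, map_one])
        rw [h8, map_one]
      · exact h7
    have key : ∀ k : ℕ, (x ^ k) y = (-1) ^ k * y := by
      intro k
      induction k with
      | zero => simp
      | succ k ih =>
        rw [pow_succ', MulAut.mul_apply, ih, map_mul, map_pow, pow_succ', h3, h6, mul_neg, neg_one_mul, neg_mul]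
    have h4 := key n
    rw [hx, MulAut.one_apply, hn.neg_one_pow] at h4
    refine one_ne_neg h2 ?_
    calc (1 : Matrix.SpecialLinearGroup (Fin 2) F) = y * y⁻¹ := by group
      _ = (-1 * y) * y⁻¹ := by rw [← h4]
      _ = -1 := by group

end Cfsg.Agent.LFourA.AutTwo
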