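import Mathlib
import Cfsg.Agent.Lib.SL2Mat

/-!
# Generation of `GL(2,K)` by the normalizers of a split and of a non-split torus

`K` a field with an element `a ≠ 0`, `a² ≠ 1`.
-/

set_option autoImplicit false

namespace Cfsg.Agent.LFourA.GLGen

open Matrix Cfsg.Agent.Lib.SL2Mat

variable {K : Type*} [Field K]

theorem gl_ext {x y : GL (Fin 2) K} (h00 : x.1 0 0 = y.1 0 0) (h01 : x.1 0 1 = y.1 0 1)
    (h10 : x.1 1 0 = y.1 1 0) (h11 : x.1 1 1 = y.1 1 1) : x = y := by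
  apply Units.ext
  ext i j
  fin_cases i <;> fin_cases j
  exacts [h00, h01, h10, h11]

theorem mat_ext {M N : Matrix (Fin 2) (Fin 2) K} (h00 : M 0 0 = N 0 0) (h01 : M 0 1 = N 0 1)
    (h10 : M 1 0 = N 1 0) (h11 : M 1 1 = N 1 1) : M = N := by
  ext i j
  fin_cases i <;> fin_cases j
  exacts [h00, h01, h10, h11]

theorem mat_mul (M N : Matrix (Fin 2) (Fin 2) K) (i j : Fin 2) :
    (M * N) i j = M i 0 * N 0 j + M i 1 * N 1 j := by
  rw [Matrix.mul_apply, Fin.sum_univ_two]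

theorem mul_ent (x y : GL (Fin 2) K) (i j : Fin 2) :
    (x * y).1 i j = x.1 i 0 * y.1 0 j + x.1 i 1 * y.1 1 j := by
  rw [Units.val_mul, Matrix.mul_apply, Fin.sum_univ_two]

/-- a matrix with given entries -/
noncomputable def gl (a b c d : K) (h : a * d - b * c ≠ 0) : GL (Fin 2) K :=
  Matrix.GeneralLinearGroup.mkOfDetNeZero !![a, b; c, d] (by rw [det_fin_two_of]; exact h)

@[simp] theorem gl_00 (a b c d : K) (h : a * d - b * c ≠ 0) : (gl a b c d h).1 0 0 = a := rfl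
@[simp] theorem gl_01 (a b c d : K) (h : a * d - b * c ≠ 0) : (gl a b c d h).1 0 1 = b := rfl
@[simp] theorem gl_10 (a b c d : K) (h : a * d - b * c ≠ 0) : (gl a b c d h).1 1 0 = c := rfl
@[simp] theorem gl_11 (a b c d : K) (h : a * d - b * c ≠ 0) : (gl a b c d h).1 1 1 = d := rfl

theorem det_ne (x : GL (Fin 2) K) : x.1 0 0 * x.1 1 1 - x.1 0 1 * x.1 1 0 ≠ 0 := by
  have := x.isUnit.map (Matrix.detMonoidHom (n := Fin 2) (R := K))
  have h := this.ne_zero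
  change x.1.det ≠ 0 at h
  rwa [det_fin_two] at h

/-- a subgroup containing the monomial matrices and a triangular, not diagonal matrix -/
theorem eq_top_of_tri (H : Subgroup (GL (Fin 2) K))
    (hdiag : ∀ y : GL (Fin 2) K, y.1 0 1 = 0 → y.1 1 0 = 0 → y ∈ H)
    (hanti : ∀ y : GL (Fin 2) K, y.1 0 0 = 0 → y.1 1 1 = 0 → y ∈ H)
    {T : GL (Fin 2) K} (hT : T ∈ H) (hT10 : T.1 1 0 = 0) (hT01 : T.1 0 1 ≠ 0) : H = ⊤ := by
  have hdT := det_ne T
  rw [hT10, mul_zero, sub_zero] at hdT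
  have hA : T.1 0 0 ≠ 0 := left_ne_zero_of_mul hdT
  have hD : T.1 1 1 ≠ 0 := right_ne_zero_of_mul hdT
  have hup : ∀ (b : K) (x : GL (Fin 2) K), x.1 0 0 = 1 → x.1 0 1 = b → x.1 1 0 = 0 →
      x.1 1 1 = 1 → x ∈ H := by
    intro b x h00 h01 h10 h11
    by_cases hb : b = 0
    · exact hdiag x (by rw [h01, hb]) h10
    · have hp : (1 / T.1 0 0) * (T.1 0 1 / (T.1 1 1 * b * T.1 0 0)) - 0 * 0 ≠ 0 := by
        have := mul_ne_zero (one_div_ne_zero hA)
          (div_ne_zero hT01 (mul_ne_zero (mul_ne_zero hD hb) hA))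
        simpa using this
      have hr : (1 : K) * (b * T.1 0 0 / T.1 0 1) - 0 * 0 ≠ 0 := by
        have := div_ne_zero (mul_ne_zero hb hA) hT01
        simpa using this
      have hx : x = gl _ 0 0 _ hp * T * gl _ 0 0 _ hr := by
        refine gl_ext ?_ ?_ ?_ ?_ <;>
          simp only [mul_ent, gl_00, gl_01, gl_10, gl_11, h00, h01, h10, h11, hT10] <;> field_simp <;> ring
      rw [hx]
      exact H.mul_mem (H.mul_mem (hdiag _ rfl rfl) hT) (hdiag _ rfl rfl)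
  rw [eq_top_iff]
  intro x _
  by_cases hc : x.1 1 0 = 0
  · have hdx := det_ne x
    rw [hc, mul_zero, sub_zero] at hdx
    have ha : x.1 0 0 ≠ 0 := left_ne_zero_of_mul hdx
    have he : x.1 1 1 ≠ 0 := right_ne_zero_of_mul hdx
    have h1 : x.1 0 0 * x.1 1 1 - 0 * 0 ≠ 0 := by simpa using hdx
    have h2 : (1 : K) * 1 - (x.1 0 1 / x.1 0 0) * 0 ≠ 0 := by simp
    have hx : x = gl _ 0 0 _ h1 * gl _ _ _ _ h2 := by
      refine gl_ext ?_ ?_ ?_ ?_ <;>
        simp only [mul_ent, gl_00, gl_01, gl_10, gl_11, hc] <;> field_simp <;> ring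
    rw [hx]
    exact H.mul_mem (hdiag _ rfl rfl) (hup _ _ rfl rfl rfl rfl)
  · have h1 : (1 : K) * 1 - (x.1 0 0 / x.1 1 0) * 0 ≠ 0 := by simp
    have h2 : (1 : K) * 1 - (x.1 1 1 / x.1 1 0) * 0 ≠ 0 := by simp
    have h3 : (0 : K) * 0 - (x.1 0 1 - x.1 0 0 * x.1 1 1 / x.1 1 0) * x.1 1 0 ≠ 0 := by
      have := det_ne x
      intro h
      apply this
      have h4 : (x.1 0 1 - x.1 0 0 * x.1 1 1 / x.1 1 0) * x.1 1 0 =
          x.1 0 1 * x.1 1 0 - x.1 0 0 * x.1 1 1 := by field_simp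
      linear_combination h + h4
    have hx : x = gl _ _ _ _ h1 * gl _ _ _ _ h3 * gl _ _ _ _ h2 := by
      refine gl_ext ?_ ?_ ?_ ?_ <;>
        simp only [mul_ent, gl_00, gl_01, gl_10, gl_11] <;> field_simp <;> ring
    rw [hx]
    exact H.mul_mem (H.mul_mem (hup _ _ rfl rfl rfl rfl) (hanti _ rfl rfl)) (hup _ _ rfl rfl rfl rfl)

/-- generation, normal form -/
theorem eq_top_of_normal {d : K} (hd : ∀ a : K, a ^ 2 ≠ d) (hK : ∃ a : K, a ≠ 0 ∧ a ^ 2 ≠ 1)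
    (H : Subgroup (GL (Fin 2) K)) (hdiag : ∀ y : GL (Fin 2) K, y.1 0 1 = 0 → y.1 1 0 = 0 → y ∈ H)
    (hanti : ∀ y : GL (Fin 2) K, y.1 0 0 = 0 → y.1 1 1 = 0 → y ∈ H)
    (hns : ∀ y : GL (Fin 2) K, y.1 0 0 = y.1 1 1 → y.1 0 1 = d * y.1 1 0 → y ∈ H) : H = ⊤ := by
  obtain ⟨a, ha0, ha1⟩ := hK
  have hd1 : d ≠ 1 := fun h => hd 1 (by rw [h, one_pow])
  have hd0 : d ≠ 0 := fun h => hd 0 (by rw [h]; ring)
  have hda : d - a ^ 2 ≠ 0 := fun h => hd a (sub_eq_zero.1 h).symm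
  have hg : (1 : K) * 1 - d * 1 ≠ 0 := by
    intro h; apply hd1; linear_combination -h
  have hg' : (-a) * (-a) - d * 1 ≠ 0 := by
    intro h; apply hda; linear_combination -h
  have hD : a * 1 - 0 * 0 ≠ 0 := by simpa using ha0
  have m1 : gl 1 d 1 1 hg ∈ H := hns _ (by simp) (by simp)
  have m2 : gl (-a) d 1 (-a) hg' ∈ H := hns _ (by simp) (by simp)
  have m3 : gl a 0 0 1 hD ∈ H := hdiag _ (by simp) (by simp)
  refine eq_top_of_tri H hdiag hanti (H.mul_mem (H.mul_mem m2 m3) m1) ?_ ?_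
  · simp only [mul_ent, gl_00, gl_01, gl_10, gl_11]; ring
  · simp only [mul_ent, gl_00, gl_01, gl_10, gl_11]
    intro h
    have h1 : d * (1 - a ^ 2) = 0 := by linear_combination h
    rcases mul_eq_zero.1 h1 with h3 | h3
    · exact hd0 h3
    · exact ha1 (by linear_combination -h3)

/-- **Generation of `GL(2,K)`**: `H` contains everything that commutes up to a scalar with `u₁`
resp. `u₂`, `u₁² = s²`, `u₂² = d` not a square, `u₁ u₂ = - u₂ u₁`. -/
theorem eq_top_of_pair (h2 : (2 : K) ≠ 0) {s d : K} (hs : s ≠ 0) (hd : ∀ a : K, a ^ 2 ≠ d)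
    (hK : ∃ a : K, a ≠ 0 ∧ a ^ 2 ≠ 1) (H : Subgroup (GL (Fin 2) K)) {u₁ u₂ : GL (Fin 2) K}
    (h11 : u₁.1 * u₁.1 = s ^ 2 • (1 : Matrix (Fin 2) (Fin 2) K))
    (h22 : u₂.1 * u₂.1 = d • (1 : Matrix (Fin 2) (Fin 2) K))
    (h12 : u₁.1 * u₂.1 = -(u₂.1 * u₁.1))
    (hc1 : ∀ y : GL (Fin 2) K, y.1 * u₁.1 = u₁.1 * y.1 ∨ y.1 * u₁.1 = -(u₁.1 * y.1) → y ∈ H)
    (hc2 : ∀ y : GL (Fin 2) K, y.1 * u₂.1 = u₂.1 * y.1 ∨ y.1 * u₂.1 = -(u₂.1 * y.1) → y ∈ H) :
    H = ⊤ := by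
  -- an eigenvector
  have hne : ∃ v : Fin 2 → K, u₁.1 *ᵥ v + s • v ≠ 0 := by
    by_contra hcon
    push Not at hcon
    have h1 : u₁.1 = (-s) • (1 : Matrix (Fin 2) (Fin 2) K) := by
      apply Matrix.ext_of_mulVec_single
      intro j
      have := hcon (Pi.single j 1)
      rw [Matrix.smul_mulVec, Matrix.one_mulVec, neg_smul]
      exact eq_neg_of_add_eq_zero_left this
    rw [h1] at h12
    rw [Matrix.smul_mul, Matrix.mul_smul, Matrix.one_mul, Matrix.mul_one] at h12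
    have h3 : ((2 : K) * s) • u₂.1 = 0 := by
      have : (-s) • u₂.1 - -((-s) • u₂.1) = 0 := sub_eq_zero.2 h12
      rw [sub_neg_eq_add, ← add_smul] at this
      have h4 : (2 : K) * s = -(-s + -s) := by ring
      rw [h4, neg_smul, this, neg_zero]
    have h4 := (smul_eq_zero.1 h3).resolve_left (mul_ne_zero h2 hs)
    exact u₂.ne_zero h4
  obtain ⟨v, hv⟩ := hne
  obtain ⟨w, hw⟩ : ∃ w, w = u₁.1 *ᵥ v + s • v := ⟨_, rfl⟩
  rw [← hw] at hv
  have hw1 : u₁.1 *ᵥ w = s • w := by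
    rw [hw, mulVec_add, mulVec_mulVec, h11, mulVec_smul, Matrix.smul_mulVec, Matrix.one_mulVec,
      smul_add, smul_smul, ← pow_two, add_comm]
  have hw2 : u₁.1 *ᵥ (u₂.1 *ᵥ w) = (-s) • (u₂.1 *ᵥ w) := by
    rw [mulVec_mulVec, h12, Matrix.neg_mulVec, ← mulVec_mulVec, hw1, mulVec_smul, neg_smul]
  have hw3 : u₂.1 *ᵥ (u₂.1 *ᵥ w) = d • w := by
    rw [mulVec_mulVec, h22, Matrix.smul_mulVec, Matrix.one_mulVec]
  obtain ⟨x, hx⟩ : ∃ x, x = u₂.1 *ᵥ w := ⟨_, rfl⟩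
  rw [← hx] at hw2 hw3
  have hx0 : x ≠ 0 := by
    intro h
    rw [h, mulVec_zero] at hw3
    have hd0 : d ≠ 0 := fun h' => hd 0 (by rw [h']; ring)
    exact hv ((smul_eq_zero.1 hw3.symm).resolve_left hd0)
  -- the matrix with columns `w`, `x`
  have hdet : w 0 * x 1 - x 0 * w 1 ≠ 0 := by
    intro h
    have a0 := congrFun hw1 0
    have a1 := congrFun hw1 1
    have b0 := congrFun hw2 0
    have b1 := congrFun hw2 1
    rw [Matrix.mulVec_eq_sum] at a0 a1 b0 b1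
    simp only [Fin.sum_univ_two, Pi.add_apply, Pi.smul_apply, Matrix.transpose_apply, smul_eq_mul,
      MulOpposite.smul_eq_mul_unop, MulOpposite.unop_op] at a0 a1 b0 b1
    have c0 : 2 * s * (w 0 * x 0) = 0 := by linear_combination -x 0 * a0 + w 0 * b0 - u₁.1 0 1 * h
    have c1 : 2 * s * (w 1 * x 1) = 0 := by linear_combination -x 1 * a1 + w 1 * b1 + u₁.1 1 0 * h
    have c2 : 2 * s * (w 1 * x 0) = 0 := by
      linear_combination -x 0 * a1 + w 0 * b1 + (- u₁.1 1 1 - s) * h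
    have h2s : 2 * s ≠ 0 := mul_ne_zero h2 hs
    have d0 := (mul_eq_zero.1 c0).resolve_left h2s
    have d1 := (mul_eq_zero.1 c1).resolve_left h2s
    have d2 := (mul_eq_zero.1 c2).resolve_left h2s
    have d3 : w 0 * x 1 = 0 := by linear_combination h + d2
    by_cases hx00 : x 0 = 0
    · have hx1 : x 1 ≠ 0 := by
        intro h'
        apply hx0
        funext i
        fin_cases i
        exacts [hx00, h']
      apply hv
      funext i
      fin_cases i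
      · exact (mul_eq_zero.1 d3).resolve_right hx1
      · exact (mul_eq_zero.1 d1).resolve_right hx1
    · apply hv
      funext i
      fin_cases i
      · exact (mul_eq_zero.1 d0).resolve_right hx00
      · exact (mul_eq_zero.1 d2).resolve_right hx00
  let B : GL (Fin 2) K := gl (w 0) (x 0) (w 1) (x 1) hdet
  have hB1 : u₁.1 * B.1 = B.1 * !![s, 0; 0, -s] := by
    have a0 := congrFun hw1 0
    have a1 := congrFun hw1 1
    have b0 := congrFun hw2 0
    have b1 := congrFun hw2 1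
    rw [Matrix.mulVec_eq_sum] at a0 a1 b0 b1
    simp only [Fin.sum_univ_two, Pi.add_apply, Pi.smul_apply, Matrix.transpose_apply, smul_eq_mul,
      MulOpposite.smul_eq_mul_unop, MulOpposite.unop_op] at a0 a1 b0 b1
    ext i j
    fin_cases i <;> fin_cases j <;> rw [Matrix.mul_apply, Matrix.mul_apply, Fin.sum_univ_two,
      Fin.sum_univ_two]
    · change u₁.1 0 0 * w 0 + u₁.1 0 1 * w 1 = w 0 * s + x 0 * 0
      linear_combination a0
    · change u₁.1 0 0 * x 0 + u₁.1 0 1 * x 1 = w 0 * 0 + x 0 * -s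
      linear_combination b0
    · change u₁.1 1 0 * w 0 + u₁.1 1 1 * w 1 = w 1 * s + x 1 * 0
      linear_combination a1
    · change u₁.1 1 0 * x 0 + u₁.1 1 1 * x 1 = w 1 * 0 + x 1 * -s
      linear_combination b1
  have hB2 : u₂.1 * B.1 = B.1 * !![0, d; 1, 0] := by
    have a0 := congrFun hx 0
    have a1 := congrFun hx 1
    have b0 := congrFun hw3 0
    have b1 := congrFun hw3 1
    rw [Matrix.mulVec_eq_sum] at a0 a1 b0 b1
    simp only [Fin.sum_univ_two, Pi.add_apply, Pi.smul_apply, Matrix.transpose_apply, smul_eq_mul,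
      MulOpposite.smul_eq_mul_unop, MulOpposite.unop_op] at a0 a1 b0 b1
    ext i j
    fin_cases i <;> fin_cases j <;> rw [Matrix.mul_apply, Matrix.mul_apply, Fin.sum_univ_two,
      Fin.sum_univ_two]
    · change u₂.1 0 0 * w 0 + u₂.1 0 1 * w 1 = w 0 * 0 + x 0 * 1
      linear_combination -a0
    · change u₂.1 0 0 * x 0 + u₂.1 0 1 * x 1 = w 0 * d + x 0 * 0
      linear_combination b0
    · change u₂.1 1 0 * w 0 + u₂.1 1 1 * w 1 = w 1 * 0 + x 1 * 1
      linear_combination -a1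
    · change u₂.1 1 0 * x 0 + u₂.1 1 1 * x 1 = w 1 * d + x 1 * 0
      linear_combination b1
  -- transport
  have hBB : B⁻¹.1 * B.1 = 1 := inv_val_mul_val B
  have htr : ∀ (u : GL (Fin 2) K) (N : Matrix (Fin 2) (Fin 2) K), u.1 * B.1 = B.1 * N →
      ∀ y : GL (Fin 2) K, (y.1 * N = N * y.1 ∨ y.1 * N = -(N * y.1)) →
      ((B * y * B⁻¹).1 * u.1 = u.1 * (B * y * B⁻¹).1 ∨
        (B * y * B⁻¹).1 * u.1 = -(u.1 * (B * y * B⁻¹).1)) := by
    intro u N hu y hy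
    have hu' : B⁻¹.1 * u.1 = N * B⁻¹.1 := by
      have h1 : B⁻¹.1 * (u.1 * B.1) * B⁻¹.1 = B⁻¹.1 * (B.1 * N) * B⁻¹.1 := by rw [hu]
      have hBB' : B.1 * B⁻¹.1 = 1 := by rw [← Units.val_mul, mul_inv_cancel, Units.val_one]
      calc B⁻¹.1 * u.1 = B⁻¹.1 * u.1 * (B.1 * B⁻¹.1) := by rw [hBB', Matrix.mul_one]
        _ = B⁻¹.1 * (u.1 * B.1) * B⁻¹.1 := by simp only [Matrix.mul_assoc]
        _ = B⁻¹.1 * (B.1 * N) * B⁻¹.1 := h1
        _ = (B⁻¹.1 * B.1) * N * B⁻¹.1 := by simp only [Matrix.mul_assoc]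
        _ = N * B⁻¹.1 := by rw [hBB, Matrix.one_mul]
    have e1 : (B * y * B⁻¹).1 * u.1 = B.1 * (y.1 * N) * B⁻¹.1 := by
      rw [Units.val_mul, Units.val_mul, Matrix.mul_assoc, hu']
      simp only [Matrix.mul_assoc]
    have e2 : u.1 * (B * y * B⁻¹).1 = B.1 * (N * y.1) * B⁻¹.1 := by
      rw [Units.val_mul, Units.val_mul, ← Matrix.mul_assoc, ← Matrix.mul_assoc, hu]
      simp only [Matrix.mul_assoc]
    rw [e1, e2]
    rcases hy with hy | hy
    · left; rw [hy]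
    · right; rw [hy, Matrix.mul_neg, Matrix.neg_mul]
  have htop : H.comap (MulAut.conj B).toMonoidHom = ⊤ := by
    apply eq_top_of_normal hd hK
    · intro y h01 h10
      apply hc1
      apply htr u₁ _ hB1
      left
      refine mat_ext ?_ ?_ ?_ ?_ <;> rw [mat_mul, mat_mul]
      · change y.1 0 0 * s + y.1 0 1 * 0 = s * y.1 0 0 + 0 * y.1 1 0
        ring
      · change y.1 0 0 * 0 + y.1 0 1 * -s = s * y.1 0 1 + 0 * y.1 1 1
        rw [h01]; ring
      · change y.1 1 0 * s + y.1 1 1 * 0 = 0 * y.1 0 0 + -s * y.1 1 0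
        rw [h10]; ring
      · change y.1 1 0 * 0 + y.1 1 1 * -s = 0 * y.1 0 1 + -s * y.1 1 1
        ring
    · intro y h00 h11'
      apply hc1
      apply htr u₁ _ hB1
      right
      refine mat_ext ?_ ?_ ?_ ?_ <;> rw [Matrix.neg_apply, mat_mul, mat_mul]
      · change y.1 0 0 * s + y.1 0 1 * 0 = -(s * y.1 0 0 + 0 * y.1 1 0)
        rw [h00]; ring
      · change y.1 0 0 * 0 + y.1 0 1 * -s = -(s * y.1 0 1 + 0 * y.1 1 1)
        ring
      · change y.1 1 0 * s + y.1 1 1 * 0 = -(0 * y.1 0 0 + -s * y.1 1 0)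
        ring
      · change y.1 1 0 * 0 + y.1 1 1 * -s = -(0 * y.1 0 1 + -s * y.1 1 1)
        rw [h11']; ring
    · intro y h1 h3
      apply hc2
      apply htr u₂ _ hB2
      left
      refine mat_ext ?_ ?_ ?_ ?_ <;> rw [mat_mul, mat_mul]
      · change y.1 0 0 * 0 + y.1 0 1 * 1 = 0 * y.1 0 0 + d * y.1 1 0
        rw [h3]; ring
      · change y.1 0 0 * d + y.1 0 1 * 0 = 0 * y.1 0 1 + d * y.1 1 1
        rw [h1]; ring
      · change y.1 1 0 * 0 + y.1 1 1 * 1 = 1 * y.1 0 0 + 0 * y.1 1 0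
        rw [h1]; ring
      · change y.1 1 0 * d + y.1 1 1 * 0 = 1 * y.1 0 1 + 0 * y.1 1 1
        rw [h3]; ring
  rw [eq_top_iff]
  intro y _
  have : B⁻¹ * y * B ∈ H.comap (MulAut.conj B).toMonoidHom := by rw [htop]; trivial
  have h3 : B * (B⁻¹ * y * B) * B⁻¹ ∈ H := this
  have h4 : B * (B⁻¹ * y * B) * B⁻¹ = y := by group
  rwa [h4] at h3

end Cfsg.Agent.LFourA.GLGen
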