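import Mathlib
import Cfsg.Agent.LFourA.FieldInv
import Cfsg.Agent.LFourA.GLGen

/-!
# The centralizer of a field involution of `PSL(2,F)`

For `FInv π α σ K`: the homomorphism `psi : GL(2,K) →* L` with kernel the scalars and image
`{z | α z = z}` (`≅ PGL(2,K)`), and `sub : SL(2,K) →* L`.
-/

set_option autoImplicit false

namespace Cfsg.Agent.LFourA.FieldInv

open Matrix Cfsg.Agent.Lib.SL2Mat Cfsg.Agent.Lib.AutSL2 Cfsg.Agent.Lib.AutSL2Out
  Cfsg.Agent.Lib.PSL2Torus Cfsg.Agent.Lib.PSL2Inv Cfsg.Agent.LFourA.GLGen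

variable {F : Type*} [Field F] {L : Type*} [Group L]

theorem sl_det (x : Matrix.SpecialLinearGroup (Fin 2) F) : x.1.det = 1 := x.2

/-- proportional elements of `SL(2,F)` -/
theorem eq_or_neg_of_smul {x y : Matrix.SpecialLinearGroup (Fin 2) F} {c : F} (h : x.1 = c • y.1) :
    x = y ∨ x = -y := by
  have h1 := sl_det x
  rw [h, Matrix.det_smul, sl_det y, mul_one, Fintype.card_fin] at h1
  rcases sq_eq_one_iff_of_ne_zero_or (c := c) h1 with rfl | rfl
  · left
    apply Subtype.ext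
    rw [h, one_smul]
  · right
    apply Subtype.ext
    rw [h, neg_smul, one_smul]
    rfl
where
  sq_eq_one_iff_of_ne_zero_or {c : F} (h : c ^ 2 = 1) : c = 1 ∨ c = -1 := by
    have : (c - 1) * (c + 1) = 0 := by linear_combination h
    rcases mul_eq_zero.1 this with h | h
    · exact Or.inl (sub_eq_zero.1 h)
    · exact Or.inr (eq_neg_of_add_eq_zero_left h)

namespace FInv

variable {π : Matrix.SpecialLinearGroup (Fin 2) F →* L} {α : MulAut L} {σ : F ≃+* F} {K : Subfield F}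

/-- the embedding of `SL(2,K)` -/
def sub (_ : FInv π α σ K) : Matrix.SpecialLinearGroup (Fin 2) K →* L :=
  π.comp (Matrix.SpecialLinearGroup.map K.subtype)

theorem map_eq (h : FInv π α σ K) {x y : Matrix.SpecialLinearGroup (Fin 2) F} :
    π x = π y ↔ x = y ∨ x = -y := map_eq_iff π h.ker

theorem sigma_ne (h : FInv π α σ K) : σ.toRingHom ≠ RingHom.id F := by
  intro h1
  obtain ⟨a, ha⟩ := h.ne
  exact ha (DFunLike.congr_fun h1 a)

/-- elements of `K` are squares in `F` -/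
theorem exists_sqrt [Finite F] (h : FInv π α σ K) {d : F} (hd : σ d = d) : ∃ e : F, e * e = d := by
  obtain ⟨x, hx⟩ := Cfsg.Agent.ClassicalGeometry.InvolutiveNorm.exists_mul_sigma_eq
    (σ := σ.toRingHom) h.sigma_ne h.inv (a := d) hd
  obtain ⟨e, he⟩ := isSquare_mul_map σ x
  exact ⟨e, by rw [← he]; exact hx⟩

theorem exists_lift [Finite F] (h : FInv π α σ K) (Y : GL (Fin 2) K) :
    ∃ (x : Matrix.SpecialLinearGroup (Fin 2) F) (e : F), e ≠ 0 ∧ x.1 = e • Y.1.map K.subtype := by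
  have hdet : (Y.1.map K.subtype).det = ((Y.1.det : K) : F) := by
    have := RingHom.map_det K.subtype Y.1
    rw [RingHom.mapMatrix_apply] at this
    exact this.symm
  have hd0 : ((Y.1.det : K) : F) ≠ 0 := by
    intro h0
    exact gl_det_ne Y (Subtype.ext h0)
  obtain ⟨e, he⟩ := h.exists_sqrt (d := ((Y.1.det : K) : F)⁻¹) (by
    rw [map_inv₀, (h.mem _).1 (Y.1.det).2])
  refine ⟨⟨e • Y.1.map K.subtype, ?_⟩, e, ?_, rfl⟩
  · rw [Matrix.det_smul, hdet, Fintype.card_fin, pow_two, he, inv_mul_cancel₀ hd0]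
  · rintro rfl
    rw [mul_zero] at he
    exact inv_ne_zero hd0 he.symm

/-- The homomorphism `GL(2,K) →* L` with image the fixed points of `α`. -/
noncomputable def psi [Finite F] (h : FInv π α σ K) : GL (Fin 2) K →* L :=
  MonoidHom.mk' (fun Y => π (h.exists_lift Y).choose) (by
    intro X Y
    obtain ⟨e, he, h1⟩ := (h.exists_lift X).choose_spec
    obtain ⟨f, hf, h3⟩ := (h.exists_lift Y).choose_spec
    obtain ⟨g, hg, h5⟩ := (h.exists_lift (X * Y)).choose_spec
    rw [← map_mul, h.map_eq]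
    apply eq_or_neg_of_smul (c := g * (e * f)⁻¹)
    change _ = (g * (e * f)⁻¹) • ((h.exists_lift X).choose.1 * (h.exists_lift Y).choose.1)
    rw [h1, h3, h5, Matrix.smul_mul, Matrix.mul_smul, smul_smul, smul_smul, Units.val_mul,
      Matrix.map_mul]
    congr 1
    field_simp)

theorem psi_eq [Finite F] (h : FInv π α σ K) {Y : GL (Fin 2) K} {x : Matrix.SpecialLinearGroup (Fin 2) F}
    {e : F} (he : e ≠ 0) (hx : x.1 = e • Y.1.map K.subtype) : h.psi Y = π x := by
  obtain ⟨f, hf, h1⟩ := (h.exists_lift Y).choose_spec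
  change π (h.exists_lift Y).choose = π x
  rw [h.map_eq]
  apply eq_or_neg_of_smul (c := f * e⁻¹)
  rw [h1, hx, smul_smul, inv_mul_cancel_right₀ he]

theorem psi_sub [Finite F] (h : FInv π α σ K) (y : Matrix.SpecialLinearGroup (Fin 2) K) :
    h.psi (Matrix.SpecialLinearGroup.toGL y) = h.sub y := by
  apply h.psi_eq (e := 1) one_ne_zero
  rw [one_smul]
  rfl

theorem alpha_eq_iff (h : FInv π α σ K) (x : Matrix.SpecialLinearGroup (Fin 2) F) :
    α (π x) = π x ↔ fieldAut σ x = x ∨ fieldAut σ x = -x := by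
  rw [h.act, h.map_eq]

theorem exists_anti (h : FInv π α σ K) : ∃ δ : F, δ ≠ 0 ∧ σ δ = -δ := by
  obtain ⟨a, ha⟩ := h.ne
  refine ⟨a - σ a, ?_, ?_⟩
  · intro h0
    exact ha (sub_eq_zero.1 h0).symm
  · rw [map_sub, h.inv]; ring

theorem psi_mem [Finite F] (h : FInv π α σ K) (Y : GL (Fin 2) K) : α (h.psi Y) = h.psi Y := by
  obtain ⟨x, e, he, hx⟩ := h.exists_lift Y
  rw [h.psi_eq he hx, h.alpha_eq_iff]
  apply eq_or_neg_of_smul (c := σ e * e⁻¹)
  rw [hx, smul_smul, inv_mul_cancel_right₀ he]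
  ext i j
  have h1 : (fieldAut σ x).1 i j = σ (x.1 i j) := rfl
  rw [h1, hx]
  change σ (e * ((Y.1 i j : K) : F)) = σ e * ((Y.1 i j : K) : F)
  rw [map_mul, (h.mem _).1 (Y.1 i j).2]

theorem exists_psi [Finite F] (h : FInv π α σ K) {z : L} (hz : α z = z) : ∃ Y, h.psi Y = z := by
  obtain ⟨x, rfl⟩ := h.surj z
  rw [h.alpha_eq_iff] at hz
  -- `x = δ⁻¹ • X`
  have hδ : ∃ δ : F, δ ≠ 0 ∧ ∀ i j, σ (δ * x.1 i j) = δ * x.1 i j := by
    rcases hz with hz | hz
    · refine ⟨1, one_ne_zero, fun i j => ?_⟩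
      have : σ (x.1 i j) = x.1 i j := congrArg (fun y : Matrix.SpecialLinearGroup (Fin 2) F => y.1 i j) hz
      rw [one_mul, this]
    · obtain ⟨δ, hδ, hσδ⟩ := h.exists_anti
      refine ⟨δ, hδ, fun i j => ?_⟩
      have : σ (x.1 i j) = -(x.1 i j) :=
        congrArg (fun y : Matrix.SpecialLinearGroup (Fin 2) F => y.1 i j) hz
      rw [map_mul, this, hσδ, neg_mul_neg]
  obtain ⟨δ, hδ0, hδ⟩ := hδ
  let X : Matrix (Fin 2) (Fin 2) K := fun i j => ⟨δ * x.1 i j, (h.mem _).2 (hδ i j)⟩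
  have hX : X.map K.subtype = δ • x.1 := by
    ext i j; rfl
  have hdet : X.det ≠ 0 := by
    intro h0
    have h1 := RingHom.map_det K.subtype X
    rw [RingHom.mapMatrix_apply, hX, h0, map_zero, Matrix.det_smul, sl_det, mul_one,
      Fintype.card_fin] at h1
    exact pow_ne_zero 2 hδ0 h1.symm
  refine ⟨Matrix.GeneralLinearGroup.mkOfDetNeZero X hdet, ?_⟩
  apply h.psi_eq (e := δ⁻¹) (inv_ne_zero hδ0)
  change x.1 = δ⁻¹ • X.map K.subtype
  rw [hX, smul_smul, inv_mul_cancel₀ hδ0, one_smul]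

theorem psi_range [Finite F] (h : FInv π α σ K) {z : L} : z ∈ h.psi.range ↔ α z = z := by
  constructor
  · rintro ⟨Y, rfl⟩
    exact h.psi_mem Y
  · intro hz
    exact h.exists_psi hz

theorem psi_eq_one_iff [Finite F] (h : FInv π α σ K) {Y : GL (Fin 2) K} :
    h.psi Y = 1 ↔ ∃ c : K, Y.1 = c • (1 : Matrix (Fin 2) (Fin 2) K) := by
  obtain ⟨x, e, he, hx⟩ := h.exists_lift Y
  rw [h.psi_eq he hx, h.ker]
  have hval : ∀ (Z : Matrix (Fin 2) (Fin 2) K) (c : F), Z.map K.subtype = c • (1 : Matrix (Fin 2) (Fin 2) F) →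
      ∃ c : K, Z = c • (1 : Matrix (Fin 2) (Fin 2) K) := by
    intro Z c hZ
    refine ⟨Z 0 0, ?_⟩
    have e00 : ((Z 0 0 : K) : F) = c * 1 := congrFun (congrFun hZ 0) 0
    have e01 : ((Z 0 1 : K) : F) = c * 0 := congrFun (congrFun hZ 0) 1
    have e10 : ((Z 1 0 : K) : F) = c * 0 := congrFun (congrFun hZ 1) 0
    have e11 : ((Z 1 1 : K) : F) = c * 1 := congrFun (congrFun hZ 1) 1
    refine mat_ext ?_ ?_ ?_ ?_
    · change Z 0 0 = Z 0 0 * 1; rw [mul_one]
    · change Z 0 1 = Z 0 0 * 0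
      rw [mul_zero]; apply Subtype.ext; rw [e01, mul_zero]; rfl
    · change Z 1 0 = Z 0 0 * 0
      rw [mul_zero]; apply Subtype.ext; rw [e10, mul_zero]; rfl
    · change Z 1 1 = Z 0 0 * 1
      rw [mul_one]; apply Subtype.ext; rw [e11, e00]
  constructor
  · rintro (rfl | rfl)
    · apply hval _ e⁻¹
      have : (1 : Matrix.SpecialLinearGroup (Fin 2) F).1 = 1 := rfl
      rw [← this, hx, smul_smul, inv_mul_cancel₀ he, one_smul]
    · apply hval _ (-e⁻¹)
      have : (-1 : Matrix.SpecialLinearGroup (Fin 2) F).1 = -1 := rfl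
      rw [this] at hx
      rw [neg_smul, ← smul_neg, hx, smul_smul, inv_mul_cancel₀ he, one_smul]
  · rintro ⟨c, hc⟩
    apply eq_or_neg_of_smul (c := e * (c : F))
    change _ = (e * (c : F)) • (1 : Matrix (Fin 2) (Fin 2) F)
    rw [hx, hc, mul_smul]
    congr 1
    refine mat_ext ?_ ?_ ?_ ?_
    · change ((c * 1 : K) : F) = c * 1; push_cast; rfl
    · change ((c * 0 : K) : F) = c * 0; push_cast; rfl
    · change ((c * 0 : K) : F) = c * 0; push_cast; rfl
    · change ((c * 1 : K) : F) = c * 1; push_cast; rfl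

theorem psi_scalar [Finite F] (h : FInv π α σ K) {Y Z : GL (Fin 2) K} {c : K} (hc : Y.1 = c • Z.1) :
    h.psi Y = h.psi Z := by
  have h1 : h.psi (Y * Z⁻¹) = 1 := by
    rw [h.psi_eq_one_iff]
    refine ⟨c, ?_⟩
    rw [Units.val_mul, hc, Matrix.smul_mul]
    congr 1
    rw [← Units.val_mul, mul_inv_cancel, Units.val_one]
  rw [map_mul, map_inv, mul_inv_eq_one] at h1
  exact h1

/-- `psi Y` lies in the image of `SL(2,K)` iff `det Y` is a square. -/
theorem psi_mem_sub [Finite F] (h : FInv π α σ K) {Y : GL (Fin 2) K} :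
    h.psi Y ∈ h.sub.range ↔ ∃ s : K, s ^ 2 = Y.1.det := by
  constructor
  · rintro ⟨y, hy⟩
    rw [← h.psi_sub, eq_comm, ← mul_inv_eq_one, ← map_inv, ← map_mul, h.psi_eq_one_iff] at hy
    obtain ⟨c, hc⟩ := hy
    refine ⟨c, ?_⟩
    have h1 : Y.1 = c • y.1 := by
      have h3 : (Y * (Matrix.SpecialLinearGroup.toGL y)⁻¹ * Matrix.SpecialLinearGroup.toGL y) = Y := by
        group
      have h5 : Y.1 = (Y * (Matrix.SpecialLinearGroup.toGL y)⁻¹).1 * y.1 := by
        conv_lhs => rw [← h3]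
        rfl
      rw [h5, hc, Matrix.smul_mul, Matrix.one_mul]
    rw [h1, Matrix.det_smul, Fintype.card_fin, y.2, mul_one]
  · rintro ⟨s, hs⟩
    have hs0 : s ≠ 0 := by
      rintro rfl
      apply gl_det_ne Y
      rw [← hs]; ring
    let y : Matrix.SpecialLinearGroup (Fin 2) K := ⟨s⁻¹ • Y.1, by
      rw [Matrix.det_smul, ← hs, Fintype.card_fin, ← mul_pow, inv_mul_cancel₀ hs0, one_pow]⟩
    refine ⟨y, ?_⟩
    rw [← h.psi_sub y]
    exact h.psi_scalar (c := s⁻¹) rfl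

end FInv

end Cfsg.Agent.LFourA.FieldInv
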