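import Mathlib
import Cfsg.Agent.LFourA.FieldCent
import Cfsg.Agent.TwoFusion.SLTwoFacts

/-!
# Odd automorphism groups centralising a field involution of `PSL(2,F)`

`FInv π α σ K`.  A group `R` of automorphisms of `L` of odd order, which commutes with `α` and is
normalised by the (inner automorphisms induced by the) fixed points of `α`, is trivial.
-/

set_option autoImplicit false

namespace Cfsg.Agent.LFourA.FieldInv

open Matrix Cfsg.Agent.Lib.SL2Mat Cfsg.Agent.Lib.AutSL2 Cfsg.Agent.Lib.AutSL2Out
  Cfsg.Agent.Lib.PSL2Torus Cfsg.Agent.Lib.PSL2Inv Cfsg.Agent.LFourA.GLGen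

variable {F : Type*} [Field F] {L : Type*} [Group L]

theorem pow_sq_of_odd {L : Type*} [Group L] {z : L} {n : ℕ} (hn : Odd n) (hzn : z ^ n = 1) :
    ∃ k, z ^ k * z ^ k = z := by
  obtain ⟨m, rfl⟩ := hn
  refine ⟨m + 1, ?_⟩
  rw [← pow_add, show m + 1 + (m + 1) = (2 * m + 1) + 1 by ring, pow_succ, hzn, one_mul]

/-- a normal subgroup of odd order of `SL(2,F)/±1` is trivial -/
theorem odd_normal_eq_bot [Finite F] (h2 : (2 : F) ≠ 0) {ψ : Matrix.SpecialLinearGroup (Fin 2) F →* L}
    (hk : ∀ x, ψ x = 1 ↔ x = 1 ∨ x = -1) (N : Subgroup L) (hN : N ≤ ψ.range)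
    (hodd : Odd (Nat.card N)) (hnorm : ∀ x, ∀ y ∈ N, ψ x * y * (ψ x)⁻¹ ∈ N) : N = ⊥ := by
  classical
  have : Fintype F := Fintype.ofFinite _
  have hoddF : Odd (Nat.card F) := Nat.odd_iff.2 (odd_card h2)
  have hupc : ∀ b : F, (up b) ^ Nat.card F = 1 := fun b => by
    rw [up_pow, Nat.card_eq_fintype_card, FiniteField.cast_card_eq_zero, zero_mul, up_zero]
  have hlop : ∀ (b : F) (n : ℕ), (lo b) ^ n = lo (n * b) := fun b n => by
    induction n with
    | zero => rw [pow_zero, Nat.cast_zero, zero_mul, lo_zero]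
    | succ n ih => rw [pow_succ, ih, lo_mul]; congr 1; push_cast; ring
  have hloc : ∀ b : F, (lo b) ^ Nat.card F = 1 := fun b => by
    rw [hlop, Nat.card_eq_fintype_card, FiniteField.cast_card_eq_zero, zero_mul, lo_zero]
  have hc3 : 3 ≤ Fintype.card F := by
    have h1 := Fintype.one_lt_card (α := F)
    rw [Nat.card_eq_fintype_card] at hoddF
    obtain ⟨k, hk⟩ := hoddF
    omega
  rcases Nat.eq_or_lt_of_le hc3 with h3 | h3
  · -- `|K| = 3`
    have hc : Nat.card ψ.range = 12 := by
      have h24 : Nat.card (Matrix.SpecialLinearGroup (Fin 2) F) = 24 :=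
        TwoFusion.SLTwoFacts.card_eq_24 h3.symm
      have hk2 : Nat.card ψ.ker = 2 := by
        rw [Nat.card_eq_two_iff]
        refine ⟨⟨1, one_mem _⟩, ⟨-1, by rw [MonoidHom.mem_ker, hk]; right; rfl⟩, ?_, ?_⟩
        · intro h4
          have h5 := congrArg (fun y => ent (Subtype.val y) 0 0) h4
          change (1 : F) = -1 at h5
          apply h2
          linear_combination h5
        · ext ⟨x, hx⟩
          rw [MonoidHom.mem_ker, hk] at hx
          simpa [Subtype.ext_iff] using hx
      have h6 := Subgroup.card_mul_index ψ.ker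
      rw [Subgroup.index_ker, hk2, h24] at h6
      omega
    have hdvd : Nat.card N ∣ 12 := by
      rw [← hc]; exact Subgroup.card_dvd_of_le hN
    have h13 : Nat.card N = 1 ∨ Nat.card N = 3 := by
      have h7 : Nat.card N ≤ 12 := Nat.le_of_dvd (by norm_num) hdvd
      obtain ⟨k, hk'⟩ := hodd
      rw [hk'] at hdvd h7 ⊢
      have : k ≤ 5 := by omega
      interval_cases k <;> first | omega | (exfalso; revert hdvd; decide)
    rcases h13 with h1 | h3'
    · exact Subgroup.eq_bot_of_card_eq N h1
    · exfalso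
      -- every element of order `3` of `sub.range` lies in `N`
      have hin : ∀ z ∈ ψ.range, z ^ 3 = 1 → z ∈ N := by
        intro z hz hz3
        let N' : Subgroup ψ.range := N.subgroupOf ψ.range
        have hN' : N'.Normal := ⟨by
          rintro ⟨a, ha⟩ ha' ⟨b, ⟨y, rfl⟩⟩
          exact hnorm y a ha'⟩
        have hidx : N'.index = 4 := by
          have h8 : Nat.card N' = 3 := by
            rw [← h3']
            exact Nat.card_congr (Subgroup.subgroupOfEquivOfLe hN).toEquiv
          have h9 := Subgroup.card_mul_index N'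
          rw [hc, h8] at h9
          omega
        have h10 : (QuotientGroup.mk' N' ⟨z, hz⟩) ^ 3 = 1 := by
          rw [← map_pow]
          have : (⟨z, hz⟩ : ψ.range) ^ 3 = 1 := Subtype.ext hz3
          rw [this, map_one]
        have h11 : (QuotientGroup.mk' N' ⟨z, hz⟩) ^ 4 = 1 := by
          rw [← hidx, Subgroup.index]
          exact pow_card_eq_one'
        have h12 : QuotientGroup.mk' N' ⟨z, hz⟩ = 1 := by
          rw [pow_succ, h10, one_mul] at h11
          exact h11
        rw [QuotientGroup.mk'_apply, QuotientGroup.eq_one_iff] at h12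
        exact h12
      have hn3 : Nat.card F = 3 := by rw [Nat.card_eq_fintype_card]; exact h3.symm
      have hu : ψ (up 1) ∈ N := hin _ ⟨_, rfl⟩ (by rw [← map_pow, ← hn3, hupc, map_one])
      have hl : ψ (lo 1) ∈ N := hin _ ⟨_, rfl⟩ (by rw [← map_pow, ← hn3, hloc, map_one])
      have hcyc : IsCyclic N := isCyclic_of_prime_card (p := 3) h3'
      have hcomm : ψ (up 1) * ψ (lo 1) = ψ (lo 1) * ψ (up 1) := by
        let _ := hcyc.commGroup
        have := mul_comm (⟨_, hu⟩ : N) ⟨_, hl⟩
        exact congrArg Subtype.val this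
      rw [← mul_inv_eq_one, ← map_mul, ← map_mul, ← map_inv, ← map_mul, hk] at hcomm
      rcases hcomm with h4 | h4
      · rw [mul_inv_eq_one] at h4
        have h5 := congrArg (fun y => ent y 0 0) h4
        simp only [ent_mul, up_00, up_01, up_10, lo_00, lo_01, lo_10] at h5
        exact one_ne_zero (α := F) (by linear_combination h5)
      · rw [mul_inv_eq_iff_eq_mul] at h4
        have h5 := congrArg (fun y => ent y 0 1) h4
        simp only [ent_mul, up_00, up_01, up_10, up_11, lo_00, lo_01, lo_10, lo_11] at h5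
        have h6 : ent (-1 : Matrix.SpecialLinearGroup (Fin 2) F) 0 0 = -1 := rfl
        have h7 : ent (-1 : Matrix.SpecialLinearGroup (Fin 2) F) 0 1 = 0 := neg_zero
        rw [h6, h7] at h5
        apply h2
        linear_combination h5
  · have hsim := TwoFusion.SLTwoFacts.isSimpleGroup_psl (F := F) h3
    let N' : Subgroup (Matrix.SpecialLinearGroup (Fin 2) F) := N.comap ψ
    have hN' : N'.Normal := ⟨fun a ha b => by
      change ψ (b * a * b⁻¹) ∈ N
      rw [map_mul, map_mul, map_inv]
      exact hnorm b _ ha⟩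
    have hM : (N'.map (QuotientGroup.mk' (Subgroup.center
        (Matrix.SpecialLinearGroup (Fin 2) F)))).Normal :=
      hN'.map _ (QuotientGroup.mk'_surjective _)
    have hcen : ∀ x ∈ Subgroup.center (Matrix.SpecialLinearGroup (Fin 2) F), ψ x = 1 := by
      intro x hx
      rw [hk]
      rw [Matrix.SpecialLinearGroup.mem_center_iff] at hx
      obtain ⟨r, hr, hx⟩ := hx
      rw [Fintype.card_fin] at hr
      have : (r - 1) * (r + 1) = 0 := by linear_combination hr
      rcases mul_eq_zero.1 this with h5 | h5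
      · left
        have hr1 : r = 1 := sub_eq_zero.1 h5
        apply Subtype.ext
        change x.1 = 1
        rw [← hx, hr1, map_one]
      · right
        have hr1 : r = -1 := eq_neg_of_add_eq_zero_left h5
        apply Subtype.ext
        change x.1 = -1
        rw [← hx, hr1, map_neg, map_one]
    rcases hsim.eq_bot_or_eq_top_of_normal _ hM with h4 | h4
    · rw [Subgroup.eq_bot_iff_forall]
      intro y hy
      obtain ⟨x, rfl⟩ := hN hy
      apply hcen
      have h5 : QuotientGroup.mk' (Subgroup.center (Matrix.SpecialLinearGroup (Fin 2) F)) x ∈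
          N'.map (QuotientGroup.mk' (Subgroup.center (Matrix.SpecialLinearGroup (Fin 2) F))) :=
        ⟨x, hy, rfl⟩
      rw [h4, Subgroup.mem_bot, QuotientGroup.mk'_apply, QuotientGroup.eq_one_iff] at h5
      exact h5
    · exfalso
      have hall : ∀ x, ψ x ∈ N := by
        intro x
        have h5 : QuotientGroup.mk' (Subgroup.center (Matrix.SpecialLinearGroup (Fin 2) F)) x ∈
            N'.map (QuotientGroup.mk' (Subgroup.center (Matrix.SpecialLinearGroup (Fin 2) F))) := by
          rw [h4]; trivial
        obtain ⟨n, hn, hnx⟩ := h5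
        rw [QuotientGroup.mk'_apply, QuotientGroup.mk'_apply, QuotientGroup.eq] at hnx
        have h6 := hcen _ hnx
        rw [map_mul, map_inv, inv_mul_eq_one] at h6
        rw [← h6]
        exact hn
      have h7 := hall (wm 1 one_ne_zero)
      have h8 : ψ (wm 1 one_ne_zero) * ψ (wm 1 one_ne_zero) = 1 := by
        rw [← map_mul, hk]
        right
        refine ext_ent ?_ ?_ ?_ ?_
        · rw [ent_mul, wm_00, wm_01, wm_10]; change _ = (-1 : F); norm_num
        · rw [ent_mul, wm_00, wm_01, wm_11]; change _ = (-0 : F); norm_num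
        · rw [ent_mul, wm_10, wm_11, wm_00]; change _ = (-0 : F); norm_num
        · rw [ent_mul, wm_10, wm_11, wm_01]; change _ = (-1 : F); norm_num
      have h9 : ψ (wm 1 one_ne_zero) ≠ 1 := by
        intro h10
        rw [hk] at h10
        rcases h10 with h10 | h10
        · have := congrArg (fun y => ent y 0 1) h10
          exact one_ne_zero (α := F) this
        · have := congrArg (fun y => ent y 0 1) h10
          have h6 : ent (-1 : Matrix.SpecialLinearGroup (Fin 2) F) 0 1 = 0 := neg_zero
          change (1 : F) = ent (-1 : Matrix.SpecialLinearGroup (Fin 2) F) 0 1 at this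
          rw [h6] at this
          exact one_ne_zero (α := F) this
      have h11 : (⟨_, h7⟩ : N) ^ 2 = 1 := by
        apply Subtype.ext
        change (ψ (wm 1 one_ne_zero)) ^ 2 = 1
        rw [pow_two, h8]
      have h12 : orderOf (⟨_, h7⟩ : N) = 2 := orderOf_eq_prime h11 (by
        intro h13
        exact h9 (congrArg Subtype.val h13))
      have h13 := orderOf_dvd_natCard (⟨_, h7⟩ : N)
      rw [h12] at h13
      exact (Nat.not_even_iff_odd.2 hodd) (even_iff_two_dvd.2 h13)


namespace FInv

variable {π : Matrix.SpecialLinearGroup (Fin 2) F →* L} {α : MulAut L} {σ : F ≃+* F} {K : Subfield F}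

theorem two_ne' (h : FInv π α σ K) : (2 : K) ≠ 0 := by
  intro h0
  apply h.two
  have := congrArg (K.subtype) h0
  rwa [map_ofNat, map_zero] at this

theorem odd_card_sub [Finite F] (h : FInv π α σ K) : Odd (Nat.card K) :=
  Nat.odd_iff.2 (odd_card h.two_ne')

/-- fixed points of odd order lie in `PSL(2,K)` -/
theorem mem_sub_of_odd [Finite F] (h : FInv π α σ K) {z : L} (hz : α z = z) {n : ℕ} (hn : Odd n)
    (hzn : z ^ n = 1) : z ∈ h.sub.range := by
  obtain ⟨k, hk⟩ := pow_sq_of_odd hn hzn
  obtain ⟨Y, hY⟩ := h.exists_psi hz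
  rw [← hk, ← hY, ← map_pow, ← map_mul, h.psi_mem_sub]
  refine ⟨(Y ^ k).1.det, ?_⟩
  rw [Units.val_mul, Matrix.det_mul, pow_two]

/-- squares of fixed points lie in `PSL(2,K)` -/
theorem mem_sub_of_sq [Finite F] (h : FInv π α σ K) {z : L} (hz : α z = z) : z * z ∈ h.sub.range := by
  obtain ⟨Y, hY⟩ := h.exists_psi hz
  rw [← hY, ← map_mul, h.psi_mem_sub]
  refine ⟨Y.1.det, ?_⟩
  rw [Units.val_mul, Matrix.det_mul, pow_two]

theorem sub_le (h : FInv π α σ K) (N : Subgroup L) (hup : ∀ b : K, h.sub (up b) ∈ N)
    (hlo : ∀ b : K, h.sub (lo b) ∈ N) : h.sub.range ≤ N := by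
  rintro _ ⟨x, rfl⟩
  obtain ⟨a, b, c, d, rfl⟩ := exists_up_lo x
  rw [map_mul, map_mul, map_mul]
  exact mul_mem (mul_mem (mul_mem (hup _) (hlo _)) (hup _)) (hlo _)

theorem sub_fixed (h : FInv π α σ K) (x : Matrix.SpecialLinearGroup (Fin 2) K) :
    α (h.sub x) = h.sub x := by
  change α (π _) = π _
  rw [h.act]
  congr 1
  apply ext_ent <;>
  · rw [fieldAut_ent]
    exact (h.mem _).1 (SetLike.coe_mem _)

theorem up_pow_card [Finite F] (b : K) : (up b : Matrix.SpecialLinearGroup (Fin 2) K) ^ Nat.card K = 1 := by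
  have : Fintype K := Fintype.ofFinite _
  rw [up_pow, Nat.card_eq_fintype_card, FiniteField.cast_card_eq_zero, zero_mul, up_zero]

theorem lo_pow (b : K) (n : ℕ) : (lo b : Matrix.SpecialLinearGroup (Fin 2) K) ^ n = lo (n * b) := by
  induction n with
  | zero => rw [pow_zero, Nat.cast_zero, zero_mul, lo_zero]
  | succ n ih => rw [pow_succ, ih, lo_mul]; congr 1; push_cast; ring

theorem lo_pow_card [Finite F] (b : K) : (lo b : Matrix.SpecialLinearGroup (Fin 2) K) ^ Nat.card K = 1 := by
  have : Fintype K := Fintype.ofFinite _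
  rw [lo_pow, Nat.card_eq_fintype_card, FiniteField.cast_card_eq_zero, zero_mul, lo_zero]

/-- an automorphism commuting with `α` preserves `PSL(2,K)` -/
theorem map_mem_sub [Finite F] (h : FInv π α σ K) {ρ : MulAut L} (hρ : ∀ z, α z = z → α (ρ z) = ρ z)
    {x : L} (hx : x ∈ h.sub.range) : ρ x ∈ h.sub.range := by
  have key : h.sub.range ≤ h.sub.range.comap ρ.toMonoidHom := by
    apply h.sub_le
    · intro b
      apply h.mem_sub_of_odd (hρ _ (h.sub_fixed _)) h.odd_card_sub
      change ρ (h.sub (up b)) ^ _ = 1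
      rw [← map_pow, ← map_pow, up_pow_card, map_one, map_one]
    · intro b
      apply h.mem_sub_of_odd (hρ _ (h.sub_fixed _)) h.odd_card_sub
      change ρ (h.sub (lo b)) ^ _ = 1
      rw [← map_pow, ← map_pow, lo_pow_card, map_one, map_one]
  exact key hx

theorem sub_eq_one_iff (h : FInv π α σ K) {x : Matrix.SpecialLinearGroup (Fin 2) K} :
    h.sub x = 1 ↔ x = 1 ∨ x = -1 := by
  change π (Matrix.SpecialLinearGroup.map K.subtype x) = 1 ↔ _
  rw [h.ker]
  constructor
  · rintro (h1 | h1)
    · left
      apply ext_ent <;> apply Subtype.ext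
      · exact congrArg (fun y => ent y 0 0) h1
      · exact congrArg (fun y => ent y 0 1) h1
      · exact congrArg (fun y => ent y 1 0) h1
      · exact congrArg (fun y => ent y 1 1) h1
    · right
      apply ext_ent <;> apply Subtype.ext
      · exact congrArg (fun y => ent y 0 0) h1
      · exact congrArg (fun y => ent y 0 1) h1
      · exact congrArg (fun y => ent y 1 0) h1
      · exact congrArg (fun y => ent y 1 1) h1
  · rintro (rfl | rfl)
    · left; rw [map_one]
    · right
      apply ext_ent
      · change ((-1 : K) : F) = -1; push_cast; rfl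
      · change ((-0 : K) : F) = -0; push_cast; rfl
      · change ((-0 : K) : F) = -0; push_cast; rfl
      · change ((-1 : K) : F) = -1; push_cast; rfl

/-- an automorphism of odd order which is trivial on `PSL(2,K)` is trivial -/
theorem fix_sub_eq_one [Finite F] (h : FInv π α σ K) {ρ : MulAut L} {n : ℕ} (hn : Odd n)
    (hρ : ρ ^ n = 1) (hfix : ∀ x, ρ (h.sub x) = h.sub x) : ρ = 1 := by
  have h4 : (4 : F) ≠ 0 := by
    have : (4 : F) = 2 * 2 := by norm_num
    rw [this]; exact mul_ne_zero h.two h.two
  obtain ⟨β, hβn, hβ⟩ := Cfsg.Agent.Lib.PSL2Inv.exists_lift π h.surj h.ker hn hρ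
  obtain ⟨g, τ, rfl⟩ := exists_eq β
  have key : ∀ x : Matrix.SpecialLinearGroup (Fin 2) K, tr (Matrix.SpecialLinearGroup.map K.subtype x) = 2 →
      conjGL g (fieldAut τ (Matrix.SpecialLinearGroup.map K.subtype x)) =
        Matrix.SpecialLinearGroup.map K.subtype x := by
    intro x hx
    have h1 := hfix x
    change ρ (π (Matrix.SpecialLinearGroup.map K.subtype x)) =
      π (Matrix.SpecialLinearGroup.map K.subtype x) at h1
    rw [hβ, h.map_eq] at h1
    rcases h1 with h' | h'
    · exact h'
    · exfalso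
      have := congrArg tr h'
      rw [MulAut.mul_apply, tr_conjGL, tr_fieldAut, hx] at this
      have hneg : ∀ y : Matrix.SpecialLinearGroup (Fin 2) F, tr (-y) = -tr y := by
        intro y
        change -ent y 0 0 + -ent y 1 1 = -(ent y 0 0 + ent y 1 1)
        ring
      rw [hneg, hx, map_ofNat] at this
      apply h4
      linear_combination this
  have mup : ∀ b : K, Matrix.SpecialLinearGroup.map K.subtype (up b) = up (b : F) := fun b => by
    apply ext_ent
    · change ((1 : K) : F) = 1; push_cast; rfl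
    · rfl
    · change ((0 : K) : F) = 0; push_cast; rfl
    · change ((1 : K) : F) = 1; push_cast; rfl
  have mlo : ∀ b : K, Matrix.SpecialLinearGroup.map K.subtype (lo b) = lo (b : F) := fun b => by
    apply ext_ent
    · change ((1 : K) : F) = 1; push_cast; rfl
    · change ((0 : K) : F) = 0; push_cast; rfl
    · rfl
    · change ((1 : K) : F) = 1; push_cast; rfl
  have hup : ∀ b : K, conjGL g (up (τ b)) = up (b : F) := fun b => by
    have := key (up b) (by rw [mup]; simp [tr]; norm_num)
    rwa [mup, fieldAut_up] at this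
  have hlo : ∀ b : K, conjGL g (lo (τ b)) = lo (b : F) := fun b => by
    have := key (lo b) (by rw [mlo]; simp [tr]; norm_num)
    rwa [mlo, fieldAut_lo] at this
  have e1 := hup 1
  have e2 := hlo 1
  rw [OneMemClass.coe_one, map_one] at e1 e2
  obtain ⟨c, hc, hk⟩ := exists_scalar e1 e2
  have hτ : ∀ b : K, τ b = b := fun b => by
    have := hup b
    rw [conjGL_scalar hk] at this
    exact up_inj this
  -- `τ ^ 2 = 1`
  have hroot : ∀ a : F, τ a = a ∨ τ a = σ a := by
    intro a
    have h1 : a + σ a ∈ K := by rw [h.mem, map_add, h.inv, add_comm]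
    have h3 : a * σ a ∈ K := by rw [h.mem, map_mul, h.inv, mul_comm]
    have h5 := hτ ⟨_, h1⟩
    have h6 := hτ ⟨_, h3⟩
    simp only [map_add, map_mul] at h5 h6
    have h7 : (τ a - a) * (τ a - σ a) = 0 := by
      linear_combination τ a * h5 - h6
    rcases mul_eq_zero.1 h7 with h8 | h8
    · exact Or.inl (sub_eq_zero.1 h8)
    · exact Or.inr (sub_eq_zero.1 h8)
  have hτ2 : ∀ a : F, τ (τ a) = a := by
    intro a
    rcases hroot a with h1 | h1
    · rw [h1, h1]
    · rcases hroot (σ a) with h3 | h3
      · have : a = σ a := τ.injective (by rw [h1, h3])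
        rw [h1, h3]; exact this.symm
      · rw [h1, h3, h.inv]
  have hg : conjGL g = 1 := MulEquiv.ext fun x => conjGL_scalar hk x
  rw [hg, one_mul, ← map_pow] at hβn
  have hτn : ∀ a : F, (τ ^ n) a = a := by
    intro a
    have h1 := congrArg (fun γ => γ (up a)) hβn
    simp only [fieldAut_up, MulAut.one_apply] at h1
    exact up_inj h1
  have hτ1 : ∀ a : F, τ a = a := by
    intro a
    obtain ⟨m, rfl⟩ := hn
    have h1 : τ ^ 2 = 1 := by
      ext b
      rw [pow_two]
      exact hτ2 b
    have h3 := hτn a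
    rw [pow_succ, pow_mul, h1, one_pow, one_mul] at h3
    exact h3
  ext z
  obtain ⟨x, rfl⟩ := h.surj z
  rw [hβ, hg, one_mul]
  change π (fieldAut τ x) = π x
  congr 1
  apply ext_ent <;> rw [fieldAut_ent, hτ1]

/-- **(P1c)** a group of automorphisms of odd order commuting with `α` and normalised by
`PSL(2,K)` is trivial -/
theorem odd_eq_one [Finite F] (h : FInv π α σ K) (R : Subgroup (MulAut L)) (hR : Odd (Nat.card R))
    (hcomm : ∀ ρ ∈ R, ∀ z, α z = z → α (ρ z) = ρ z)
    (hnorm : ∀ x, ∀ ρ ∈ R, MulAut.conj (h.sub x) * ρ * (MulAut.conj (h.sub x))⁻¹ ∈ R) :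
    ∀ ρ ∈ R, ρ = 1 := by
  have hfin : Finite R := Nat.finite_of_card_ne_zero (by
    obtain ⟨k, hk⟩ := hR
    omega)
  -- the inner automorphisms from `PSL(2,K)` contained in `R`
  let N : Subgroup L := h.sub.range ⊓ R.comap MulAut.conj
  have hNinj : ∀ x ∈ N, MulAut.conj x = 1 → x = 1 := by
    rintro x ⟨⟨y, rfl⟩, -⟩ hx
    have h1 : ∀ z : L, h.sub y * z = z * h.sub y := fun z => by
      have := DFunLike.congr_fun hx z
      rw [MulAut.conj_apply, MulAut.one_apply, mul_inv_eq_iff_eq_mul] at this
      exact this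
    have hc : ∀ w : Matrix.SpecialLinearGroup (Fin 2) F, tr w = 2 →
        Matrix.SpecialLinearGroup.map K.subtype y * w = w * Matrix.SpecialLinearGroup.map K.subtype y := by
      intro w hw
      have h3 := h1 (π w)
      change π _ * π w = π w * π _ at h3
      rw [← map_mul, ← map_mul, h.map_eq] at h3
      rcases h3 with h3 | h3
      · exact h3
      · exfalso
        have h5 : Matrix.SpecialLinearGroup.map K.subtype y * w *
            (Matrix.SpecialLinearGroup.map K.subtype y)⁻¹ = -w := by
          rw [h3, neg_mul, mul_inv_cancel_right]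
        have h6 := congrArg tr h5
        have hneg : tr (-w) = -tr w := by
          change -ent w 0 0 + -ent w 1 1 = -(ent w 0 0 + ent w 1 1)
          ring
        rw [← conjGL_toGL, tr_conjGL, hneg, hw] at h6
        have h4 : (4 : F) ≠ 0 := by
          have : (4 : F) = 2 * 2 := by norm_num
          rw [this]; exact mul_ne_zero h.two h.two
        apply h4
        linear_combination h6
    have hu := hc (up 1) (by simp [tr]; norm_num)
    have hl := hc (lo 1) (by simp [tr]; norm_num)
    set Y := Matrix.SpecialLinearGroup.map K.subtype y with hY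
    have a1 := congrArg (fun w => ent w 0 0) hu
    have a2 := congrArg (fun w => ent w 0 1) hu
    have b1 := congrArg (fun w => ent w 0 0) hl
    simp only [ent_mul, up_00, up_01, up_10, up_11, lo_00, lo_01, lo_10] at a1 a2 b1
    have c10 : ent Y 1 0 = 0 := by linear_combination -a1
    have c01 : ent Y 0 1 = 0 := by linear_combination b1
    have c11 : ent Y 1 1 = ent Y 0 0 := by linear_combination -a2
    have hd := det_eq Y
    rw [c10, c01, c11] at hd
    have : (ent Y 0 0 - 1) * (ent Y 0 0 + 1) = 0 := by linear_combination hd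
    change π Y = 1
    rw [h.ker]
    rcases mul_eq_zero.1 this with h8 | h8
    · left
      have := sub_eq_zero.1 h8
      apply ext_ent
      · rw [this]; rfl
      · rw [c01]; rfl
      · rw [c10]; rfl
      · rw [c11, this]; rfl
    · right
      have := eq_neg_of_add_eq_zero_left h8
      apply ext_ent
      · rw [this]; rfl
      · rw [c01]; exact neg_zero.symm
      · rw [c10]; exact neg_zero.symm
      · rw [c11, this]; rfl
  have hNodd : Odd (Nat.card N) := by
    let f : N →* R := (MulAut.conj.comp N.subtype).codRestrict R (fun x => x.2.2)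
    have hf : Function.Injective f := by
      rw [injective_iff_map_eq_one]
      intro x hx
      apply Subtype.ext
      exact hNinj x.1 x.2 (congrArg Subtype.val hx)
    exact hR.of_dvd_nat (Subgroup.card_dvd_of_injective f hf)
  have hNbot : N = ⊥ := by
    apply odd_normal_eq_bot h.two_ne' (ψ := h.sub) (fun x => h.sub_eq_one_iff) N inf_le_left hNodd
    rintro x y ⟨hy1, hy2⟩
    refine ⟨h.sub.range.mul_mem (h.sub.range.mul_mem ⟨x, rfl⟩ hy1) (h.sub.range.inv_mem ⟨x, rfl⟩), ?_⟩
    change MulAut.conj _ ∈ R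
    rw [map_mul, map_mul, map_inv]
    exact hnorm x _ hy2
  intro ρ hρ
  have hfix : ∀ x, ρ (h.sub x) = h.sub x := by
    intro x
    have h1 : ρ (h.sub x) ∈ h.sub.range := h.map_mem_sub (hcomm ρ hρ) ⟨x, rfl⟩
    have h3 : h.sub x * (ρ (h.sub x))⁻¹ ∈ N := by
      refine ⟨h.sub.range.mul_mem ⟨x, rfl⟩ (h.sub.range.inv_mem h1), ?_⟩
      change MulAut.conj _ ∈ R
      have h5 : MulAut.conj (h.sub x * (ρ (h.sub x))⁻¹) =
          (MulAut.conj (h.sub x) * ρ * (MulAut.conj (h.sub x))⁻¹) * ρ⁻¹ := by
        have h6 : MulAut.conj (ρ (h.sub x)) = ρ * MulAut.conj (h.sub x) * ρ⁻¹ := by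
          apply MulEquiv.ext
          intro z
          rw [MulAut.mul_apply, MulAut.mul_apply, MulAut.conj_apply, MulAut.conj_apply, map_mul,
            map_mul, map_inv, MulAut.apply_inv_self]
        rw [map_mul, map_inv, h6]
        group
      rw [h5]
      exact mul_mem (hnorm x ρ hρ) (inv_mem hρ)
    rw [hNbot, Subgroup.mem_bot, mul_inv_eq_one] at h3
    exact h3.symm
  have hord : ρ ^ Nat.card R = 1 := by
    have : (⟨ρ, hρ⟩ : R) ^ Nat.card R = 1 := pow_card_eq_one'
    exact congrArg Subtype.val this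
  exact h.fix_sub_eq_one hR hord hfix

end FInv

end Cfsg.Agent.LFourA.FieldInv
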