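import Mathlib

/-!
# Coordinates on a 2-group of type `D wr 2`, `D` dihedral of order at least 8

`D k = DihedralGroup (4 * 2 ^ k)` has order `8 * 2 ^ k`, `c k` is its central involution, `x0 k` the element `r (2 ^ k)` of
order four.  `DWr S k f w` says that the subgroup `S` of `G` is `D wr 2`: `f a b` is the pair `(a, b)`, the involution `w`
swaps the two factors.
-/

set_option autoImplicit false

namespace Cfsg.Agent.LFourA.Model

open DihedralGroup

/-- The dihedral group of order `8 * 2 ^ k`. -/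
abbrev D (k : ℕ) : Type := DihedralGroup (4 * 2 ^ k)

/-- The central involution of `D k`. -/
def c (k : ℕ) : D k := r ((2 * 2 ^ k : ℕ) : ZMod (4 * 2 ^ k))

/-- An element of order four of `D k`. -/
def x0 (k : ℕ) : D k := r ((2 ^ k : ℕ) : ZMod (4 * 2 ^ k))

/-- Coordinates on a 2-group of type `D wr 2`. -/
structure DWr {G : Type*} [Group G] (S : Subgroup G) (k : ℕ) (f : D k → D k → G) (w : G) : Prop where
  f_mul : ∀ a b a' b', f a b * f a' b' = f (a * a') (b * b')
  f_inj : ∀ a b, f a b = 1 → a = 1 ∧ b = 1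
  w_w : w * w = 1
  w_f : ∀ a b, w * f a b = f b a * w
  w_ne : ∀ a b, w ≠ f a b
  mem_iff : ∀ g, g ∈ S ↔ (∃ a b, g = f a b) ∨ ∃ a b, g = f a b * w

/-! ### Facts on `D k` -/

section Dih

variable {k : ℕ}

instance neZero (k : ℕ) : NeZero (4 * 2 ^ k) := ⟨by positivity⟩

instance finite (k : ℕ) : Finite (D k) := inferInstance

theorem card_D : Nat.card (D k) = 8 * 2 ^ k := by
  rw [DihedralGroup.nat_card]; ring

theorem half_add_half : ((2 * 2 ^ k : ℕ) : ZMod (4 * 2 ^ k)) + ((2 * 2 ^ k : ℕ) : ZMod (4 * 2 ^ k)) = 0 := by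
  have h : ((4 * 2 ^ k : ℕ) : ZMod (4 * 2 ^ k)) = 0 := ZMod.natCast_self _
  rw [← Nat.cast_add, ← h]
  congr 1
  ring

theorem quarter_add_quarter : ((2 ^ k : ℕ) : ZMod (4 * 2 ^ k)) + ((2 ^ k : ℕ) : ZMod (4 * 2 ^ k)) =
    ((2 * 2 ^ k : ℕ) : ZMod (4 * 2 ^ k)) := by
  rw [← Nat.cast_add]
  congr 1
  ring

theorem half_ne_zero : ((2 * 2 ^ k : ℕ) : ZMod (4 * 2 ^ k)) ≠ 0 := by
  intro h
  rw [ZMod.natCast_eq_zero_iff] at h
  have h2 := Nat.le_of_dvd (by positivity) h
  have : 0 < 2 ^ k := by positivity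
  omega

theorem eq_of_add_self {i : ZMod (4 * 2 ^ k)} (h : i + i = 0) : i = 0 ∨ i = ((2 * 2 ^ k : ℕ) : ZMod (4 * 2 ^ k)) := by
  have hpos : 0 < 2 ^ k := by positivity
  have h1 : ((i.val + i.val : ℕ) : ZMod (4 * 2 ^ k)) = 0 := by
    rw [Nat.cast_add, ZMod.natCast_zmod_val]
    exact h
  rw [ZMod.natCast_eq_zero_iff] at h1
  have hlt : i.val < 4 * 2 ^ k := ZMod.val_lt i
  obtain ⟨e, he⟩ := h1
  have hc2 : e < 2 := by
    by_contra hcon
    have : 2 * (4 * 2 ^ k) ≤ 4 * 2 ^ k * e := by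
      rw [mul_comm (4 * 2 ^ k) e]
      exact Nat.mul_le_mul_right _ (by omega)
    omega
  interval_cases e
  · left
    have : i.val = 0 := by omega
    exact (ZMod.val_eq_zero i).1 this
  · right
    have h3 : i.val = 2 * 2 ^ k := by omega
    have h4 := ZMod.natCast_zmod_val i
    rw [h3] at h4
    exact h4.symm

theorem neg_half : -((2 * 2 ^ k : ℕ) : ZMod (4 * 2 ^ k)) = ((2 * 2 ^ k : ℕ) : ZMod (4 * 2 ^ k)) :=
  neg_eq_of_add_eq_zero_left half_add_half

theorem c_mul_c : c k * c k = 1 := by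
  rw [c, r_mul_r, half_add_half, ← one_def]

theorem c_ne_one : c k ≠ 1 := by
  rw [c, one_def]
  intro h
  exact half_ne_zero (DihedralGroup.r.inj h)

theorem c_inv : (c k)⁻¹ = c k := inv_eq_of_mul_eq_one_left c_mul_c

theorem c_comm (g : D k) : c k * g = g * c k := by
  rcases g with i | i
  · rw [c, r_mul_r, r_mul_r, add_comm]
  · rw [c, r_mul_sr, sr_mul_r]
    congr 1
    rw [sub_eq_add_neg, neg_half]

theorem x0_mul_x0 : x0 k * x0 k = c k := by
  rw [x0, r_mul_r, quarter_add_quarter, c]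

theorem x0_inv : (x0 k)⁻¹ = c k * x0 k := by
  rw [inv_eq_iff_mul_eq_one, c_comm, ← mul_assoc, x0_mul_x0, c_mul_c]

theorem sr_c (i : ZMod (4 * 2 ^ k)) : (sr i : D k) * c k = sr (i + ((2 * 2 ^ k : ℕ) : ZMod (4 * 2 ^ k))) := by
  rw [c, sr_mul_r]

theorem sr_ne_one (i : ZMod (4 * 2 ^ k)) : (sr i : D k) ≠ 1 := by
  rw [one_def]
  intro h
  cases h

theorem sr_ne_r (i j : ZMod (4 * 2 ^ k)) : (sr i : D k) ≠ r j := by
  intro h
  cases h

theorem sr_ne_c (i : ZMod (4 * 2 ^ k)) : (sr i : D k) ≠ c k := by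
  rw [c]
  intro h
  cases h

/-- `x0` conjugates a reflection into its product with `c`. -/
theorem x0_sr (i : ZMod (4 * 2 ^ k)) : x0 k * sr i * (x0 k)⁻¹ = sr i * c k := by
  rw [mul_inv_eq_iff_eq_mul, x0, c, r_mul_sr, sr_mul_r, sr_mul_r]
  congr 1
  have h := quarter_add_quarter (k := k)
  have h2 := half_add_half (k := k)
  rw [← h] at h2 ⊢
  linear_combination -h2

/-- The elements of square one. -/
theorem eq_of_sq_one {g : D k} (h : g * g = 1) : g = 1 ∨ g = c k ∨ ∃ i, g = sr i := by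
  rcases g with i | i
  · rw [r_mul_r, one_def] at h
    rcases eq_of_add_self (DihedralGroup.r.inj h) with h | h
    · left; rw [h, ← one_def]
    · right; left; rw [h, c]
  · right; right; exact ⟨i, rfl⟩

/-- The square roots of the central involution. -/
theorem eq_of_sq_c {g : D k} (h : g * g = c k) : g = x0 k ∨ g = c k * x0 k := by
  rcases g with i | i
  · rw [r_mul_r, c, ← quarter_add_quarter] at h
    have h1 := DihedralGroup.r.inj h
    have h2 : (i - ((2 ^ k : ℕ) : ZMod (4 * 2 ^ k))) + (i - ((2 ^ k : ℕ) : ZMod (4 * 2 ^ k))) = 0 := by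
      linear_combination h1
    rcases eq_of_add_self h2 with h3 | h3
    · left
      rw [x0, sub_eq_zero.1 h3]
    · right
      rw [x0, c, r_mul_r, ← h3]
      congr 1
      ring
  · rw [sr_mul_self] at h
    exact absurd h.symm c_ne_one

/-- A rotation commuting with a reflection is central. -/
theorem eq_of_r_comm_sr {i j : ZMod (4 * 2 ^ k)} (h : (r i : D k) * sr j = sr j * r i) :
    (r i : D k) = 1 ∨ (r i : D k) = c k := by
  rw [r_mul_sr, sr_mul_r] at h
  have h1 := DihedralGroup.sr.inj h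
  have h2 : i + i = 0 := by linear_combination -h1
  rcases eq_of_add_self h2 with h3 | h3
  · left; rw [h3, ← one_def]
  · right; rw [h3, c]

/-- The centraliser of a reflection. -/
theorem eq_of_comm_sr {g : D k} {j : ZMod (4 * 2 ^ k)} (h : g * sr j = sr j * g) :
    g = 1 ∨ g = c k ∨ g = sr j ∨ g = sr j * c k := by
  rcases g with i | i
  · rcases eq_of_r_comm_sr h with h1 | h1
    · exact Or.inl h1
    · exact Or.inr (Or.inl h1)
  · right; right
    rw [sr_mul_sr, sr_mul_sr] at h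
    have h1 := DihedralGroup.r.inj h
    have h2 : (i - j) + (i - j) = 0 := by linear_combination -h1
    rcases eq_of_add_self h2 with h3 | h3
    · left; rw [sub_eq_zero.1 h3]
    · right
      rw [sr_c, ← h3]
      congr 1
      ring

/-- The centre of `D k`. -/
theorem eq_of_central {g : D k} (h : ∀ x : D k, g * x = x * g) : g = 1 ∨ g = c k := by
  rcases g with i | i
  · exact eq_of_r_comm_sr (h (sr 0))
  · exfalso
    have h1 := h (x0 k)
    rw [x0] at h1
    rcases eq_of_r_comm_sr h1.symm with h2 | h2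
    · have h3 := x0_mul_x0 (k := k)
      rw [x0, h2, one_mul] at h3
      exact c_ne_one h3.symm
    · have h3 := x0_mul_x0 (k := k)
      rw [x0, h2, c_mul_c] at h3
      exact c_ne_one h3.symm

theorem x0_ne_one : x0 k ≠ 1 := by
  intro h
  have h3 := x0_mul_x0 (k := k)
  rw [h, one_mul] at h3
  exact c_ne_one h3.symm

theorem x0_ne_c : x0 k ≠ c k := by
  intro h
  have h3 := x0_mul_x0 (k := k)
  rw [h, c_mul_c] at h3
  exact c_ne_one h3.symm

theorem cx0_ne_one : c k * x0 k ≠ 1 := by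
  rw [← x0_inv]
  exact inv_ne_one.2 x0_ne_one

/-- An element commuting with `x0` is a rotation. -/
theorem eq_r_of_comm_x0 {g : D k} (h : g * x0 k = x0 k * g) : ∃ i, g = r i := by
  rcases g with i | i
  · exact ⟨i, rfl⟩
  · exfalso
    rw [x0] at h
    rcases eq_of_r_comm_sr h.symm with h2 | h2
    · exact x0_ne_one h2
    · exact x0_ne_c h2

theorem r_comm (i : ZMod (4 * 2 ^ k)) (j : ZMod (4 * 2 ^ k)) : (r i : D k) * r j = r j * r i := by
  rw [r_mul_r, r_mul_r, add_comm]

theorem r_comm_x0 (i : ZMod (4 * 2 ^ k)) : (r i : D k) * x0 k = x0 k * r i := r_comm _ _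

theorem sr_inv (i : ZMod (4 * 2 ^ k)) : (sr i : D k)⁻¹ = sr i := inv_eq_of_mul_eq_one_left (sr_mul_self i)

/-- A reflection inverts every rotation. -/
theorem sr_r_sr (i j : ZMod (4 * 2 ^ k)) : (sr i : D k) * r j * (sr i)⁻¹ = (r j)⁻¹ := by
  rw [sr_inv, sr_mul_r, sr_mul_sr, inv_r]
  congr 1
  ring

end Dih

end Cfsg.Agent.LFourA.Model
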