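import Mathlib
import Cfsg.Agent.LFourA.Model

/-!
# Basic facts on a 2-group of type `D wr 2`
-/

set_option autoImplicit false

namespace Cfsg.Agent.LFourA.Base

open DihedralGroup Cfsg.Agent.LFourA.Model Subgroup

variable {G : Type*} [Group G] {S : Subgroup G} {k : ℕ} {f : D k → D k → G} {w : G}

section

variable (h : DWr S k f w)

include h

theorem f_one : f 1 1 = 1 := by
  have h1 := h.f_mul 1 1 1 1
  rw [one_mul] at h1
  exact mul_eq_left.1 h1

theorem f_inv (a b : D k) : (f a b)⁻¹ = f a⁻¹ b⁻¹ := by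
  apply inv_eq_of_mul_eq_one_left
  rw [h.f_mul, inv_mul_cancel, inv_mul_cancel, f_one h]

theorem f_eq_iff {a b a' b' : D k} : f a b = f a' b' ↔ a = a' ∧ b = b' := by
  constructor
  · intro e
    have h1 : f (a * a'⁻¹) (b * b'⁻¹) = 1 := by
      rw [← h.f_mul, ← f_inv h, e, mul_inv_cancel]
    obtain ⟨h2, h3⟩ := h.f_inj _ _ h1
    exact ⟨mul_inv_eq_one.1 h2, mul_inv_eq_one.1 h3⟩
  · rintro ⟨rfl, rfl⟩
    rfl

theorem f_eq_one_iff {a b : D k} : f a b = 1 ↔ a = 1 ∧ b = 1 := by
  rw [← f_one h, f_eq_iff h]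

/-- Commuting pairs. -/
theorem f_comm_iff {a b a' b' : D k} : f a b * f a' b' = f a' b' * f a b ↔ a * a' = a' * a ∧ b * b' = b' * b := by
  rw [h.f_mul, h.f_mul, f_eq_iff h]

theorem f_conj (a b a' b' : D k) : f a b * f a' b' * (f a b)⁻¹ = f (a * a' * a⁻¹) (b * b' * b⁻¹) := by
  rw [f_inv h, h.f_mul, h.f_mul]

theorem w_inv : w⁻¹ = w := inv_eq_of_mul_eq_one_left h.w_w

theorem w_conj (a b : D k) : w * f a b * w⁻¹ = f b a := by
  rw [h.w_f, mul_inv_cancel_right]

theorem w_conj' (a b : D k) : w⁻¹ * f a b * w = f b a := by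
  rw [w_inv h, h.w_f, mul_assoc, h.w_w, mul_one]

theorem w_mul_w (g : G) : w * (w * g) = g := by
  rw [← mul_assoc, h.w_w, one_mul]

theorem f_mem (a b : D k) : f a b ∈ S := (h.mem_iff _).2 (Or.inl ⟨a, b, rfl⟩)

theorem fw_mem (a b : D k) : f a b * w ∈ S := (h.mem_iff _).2 (Or.inr ⟨a, b, rfl⟩)

theorem w_mem : w ∈ S := by
  have h1 := fw_mem h 1 1
  rwa [f_one h, one_mul] at h1

theorem fw_ne (a b a' b' : D k) : f a b * w ≠ f a' b' := by
  intro e
  apply h.w_ne (a⁻¹ * a') (b⁻¹ * b')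
  rw [← h.f_mul, ← f_inv h, ← e, inv_mul_cancel_left]

theorem fw_eq_iff {a b a' b' : D k} : f a b * w = f a' b' * w ↔ a = a' ∧ b = b' := by
  rw [mul_left_inj, f_eq_iff h]

/-- The square of an element outside the base group. -/
theorem fw_mul_fw (a b a' b' : D k) : f a b * w * (f a' b' * w) = f (a * b') (b * a') := by
  rw [mul_assoc, ← mul_assoc w, h.w_f, mul_assoc (f b' a'), h.w_w, mul_one, h.f_mul]

theorem f_mul_fw (a b a' b' : D k) : f a b * (f a' b' * w) = f (a * a') (b * b') * w := by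
  rw [← mul_assoc, h.f_mul]

theorem fw_mul_f (a b a' b' : D k) : f a b * w * f a' b' = f (a * b') (b * a') * w := by
  rw [mul_assoc, h.w_f, ← mul_assoc, h.f_mul]

theorem fw_conj_f (a b p q : D k) : f a b * w * f p q * (f a b * w)⁻¹ = f (a * q * a⁻¹) (b * p * b⁻¹) := by
  rw [mul_inv_rev]
  have e : f a b * w * f p q * (w⁻¹ * (f a b)⁻¹) = f a b * (w * f p q * w⁻¹) * (f a b)⁻¹ := by group
  rw [e, w_conj h, f_conj h]

/-- Elements outside the base group commuting with elements of the base group. -/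
theorem fw_comm_f_iff {a b p q : D k} : f a b * w * f p q = f p q * (f a b * w) ↔ a * q = p * a ∧ b * p = q * b := by
  rw [fw_mul_f h, f_mul_fw h, fw_eq_iff h]

end

/-- The base group. -/
def base (h : DWr S k f w) : Subgroup G where
  carrier := {g | ∃ a b, g = f a b}
  mul_mem' := by
    rintro _ _ ⟨a, b, rfl⟩ ⟨a', b', rfl⟩
    exact ⟨_, _, h.f_mul _ _ _ _⟩
  one_mem' := ⟨1, 1, (f_one h).symm⟩
  inv_mem' := by
    rintro _ ⟨a, b, rfl⟩
    exact ⟨_, _, f_inv h _ _⟩

section

variable (h : DWr S k f w)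

include h

theorem mem_base {g : G} : g ∈ base h ↔ ∃ a b, g = f a b := Iff.rfl

theorem f_mem_base (a b : D k) : f a b ∈ base h := ⟨a, b, rfl⟩

theorem fw_notMem_base (a b : D k) : f a b * w ∉ base h := by
  rintro ⟨a', b', e⟩
  exact fw_ne h _ _ _ _ e

theorem base_le : base h ≤ S := by
  rintro _ ⟨a, b, rfl⟩
  exact f_mem h a b

theorem mem_cases {g : G} (hg : g ∈ S) : (∃ a b, g = f a b) ∨ ∃ a b, g = f a b * w := (h.mem_iff g).1 hg

/-- The base group as a product. -/
noncomputable def baseEquiv : D k × D k ≃ base h where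
  toFun p := ⟨f p.1 p.2, f_mem_base h _ _⟩
  invFun g := (Classical.choose g.2, Classical.choose (Classical.choose_spec g.2))
  left_inv := by
    rintro ⟨a, b⟩
    have h1 := Classical.choose_spec (Classical.choose_spec (f_mem_base h a b))
    obtain ⟨h2, h3⟩ := (f_eq_iff h).1 h1
    exact Prod.ext h2.symm h3.symm
  right_inv := by
    rintro ⟨g, hg⟩
    apply Subtype.ext
    exact (Classical.choose_spec (Classical.choose_spec hg)).symm

theorem card_base : Nat.card (base h) = 64 * 4 ^ k := by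
  rw [← Nat.card_congr (baseEquiv h), Nat.card_prod, card_D]
  have : (4 : ℕ) ^ k = 2 ^ k * 2 ^ k := by rw [← mul_pow]; norm_num
  rw [this]; ring

theorem relIndex_base : (base h).relIndex S = 2 := by
  rw [relIndex, index_eq_two_iff]
  refine ⟨⟨w, w_mem h⟩, ?_⟩
  rintro ⟨g, hg⟩
  rcases mem_cases h hg with ⟨a, b, rfl⟩ | ⟨a, b, rfl⟩
  · refine Or.inr ⟨?_, ?_⟩
    · exact f_mem_base h a b
    · intro h1
      exact fw_notMem_base h a b h1
  · refine Or.inl ⟨?_, ?_⟩
    · have h1 : f a b * w * w ∈ base h := by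
        rw [mul_assoc, h.w_w, mul_one]
        exact f_mem_base h a b
      exact h1
    · intro h1
      exact fw_notMem_base h a b h1

theorem card_S : Nat.card S = 128 * 4 ^ k := by
  have h1 := Subgroup.card_mul_index ((base h).subgroupOf S)
  have h2 : Nat.card ((base h).subgroupOf S) = Nat.card (base h) :=
    Nat.card_congr (Subgroup.subgroupOfEquivOfLe (base_le h)).toEquiv
  have h3 : ((base h).subgroupOf S).index = 2 := relIndex_base h
  rw [h2, h3, card_base h] at h1
  omega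

end

end Cfsg.Agent.LFourA.Base
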