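import Mathlib
import Cfsg.Agent.LFourA.Base

/-!
# Interface of the fusion in a group with Sylow 2-subgroup `D wr 2`

`pa i` is the parity of the reflection `sr i` (its conjugacy class in `D k`), `chi α β` the homomorphism `D k → {1, c}` with
value `c ^ α` on the reflections of parity 0 and `c ^ β` on the reflections of parity 1.
`Rho f i ρ η`: `ρ` is a 3-element of `C(t')` acting as a 3-cycle on `V_i × 1` and centralising all `(η b, b)`.
`CaseI`, `CaseII` are the two possible fusion patterns (type `L` and type `ALT`).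
-/

set_option autoImplicit false

namespace Cfsg.Agent.LFourA.Defs

open DihedralGroup Cfsg.Agent.LFourA.Model

section

variable {k : ℕ}

/-- Parity. -/
def pa : ZMod (4 * 2 ^ k) →+* ZMod 2 := ZMod.castHom (⟨2 * 2 ^ k, by ring⟩ : 2 ∣ 4 * 2 ^ k) (ZMod 2)

/-- The powers of `c` with exponent in `ZMod 2`. -/
def cc (k : ℕ) (e : ZMod 2) : D k := if e = 0 then 1 else c k

theorem cc_zero : cc k 0 = 1 := rfl

theorem cc_one : cc k 1 = c k := rfl

theorem zmod2_cases (e : ZMod 2) : e = 0 ∨ e = 1 := by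
  revert e; decide

theorem cc_cases (e : ZMod 2) : cc k e = 1 ∨ cc k e = c k := by
  rcases zmod2_cases e with rfl | rfl
  · exact Or.inl cc_zero
  · exact Or.inr cc_one

theorem cc_add (e e' : ZMod 2) : cc k (e + e') = cc k e * cc k e' := by
  rcases zmod2_cases e with rfl | rfl <;> rcases zmod2_cases e' with rfl | rfl
  · simp [cc_zero]
  · simp [cc_zero]
  · simp [cc_zero]
  · rw [cc_one, c_mul_c]; rfl

/-- The exponents of `chi`. -/
def chiFun (α β : ZMod 2) : D k → ZMod 2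
  | r j => (α + β) * pa j
  | sr j => α + (α + β) * pa j

theorem pa_sub (i j : ZMod (4 * 2 ^ k)) : pa (i - j) = pa i + pa j := by
  have h3 : ∀ e : ZMod 2, -e = e := by decide
  have h1 : pa (i - j) = pa i - pa j := RingHom.map_sub pa i j
  rw [h1, sub_eq_add_neg, h3]

theorem chiFun_mul (α β : ZMod 2) (a b : D k) : chiFun α β (a * b) = chiFun α β a + chiFun α β b := by
  have h2 : ∀ e : ZMod 2, e + e = 0 := by decide
  rcases a with i | i <;> rcases b with j | j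
  · rw [r_mul_r]; simp only [chiFun, map_add]; ring
  · rw [r_mul_sr]; simp only [chiFun, pa_sub]; ring
  · rw [sr_mul_r]; simp only [chiFun, map_add]; ring
  · rw [sr_mul_sr]
    simp only [chiFun, pa_sub]
    linear_combination -(h2 α)

/-- The homomorphism `D k → {1, c}` with value `c ^ α` on reflections of parity 0, `c ^ β` on reflections of parity 1. -/
def chi (α β : ZMod 2) : D k →* D k where
  toFun a := cc k (chiFun α β a)
  map_one' := by
    rw [one_def]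
    simp [chiFun, cc_zero]
  map_mul' a b := by rw [chiFun_mul, cc_add]

theorem chi_cases (α β : ZMod 2) (a : D k) : chi α β a = 1 ∨ chi α β a = c k := cc_cases _

theorem chi_sr (α β : ZMod 2) (i : ZMod (4 * 2 ^ k)) : chi α β (sr i : D k) = cc k (α + (α + β) * pa i) := rfl

theorem chi_r (α β : ZMod 2) (i : ZMod (4 * 2 ^ k)) : chi α β (r i : D k) = cc k ((α + β) * pa i) := rfl

theorem chi_sr_even (α β : ZMod 2) {i : ZMod (4 * 2 ^ k)} (hi : pa i = 0) : chi α β (sr i : D k) = cc k α := by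
  rw [chi_sr, hi, mul_zero, add_zero]

theorem chi_sr_odd (α β : ZMod 2) {i : ZMod (4 * 2 ^ k)} (hi : pa i = 1) : chi α β (sr i : D k) = cc k β := by
  rw [chi_sr, hi, mul_one]
  have h2 : α + (α + β) = β := by
    revert α β; decide
  rw [h2]

theorem pa_half : pa ((2 * 2 ^ k : ℕ) : ZMod (4 * 2 ^ k)) = 0 := by
  rw [map_natCast]
  have : ((2 * 2 ^ k : ℕ) : ZMod 2) = 0 := by
    rw [ZMod.natCast_eq_zero_iff]
    exact ⟨2 ^ k, rfl⟩
  exact this

theorem chi_c (α β : ZMod 2) : chi α β (c k) = 1 := by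
  rw [c, chi_r, pa_half, mul_zero, cc_zero]

end

variable {G : Type*} [Group G] {k : ℕ}

/-- A 3-element of `C(t')` acting as a 3-cycle on `V_i × 1` and centralising all `(η b, b)`. -/
structure Rho (f : D k → D k → G) (i : ZMod (4 * 2 ^ k)) (ρ : G) (η : D k →* D k) : Prop where
  comm : ρ * f 1 (c k) = f 1 (c k) * ρ
  t_s : ρ * f (c k) 1 * ρ⁻¹ = f (sr i) 1
  s_sc : ρ * f (sr i) 1 * ρ⁻¹ = f (sr i * c k) 1
  sc_t : ρ * f (sr i * c k) 1 * ρ⁻¹ = f (c k) 1
  ord : ∃ m, ρ ^ (3 ^ m) = 1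
  val : ∀ b, η b = 1 ∨ η b = c k
  fix : ∀ b, ρ * f (η b) b = f (η b) b * ρ

/-- The fusion pattern of `PSL_4(q)`, `PSU_4(q)`: `t = f c 1`, `z = f c c`. -/
structure CaseI (f : D k → D k → G) (w : G) : Prop where
  tz : ¬ IsConj (f (c k) 1) (f (c k) (c k))
  typ_t : ∀ i, IsConj (f (sr i) 1) (f (c k) 1)
  typ_z : ∀ i, IsConj (f (sr i) (c k)) (f (c k) (c k))
  same : ∀ i j : ZMod (4 * 2 ^ k), pa i = pa j → IsConj (f (sr i) (sr j)) (f (c k) 1)
  diff : ∀ i j : ZMod (4 * 2 ^ k), pa i ≠ pa j → IsConj (f (sr i) (sr j)) (f (c k) (c k))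
  rho : ∀ i : ZMod (4 * 2 ^ k), ∃ ρ, Rho f i ρ (chi (1 + pa i) (pa i))
  w_t : ∃ g : G, g * w * g⁻¹ = f (c k) 1 ∧ g * f (c k) (c k) * g⁻¹ = f (c k) (c k)

/-- The fusion pattern of `A_10`, `A_11` (`k = 0`): `t = f c 1`, `z = f c c`. -/
structure CaseII (f : D k → D k → G) (w : G) : Prop where
  k0 : k = 0
  tz : ¬ IsConj (f (c k) 1) (f (c k) (c k))
  typ_t : ∀ i, IsConj (f (sr i) 1) (f (c k) 1)
  typ_z : ∀ i, IsConj (f (sr i) (c k)) (f (c k) (c k))
  even : ∀ i j : ZMod (4 * 2 ^ k), pa i = 0 → pa j = 0 → IsConj (f (sr i) (sr j)) (f (c k) 1)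
  odd : ∀ i j : ZMod (4 * 2 ^ k), pa i = 1 → pa j = 1 → IsConj (f (sr i) (sr j)) (f (c k) (c k))
  diff : ∀ i j : ZMod (4 * 2 ^ k), pa i ≠ pa j → IsConj (f (sr i) (sr j)) (f (c k) (c k))
  rho_even : ∀ i : ZMod (4 * 2 ^ k), pa i = 0 → ∃ ρ, Rho f i ρ (chi 1 0)
  rho_odd : ∀ i : ZMod (4 * 2 ^ k), pa i = 1 → ∃ ρ, Rho f i ρ (chi 0 0)
  w_z : ∃ (g : G) (i j : ZMod (4 * 2 ^ k)), pa i = 1 ∧ pa j = 1 ∧ g * w * g⁻¹ = f (c k) (c k) ∧
    g * f (c k) (c k) * g⁻¹ = f (sr i) (sr j)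

end Cfsg.Agent.LFourA.Defs
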