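import Mathlib
import Cfsg.Prelude.Def_Local
import Cfsg.Agent.LFourA.Defs

/-!
# Interface: centralizers of involutions modulo their odd cores (type `L`)

For an involution `z` (resp. `t`) the structure of `C(z) / O(C(z))` is given by a surjective homomorphism
`p : C(z) → X` with kernel `O(C(z))` and subgroups of `X`.

* `CZ z p K₁ K₂` : `K₁`, `K₂` commute, `K₁ ∩ K₂ = ⟨z⟩`, every element of `X` normalises or swaps them,
  `C_X(K₁K₂) = ⟨z⟩`;  `CZL` : moreover `K₁ ≃ K₂ ≃ SL(2,F)`;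
* `CT t p K` : `K` is normal in `X` and is centralised by no nontrivial element of odd order; `CTL` : `K ≃ PSL(2,F)`;
* `ZPos`, `TPos` : position of the Sylow 2-subgroup `f a b`, `f a b * w`;
* `up p K` : preimage of `K` as a subgroup of `G`.
-/

set_option autoImplicit false

namespace Cfsg.Agent.LFourA.CzCt

open Subgroup Cfsg DihedralGroup Cfsg.Agent.LFourA.Model

variable {G X : Type*} [Group G] [Group X]

/-- The element `z` of its centraliser. -/
def self (z : G) : ↥(centralizer ({z} : Set G)) := ⟨z, mem_centralizer_singleton_iff.2 rfl⟩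

/-- The preimage in `G` of a subgroup `K` of `X` under `p : C(z) → X`. -/
def up {z : G} (p : ↥(centralizer ({z} : Set G)) →* X) (K : Subgroup X) : Subgroup G :=
  (K.comap p).map (centralizer ({z} : Set G)).subtype

theorem mem_up {z : G} {p : ↥(centralizer ({z} : Set G)) →* X} {K : Subgroup X} {g : G} :
    g ∈ up p K ↔ ∃ h : g ∈ centralizer ({z} : Set G), p ⟨g, h⟩ ∈ K := by
  constructor
  · rintro ⟨x, hx, rfl⟩
    exact ⟨x.2, hx⟩
  · rintro ⟨h, hg⟩
    exact ⟨⟨g, h⟩, hg, rfl⟩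

theorem up_le {z : G} (p : ↥(centralizer ({z} : Set G)) →* X) (K : Subgroup X) :
    up p K ≤ centralizer ({z} : Set G) := by
  intro g hg
  exact (mem_up.1 hg).1

theorem up_mono {z : G} (p : ↥(centralizer ({z} : Set G)) →* X) {K K' : Subgroup X} (h : K ≤ K') :
    up p K ≤ up p K' := by
  intro g hg
  obtain ⟨h1, h2⟩ := mem_up.1 hg
  exact mem_up.2 ⟨h1, h h2⟩

/-- `C(z)` modulo its odd core with two subgroups `K₁`, `K₂`. -/
structure CZ (z : G) (p : ↥(centralizer ({z} : Set G)) →* X) (K₁ K₂ : Subgroup X) : Prop where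
  surj : Function.Surjective p
  ker : ∀ x, p x = 1 ↔ (x : G) ∈ centralizerPPrimeCore 2 z
  comm : ∀ x ∈ K₁, ∀ y ∈ K₂, x * y = y * x
  z₁ : p (self z) ∈ K₁
  z₂ : p (self z) ∈ K₂
  inf : ∀ x ∈ K₁, x ∈ K₂ → x = 1 ∨ x = p (self z)
  norm : ∀ g : X, ((∀ x ∈ K₁, g * x * g⁻¹ ∈ K₁) ∧ ∀ x ∈ K₂, g * x * g⁻¹ ∈ K₂) ∨
    ((∀ x ∈ K₁, g * x * g⁻¹ ∈ K₂) ∧ ∀ x ∈ K₂, g * x * g⁻¹ ∈ K₁)
  cent : ∀ g : X, (∀ x ∈ K₁, g * x = x * g) → (∀ x ∈ K₂, g * x = x * g) → g = 1 ∨ g = p (self z)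

/-- Moreover `K₁`, `K₂` are isomorphic to `SL(2,F)`. -/
structure CZL (z : G) (F : Type*) [Field F] (p : ↥(centralizer ({z} : Set G)) →* X) (K₁ K₂ : Subgroup X) : Prop
    extends CZ z p K₁ K₂ where
  e₁ : Nonempty (K₁ ≃* Matrix.SpecialLinearGroup (Fin 2) F)
  e₂ : Nonempty (K₂ ≃* Matrix.SpecialLinearGroup (Fin 2) F)

/-- `C(t)` modulo its odd core with a normal subgroup `K`. -/
structure CT (t : G) (p : ↥(centralizer ({t} : Set G)) →* X) (K : Subgroup X) : Prop where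
  surj : Function.Surjective p
  ker : ∀ x, p x = 1 ↔ (x : G) ∈ centralizerPPrimeCore 2 t
  normal : K.Normal
  cent : ∀ g : X, Odd (orderOf g) → (∀ x ∈ K, g * x = x * g) → g = 1

/-- Moreover `K` is isomorphic to `PSL(2,F)`. -/
structure CTL (t : G) (F : Type*) [Field F] (p : ↥(centralizer ({t} : Set G)) →* X) (K : Subgroup X) : Prop
    extends CT t p K where
  e : Nonempty (K ≃* Matrix.ProjectiveSpecialLinearGroup (Fin 2) F)

/-- Position of the Sylow subgroup relative to `K₁`, `K₂`. -/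
structure ZPos {k : ℕ} (f : D k → D k → G) (w : G) {z : G} (p : ↥(centralizer ({z} : Set G)) →* X)
    (K₁ K₂ : Subgroup X) : Prop where
  q₁x : ∀ i, f (r i) (r (-i)) ∈ up p K₁
  q₁w : f 1 (c k) * w ∈ up p K₁
  q₂x : ∀ i, f (r i) (r i) ∈ up p K₂
  q₂w : f (sr 0) (sr 0 * c k) * w ∈ up p K₂

/-- Position of the Sylow subgroup relative to `K`. -/
structure TPos {k : ℕ} (f : D k → D k → G) {t : G} (p : ↥(centralizer ({t} : Set G)) →* X)
    (K : Subgroup X) : Prop where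
  d₂ : ∀ b, f 1 b ∈ up p K
  out : ∀ a b, f a b ∈ up p K → a = 1

end Cfsg.Agent.LFourA.CzCt
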