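import Mathlib
import Cfsg.Agent.SylowSp4.Lift
import Cfsg.Agent.StandardComponent.CentCore
import Cfsg.Agent.LFourA.CzCt

/-!
# Centralizers of involutions modulo odd cores: passing to the quotient

For `p : C(z) → X` with kernel `O(C(z))` and a subgroup `M` of `G`, `dn p M` is the image of `C(z) ∩ M`.
-/

set_option autoImplicit false

namespace Cfsg.Agent.LFourA.KlQuot

open Subgroup Cfsg Cfsg.Agent.LFourA.CzCt

variable {G X : Type*} [Group G] [Group X]

theorem mem_cent {z g : G} : g ∈ centralizer ({z} : Set G) ↔ g * z = z * g :=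
  mem_centralizer_singleton_iff

/-- The image of `C(z) ∩ M`. -/
def dn {z : G} (p : ↥(centralizer ({z} : Set G)) →* X) (M : Subgroup G) : Subgroup X :=
  (M.subgroupOf (centralizer ({z} : Set G))).map p

theorem mem_dn {z : G} {p : ↥(centralizer ({z} : Set G)) →* X} {M : Subgroup G} {y : X} :
    y ∈ dn p M ↔ ∃ (g : G) (h : g ∈ centralizer ({z} : Set G)), g ∈ M ∧ p ⟨g, h⟩ = y := by
  constructor
  · rintro ⟨x, hx, rfl⟩
    exact ⟨x, x.2, hx, rfl⟩
  · rintro ⟨g, h, hg, rfl⟩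
    exact ⟨⟨g, h⟩, hg, rfl⟩

/-- The hypotheses on `p` common to `CZ` and `CT`. -/
structure Quo (z : G) (p : ↥(centralizer ({z} : Set G)) →* X) : Prop where
  surj : Function.Surjective p
  ker : ∀ x, p x = 1 ↔ (x : G) ∈ centralizerPPrimeCore 2 z

theorem _root_.Cfsg.Agent.LFourA.CzCt.CZ.quo {z : G} {p : ↥(centralizer ({z} : Set G)) →* X} {K₁ K₂ : Subgroup X}
    (h : CZ z p K₁ K₂) : Quo z p := ⟨h.surj, h.ker⟩

theorem _root_.Cfsg.Agent.LFourA.CzCt.CT.quo {z : G} {p : ↥(centralizer ({z} : Set G)) →* X} {K : Subgroup X}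
    (h : CT z p K) : Quo z p := ⟨h.surj, h.ker⟩

section

variable {z : G} {p : ↥(centralizer ({z} : Set G)) →* X} (h : Quo z p)

include h

theorem eq_one_of_mem {x : G} (hx : x ∈ centralizer ({z} : Set G)) (hxO : x ∈ centralizerPPrimeCore 2 z) :
    p ⟨x, hx⟩ = 1 := (h.ker ⟨x, hx⟩).2 hxO

theorem mem_of_eq_one {x : G} (hx : x ∈ centralizer ({z} : Set G)) (hxO : p ⟨x, hx⟩ = 1) :
    x ∈ centralizerPPrimeCore 2 z := (h.ker ⟨x, hx⟩).1 hxO

theorem le_up (K : Subgroup X) : centralizerPPrimeCore 2 z ≤ up p K := by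
  intro x hx
  have hxz := Cfsg.Agent.StandardComponent.CentCore.core_le z hx
  exact mem_up.2 ⟨hxz, by rw [eq_one_of_mem h hxz hx]; exact K.one_mem⟩

theorem ker_odd [Finite G] : Odd (Nat.card p.ker) := by
  have h1 := Cfsg.Agent.StandardComponent.CentCore.core_odd (G := G) z
  have h2 : p.ker.map (centralizer ({z} : Set G)).subtype = centralizerPPrimeCore 2 z := by
    ext x
    constructor
    · rintro ⟨y, hy, rfl⟩
      exact (h.ker y).1 (MonoidHom.mem_ker.1 hy)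
    · intro hx
      have hxz := Cfsg.Agent.StandardComponent.CentCore.core_le z hx
      exact ⟨⟨x, hxz⟩, (h.ker ⟨x, hxz⟩).2 hx, rfl⟩
  rw [← h2] at h1
  rwa [card_map_of_injective (subtype_injective _)] at h1

/-- The elements commuting with the image of an involution are images. -/
theorem exists_lift [Finite G] {w : G} (hwz : w ∈ centralizer ({z} : Set G)) (hw : w * w = 1) {y : X}
    (hy : y * p ⟨w, hwz⟩ = p ⟨w, hwz⟩ * y) :
    ∃ (x : G) (hx : x ∈ centralizer ({z} : Set G)), x * w = w * x ∧ p ⟨x, hx⟩ = y := by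
  obtain ⟨x, rfl⟩ := h.surj y
  obtain ⟨κ, hκ, -, hκ2⟩ := Cfsg.Agent.SylowSp4.Lift.exists_comm_lift p (ker_odd h) (w := ⟨w, hwz⟩)
    (Subtype.ext hw) hy
  refine ⟨κ * x, (κ * x).2, congrArg Subtype.val hκ2, ?_⟩
  have h1 : p (κ * x) = p x := by rw [map_mul, MonoidHom.mem_ker.1 hκ, one_mul]
  exact h1

/-- If `M` contains `C(z) ∩ C(w)` then its image contains the centraliser of the image of `w`. -/
theorem mem_dn_of_comm [Finite G] {M : Subgroup G} {w : G} (hwz : w ∈ centralizer ({z} : Set G)) (hw : w * w = 1)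
    (hM : ∀ x, x * z = z * x → x * w = w * x → x ∈ M) {y : X} (hy : y * p ⟨w, hwz⟩ = p ⟨w, hwz⟩ * y) :
    y ∈ dn p M := by
  obtain ⟨x, hx, hxw, rfl⟩ := exists_lift h hwz hw hy
  exact mem_dn.2 ⟨x, hx, hM x (mem_cent.1 hx) hxw, rfl⟩

theorem mem_of_mem_dn {M : Subgroup G} (hO : centralizerPPrimeCore 2 z ≤ M) {x : G}
    (hx : x ∈ centralizer ({z} : Set G)) (hxM : p ⟨x, hx⟩ ∈ dn p M) : x ∈ M := by
  obtain ⟨g, hg, hgM, hgx⟩ := mem_dn.1 hxM
  have h1 : p (⟨x, hx⟩ * (⟨g, hg⟩ : ↥(centralizer ({z} : Set G)))⁻¹) = 1 := by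
    rw [map_mul, map_inv, hgx, mul_inv_cancel]
  have h2 := (h.ker _).1 h1
  have h3 : x = (x * g⁻¹) * g := by group
  rw [h3]
  exact mul_mem (hO h2) hgM

theorem le_of_dn {M : Subgroup G} (hO : centralizerPPrimeCore 2 z ≤ M) (hM : dn p M = ⊤) :
    centralizer ({z} : Set G) ≤ M := by
  intro x hx
  exact mem_of_mem_dn h hO hx (by rw [hM]; trivial)

theorem up_le_of_dn {M : Subgroup G} (hO : centralizerPPrimeCore 2 z ≤ M) {K : Subgroup X} (hM : K ≤ dn p M) :
    up p K ≤ M := by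
  intro x hx
  obtain ⟨h1, h2⟩ := mem_up.1 hx
  exact mem_of_mem_dn h hO h1 (hM h2)

/-- `p` is injective on 2-elements. -/
theorem eq_one_of_two [Finite G] {x : G} (hx : x ∈ centralizer ({z} : Set G)) (hp : p ⟨x, hx⟩ = 1) {m : ℕ}
    (hm : x ^ 2 ^ m = 1) : x = 1 := by
  have h1 := Cfsg.Agent.StandardComponent.CentCore.core_odd_order (mem_of_eq_one h hx hp)
  have h2 : orderOf x ∣ 2 ^ m := orderOf_dvd_of_pow_eq_one hm
  have h3 : Nat.Coprime (orderOf x) (2 ^ m) := Nat.Coprime.pow_right m (Nat.coprime_two_right.2 h1)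
  exact orderOf_eq_one_iff.1 (Nat.Coprime.eq_one_of_dvd h3 h2)

theorem ne_one_of_inv [Finite G] {x : G} (hx : x ∈ centralizer ({z} : Set G)) (hxx : x * x = 1) (hne : x ≠ 1) :
    p ⟨x, hx⟩ ≠ 1 := by
  intro h1
  exact hne (eq_one_of_two h hx h1 (m := 1) (by rw [pow_one, pow_two, hxx]))

end

end Cfsg.Agent.LFourA.KlQuot
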