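import Mathlib
import Cfsg.Agent.SylowSp4.SLGen
import Cfsg.Agent.Lib.PSL2Torus
import Cfsg.Agent.ClassicalGeometry.PSL2Basic

/-!
# Generation of `SL(2,F)` by the elements `m⁻¹ α(m)`
-/

set_option autoImplicit false

namespace Cfsg.Agent.LFourA.KlSl

open Subgroup

variable {F : Type*} [Field F] [Fintype F] {K : Type*} [Group K]

/-- The subgroup generated by the `m⁻¹ α(m)`. -/
def del (α : MulAut K) : Subgroup K := closure {x | ∃ m : K, x = m⁻¹ * α m}

theorem mem_del (α : MulAut K) (m : K) : m⁻¹ * α m ∈ del α := subset_closure ⟨m, rfl⟩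

instance del_normal (α : MulAut K) : (del α).Normal := by
  refine ⟨fun n hn b => ?_⟩
  induction hn using closure_induction with
  | mem x hx =>
    obtain ⟨m, rfl⟩ := hx
    have e : b * (m⁻¹ * α m) * b⁻¹ = ((m * b⁻¹)⁻¹ * α (m * b⁻¹)) * (b⁻¹⁻¹ * α b⁻¹)⁻¹ := by
      rw [map_mul]; group
    rw [e]
    exact mul_mem (mem_del α _) (inv_mem (mem_del α _))
  | one => simp
  | mul x y _ _ hx hy =>
    have e : b * (x * y) * b⁻¹ = (b * x * b⁻¹) * (b * y * b⁻¹) := by group
    rw [e]; exact mul_mem hx hy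
  | inv x _ hx =>
    have e : b * x⁻¹ * b⁻¹ = (b * x * b⁻¹)⁻¹ := by group
    rw [e]; exact inv_mem hx

variable (e : K ≃* Matrix.SpecialLinearGroup (Fin 2) F) {ζ : K} (hζ : ζ * ζ = 1) (hζ1 : ζ ≠ 1)

include e hζ hζ1

omit [Fintype F] in
theorem e_zeta (h2 : (2 : F) ≠ 0) : e ζ = -1 := by
  have h1 : e ζ * e ζ = 1 := by rw [← map_mul, hζ, map_one]
  rcases Cfsg.Agent.Lib.PSL2Inv.sq_eq_one h2 h1 with h | h
  · exact absurd ((map_eq_one_iff e e.injective).1 h) hζ1
  · exact h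

/-- Conjugacy of the square roots of `ζ`. -/
theorem exists_conj (h2 : (2 : F) ≠ 0) {x y : K} (hx : x * x = ζ) (hy : y * y = ζ) : ∃ g : K, g * x * g⁻¹ = y := by
  have hz := e_zeta e hζ hζ1 h2
  have h1 : e x * e x = -1 := by rw [← map_mul, hx, hz]
  have h3 : e y * e y = -1 := by rw [← map_mul, hy, hz]
  obtain ⟨s, hs⟩ := Cfsg.Agent.Lib.PSL2Torus.exists_conj h2 (Cfsg.Agent.Lib.PSL2Inv.tr_of_sq h2 h1)
    (Cfsg.Agent.Lib.PSL2Inv.tr_of_sq h2 h3)
  refine ⟨e.symm s, e.injective ?_⟩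
  rw [map_mul, map_mul, map_inv, e.apply_symm_apply, hs]

/-- A normal subgroup with an element outside `⟨ζ⟩` is everything, `|F| > 3`. -/
theorem eq_top_of_notMem (h2 : (2 : F) ≠ 0) (h3 : 3 < Fintype.card F) {N : Subgroup K} (hN : N.Normal) {x : K} (hx : x ∈ N)
    (hx1 : x ≠ 1) (hxζ : x ≠ ζ) : N = ⊤ := by
  have hz := e_zeta e hζ hζ1 h2
  have hn : (N.map e.toMonoidHom).Normal := hN.map _ e.surjective
  rcases Cfsg.Agent.SylowSp4.SLGen.normal_cases h3 _ hn with h | h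
  · exfalso
    have h1 : e x ∈ Subgroup.center (Matrix.SpecialLinearGroup (Fin 2) F) := h ⟨x, hx, rfl⟩
    rcases Cfsg.Agent.ClassicalGeometry.PSL2Klein.mem_center.1 h1 with h4 | h4
    · exact hx1 ((map_eq_one_iff e e.injective).1 h4)
    · exact hxζ (e.injective (h4.trans hz.symm))
  · rw [eq_top_iff]
    intro y _
    have h1 : e y ∈ N.map e.toMonoidHom := by rw [h]; trivial
    obtain ⟨n, hn', hny⟩ := h1
    have : n = y := e.injective hny
    rwa [← this]

include e in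
omit hζ hζ1 in
theorem card_three (h3 : Fintype.card F = 3) : Nat.card K = 24 := by
  rw [Nat.card_congr e.toEquiv, Cfsg.Agent.ClassicalGeometry.PSL2Basic.card_SL2, h3]
  norm_num

/-- `|F| = 3`: the elements `m⁻¹ α(m)` generate if `α` fixes `X` and maps `j` to `X j`. -/
theorem del_eq_top_three (h2 : (2 : F) ≠ 0) (h3 : Fintype.card F = 3) (α : MulAut K) {X j : K}
    (hX : X * X = ζ) (hj : j * j = ζ) (hjX : j * X * j⁻¹ = X⁻¹) (hαX : α X = X) (hαj : α j = X * j) : del α = ⊤ := by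
  have hfin : Finite K := Finite.of_equiv _ e.symm.toEquiv
  have hcard := card_three e h3
  have hζc : ∀ g : K, ζ * g = g * ζ := by
    intro g
    apply e.injective
    rw [map_mul, map_mul, e_zeta e hζ hζ1 h2, neg_mul, mul_neg, one_mul, mul_one]
  have hXN : X ∈ del α := by
    have h4 : j⁻¹ * α j = X⁻¹ := by
      rw [hαj]
      have h5 : j⁻¹ * X * j = X⁻¹ := by
        have h6 : j⁻¹ * (j * X * j⁻¹) * j = j⁻¹ * X⁻¹ * j := by rw [hjX]
        have h7 : X = j⁻¹ * X⁻¹ * j := by rw [← h6]; group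
        calc j⁻¹ * X * j = (j⁻¹ * X⁻¹ * j)⁻¹ := by group
          _ = X⁻¹ := by rw [← h7]
      rw [← mul_assoc, h5]
    have h6 := mem_del α j
    rw [h4] at h6
    exact (inv_mem_iff).1 h6
  obtain ⟨ρ, hρ⟩ := exists_conj e hζ hζ1 h2 hX hj
  have hjN : j ∈ del α := by rw [← hρ]; exact (del_normal α).conj_mem _ hXN _
  -- `n = ρ⁻¹ α(ρ)` maps `X` to `W X`
  set n := ρ⁻¹ * α ρ with hn
  have hnN : n ∈ del α := mem_del α ρ
  set W := ρ⁻¹ * X * ρ with hW
  have hWW : W * W = ζ := by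
    rw [hW]
    calc ρ⁻¹ * X * ρ * (ρ⁻¹ * X * ρ) = ρ⁻¹ * (X * X) * ρ := by group
      _ = ζ := by rw [hX, mul_assoc, hζc, inv_mul_cancel_left]
  have hnX : n * X * n⁻¹ = W * X := by
    have h4 : α ρ * X * (α ρ)⁻¹ = X * j := by
      rw [← hαj, ← hρ, map_mul, map_mul, map_inv, hαX]
    have h5 : ρ⁻¹ * j * ρ = X := by rw [← hρ]; group
    calc n * X * n⁻¹ = ρ⁻¹ * (α ρ * X * (α ρ)⁻¹) * ρ := by rw [hn]; group
      _ = ρ⁻¹ * (X * j) * ρ := by rw [h4]
      _ = (ρ⁻¹ * X * ρ) * (ρ⁻¹ * j * ρ) := by group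
      _ = W * X := by rw [h5]
  -- the normaliser of `⟨X⟩`
  have hXinv : X⁻¹ = ζ * X := by
    rw [inv_eq_iff_mul_eq_one, hζc, ← mul_assoc, hX, hζ]
  let Nx : Subgroup K :=
    { carrier := {g | g * X * g⁻¹ = X ∨ g * X * g⁻¹ = X⁻¹}
      mul_mem' := by
        rintro a b ha hb
        have e1 : a * b * X * (a * b)⁻¹ = a * (b * X * b⁻¹) * a⁻¹ := by group
        have e2 : a * X⁻¹ * a⁻¹ = (a * X * a⁻¹)⁻¹ := by group
        rcases hb with hb | hb
        · rcases ha with ha | ha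
          · exact Or.inl (by rw [e1, hb, ha])
          · exact Or.inr (by rw [e1, hb, ha])
        · rcases ha with ha | ha
          · exact Or.inr (by rw [e1, hb, e2, ha])
          · exact Or.inl (by rw [e1, hb, e2, ha, inv_inv])
      one_mem' := Or.inl (by simp)
      inv_mem' := by
        rintro a ha
        rcases ha with ha | ha
        · left
          have : X = a⁻¹ * (a * X * a⁻¹) * a := by group
          rw [ha] at this
          rw [inv_inv]
          exact this.symm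
        · right
          have h5 : X = a⁻¹ * (a * X * a⁻¹) * a := by group
          rw [ha] at h5
          rw [inv_inv]
          calc a⁻¹ * X * a = (a⁻¹ * X⁻¹ * a)⁻¹ := by group
            _ = X⁻¹ := by rw [← h5] }
  have hnNx : n ∉ Nx := by
    rintro (h4 | h4)
    · rw [hnX] at h4
      have h5 : W = 1 := mul_eq_right.1 h4
      rw [h5, one_mul] at hWW
      exact hζ1 hWW.symm
    · rw [hnX, hXinv] at h4
      have h5 : W = ζ := mul_right_cancel h4
      rw [h5, hζ] at hWW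
      exact hζ1 hWW.symm
  have hjNx : j ∈ Nx := Or.inr hjX
  have hXNx : X ∈ Nx := Or.inl (by rw [mul_inv_cancel_right])
  have hoX : orderOf X = 4 := by
    have : Fact (Nat.Prime 2) := ⟨Nat.prime_two⟩
    have h4 : orderOf X = 2 ^ (1 + 1) := orderOf_eq_prime_pow (by
      rw [pow_one, pow_two, hX]; exact hζ1) (by
      rw [show (2:ℕ) ^ (1 + 1) = 2 * 2 from rfl, pow_mul, pow_two X, hX, pow_two, hζ])
    rw [h4]
    norm_num
  have hjX' : j ∉ zpowers X := by
    intro h4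
    obtain ⟨i, hi⟩ := mem_zpowers_iff.1 h4
    have h5 : j * X = X * j := by
      rw [← hi]
      exact ((Commute.refl X).zpow_left i)
    rw [h5, mul_inv_cancel_right] at hjX
    have h6 : X * X = 1 := by nth_rewrite 2 [hjX]; exact mul_inv_cancel X
    rw [hX] at h6
    exact hζ1 h6
  have hle1 : zpowers X ≤ del α ⊓ Nx := by
    rw [zpowers_le]
    exact ⟨hXN, hXNx⟩
  have hd1 : 4 ∣ Nat.card ↥(del α ⊓ Nx) := by
    have h4 := card_dvd_of_le hle1
    rwa [Nat.card_zpowers, hoX] at h4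
  have hd2 : Nat.card ↥(del α ⊓ Nx) ∣ Nat.card (del α) := card_dvd_of_le inf_le_left
  have hd3 : Nat.card (del α) ∣ 24 := hcard ▸ card_subgroup_dvd_card (del α)
  have hne1 : Nat.card ↥(del α ⊓ Nx) ≠ 4 := by
    intro h4
    have h5 : zpowers X = del α ⊓ Nx := by
      apply eq_of_le_of_card_ge hle1
      rw [h4, Nat.card_zpowers, hoX]
    exact hjX' (h5 ▸ ⟨hjN, hjNx⟩)
  have hne2 : Nat.card ↥(del α ⊓ Nx) ≠ Nat.card (del α) := by
    intro h4
    have h5 : del α ⊓ Nx = del α := by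
      apply eq_of_le_of_card_ge inf_le_left
      rw [h4]
    have h6 : n ∈ del α ⊓ Nx := by rw [h5]; exact hnN
    exact hnNx h6.2
  apply eq_top_of_card_eq
  rw [hcard]
  obtain ⟨a, ha⟩ := hd1
  obtain ⟨b, hb⟩ := hd2
  rw [hb, ha] at hd3
  rw [hb, ha]
  rw [ha] at hne1 hne2 hb
  rw [hb] at hne2
  have hab : a * b ∣ 6 := by
    have : 4 * (a * b) ∣ 4 * 6 := by rw [← mul_assoc]; exact hd3
    exact Nat.dvd_of_mul_dvd_mul_left (by norm_num) this
  have ha1 : a ≠ 1 := fun h => hne1 (by rw [h])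
  have hb1 : b ≠ 1 := fun h => hne2 (by rw [h, mul_one])
  have hab6 : a * b ≤ 6 := Nat.le_of_dvd (by norm_num) hab
  have hpos : 0 < a * b := Nat.pos_of_ne_zero (by rintro h; rw [h] at hab; norm_num at hab)
  have ha0 : 0 < a := Nat.pos_of_ne_zero (by rintro rfl; simp at hpos)
  have hb0 : 0 < b := Nat.pos_of_ne_zero (by rintro rfl; simp at hpos)
  have ha2 : 2 ≤ a := by omega
  have hb2 : 2 ≤ b := by omega
  have ha3 : a ≤ 3 := by nlinarith
  have hb3 : b ≤ 3 := by nlinarith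
  have h6 : a * b = 6 := by
    interval_cases a <;> interval_cases b <;> revert hab <;> decide
  rw [mul_assoc, h6]
  norm_num

end Cfsg.Agent.LFourA.KlSl
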