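import Mathlib
import Cfsg.Agent.LFourA.Base

/-!
# Construction and transport of coordinates of type `D wr 2`
-/

set_option autoImplicit false

namespace Cfsg.Agent.LFourA.SylDih

open DihedralGroup Cfsg.Agent.LFourA.Model

section Dih

variable {G : Type*} [Group G] {n : ℕ} [NeZero n]

theorem pow_val_add {ρ : G} (hρ : ρ ^ n = 1) (i j : ZMod n) : ρ ^ (i + j).val = ρ ^ i.val * ρ ^ j.val := by
  rw [ZMod.val_add, ← pow_add]
  conv_rhs => rw [← Nat.div_add_mod (i.val + j.val) n, pow_add, pow_mul, hρ, one_pow, one_mul]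

theorem pow_val_neg {ρ : G} (hρ : ρ ^ n = 1) (i : ZMod n) : ρ ^ (-i).val = (ρ ^ i.val)⁻¹ := by
  rw [eq_inv_iff_mul_eq_one, ← pow_val_add hρ, neg_add_cancel, ZMod.val_zero, pow_zero]

theorem tau_pow {ρ τ : G} (hτ : τ * τ = 1) (h : τ * ρ * τ = ρ⁻¹) (m : ℕ) : ρ ^ m * τ = τ * (ρ ^ m)⁻¹ := by
  have hi : τ⁻¹ = τ := inv_eq_of_mul_eq_one_left hτ
  have h1 : τ * ρ ^ m * τ⁻¹ = (ρ ^ m)⁻¹ := by
    rw [← conj_pow, hi, h, inv_pow]
  rw [← h1, hi, ← mul_assoc, ← mul_assoc, hτ, one_mul]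

/-- The homomorphism from a dihedral group given by a rotation and a reflection. -/
def dih (ρ τ : G) (hρ : ρ ^ n = 1) (hτ : τ * τ = 1) (h : τ * ρ * τ = ρ⁻¹) : DihedralGroup n →* G where
  toFun x := match x with
    | r i => ρ ^ i.val
    | sr i => τ * ρ ^ i.val
  map_one' := by
    change ρ ^ (0 : ZMod n).val = 1
    rw [ZMod.val_zero, pow_zero]
  map_mul' x y := by
    rcases x with i | i <;> rcases y with j | j
    · change ρ ^ (i + j).val = ρ ^ i.val * ρ ^ j.val
      exact pow_val_add hρ i j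
    · change τ * ρ ^ (j - i).val = ρ ^ i.val * (τ * ρ ^ j.val)
      rw [← mul_assoc, tau_pow hτ h, mul_assoc, ← pow_val_neg hρ, ← pow_val_add hρ]
      congr 3
      ring
    · change τ * ρ ^ (i + j).val = τ * ρ ^ i.val * ρ ^ j.val
      rw [mul_assoc, pow_val_add hρ]
    · change ρ ^ (j - i).val = τ * ρ ^ i.val * (τ * ρ ^ j.val)
      rw [mul_assoc, ← mul_assoc (ρ ^ i.val), tau_pow hτ h, mul_assoc, ← mul_assoc τ, hτ, one_mul, ← pow_val_neg hρ,
        ← pow_val_add hρ]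
      congr 2
      ring

theorem dih_r {ρ τ : G} (hρ : ρ ^ n = 1) (hτ : τ * τ = 1) (h : τ * ρ * τ = ρ⁻¹) (i : ZMod n) :
    dih ρ τ hρ hτ h (r i) = ρ ^ i.val := rfl

theorem dih_sr {ρ τ : G} (hρ : ρ ^ n = 1) (hτ : τ * τ = 1) (h : τ * ρ * τ = ρ⁻¹) (i : ZMod n) :
    dih ρ τ hρ hτ h (sr i) = τ * ρ ^ i.val := rfl

end Dih

section Construct

variable {G : Type*} [Group G] {k : ℕ}

/-- Construction of a subgroup of type `D wr 2`. -/
theorem exists_dwr (φ : D k →* G) (w : G) (hww : w * w = 1)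
    (hcomm : ∀ a b, (w * φ a * w) * φ b = φ b * (w * φ a * w))
    (hint : ∀ a b, w * φ a * w = φ b → b = 1) (hw : ∀ a b, w ≠ w * φ a * w * φ b) :
    ∃ S : Subgroup G, DWr S k (fun a b => w * φ a * w * φ b) w := by
  have hinj : ∀ b, φ b = 1 → b = 1 := fun b hb => hint 1 b (by rw [map_one, mul_one, hww, hb])
  have hwm : ∀ x y : G, w * (x * y) * w = (w * x * w) * (w * y * w) := by
    intro x y
    calc w * (x * y) * w = w * x * 1 * y * w := by group
      _ = w * x * (w * w) * y * w := by rw [hww]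
      _ = (w * x * w) * (w * y * w) := by group
  obtain ⟨f, hf⟩ : ∃ f : D k → D k → G, ∀ a b, f a b = w * φ a * w * φ b := ⟨_, fun _ _ => rfl⟩
  have f_mul : ∀ a b a' b', f a b * f a' b' = f (a * a') (b * b') := by
    intro a b a' b'
    rw [hf, hf, hf, map_mul, map_mul, hwm]
    calc w * φ a * w * φ b * (w * φ a' * w * φ b') = (w * φ a * w) * (φ b * (w * φ a' * w)) * φ b' := by group
      _ = (w * φ a * w) * ((w * φ a' * w) * φ b) * φ b' := by rw [hcomm]
      _ = w * φ a * w * (w * φ a' * w) * (φ b * φ b') := by group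
  have w_f : ∀ a b, w * f a b = f b a * w := by
    intro a b
    rw [hf, hf]
    have h1 := hcomm b a
    calc w * (w * φ a * w * φ b) = (w * w) * φ a * w * φ b := by group
      _ = φ a * w * φ b := by rw [hww, one_mul]
      _ = φ a * w * φ b * (w * w) := by rw [hww, mul_one]
      _ = φ a * (w * φ b * w) * w := by group
      _ = (w * φ b * w) * φ a * w := by rw [h1]
      _ = w * φ b * w * φ a * w := by group
  have f_one : f 1 1 = 1 := by
    rw [hf, map_one, mul_one, mul_one, hww]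
  have hfun : (fun a b => w * φ a * w * φ b) = f := by
    funext a b
    exact (hf a b).symm
  rw [hfun]
  refine ⟨{ carrier := {g | (∃ a b, g = f a b) ∨ ∃ a b, g = f a b * w}
            mul_mem' := ?_, one_mem' := Or.inl ⟨1, 1, f_one.symm⟩, inv_mem' := ?_ }, ?_⟩
  · rintro x y (⟨a, b, rfl⟩ | ⟨a, b, rfl⟩) (⟨a', b', rfl⟩ | ⟨a', b', rfl⟩)
    · exact Or.inl ⟨_, _, f_mul _ _ _ _⟩
    · exact Or.inr ⟨a * a', b * b', by rw [← mul_assoc, f_mul]⟩
    · exact Or.inr ⟨a * b', b * a', by rw [mul_assoc, w_f, ← mul_assoc, f_mul]⟩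
    · exact Or.inl ⟨a * b', b * a', by rw [mul_assoc, ← mul_assoc w, w_f, mul_assoc (f b' a'), hww, mul_one, f_mul]⟩
  · rintro x (⟨a, b, rfl⟩ | ⟨a, b, rfl⟩)
    · refine Or.inl ⟨a⁻¹, b⁻¹, ?_⟩
      apply inv_eq_of_mul_eq_one_left
      rw [f_mul, inv_mul_cancel, inv_mul_cancel, f_one]
    · refine Or.inr ⟨b⁻¹, a⁻¹, ?_⟩
      apply inv_eq_of_mul_eq_one_left
      rw [mul_assoc, ← mul_assoc w, w_f, mul_assoc (f b a), hww, mul_one, f_mul, inv_mul_cancel, inv_mul_cancel, f_one]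
  · refine ⟨f_mul, ?_, hww, w_f, fun a b => by rw [hf]; exact hw a b, fun g => Iff.rfl⟩
    intro a b hab
    rw [hf] at hab
    have h1 : w * φ a * w = φ b⁻¹ := by
      rw [map_inv, eq_inv_iff_mul_eq_one]
      exact hab
    have h2 : b⁻¹ = 1 := hint a b⁻¹ h1
    have hb : b = 1 := inv_eq_one.1 h2
    refine ⟨?_, hb⟩
    rw [h2, map_one] at h1
    apply hinj
    calc φ a = (w * w) * φ a * (w * w) := by rw [hww, one_mul, mul_one]
      _ = w * (w * φ a * w) * w := by group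
      _ = 1 := by rw [h1, mul_one, hww]

/-- Transport of coordinates along an isomorphism. -/
theorem exists_of_equiv {G' : Type*} [Group G'] {S : Subgroup G} {T : Subgroup G'} {f : D k → D k → G} {w : G}
    (h : DWr S k f w) (e : S ≃* T) : ∃ (f' : D k → D k → G') (w' : G'), DWr T k f' w' := by
  have hf : ∀ a b, f a b ∈ S := fun a b => (h.mem_iff _).2 (Or.inl ⟨a, b, rfl⟩)
  have hf1 : f 1 1 = 1 := by
    have h1 := h.f_mul 1 1 1 1
    rw [one_mul] at h1
    exact mul_eq_left.1 h1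
  have hw : w ∈ S := (h.mem_iff _).2 (Or.inr ⟨1, 1, by rw [hf1, one_mul]⟩)
  have he : ∀ x y : S, ((e x : T) : G') = e y ↔ (x : G) = y := by
    intro x y
    rw [Subtype.coe_inj, e.injective.eq_iff, Subtype.coe_inj]
  refine ⟨fun a b => (e ⟨f a b, hf a b⟩ : G'), (e ⟨w, hw⟩ : G'), ?_, ?_, ?_, ?_, ?_, ?_⟩
  · intro a b a' b'
    rw [← Subgroup.coe_mul, ← map_mul, he]
    exact h.f_mul a b a' b'
  · intro a b hab
    apply h.f_inj
    have h1 : ((e ⟨f a b, hf a b⟩ : T) : G') = e 1 := by rw [map_one]; exact hab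
    rw [he] at h1
    exact h1
  · have h1 : ((e ⟨w, hw⟩ * e ⟨w, hw⟩ : T) : G') = e 1 := by
      rw [← map_mul, he]
      exact h.w_w
    rw [map_one] at h1
    exact h1
  · intro a b
    rw [← Subgroup.coe_mul, ← Subgroup.coe_mul, ← map_mul, ← map_mul, he]
    exact h.w_f a b
  · intro a b hab
    rw [he] at hab
    exact h.w_ne a b hab
  · intro g
    constructor
    · intro hg
      obtain ⟨x, hx⟩ := e.surjective ⟨g, hg⟩
      have hx' : g = (e x : G') := by rw [hx]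
      rcases (h.mem_iff _).1 x.2 with ⟨a, b, hab⟩ | ⟨a, b, hab⟩
      · left
        refine ⟨a, b, ?_⟩
        rw [hx', he]
        exact hab
      · right
        refine ⟨a, b, ?_⟩
        rw [hx', ← Subgroup.coe_mul, ← map_mul, he]
        exact hab
    · rintro (⟨a, b, rfl⟩ | ⟨a, b, rfl⟩)
      · exact (e _).2
      · exact T.mul_mem (e _).2 (e _).2

end Construct

end Cfsg.Agent.LFourA.SylDih
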