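import Mathlib
import Cfsg.Agent.LFourA.SylDih
import Cfsg.Agent.ClassicalGeometry.NonsplitTorus

/-!
# A subgroup of type `D wr 2` in `PSL(4, q)`, `q = 3 mod 4`
-/

set_option autoImplicit false

namespace Cfsg.Agent.LFourA.SylMat

open Matrix DihedralGroup Cfsg.Agent.LFourA.Model

section Block

variable {F : Type*} [Field F]

/-- Block matrices of size 4. -/
def fb (A B C D : Matrix (Fin 2) (Fin 2) F) : Matrix (Fin 4) (Fin 4) F :=
  Matrix.reindexAlgEquiv F F (finSumFinEquiv : Fin 2 ⊕ Fin 2 ≃ Fin 4) (Matrix.fromBlocks A B C D)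

variable (A B C D A' B' C' D' : Matrix (Fin 2) (Fin 2) F)

theorem fb_mul : fb A B C D * fb A' B' C' D' =
    fb (A * A' + B * C') (A * B' + B * D') (C * A' + D * C') (C * B' + D * D') := by
  rw [fb, fb, ← map_mul, Matrix.fromBlocks_multiply, fb]

variable {A B C D A' B' C' D'} in
theorem fb_inj : fb A B C D = fb A' B' C' D' ↔ A = A' ∧ B = B' ∧ C = C' ∧ D = D' := by
  rw [fb, fb, (Matrix.reindexAlgEquiv F F (finSumFinEquiv : Fin 2 ⊕ Fin 2 ≃ Fin 4)).injective.eq_iff,
    Matrix.fromBlocks_inj]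

theorem fb_one : fb (1 : Matrix (Fin 2) (Fin 2) F) 0 0 1 = 1 := by
  rw [fb, Matrix.fromBlocks_one, map_one]

theorem fb_neg : -fb A B C D = fb (-A) (-B) (-C) (-D) := by
  rw [fb, fb, ← map_neg, Matrix.fromBlocks_neg]

theorem det_diag : (fb A 0 0 D).det = A.det * D.det := by
  rw [fb, Matrix.det_reindexAlgEquiv, Matrix.det_fromBlocks_zero₂₁]

theorem det_swap : (fb (0 : Matrix (Fin 2) (Fin 2) F) 1 1 0).det = 1 := by
  have h : fb (0 : Matrix (Fin 2) (Fin 2) F) 1 1 0 = !![0, 0, 1, 0; 0, 0, 0, 1; 1, 0, 0, 0; 0, 1, 0, 0] := by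
    ext i j
    fin_cases i <;> fin_cases j <;> rfl
  rw [h]
  simp [Matrix.det_succ_row_zero, Fin.sum_univ_succ, Fin.succAbove]

/-- The projection. -/
abbrev pr : Matrix.SpecialLinearGroup (Fin 4) F →* Matrix.ProjectiveSpecialLinearGroup (Fin 4) F :=
  QuotientGroup.mk' (Subgroup.center (Matrix.SpecialLinearGroup (Fin 4) F))

theorem pr_eq_iff [Fintype F] (hF : Fintype.card F % 4 = 3) (X Y : Matrix.SpecialLinearGroup (Fin 4) F) :
    pr X = pr Y ↔ X.1 = Y.1 ∨ X.1 = -Y.1 := by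
  constructor
  · intro h
    have h1 : X⁻¹ * Y ∈ Subgroup.center (Matrix.SpecialLinearGroup (Fin 4) F) := QuotientGroup.eq.1 h
    obtain ⟨s, hs4, hs⟩ := Matrix.SpecialLinearGroup.mem_center_iff.1 h1
    rw [Fintype.card_fin] at hs4
    have hY : Y.1 = X.1 * Matrix.scalar (Fin 4) s := by
      rw [hs, ← Matrix.SpecialLinearGroup.coe_mul, mul_inv_cancel_left]
    have hns : ¬ IsSquare (-1 : F) := by
      rw [FiniteField.isSquare_neg_one_iff]
      omega
    have hs2 : s * s = 1 := by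
      have h2 : (s * s - 1) * (s * s + 1) = 0 := by linear_combination hs4
      rcases mul_eq_zero.1 h2 with h3 | h3
      · linear_combination h3
      · exact absurd ⟨s, by linear_combination -h3⟩ hns
    have h3 : (s - 1) * (s + 1) = 0 := by linear_combination hs2
    rcases mul_eq_zero.1 h3 with h4 | h4
    · left
      rw [hY, sub_eq_zero.1 h4, map_one, mul_one]
    · right
      rw [hY, eq_neg_of_add_eq_zero_left h4, map_neg, map_one, mul_neg, mul_one, neg_neg]
  · intro h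
    refine QuotientGroup.eq.2 ?_
    rw [Matrix.SpecialLinearGroup.mem_center_iff]
    rcases h with h | h
    · refine ⟨1, one_pow _, ?_⟩
      have h1 : X = Y := Subtype.ext h
      rw [h1, inv_mul_cancel, map_one]
      rfl
    · refine ⟨-1, by rw [Fintype.card_fin]; norm_num, ?_⟩
      have h1 : X.1 * (X⁻¹ * Y).1 = X.1 * (-1) := by
        rw [← Matrix.SpecialLinearGroup.coe_mul, mul_inv_cancel_left, mul_neg, mul_one, h, neg_neg]
      have h2 : (X⁻¹ * Y).1 = -1 := by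
        have h3 := congrArg (fun Z => (X⁻¹).1 * Z) h1
        simp only [← mul_assoc, ← Matrix.SpecialLinearGroup.coe_mul, inv_mul_cancel] at h3
        simpa using h3
      rw [h2, map_neg, map_one]

end Block

/-- The data in the quadratic extension. -/
structure Dat (F E : Type*) [Field F] [Fintype F] [Field E] [Algebra F E] (k : ℕ) where
  L : E →ₐ[F] Matrix (Fin 2) (Fin 2) F
  P : Matrix (Fin 2) (Fin 2) F
  y : E
  PP : P * P = 1
  detP : P.det = -1
  detL : ∀ x, (L x).det = Algebra.norm F x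
  comm : ∀ x, P * L x = L (x ^ Fintype.card F) * P
  pow_y : y ^ (4 * 2 ^ k) = -1
  pow_q : y ^ (Fintype.card F + 1) = -1
  normY : Algebra.norm F y = -1
  normI : Algebra.norm F (y ^ (2 * 2 ^ k)) = 1
  odd : Fintype.card F % 4 = 3

namespace Dat

variable {F E : Type*} [Field F] [Fintype F] [Field E] [Algebra F E] {k : ℕ} (h : Dat F E k)

include h in
theorem two_ne : (2 : E) ≠ 0 := by
  intro h2
  have h1 : (2 : F) = 0 := by
    apply (algebraMap F E).injective
    rw [map_ofNat, map_zero, h2]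
  obtain ⟨p, hp⟩ := CharP.exists F
  have hp2 : p = 2 ∨ p = 1 := by
    have h3 : ((2 : ℕ) : F) = 0 := by exact_mod_cast h1
    have h4 := (CharP.cast_eq_zero_iff F p 2).1 h3
    have h5 := Nat.le_of_dvd (by norm_num) h4
    have h6 : p ≠ 0 := by rintro rfl; omega
    omega
  obtain ⟨n, hp', hn⟩ := FiniteField.card F p
  rcases hp2 with rfl | rfl
  · have := h.odd
    rw [hn] at this
    have h7 : 2 ∣ 2 ^ (n : ℕ) := dvd_pow_self 2 n.ne_zero
    omega
  · exact absurd hp' Nat.not_prime_one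

theorem y_ne : h.y ≠ 0 := by
  intro h0
  have := h.pow_q
  rw [h0, zero_pow (Nat.succ_ne_zero _)] at this
  have h1 : (1 : E) = 0 := by linear_combination this
  exact one_ne_zero h1

theorem y_q : h.y ^ Fintype.card F = -h.y⁻¹ := by
  have h1 := h.pow_q
  rw [pow_succ] at h1
  have h2 := h.y_ne
  field_simp
  exact h1

/-- The square root of `-1`. -/
def io : E := h.y ^ (2 * 2 ^ k)

theorem io_io : h.io * h.io = -1 := by
  rw [io, ← pow_add, ← h.pow_y]
  congr 1
  ring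

theorem io_ne : h.io ≠ 0 := pow_ne_zero _ h.y_ne

theorem io_q : h.io ^ Fintype.card F = -h.io := by
  have h1 : h.io ^ Fintype.card F = h.io⁻¹ := by
    rw [io, ← pow_mul, mul_comm, pow_mul, h.y_q, Even.neg_pow ⟨2 ^ k, by ring⟩, inv_pow]
  rw [h1]
  have h2 := h.io_ne
  have h3 := h.io_io
  field_simp
  linear_combination h3

theorem io_inv_q : (-h.io) ^ Fintype.card F = h.io := by
  have hq : Odd (Fintype.card F) := Nat.odd_iff.2 (by have := h.odd; omega)
  rw [hq.neg_pow, h.io_q, neg_neg]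

theorem y_pow_q (j : ℕ) : (h.y ^ j) ^ Fintype.card F = (-h.y⁻¹) ^ j := by
  rw [← pow_mul, mul_comm, pow_mul, h.y_q]

theorem yinv_q : (h.y⁻¹) ^ Fintype.card F = -h.y := by
  rw [inv_pow, h.y_q, neg_inv, inv_inv]

theorem P_y : h.P * h.L h.y = h.L (-h.y⁻¹) * h.P := by rw [h.comm, h.y_q]

theorem P_yinv : h.P * h.L h.y⁻¹ = h.L (-h.y) * h.P := by rw [h.comm, h.yinv_q]

theorem P_io : h.P * h.L h.io = h.L (-h.io) * h.P := by rw [h.comm, h.io_q]

theorem L_ne {x : E} (hx : x ≠ 0) : h.L x ≠ 0 := by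
  intro h0
  have h1 : h.L (x * x⁻¹) = 0 := by rw [map_mul, h0, zero_mul]
  rw [mul_inv_cancel₀ hx, map_one] at h1
  exact one_ne_zero h1

theorem LP_ne {x : E} (hx : x ≠ 0) (z : E) : h.L x * h.P ≠ h.L z := by
  intro h0
  have h1 : h.P = h.L (x⁻¹ * z) := by
    rw [map_mul, ← h0, ← mul_assoc, ← map_mul, inv_mul_cancel₀ hx, map_one, one_mul]
  have h2 := h.P_io
  rw [h1, ← map_mul, ← map_mul] at h2
  by_cases hz : x⁻¹ * z = 0
  · have h3 := h.PP
    rw [h1, hz, map_zero, zero_mul] at h3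
    exact zero_ne_one h3
  · have h3 : h.L (2 * h.io * (x⁻¹ * z)) = 0 := by
      have h4 : 2 * h.io * (x⁻¹ * z) = (x⁻¹ * z) * h.io - -h.io * (x⁻¹ * z) := by ring
      rw [h4, map_sub, h2, sub_self]
    exact h.L_ne (mul_ne_zero (mul_ne_zero h.two_ne h.io_ne) hz) h3

/-- The rotation `ρ`. -/
def rho : Matrix.SpecialLinearGroup (Fin 4) F :=
  ⟨fb (h.L h.y) 0 0 (h.L h.y⁻¹), by
    rw [det_diag, h.detL, h.detL, ← map_mul, mul_inv_cancel₀ h.y_ne, map_one]⟩

/-- The swap `τ`. -/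
def tau (_ : Dat F E k) : Matrix.SpecialLinearGroup (Fin 4) F := ⟨fb 0 1 1 0, det_swap⟩

/-- The wreathing element. -/
def om : Matrix.SpecialLinearGroup (Fin 4) F :=
  ⟨fb (h.L h.io) 0 0 (h.L h.y * h.P), by
    rw [det_diag, Matrix.det_mul, h.detL, h.detL, h.detP, h.normY, io, h.normI]
    ring⟩

/-- The rotation `ρ'`. -/
def rho' : Matrix.SpecialLinearGroup (Fin 4) F :=
  ⟨fb (h.L h.y) 0 0 (h.L (-h.y)), by
    have h1 : h.L (-h.y) = -h.L h.y := map_neg _ _
    rw [det_diag, h1, Matrix.det_neg, Fintype.card_fin, h.detL, h.normY]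
    ring⟩

theorem om_tau : h.om.1 * h.tau.1 = fb 0 (h.L (-(h.io * h.y)) * h.P) (h.L (h.io * h.y) * h.P) 0 * h.om.1 := by
  change fb _ _ _ _ * fb _ _ _ _ = _ * fb _ _ _ _
  rw [fb_mul, fb_mul, fb_inj]
  refine ⟨by simp, ?_, ?_, by simp⟩
  · have h1 : h.L (-(h.io * h.y)) * h.P * (h.L h.y * h.P) = h.L h.io := by
      rw [mul_assoc, ← mul_assoc h.P, h.P_y, mul_assoc, h.PP, mul_one, ← map_mul]
      congr 1
      have := h.y_ne
      field_simp
    rw [h1]
    simp
  · have h1 : h.L (h.io * h.y) * h.P * h.L h.io = h.L h.y * h.P := by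
      rw [mul_assoc, h.P_io, ← mul_assoc, ← map_mul]
      congr 2
      linear_combination -h.y * h.io_io
    rw [h1]
    simp

/-- The reflection `τ'`. -/
def tau' : Matrix.SpecialLinearGroup (Fin 4) F :=
  ⟨fb 0 (h.L (-(h.io * h.y)) * h.P) (h.L (h.io * h.y) * h.P) 0, by
    have h1 := congrArg Matrix.det h.om_tau
    rw [Matrix.det_mul, Matrix.det_mul, h.om.2, h.tau.2, mul_one, mul_one] at h1
    exact h1.symm⟩

theorem rho_pow (j : ℕ) : (h.rho ^ j).1 = fb (h.L (h.y ^ j)) 0 0 (h.L (h.y⁻¹ ^ j)) := by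
  induction j with
  | zero => simp [fb_one]
  | succ j ih =>
    rw [pow_succ, Matrix.SpecialLinearGroup.coe_mul, ih]
    change _ * fb _ _ _ _ = _
    rw [fb_mul, fb_inj]
    refine ⟨?_, by simp, by simp, ?_⟩
    · rw [zero_mul, add_zero, ← map_mul, pow_succ]
    · rw [zero_mul, zero_add, ← map_mul, ← pow_succ]

theorem rho'_pow (j : ℕ) : (h.rho' ^ j).1 = fb (h.L (h.y ^ j)) 0 0 (h.L ((-h.y) ^ j)) := by
  induction j with
  | zero => simp [fb_one]
  | succ j ih =>
    rw [pow_succ, Matrix.SpecialLinearGroup.coe_mul, ih]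
    change _ * fb _ _ _ _ = _
    rw [fb_mul, fb_inj]
    refine ⟨?_, by simp, by simp, ?_⟩
    · rw [zero_mul, add_zero, ← map_mul, pow_succ]
    · rw [zero_mul, zero_add, ← map_mul, ← pow_succ]

end Dat

end Cfsg.Agent.LFourA.SylMat
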