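import Mathlib
import Cfsg.Agent.LFourA.SylMat
import Cfsg.Agent.S0243

/-!
# The Sylow 2-subgroups of `PSL(4, q)`, `q = 3 mod 4`, are of type `D wr 2`
-/

set_option autoImplicit false

namespace Cfsg.Agent.LFourA.SylA

open Matrix DihedralGroup Cfsg.Agent.LFourA.Model Cfsg.Agent.LFourA.SylMat Cfsg.Agent.LFourA.SylDih

section Rel

variable {F E : Type*} [Field F] [Fintype F] [Field E] [Algebra F E] {k : ℕ} (h : Dat F E k)

theorem L_neg_one : h.L (-1) = -1 := by rw [map_neg, map_one]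

theorem om_om : pr h.om * pr h.om = 1 := by
  rw [← map_mul, ← map_one pr, pr_eq_iff h.odd]
  right
  change fb _ _ _ _ * fb _ _ _ _ = -1
  rw [fb_mul, ← fb_one, fb_neg, fb_inj]
  simp only [zero_mul, mul_zero, add_zero, zero_add, neg_zero, true_and]
  refine ⟨?_, ?_⟩
  · rw [← map_mul, h.io_io, L_neg_one]
  · rw [mul_assoc, ← mul_assoc h.P, h.P_y, mul_assoc, h.PP, mul_one, ← map_mul,
      mul_neg, mul_inv_cancel₀ h.y_ne, L_neg_one]

theorem tau_tau : pr h.tau * pr h.tau = 1 := by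
  rw [← map_mul, ← map_one pr, pr_eq_iff h.odd]
  left
  change fb _ _ _ _ * fb _ _ _ _ = 1
  rw [fb_mul, ← fb_one, fb_inj]
  simp

theorem tau_rho : pr h.tau * pr h.rho * pr h.tau = (pr h.rho)⁻¹ := by
  rw [eq_inv_iff_mul_eq_one, ← map_mul, ← map_mul, ← map_mul, ← map_one pr, pr_eq_iff h.odd]
  left
  change fb _ _ _ _ * fb _ _ _ _ * fb _ _ _ _ * fb _ _ _ _ = 1
  rw [fb_mul, fb_mul, fb_mul, ← fb_one, fb_inj]
  simp only [zero_mul, mul_zero, add_zero, zero_add, one_mul, mul_one, ← map_mul,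
    mul_inv_cancel₀ h.y_ne, inv_mul_cancel₀ h.y_ne, map_one, and_self]

theorem rho_pow_eq : pr h.rho ^ (4 * 2 ^ k) = 1 := by
  rw [← map_pow, ← map_one pr, pr_eq_iff h.odd]
  right
  rw [h.rho_pow]
  change _ = -(1 : Matrix (Fin 4) (Fin 4) F)
  rw [← fb_one, fb_neg, fb_inj]
  refine ⟨?_, by simp, by simp, ?_⟩
  · rw [h.pow_y, L_neg_one]
  · rw [inv_pow, h.pow_y, inv_neg, inv_one, L_neg_one]

theorem om_rho : pr h.om * pr h.rho * pr h.om = pr h.rho' := by
  have h1 : pr h.om * pr h.rho = pr h.rho' * pr h.om := by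
    rw [← map_mul, ← map_mul, pr_eq_iff h.odd]
    left
    change fb _ _ _ _ * fb _ _ _ _ = fb _ _ _ _ * fb _ _ _ _
    rw [fb_mul, fb_mul, fb_inj]
    simp only [zero_mul, mul_zero, add_zero, zero_add, true_and, and_true]
    refine ⟨?_, ?_⟩
    · rw [← map_mul, ← map_mul, mul_comm]
    · rw [mul_assoc, h.P_yinv, ← mul_assoc, ← mul_assoc, ← map_mul, ← map_mul, mul_comm]
  rw [h1, mul_assoc, om_om, mul_one]

theorem om_tau : pr h.om * pr h.tau * pr h.om = pr h.tau' := by
  have h1 : pr h.om * pr h.tau = pr h.tau' * pr h.om := by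
    rw [← map_mul, ← map_mul, pr_eq_iff h.odd]
    left
    exact h.om_tau
  rw [h1, mul_assoc, om_om, mul_one]

theorem comm_rr : Commute (pr h.rho') (pr h.rho) := by
  change _ * _ = _ * _
  rw [← map_mul, ← map_mul, pr_eq_iff h.odd]
  left
  change fb _ _ _ _ * fb _ _ _ _ = fb _ _ _ _ * fb _ _ _ _
  rw [fb_mul, fb_mul, fb_inj]
  simp only [zero_mul, mul_zero, add_zero, zero_add, true_and, and_true]
  rw [← map_mul, ← map_mul, mul_comm]

theorem comm_rt : Commute (pr h.rho') (pr h.tau) := by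
  change _ * _ = _ * _
  rw [← map_mul, ← map_mul, pr_eq_iff h.odd]
  right
  change fb _ _ _ _ * fb _ _ _ _ = -(fb _ _ _ _ * fb _ _ _ _)
  rw [fb_mul, fb_mul, fb_neg, fb_inj]
  simp

theorem comm_tr : Commute (pr h.tau') (pr h.rho) := by
  have hneg : ∀ z, -(h.L z * h.P) = h.L (-z) * h.P := fun z => by rw [map_neg, neg_mul]
  change _ * _ = _ * _
  rw [← map_mul, ← map_mul, pr_eq_iff h.odd]
  right
  change fb _ _ _ _ * fb _ _ _ _ = -(fb _ _ _ _ * fb _ _ _ _)
  rw [fb_mul, fb_mul, fb_neg, fb_inj]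
  simp only [zero_mul, mul_zero, add_zero, zero_add, neg_zero, true_and, and_true]
  refine ⟨?_, ?_⟩
  · rw [mul_assoc, h.P_yinv, ← mul_assoc, ← mul_assoc, ← map_mul, ← map_mul, hneg]
    congr 2
    ring
  · rw [mul_assoc, h.P_y, ← mul_assoc, ← mul_assoc, ← map_mul, ← map_mul, hneg]
    congr 2
    have := h.y_ne
    field_simp

theorem comm_tt : Commute (pr h.tau') (pr h.tau) := by
  change _ * _ = _ * _
  rw [← map_mul, ← map_mul, pr_eq_iff h.odd]
  right
  change fb _ _ _ _ * fb _ _ _ _ = -(fb _ _ _ _ * fb _ _ _ _)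
  rw [fb_mul, fb_mul, fb_neg, fb_inj]
  simp

theorem pow_eq_one_dvd {j : ℕ} (hj : h.y ^ j = 1) : 8 * 2 ^ k ∣ j := by
  have h1 : orderOf h.y = 2 ^ (k + 2 + 1) := by
    apply orderOf_eq_prime_pow
    · rw [show 2 ^ (k + 2) = 4 * 2 ^ k by ring, h.pow_y]
      intro h2
      apply h.two_ne
      linear_combination -h2
    · rw [show 2 ^ (k + 2 + 1) = 4 * 2 ^ k * 2 by ring, pow_mul, h.pow_y]
      ring
  have h2 := orderOf_dvd_of_pow_eq_one hj
  rw [h1] at h2
  rwa [show 8 * 2 ^ k = 2 ^ (k + 2 + 1) by ring]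

/-- Arithmetic of the case of two rotations. -/
theorem rot_case {i j : ℕ} (hj : j < 4 * 2 ^ k) {s : E} (hs : s * s = 1)
    (h1 : h.y ^ i = s * h.y ^ j) (h2 : (-h.y) ^ i = s * (h.y⁻¹) ^ j) : j = 0 := by
  have hpos : 0 < 2 ^ k := by positivity
  have hy := h.y_ne
  have e1 : (-1 : E) ^ i * h.y ^ (2 * j) = 1 := by
    have h3 : (-h.y) ^ i = (-1) ^ i * h.y ^ i := by rw [← mul_pow, neg_one_mul]
    rw [h3, h1, inv_pow] at h2
    have hyj : h.y ^ j ≠ 0 := pow_ne_zero _ hy
    field_simp at h2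
    have h4 : s * ((-1 : E) ^ i * h.y ^ (2 * j)) = s * 1 := by
      rw [mul_one]
      calc s * ((-1 : E) ^ i * h.y ^ (2 * j)) = s * ((-1) ^ i * (h.y ^ j) ^ 2) := by rw [← pow_mul, mul_comm j 2]
        _ = s := by linear_combination h2
    have hs0 : s ≠ 0 := by
      rintro rfl
      rw [zero_mul] at hs
      exact zero_ne_one hs
    exact mul_left_cancel₀ hs0 h4
  have e2 : h.y ^ (4 * j) = 1 := by
    have h3 : ((-1 : E) ^ i * h.y ^ (2 * j)) ^ 2 = 1 := by rw [e1, one_pow]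
    rw [mul_pow, ← pow_mul, ← pow_mul, mul_comm i 2, pow_mul, neg_one_sq, one_pow, one_mul] at h3
    rw [← h3]
    congr 1
    ring
  have e3 : 2 * 2 ^ k ∣ j := by
    have h3 := pow_eq_one_dvd h e2
    rw [show 8 * 2 ^ k = 4 * (2 * 2 ^ k) by ring] at h3
    exact Nat.dvd_of_mul_dvd_mul_left (by norm_num) h3
  obtain ⟨c, hc⟩ := e3
  have hc2 : c < 2 := by
    by_contra hcon
    have : 2 * (2 * 2 ^ k) ≤ 2 * 2 ^ k * c := by
      rw [mul_comm (2 * 2 ^ k) c]
      exact Nat.mul_le_mul_right _ (by omega)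
    omega
  interval_cases c
  · omega
  · exfalso
    have h3 : j = 2 * 2 ^ k := by omega
    have h4 : h.y ^ (2 * j) = -1 := by
      rw [h3, ← h.pow_y]
      congr 1
      ring
    rw [h4] at e1
    have hodd : Odd i := by
      rcases Nat.even_or_odd i with he | ho
      · exfalso
        rw [he.neg_one_pow, one_mul] at e1
        apply h.two_ne
        linear_combination -e1
      · exact ho
    have h5 : h.y ^ (4 * i) = 1 := by
      have h6 : h.y ^ (2 * i) = h.y ^ (2 * j) := by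
        have h7 : h.y ^ i * h.y ^ i = (s * h.y ^ j) * (s * h.y ^ j) := by rw [h1]
        have h8 : (s * h.y ^ j) * (s * h.y ^ j) = (s * s) * (h.y ^ j * h.y ^ j) := by ring
        rw [h8, hs, one_mul] at h7
        rw [two_mul, two_mul, pow_add, pow_add, h7]
      rw [show 4 * i = 2 * i * 2 by ring, pow_mul, h6, h4]
      ring
    have h6 := pow_eq_one_dvd h h5
    rw [show 8 * 2 ^ k = 4 * (2 * 2 ^ k) by ring] at h6
    have h7 := Nat.dvd_of_mul_dvd_mul_left (by norm_num) h6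
    have h8 : 2 ∣ i := (dvd_mul_right 2 _).trans h7
    exact (Nat.not_even_iff_odd.2 hodd) (even_iff_two_dvd.2 h8)

/-- The homomorphism from the dihedral group. -/
noncomputable def phi : D k →* Matrix.ProjectiveSpecialLinearGroup (Fin 4) F :=
  dih (pr h.rho) (pr h.tau) (rho_pow_eq h) (tau_tau h) (tau_rho h)

theorem phi_r (i : ZMod (4 * 2 ^ k)) : phi h (r i) = pr (h.rho ^ i.val) := by
  rw [map_pow]
  rfl

theorem phi_sr (i : ZMod (4 * 2 ^ k)) : phi h (sr i) = pr (h.tau * h.rho ^ i.val) := by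
  rw [map_mul, map_pow]
  rfl

theorem conj_mul (x y : Matrix.ProjectiveSpecialLinearGroup (Fin 4) F) :
    pr h.om * (x * y) * pr h.om = (pr h.om * x * pr h.om) * (pr h.om * y * pr h.om) := by
  calc pr h.om * (x * y) * pr h.om = pr h.om * x * 1 * y * pr h.om := by group
    _ = pr h.om * x * (pr h.om * pr h.om) * y * pr h.om := by rw [om_om]
    _ = _ := by group

theorem conj_pow (x : Matrix.ProjectiveSpecialLinearGroup (Fin 4) F) (n : ℕ) :
    pr h.om * x ^ n * pr h.om = (pr h.om * x * pr h.om) ^ n := by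
  induction n with
  | zero => rw [pow_zero, pow_zero, mul_one, om_om]
  | succ n ih => rw [pow_succ, conj_mul, ih, pow_succ]

theorem conj_phi_r (i : ZMod (4 * 2 ^ k)) : pr h.om * phi h (r i) * pr h.om = pr (h.rho' ^ i.val) := by
  rw [phi_r, map_pow, conj_pow, om_rho, map_pow]

theorem conj_phi_sr (i : ZMod (4 * 2 ^ k)) : pr h.om * phi h (sr i) * pr h.om = pr (h.tau' * h.rho' ^ i.val) := by
  rw [phi_sr, map_mul, map_pow, conj_mul, conj_pow, om_rho, om_tau, map_mul, map_pow]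

theorem comm_phi (a b : D k) :
    (pr h.om * phi h a * pr h.om) * phi h b = phi h b * (pr h.om * phi h a * pr h.om) := by
  have h1 : ∀ n m : ℕ, Commute (pr h.rho' ^ n) (pr h.rho ^ m) := fun n m => (comm_rr h).pow_pow n m
  have h2 : ∀ n : ℕ, Commute (pr h.rho' ^ n) (pr h.tau) := fun n => (comm_rt h).pow_left n
  have h3 : ∀ m : ℕ, Commute (pr h.tau') (pr h.rho ^ m) := fun m => (comm_tr h).pow_right m
  rcases a with i | i <;> rcases b with j | j
  · rw [conj_phi_r, phi_r, map_pow, map_pow]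
    exact h1 _ _
  · rw [conj_phi_r, phi_sr, map_mul, map_pow, map_pow]
    exact (h2 _).mul_right (h1 _ _)
  · rw [conj_phi_sr, phi_r, map_mul, map_pow, map_pow]
    exact (h3 _).mul_left (h1 _ _)
  · rw [conj_phi_sr, phi_sr, map_mul, map_pow, map_mul, map_pow]
    exact Commute.mul_left ((comm_tt h).mul_right (h3 _)) ((h2 _).mul_right (h1 _ _))

theorem int_phi (a b : D k) (hab : pr h.om * phi h a * pr h.om = phi h b) : b = 1 := by
  have hyi : ∀ n, h.y ^ n ≠ 0 := fun n => pow_ne_zero _ h.y_ne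
  rcases a with i | i <;> rcases b with j | j
  · rw [conj_phi_r, phi_r, pr_eq_iff h.odd, h.rho'_pow, h.rho_pow] at hab
    have h0 : j.val = 0 := by
      rcases hab with h1 | h1
      · rw [fb_inj] at h1
        have e1 : h.y ^ i.val = 1 * h.y ^ j.val := by
          rw [one_mul]
          exact sub_eq_zero.1 (by
            by_contra hne
            exact h.L_ne hne (by rw [map_sub, h1.1, sub_self]))
        have e2 : (-h.y) ^ i.val = 1 * (h.y⁻¹) ^ j.val := by
          rw [one_mul]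
          exact sub_eq_zero.1 (by
            by_contra hne
            exact h.L_ne hne (by rw [map_sub, h1.2.2.2, sub_self]))
        exact rot_case h (ZMod.val_lt j) (by norm_num) e1 e2
      · rw [fb_neg, fb_inj] at h1
        have e1 : h.y ^ i.val = -1 * h.y ^ j.val := by
          rw [neg_one_mul]
          exact sub_eq_zero.1 (by
            by_contra hne
            exact h.L_ne hne (by rw [map_sub, h1.1, map_neg, sub_self]))
        have e2 : (-h.y) ^ i.val = -1 * (h.y⁻¹) ^ j.val := by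
          rw [neg_one_mul]
          exact sub_eq_zero.1 (by
            by_contra hne
            exact h.L_ne hne (by rw [map_sub, h1.2.2.2, map_neg, sub_self]))
        exact rot_case h (ZMod.val_lt j) (by norm_num) e1 e2
    rw [one_def, (ZMod.val_eq_zero j).1 h0]
  · exfalso
    rw [conj_phi_r, phi_sr, pr_eq_iff h.odd, h.rho'_pow, Matrix.SpecialLinearGroup.coe_mul, h.rho_pow] at hab
    change _ = fb _ _ _ _ * _ ∨ _ = -(fb _ _ _ _ * _) at hab
    rw [fb_mul, fb_neg, fb_inj, fb_inj] at hab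
    simp only [zero_mul, mul_zero, add_zero, zero_add, neg_zero] at hab
    rcases hab with h1 | h1
    · exact h.L_ne (hyi _) h1.1
    · exact h.L_ne (hyi _) h1.1
  · exfalso
    rw [conj_phi_sr, phi_r, pr_eq_iff h.odd, Matrix.SpecialLinearGroup.coe_mul, h.rho'_pow, h.rho_pow] at hab
    change fb _ _ _ _ * _ = _ ∨ fb _ _ _ _ * _ = _ at hab
    rw [fb_mul, fb_neg, fb_inj, fb_inj] at hab
    simp only [zero_mul, mul_zero, add_zero, zero_add, neg_zero] at hab
    rcases hab with h1 | h1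
    · exact h.L_ne (hyi _) h1.1.symm
    · exact h.L_ne (hyi _) (neg_eq_zero.1 h1.1.symm)
  · exfalso
    rw [conj_phi_sr, phi_sr, pr_eq_iff h.odd, Matrix.SpecialLinearGroup.coe_mul, Matrix.SpecialLinearGroup.coe_mul,
      h.rho'_pow, h.rho_pow] at hab
    change fb _ _ _ _ * _ = fb _ _ _ _ * _ ∨ fb _ _ _ _ * _ = -(fb _ _ _ _ * _) at hab
    rw [fb_mul, fb_mul, fb_neg, fb_inj, fb_inj] at hab
    simp only [zero_mul, mul_zero, add_zero, zero_add, neg_zero, one_mul] at hab
    have h2 : h.L (h.io * h.y) * h.P * h.L (h.y ^ i.val) =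
        h.L (h.io * h.y * (h.y ^ i.val) ^ Fintype.card F) * h.P := by
      rw [mul_assoc, h.comm, ← mul_assoc, ← map_mul]
    have h3 : h.io * h.y * (h.y ^ i.val) ^ Fintype.card F ≠ 0 :=
      mul_ne_zero (mul_ne_zero h.io_ne h.y_ne) (pow_ne_zero _ (hyi _))
    rcases hab with h1 | h1
    · have h4 := h1.2.2.1
      rw [h2] at h4
      exact h.LP_ne h3 _ h4
    · have h4 := h1.2.2.1
      rw [h2, ← map_neg] at h4
      exact h.LP_ne h3 _ h4

theorem om_ne (a b : D k) : pr h.om ≠ pr h.om * phi h a * pr h.om * phi h b := by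
  intro hab
  have hyi : ∀ n, h.y ^ n ≠ 0 := fun n => pow_ne_zero _ h.y_ne
  rcases a with i | i <;> rcases b with j | j
  · rw [conj_phi_r, phi_r, ← map_mul, pr_eq_iff h.odd, Matrix.SpecialLinearGroup.coe_mul, h.rho'_pow, h.rho_pow] at hab
    change fb _ _ _ _ = _ ∨ fb _ _ _ _ = _ at hab
    rw [fb_mul, fb_neg, fb_inj, fb_inj] at hab
    simp only [zero_mul, mul_zero, add_zero, zero_add, neg_zero] at hab
    rcases hab with h1 | h1
    · have h4 := h1.2.2.2
      rw [← map_mul] at h4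
      exact h.LP_ne h.y_ne _ h4
    · have h4 := h1.2.2.2
      rw [← map_mul, ← map_neg] at h4
      exact h.LP_ne h.y_ne _ h4
  · rw [conj_phi_r, phi_sr, ← map_mul, pr_eq_iff h.odd, Matrix.SpecialLinearGroup.coe_mul,
      Matrix.SpecialLinearGroup.coe_mul, h.rho'_pow, h.rho_pow] at hab
    change fb _ _ _ _ = _ * (fb _ _ _ _ * _) ∨ fb _ _ _ _ = -(_ * (fb _ _ _ _ * _)) at hab
    rw [fb_mul, fb_mul, fb_neg, fb_inj, fb_inj] at hab
    simp only [zero_mul, mul_zero, add_zero, zero_add, neg_zero] at hab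
    rcases hab with h1 | h1
    · exact h.L_ne h.io_ne h1.1
    · exact h.L_ne h.io_ne h1.1
  · rw [conj_phi_sr, phi_r, ← map_mul, pr_eq_iff h.odd, Matrix.SpecialLinearGroup.coe_mul,
      Matrix.SpecialLinearGroup.coe_mul, h.rho'_pow, h.rho_pow] at hab
    change fb _ _ _ _ = fb _ _ _ _ * _ * _ ∨ fb _ _ _ _ = -(fb _ _ _ _ * _ * _) at hab
    rw [fb_mul, fb_mul, fb_neg, fb_inj, fb_inj] at hab
    simp only [zero_mul, mul_zero, add_zero, zero_add, neg_zero] at hab
    rcases hab with h1 | h1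
    · exact h.L_ne h.io_ne h1.1
    · exact h.L_ne h.io_ne h1.1
  · rw [conj_phi_sr, phi_sr, ← map_mul, pr_eq_iff h.odd, Matrix.SpecialLinearGroup.coe_mul,
      Matrix.SpecialLinearGroup.coe_mul, Matrix.SpecialLinearGroup.coe_mul, h.rho'_pow, h.rho_pow] at hab
    change fb _ _ _ _ = fb _ _ _ _ * _ * (fb _ _ _ _ * _) ∨ fb _ _ _ _ = -(fb _ _ _ _ * _ * (fb _ _ _ _ * _)) at hab
    rw [fb_mul, fb_mul, fb_mul, fb_neg, fb_inj, fb_inj] at hab
    simp only [zero_mul, mul_zero, add_zero, zero_add, neg_zero, one_mul] at hab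
    have h2 : h.L (-(h.io * h.y)) * h.P * h.L ((-h.y) ^ i.val) * h.L (h.y ^ j.val) =
        h.L (-(h.io * h.y) * ((-h.y) ^ i.val * h.y ^ j.val) ^ Fintype.card F) * h.P := by
      rw [mul_assoc, ← map_mul, mul_assoc, h.comm, ← mul_assoc, ← map_mul]
    have h3 : -(h.io * h.y) * ((-h.y) ^ i.val * h.y ^ j.val) ^ Fintype.card F ≠ 0 :=
      mul_ne_zero (neg_ne_zero.2 (mul_ne_zero h.io_ne h.y_ne))
        (pow_ne_zero _ (mul_ne_zero (pow_ne_zero _ (neg_ne_zero.2 h.y_ne)) (hyi _)))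
    rcases hab with h1 | h1
    · have h4 := h1.1
      rw [h2] at h4
      exact h.LP_ne h3 _ h4.symm
    · have h4 := h1.1
      rw [h2, ← neg_eq_iff_eq_neg, ← map_neg] at h4
      exact h.LP_ne h3 _ h4.symm

include h in
theorem exists_dwr : ∃ (S : Subgroup (Matrix.ProjectiveSpecialLinearGroup (Fin 4) F))
    (f : D k → D k → Matrix.ProjectiveSpecialLinearGroup (Fin 4) F) (w : Matrix.ProjectiveSpecialLinearGroup (Fin 4) F),
    DWr S k f w := by
  obtain ⟨S, hS⟩ := SylDih.exists_dwr (phi h) (pr h.om) (om_om h) (comm_phi h) (int_phi h) (om_ne h)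
  exact ⟨S, _, _, hS⟩

end Rel

end Cfsg.Agent.LFourA.SylA
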