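import Mathlib
import Cfsg.Agent.LFourA.SylA

/-!
# A group whose Sylow 2-subgroups are those of `PSL(4, q)`, `q = 3 mod 4`, has coordinates of type `D wr 2`
-/

set_option autoImplicit false

namespace Cfsg.Agent.LFourA.SylPsl

open Matrix DihedralGroup Cfsg.Agent.LFourA.Model Cfsg.Agent.LFourA.SylMat Cfsg.Agent.LFourA.SylDih
open Cfsg.Agent.ClassicalGeometry.NonsplitTorus

theorem exists_dat {F : Type*} [Field F] [Fintype F] (hF : Fintype.card F % 4 = 3) {k m : ℕ}
    (hk : Fintype.card F + 1 = 4 * 2 ^ k * m) (hm : Odd m) :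
    ∃ (E : Type) (_ : Field E) (_ : Algebra F E), Nonempty (Dat F E k) := by
  obtain ⟨p, hp⟩ := CharP.exists F
  obtain ⟨n, hp', hn⟩ := FiniteField.card F p
  have : Fact p.Prime := ⟨hp'⟩
  set E := FiniteField.Extension F p 2 with hEdef
  have hE : Module.finrank F E = 2 := FiniteField.finrank_extension F p 2
  have b : Module.Basis (Fin 2) F E := Module.finBasisOfFinrankEq F E hE
  obtain ⟨P, hPP, hPdet, hPcomm⟩ := exists_frobenius_matrix hE b
  obtain ⟨ζ, hζ⟩ := IsCyclic.exists_generator (α := Eˣ)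
  obtain ⟨m', hm'⟩ : ∃ m', Fintype.card F = 2 * m' + 1 := ⟨Fintype.card F / 2, by omega⟩
  have hm'o : Odd m' := by
    rw [Nat.odd_iff]
    omega
  have h1q : 1 < Fintype.card F := Fintype.one_lt_card
  have ho : orderOf ζ = (m * m') * (8 * 2 ^ k) := by
    rw [orderOf_eq_card_of_forall_mem_zpowers hζ, Nat.card_units, card_E hE]
    apply Nat.sub_eq_of_eq_add
    have e1 : Fintype.card F ^ 2 = (Fintype.card F + 1) * (2 * m') + 1 := by
      rw [hm']
      ring
    rw [e1, hk]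
    ring
  set y : Eˣ := ζ ^ (m * m') with hy
  have hpos : 0 < m * m' := Nat.mul_pos hm.pos hm'o.pos
  have hoy : orderOf y = 8 * 2 ^ k := by
    rw [hy, orderOf_pow_of_dvd (by omega) (by rw [ho]; exact Dvd.intro _ rfl), ho]
    exact Nat.mul_div_cancel_left _ hpos
  have hy4 : (y : E) ^ (4 * 2 ^ k) = -1 := by
    have h2 : ((y : E) ^ (4 * 2 ^ k) - 1) * ((y : E) ^ (4 * 2 ^ k) + 1) = 0 := by
      have h3 : (y : E) ^ (8 * 2 ^ k) = 1 := by
        rw [← Units.val_pow_eq_pow_val, ← hoy, pow_orderOf_eq_one, Units.val_one]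
      have h4 : (y : E) ^ (8 * 2 ^ k) = (y : E) ^ (4 * 2 ^ k) * (y : E) ^ (4 * 2 ^ k) := by
        rw [← pow_add]
        congr 1
        ring
      rw [h4] at h3
      linear_combination h3
    rcases mul_eq_zero.1 h2 with h3 | h3
    · exfalso
      have h4 : y ^ (4 * 2 ^ k) = 1 := by
        apply Units.ext
        rw [Units.val_pow_eq_pow_val, sub_eq_zero.1 h3, Units.val_one]
      have h5 := Nat.le_of_dvd (by positivity) (orderOf_dvd_of_pow_eq_one h4)
      rw [hoy] at h5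
      have : 0 < 2 ^ k := by positivity
      omega
    · exact eq_neg_of_add_eq_zero_left h3
  have hyq : (y : E) ^ (Fintype.card F + 1) = -1 := by
    rw [hk, pow_mul, hy4, hm.neg_one_pow]
  have hnorm : ∀ x : E, algebraMap F E (Algebra.norm F x) = x ^ (Fintype.card F + 1) := algebraMap_norm hE
  refine ⟨E, inferInstance, inferInstance, ⟨{
    L := Algebra.leftMulMatrix b
    P := P
    y := (y : E)
    PP := hPP
    detP := hPdet
    detL := fun x => (Algebra.norm_eq_matrix_det b x).symm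
    comm := hPcomm
    pow_y := hy4
    pow_q := hyq
    normY := ?_
    normI := ?_
    odd := hF }⟩⟩
  · apply (algebraMap F E).injective
    rw [hnorm, hyq, map_neg, map_one]
  · apply (algebraMap F E).injective
    rw [hnorm, ← pow_mul, mul_comm, pow_mul, hyq, map_one, Even.neg_one_pow]
    exact ⟨2 ^ k, by ring⟩

/-- The 2-part of the order. -/
theorem card_psl {F : Type*} [Field F] [Fintype F] (hF : Fintype.card F % 4 = 3) {k m : ℕ}
    (hk : Fintype.card F + 1 = 4 * 2 ^ k * m) (hm : Odd m) :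
    ∃ c, Odd c ∧ Nat.card (Matrix.ProjectiveSpecialLinearGroup (Fin 4) F) = 128 * 4 ^ k * c := by
  have h1 := Cfsg.Agent.S0243.result (F := F) rfl 4 (by norm_num)
  set q := Fintype.card F with hq
  obtain ⟨m', hm'⟩ : ∃ m', q = 2 * m' + 1 := ⟨q / 2, by omega⟩
  have hm'o : Odd m' := by
    rw [Nat.odd_iff]
    omega
  have hg : Nat.gcd 4 (q - 1) = 2 := by
    have h2 : q - 1 = 2 * m' := by omega
    rw [h2, show 4 = 2 * 2 by norm_num, Nat.gcd_mul_left]
    have h3 : Nat.gcd 2 m' = 1 := Nat.coprime_two_left.2 hm'o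
    rw [h3]
  rw [hg, Fin.prod_univ_four] at h1
  simp only [Fin.val_zero, Fin.val_one, Fin.val_two, pow_zero, pow_one] at h1
  have h33 : ((3 : Fin 4) : ℕ) = 3 := rfl
  rw [h33] at h1
  set N := Nat.card (Matrix.ProjectiveSpecialLinearGroup (Fin 4) F) with hN
  have e1 : q ^ 4 - 1 = (2 * m') * (4 * 2 ^ k * m) * (q ^ 2 + 1) := by
    rw [← hk]
    apply Nat.sub_eq_of_eq_add
    rw [hm']
    ring
  have e2 : q ^ 4 - q = q * ((2 * m') * (q ^ 2 + q + 1)) := by
    apply Nat.sub_eq_of_eq_add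
    rw [hm']
    ring
  have e3 : q ^ 4 - q ^ 2 = q ^ 2 * ((2 * m') * (4 * 2 ^ k * m)) := by
    rw [← hk]
    apply Nat.sub_eq_of_eq_add
    rw [hm']
    ring
  have e4 : q ^ 4 - q ^ 3 = q ^ 3 * (2 * m') := by
    apply Nat.sub_eq_of_eq_add
    rw [hm']
    ring
  have e5 : q - 1 = 2 * m' := by omega
  rw [e1, e2, e3, e4, e5] at h1
  have e6 : q ^ 2 + 1 = 2 * (2 * (m' * m' + m') + 1) := by
    rw [hm']
    ring
  have hqo : Odd q := by
    rw [Nat.odd_iff]
    omega
  refine ⟨m' ^ 3 * m ^ 2 * (2 * (m' * m' + m') + 1) * q ^ 6 * (q ^ 2 + q + 1), ?_, ?_⟩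
  · refine ((((hm'o.pow.mul hm.pow).mul ⟨_, rfl⟩).mul hqo.pow).mul ?_)
    have h2 : q ^ 2 + q + 1 = 2 * (2 * (m' * m') + 3 * m' + 1) + 1 := by
      rw [hm']
      ring
    exact ⟨_, h2⟩
  · have hpos : 0 < 4 * m' := by
      have := hm'o.pos
      omega
    apply Nat.eq_of_mul_eq_mul_left hpos
    rw [show 4 * m' * N = 2 * (2 * m' * N) by ring, h1, e6]
    have e7 : (4 : ℕ) ^ k = 2 ^ k * 2 ^ k := by
      rw [← mul_pow]
      norm_num
    rw [e7]
    ring

theorem exists_k {q : ℕ} (hq : q % 4 = 3) : ∃ k m, q + 1 = 4 * 2 ^ k * m ∧ Odd m := by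
  obtain ⟨a, ha⟩ : ∃ a, q + 1 = 4 * a := ⟨(q + 1) / 4, by omega⟩
  have ha0 : a ≠ 0 := by omega
  obtain ⟨k, m, hm, hkm⟩ := Nat.exists_eq_two_pow_mul_odd ha0
  exact ⟨k, m, by rw [ha, hkm]; ring, hm⟩

/-- A Sylow 2-subgroup of `PSL(4, q)`, `q = 3 mod 4`. -/
theorem exists_dwr_psl {F : Type*} [Field F] [Fintype F] (hF : Fintype.card F % 4 = 3) {k m : ℕ}
    (hk : Fintype.card F + 1 = 4 * 2 ^ k * m) (hm : Odd m)
    (P : Sylow 2 (Matrix.ProjectiveSpecialLinearGroup (Fin 4) F)) :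
    ∃ (f : D k → D k → Matrix.ProjectiveSpecialLinearGroup (Fin 4) F) (w : Matrix.ProjectiveSpecialLinearGroup (Fin 4) F),
      DWr (P : Subgroup (Matrix.ProjectiveSpecialLinearGroup (Fin 4) F)) k f w := by
  classical
  obtain ⟨E, _, _, ⟨h⟩⟩ := exists_dat hF hk hm
  obtain ⟨S, f, w, hS⟩ := SylA.exists_dwr h
  obtain ⟨c, hc, hcard⟩ := card_psl hF hk hm
  have hcS : Nat.card S = 2 ^ (7 + 2 * k) := by
    rw [Base.card_S hS, pow_add, pow_mul]
    norm_num
  have hN : Nat.card (Matrix.ProjectiveSpecialLinearGroup (Fin 4) F) = 2 ^ (7 + 2 * k) * c := by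
    rw [hcard, pow_add, pow_mul]
    norm_num
  have hfac : (Nat.card (Matrix.ProjectiveSpecialLinearGroup (Fin 4) F)).factorization 2 = 7 + 2 * k := by
    rw [hN, Nat.factorization_mul (by positivity) hc.pos.ne', Nat.Prime.factorization_pow Nat.prime_two]
    simp only [Finsupp.coe_add, Pi.add_apply, Finsupp.single_eq_same]
    rw [Nat.factorization_eq_zero_of_not_dvd, add_zero]
    intro h2
    exact (Nat.not_even_iff_odd.2 hc) (even_iff_two_dvd.2 h2)
  set Q : Sylow 2 (Matrix.ProjectiveSpecialLinearGroup (Fin 4) F) := Sylow.ofCard S (by rw [hcS, hfac]) with hQ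
  have hQS : (Q : Subgroup (Matrix.ProjectiveSpecialLinearGroup (Fin 4) F)) = S := rfl
  obtain ⟨f', w', h'⟩ := exists_of_equiv (T := (P : Subgroup (Matrix.ProjectiveSpecialLinearGroup (Fin 4) F))) hS
    ((MulEquiv.subgroupCongr hQS.symm).trans (Q.equiv P))
  exact ⟨f', w', h'⟩

/-- **[0A]**: a group whose Sylow 2-subgroups are isomorphic to those of `PSL(4, q)`, `q = 3 mod 4`. -/
theorem exists_dwr {G : Type*} [Group G] {F : Type*} [Field F] [Fintype F] (hF : Fintype.card F % 4 = 3)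
    (S : Subgroup G) (P : Sylow 2 (Matrix.ProjectiveSpecialLinearGroup (Fin 4) F))
    (hS : Nonempty (S ≃* (P : Subgroup (Matrix.ProjectiveSpecialLinearGroup (Fin 4) F)))) :
    ∃ (k m : ℕ) (f : D k → D k → G) (w : G), DWr S k f w ∧ Fintype.card F + 1 = 4 * 2 ^ k * m ∧ Odd m := by
  obtain ⟨k, m, hk, hm⟩ := exists_k hF
  obtain ⟨f, w, h⟩ := exists_dwr_psl hF hk hm P
  obtain ⟨e⟩ := hS
  obtain ⟨f', w', h'⟩ := exists_of_equiv h e.symm
  exact ⟨k, m, f', w', h', hk, hm⟩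

end Cfsg.Agent.LFourA.SylPsl
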