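import Mathlib
import Cfsg.Agent.Lib.GoldschmidtFusion
import Cfsg.Agent.TwoFusion.OddAut

/-!
# Burnside's transfer theorem relative to a subgroup, automorphisms of odd order of abelian 2-groups
-/

set_option autoImplicit false

namespace Cfsg.Agent.LFourA.Burn

open Subgroup Cfsg.Agent.TwoFusion.OddAut

variable {G : Type*} [Group G]

/-- An automorphism of odd order of an abelian 2-group fixing all involutions is trivial. -/
theorem odd_aut_abelian {X : Subgroup G} {σ : G → G} (hσ : IsOddAut X σ) (hc : ∀ x ∈ X, ∀ y ∈ X, x * y = y * x)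
    (h1 : ∀ x ∈ X, x * x = 1 → σ x = x) (n : ℕ) : ∀ x ∈ X, x ^ (2 ^ n) = 1 → σ x = x := by
  induction n with
  | zero =>
    intro x _ hx
    rw [pow_zero, pow_one] at hx
    rw [hx]
    exact hσ.one
  | succ n ih =>
    intro x hx hx2
    have h2 : σ (x * x) = x * x := by
      apply ih _ (X.mul_mem hx hx)
      rw [← pow_two, ← pow_mul, ← pow_succ']
      exact hx2
    set y := x⁻¹ * σ x with hy
    have hyX : y ∈ X := X.mul_mem (X.inv_mem hx) (hσ.mem x hx)
    have e1 : σ x = x * y := by rw [hy]; group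
    have hy2 : y * y = 1 := by
      rw [hσ.mul x hx x hx, e1] at h2
      have e2 : x * y * (x * y) = x * x * (y * y) := by
        have := hc x hx y hyX
        calc x * y * (x * y) = x * (y * x) * y := by group
          _ = x * (x * y) * y := by rw [this]
          _ = x * x * (y * y) := by group
      rw [e2] at h2
      exact mul_eq_left.1 h2
    have e3 := hσ.fix_of_eq_mul (m := 1) hx hyX e1 (h1 y hyX hy2) (by rw [pow_one, pow_two]; exact hy2)
    rw [e1, e3, mul_one]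

variable [Finite G] {p : ℕ} [Fact p.Prime]

/-- **Burnside's transfer theorem** inside a subgroup `Y`. -/
theorem burnside_in {Y A : Subgroup G} (hA : IsPGroup p A) (hAY : A ≤ Y) (hi : ¬ p ∣ A.relIndex Y)
    (hN : ∀ x ∈ Y, (∀ a ∈ A, x * a * x⁻¹ ∈ A) → ∀ a ∈ A, x * a = a * x) :
    ∃ K : Subgroup G, K ≤ Y ∧ ¬ p ∣ Nat.card K ∧ (∀ x ∈ Y, ∃ o ∈ K, ∃ a ∈ A, x = o * a) ∧
      (∀ x ∈ Y, ¬ p ∣ orderOf x → x ∈ K) ∧ (∀ x ∈ K, ∀ y ∈ Y, y * x * y⁻¹ ∈ K) := by
  classical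
  have hA' : IsPGroup p (A.subgroupOf Y) := hA.comap_of_injective Y.subtype Y.subtype_injective
  let P : Sylow p Y := hA'.toSylow hi
  have hPm : ∀ x : Y, x ∈ (P : Subgroup Y) ↔ (x : G) ∈ A := fun x => Iff.rfl
  have hP : normalizer ((P : Subgroup Y) : Set Y) ≤ centralizer ((P : Subgroup Y) : Set Y) := by
    intro x hx
    rw [mem_centralizer_iff]
    intro a ha
    apply Subtype.ext
    have h1 : ∀ b ∈ A, (x : G) * b * (x : G)⁻¹ ∈ A := by
      intro b hb
      have h2 := (mem_normalizer_iff.1 hx ⟨b, hAY hb⟩).1 hb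
      exact h2
    exact (hN x x.2 h1 a ha).symm
  let τ := MonoidHom.transferSylow P hP
  have hcomp : IsComplement' τ.ker (P : Subgroup Y) := MonoidHom.ker_transferSylow_isComplement' P hP
  have hnd : ¬ p ∣ Nat.card τ.ker := MonoidHom.not_dvd_card_ker_transferSylow P hP
  refine ⟨τ.ker.map Y.subtype, ?_, ?_, ?_, ?_, ?_⟩
  · rintro _ ⟨x, -, rfl⟩
    exact x.2
  · rw [← Nat.card_congr (τ.ker.equivMapOfInjective _ Y.subtype_injective).toEquiv]
    exact hnd
  · intro x hx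
    obtain ⟨⟨⟨o, ho⟩, ⟨a, ha⟩⟩, e⟩ := hcomp.2 ⟨x, hx⟩
    exact ⟨o, ⟨o, ho, rfl⟩, a, ha, (congrArg Subtype.val e).symm⟩
  · intro x hx hxo
    refine ⟨⟨x, hx⟩, ?_, rfl⟩
    change τ ⟨x, hx⟩ = 1
    have h1 : orderOf (τ ⟨x, hx⟩) ∣ orderOf x := by
      have h2 := orderOf_map_dvd τ ⟨x, hx⟩
      have h3 : orderOf (⟨x, hx⟩ : Y) = orderOf x := Subgroup.orderOf_mk _ _
      rwa [h3] at h2
    have h3 : ∃ n, orderOf (τ ⟨x, hx⟩) = p ^ n := by
      obtain ⟨n, hn⟩ := P.isPGroup' (τ ⟨x, hx⟩)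
      have h4 := orderOf_dvd_of_pow_eq_one hn
      obtain ⟨m, -, hm⟩ := (Nat.dvd_prime_pow (Fact.out : p.Prime)).1 h4
      exact ⟨m, hm⟩
    obtain ⟨n, hn⟩ := h3
    rcases Nat.eq_zero_or_pos n with h5 | h5
    · rw [h5, pow_zero] at hn
      exact orderOf_eq_one_iff.1 hn
    · exfalso
      apply hxo
      refine dvd_trans ?_ h1
      rw [hn]
      exact dvd_pow_self p (by omega)
  · rintro _ ⟨x, hx, rfl⟩ y hy
    refine ⟨⟨y, hy⟩ * x * ⟨y, hy⟩⁻¹, ?_, rfl⟩
    exact (inferInstance : τ.ker.Normal).conj_mem x hx ⟨y, hy⟩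

end Cfsg.Agent.LFourA.Burn
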