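import Mathlib
import Cfsg.Agent.LFourA.Base

/-!
# Facts on a 2-group of type `D wr 2`: centre, involutions, elementary abelian subgroups of order 16
-/

set_option autoImplicit false

namespace Cfsg.Agent.LFourA.Facts

open DihedralGroup Cfsg.Agent.LFourA.Model Cfsg.Agent.LFourA.Base Subgroup

/-! ### Subgroups of `D k` -/

section Dih

variable {k : ℕ}

/-- The four-group of a reflection. -/
def V (i : ZMod (4 * 2 ^ k)) : Subgroup (D k) where
  carrier := {g | g = 1 ∨ g = c k ∨ g = sr i ∨ g = sr i * c k}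
  one_mem' := Or.inl rfl
  mul_mem' := by
    have h1 := sr_mul_self i
    have h2 := c_mul_c (k := k)
    have h3 := c_comm (k := k) (sr i)
    have h4 : sr i * c k * sr i = c k := by rw [mul_assoc, h3, ← mul_assoc, h1, one_mul]
    rintro a b (rfl | rfl | rfl | rfl) (rfl | rfl | rfl | rfl)
    · simp
    · simp
    · simp
    · simp
    · simp
    · simp [h2]
    · simp [h3]
    · right; right; left; rw [← mul_assoc, h3, mul_assoc, h2, mul_one]
    · simp
    · simp
    · left; exact h1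
    · right; left; rw [← mul_assoc, h1, one_mul]
    · simp
    · right; right; left; rw [mul_assoc, h2, mul_one]
    · right; left; exact h4
    · left; rw [← mul_assoc, h4, h2]
  inv_mem' := by
    rintro a (rfl | rfl | rfl | rfl)
    · left; simp
    · right; left; exact c_inv
    · right; right; left; exact sr_inv i
    · right; right; right
      rw [mul_inv_rev, c_inv, sr_inv, c_comm]

theorem mem_V {i : ZMod (4 * 2 ^ k)} {g : D k} : g ∈ V i ↔ g = 1 ∨ g = c k ∨ g = sr i ∨ g = sr i * c k := Iff.rfl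

theorem c_mem_V (i : ZMod (4 * 2 ^ k)) : c k ∈ V i := Or.inr (Or.inl rfl)

theorem sr_mem_V (i : ZMod (4 * 2 ^ k)) : sr i ∈ V i := Or.inr (Or.inr (Or.inl rfl))

theorem src_mem_V (i : ZMod (4 * 2 ^ k)) : sr i * c k ∈ V i := Or.inr (Or.inr (Or.inr rfl))

theorem comm_sr_iff {g : D k} {i : ZMod (4 * 2 ^ k)} : g * sr i = sr i * g ↔ g ∈ V i := by
  constructor
  · exact eq_of_comm_sr
  · rintro (rfl | rfl | rfl | rfl)
    · simp
    · exact c_comm _
    · rfl
    · rw [mul_assoc, c_comm]

theorem sq_of_mem_V {g : D k} {i : ZMod (4 * 2 ^ k)} (hg : g ∈ V i) : g * g = 1 := by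
  rcases hg with rfl | rfl | rfl | rfl
  · simp
  · exact c_mul_c
  · exact sr_mul_self i
  · rw [sr_c, sr_mul_self]

theorem comm_of_mem_V {g g' : D k} {i : ZMod (4 * 2 ^ k)} (hg : g ∈ V i) (hg' : g' ∈ V i) : g * g' = g' * g := by
  have h1 := sq_of_mem_V ((V i).mul_mem hg hg')
  have h2 := sq_of_mem_V hg
  have h3 := sq_of_mem_V hg'
  calc g * g' = (g * g) * (g * g') * (g' * g') := by rw [h2, h3, one_mul, mul_one]
    _ = g * ((g * g') * (g * g')) * (g * g')⁻¹ * (g * g') * g' := by
      rw [h1]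
      have e : g * g * (g * g') * (g' * g') = g * g * g * g' * g' * g' := by group
      have e2 : g * 1 * (g * g')⁻¹ * (g * g') * g' = g * g' := by group
      rw [e, e2, h2, one_mul, mul_assoc g, h3, mul_one]
    _ = g' * g := by
      rw [h1]
      have e2 : g * 1 * (g * g')⁻¹ * (g * g') * g' = g * g' := by group
      rw [e2]
      have h4 : g⁻¹ = g := inv_eq_of_mul_eq_one_left h2
      have h5 : g'⁻¹ = g' := inv_eq_of_mul_eq_one_left h3
      rw [← inv_eq_of_mul_eq_one_left h1, mul_inv_rev, h4, h5]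

theorem V_eq_of_mem {i j : ZMod (4 * 2 ^ k)} (h : (sr j : D k) ∈ V i) (g : D k) : g ∈ V j ↔ g ∈ V i := by
  rcases h with h | h | h | h
  · exact absurd h (sr_ne_one j)
  · exact absurd h (sr_ne_c j)
  · rw [DihedralGroup.sr.inj h]
  · rw [mem_V, mem_V, h]
    have : (sr i : D k) * c k * c k = sr i := by rw [mul_assoc, c_mul_c, mul_one]
    rw [this]
    tauto

theorem c_ne_sr (i : ZMod (4 * 2 ^ k)) : c k ≠ sr i := fun e => sr_ne_c i e.symm

theorem src_ne_one (i : ZMod (4 * 2 ^ k)) : (sr i : D k) * c k ≠ 1 := by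
  rw [sr_c]; exact sr_ne_one _

theorem src_ne_c (i : ZMod (4 * 2 ^ k)) : (sr i : D k) * c k ≠ c k := by
  rw [sr_c]; exact sr_ne_c _

theorem src_ne_sr (i : ZMod (4 * 2 ^ k)) : (sr i : D k) * c k ≠ sr i := by
  intro e
  exact c_ne_one (mul_eq_left.1 e)

theorem card_V (i : ZMod (4 * 2 ^ k)) : Nat.card (V i) = 4 := by
  have h1 : ((V i : Subgroup (D k)) : Set (D k)) = ({1, c k, sr i, sr i * c k} : Finset (D k)) := by
    ext g
    simp [mem_V]
  have h2 : Nat.card (V i) = Set.ncard ((V i : Subgroup (D k)) : Set (D k)) := rfl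
  rw [h2, h1, Set.ncard_coe_finset]
  rw [Finset.card_insert_of_notMem, Finset.card_insert_of_notMem, Finset.card_insert_of_notMem, Finset.card_singleton]
  · rw [Finset.mem_singleton]; exact (src_ne_sr i).symm
  · simp only [Finset.mem_insert, Finset.mem_singleton, not_or]
    exact ⟨c_ne_sr i, (src_ne_c i).symm⟩
  · simp only [Finset.mem_insert, Finset.mem_singleton, not_or]
    exact ⟨c_ne_one.symm, (sr_ne_one i).symm, (src_ne_one i).symm⟩

/-- Elementary abelian subgroups of `D k` have order at most four. -/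
theorem card_elem_le (P : Subgroup (D k)) (hP : ∀ x ∈ P, x * x = 1) : Nat.card P ≤ 4 := by
  have hcomm : ∀ x ∈ P, ∀ y ∈ P, x * y = y * x := by
    intro x hx y hy
    have h1 := hP _ (P.mul_mem hx hy)
    have h4 : x⁻¹ = x := inv_eq_of_mul_eq_one_left (hP x hx)
    have h5 : y⁻¹ = y := inv_eq_of_mul_eq_one_left (hP y hy)
    rw [← inv_eq_of_mul_eq_one_left h1, mul_inv_rev, h4, h5]
  by_cases hi : ∃ i, (sr i : D k) ∈ P
  · obtain ⟨i, hi⟩ := hi
    have hle : P ≤ V i := by
      intro x hx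
      rw [← comm_sr_iff]
      exact hcomm x hx _ hi
    exact (Nat.card_le_card_of_injective _ (Subgroup.inclusion_injective hle)).trans (card_V i).le
  · have hle : P ≤ V 0 := by
      intro x hx
      rcases eq_of_sq_one (hP x hx) with h | h | ⟨i, h⟩
      · exact Or.inl h
      · exact Or.inr (Or.inl h)
      · exact absurd ⟨i, h ▸ hx⟩ hi
    exact (Nat.card_le_card_of_injective _ (Subgroup.inclusion_injective hle)).trans (card_V 0).le

end Dih

variable {G : Type*} [Group G] {S : Subgroup G} {k : ℕ} {f : D k → D k → G} {w : G}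

/-- The map `f` as a homomorphism. -/
def F (h : DWr S k f w) : D k × D k →* G where
  toFun p := f p.1 p.2
  map_one' := f_one h
  map_mul' _ _ := (h.f_mul _ _ _ _).symm

section

variable (h : DWr S k f w)

include h

theorem F_apply (p : D k × D k) : F h p = f p.1 p.2 := rfl

theorem F_injective : Function.Injective (F h) := by
  intro p q e
  obtain ⟨h1, h2⟩ := (f_eq_iff h).1 e
  exact Prod.ext h1 h2

/-! ### Centre -/

theorem t_ne_one : f (c k) 1 ≠ 1 := by
  rw [Ne, f_eq_one_iff h]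
  exact fun e => c_ne_one e.1

theorem t'_ne_one : f 1 (c k) ≠ 1 := by
  rw [Ne, f_eq_one_iff h]
  exact fun e => c_ne_one e.2

theorem z_ne_one : f (c k) (c k) ≠ 1 := by
  rw [Ne, f_eq_one_iff h]
  exact fun e => c_ne_one e.2

theorem t_mul_t' : f (c k) 1 * f 1 (c k) = f (c k) (c k) := by
  rw [h.f_mul, one_mul, mul_one]

theorem f_comm_center {a b e e' : D k} (he : e = 1 ∨ e = c k) (he' : e' = 1 ∨ e' = c k) :
    f e e' * f a b = f a b * f e e' := by
  rw [f_comm_iff h]
  constructor
  · rcases he with rfl | rfl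
    · simp
    · exact c_comm _
  · rcases he' with rfl | rfl
    · simp
    · exact c_comm _

theorem z_comm {g : G} (hg : g ∈ S) : f (c k) (c k) * g = g * f (c k) (c k) := by
  rcases mem_cases h hg with ⟨a, b, rfl⟩ | ⟨a, b, rfl⟩
  · exact f_comm_center h (Or.inr rfl) (Or.inr rfl)
  · rw [fw_mul_f h, f_mul_fw h, c_comm, c_comm]

/-- The centre of the base group. -/
theorem eq_of_central_base {a b : D k} (hc : ∀ a' b', f a b * f a' b' = f a' b' * f a b) :
    (a = 1 ∨ a = c k) ∧ (b = 1 ∨ b = c k) := by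
  constructor
  · apply eq_of_central
    intro x
    exact ((f_comm_iff h).1 (hc x 1)).1
  · apply eq_of_central
    intro x
    exact ((f_comm_iff h).1 (hc 1 x)).2

/-- Elements outside the base group do not centralise `t`. -/
theorem fw_not_comm_t (a b : D k) : f a b * w * f (c k) 1 ≠ f (c k) 1 * (f a b * w) := by
  rw [Ne, fw_comm_f_iff h]
  intro e
  have h1 := e.1
  rw [mul_one] at h1
  exact c_ne_one (right_eq_mul.1 h1)

theorem mem_base_of_comm_t {g : G} (hg : g ∈ S) (hc : g * f (c k) 1 = f (c k) 1 * g) : g ∈ base h := by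
  rcases mem_cases h hg with ⟨a, b, rfl⟩ | ⟨a, b, rfl⟩
  · exact f_mem_base h a b
  · exact absurd hc (fw_not_comm_t h a b)

/-- The centre of `S`. -/
theorem eq_of_central_S {g : G} (hg : g ∈ S) (hc : ∀ x ∈ S, g * x = x * g) : g = 1 ∨ g = f (c k) (c k) := by
  obtain ⟨a, b, rfl⟩ := mem_base_of_comm_t h hg (hc _ (f_mem h _ _))
  obtain ⟨h1, h2⟩ := eq_of_central_base h (fun a' b' => hc _ (f_mem h a' b'))
  have h3 := hc w (w_mem h)
  rw [h.w_f, mul_left_inj, f_eq_iff h] at h3
  obtain ⟨rfl, -⟩ := h3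
  rcases h1 with rfl | rfl
  · left; exact f_one h
  · right; rfl

/-! ### Involutions -/

theorem f_sq_one_iff {a b : D k} : f a b * f a b = 1 ↔ a * a = 1 ∧ b * b = 1 := by
  rw [h.f_mul, f_eq_one_iff h]

theorem fw_sq_one_iff {a b : D k} : f a b * w * (f a b * w) = 1 ↔ b = a⁻¹ := by
  rw [fw_mul_fw h, f_eq_one_iff h]
  constructor
  · intro e
    exact (inv_eq_of_mul_eq_one_right e.1).symm
  · rintro rfl
    simp

/-- The involutions outside the base group are conjugate to `w`. -/
theorem fw_eq_conj_w (a : D k) : f a a⁻¹ * w = f a 1 * w * (f a 1)⁻¹ := by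
  have h1 : w * f a⁻¹ 1 = f 1 a⁻¹ * w := h.w_f _ _
  rw [f_inv h, inv_one, mul_assoc, h1, ← mul_assoc, h.f_mul, mul_one, one_mul]

/-- A subgroup of `S` with an element outside the base group. -/
theorem card_eq_two_mul {A : Subgroup G} (hA : A ≤ S) {u : G} (hu : u ∈ A) (hub : u ∉ base h) :
    Nat.card A = 2 * Nat.card (A ⊓ base h : Subgroup G) := by
  have h1 : ((A ⊓ base h).subgroupOf A).index = 2 := by
    rw [index_eq_two_iff]
    refine ⟨⟨u, hu⟩, ?_⟩
    rintro ⟨g, hg⟩
    obtain ⟨a, b, rfl⟩ := (mem_cases h (hA hu)).resolve_left hub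
    rcases mem_cases h (hA hg) with ⟨a', b', rfl⟩ | ⟨a', b', rfl⟩
    · refine Or.inr ⟨⟨hg, f_mem_base h a' b'⟩, ?_⟩
      rintro ⟨-, h2⟩
      have h3 : f a' b' * (f a b * w) ∈ base h := h2
      rw [f_mul_fw h] at h3
      exact fw_notMem_base h _ _ h3
    · refine Or.inl ⟨?_, ?_⟩
      · refine ⟨A.mul_mem hg hu, ?_⟩
        have h3 : f a' b' * w * (f a b * w) ∈ base h := by
          rw [fw_mul_fw h]; exact f_mem_base h _ _
        exact h3
      · rintro ⟨-, h2⟩
        exact fw_notMem_base h _ _ h2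
  have h2 := Subgroup.card_mul_index ((A ⊓ base h).subgroupOf A)
  have h3 : Nat.card ((A ⊓ base h).subgroupOf A) = Nat.card (A ⊓ base h : Subgroup G) :=
    Nat.card_congr (Subgroup.subgroupOfEquivOfLe inf_le_left).toEquiv
  rw [h1, h3] at h2
  omega

/-- A subgroup of the base group and the subgroup of pairs. -/
theorem card_comap_F (A : Subgroup G) : Nat.card (A.comap (F h)) = Nat.card (A ⊓ base h : Subgroup G) := by
  have h1 : (A.comap (F h)).map (F h) = A ⊓ base h := by
    ext x
    constructor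
    · rintro ⟨p, hp, rfl⟩
      exact ⟨hp, _, _, rfl⟩
    · rintro ⟨hx, a, b, rfl⟩
      exact ⟨(a, b), hx, rfl⟩
  rw [← h1]
  exact Nat.card_congr ((A.comap (F h)).equivMapOfInjective _ (F_injective h)).toEquiv

/-- Elementary abelian subgroups of order 16 are contained in the base group. -/
theorem le_base_of_elem (A : Subgroup G) (hA : A ≤ S) (hA2 : ∀ x ∈ A, x * x = 1) (h16 : 16 ≤ Nat.card A) :
    A ≤ base h := by
  intro u hu
  by_contra hub
  obtain ⟨a, b, rfl⟩ := (mem_cases h (hA hu)).resolve_left hub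
  have hcomm : ∀ x ∈ A, ∀ y ∈ A, x * y = y * x := by
    intro x hx y hy
    have h1 := hA2 _ (A.mul_mem hx hy)
    have h4 : x⁻¹ = x := inv_eq_of_mul_eq_one_left (hA2 x hx)
    have h5 : y⁻¹ = y := inv_eq_of_mul_eq_one_left (hA2 y hy)
    rw [← inv_eq_of_mul_eq_one_left h1, mul_inv_rev, h4, h5]
  have h1 := card_eq_two_mul h hA hu hub
  rw [← card_comap_F h] at h1
  set P : Subgroup (D k × D k) := A.comap (F h) with hP
  have h2 : Nat.card (P.map (MonoidHom.fst (D k) (D k))) ≤ 4 := by
    apply card_elem_le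
    rintro _ ⟨p, hp, rfl⟩
    exact ((f_sq_one_iff h).1 (hA2 _ hp)).1
  have h3 : Nat.card P ≤ Nat.card (P.map (MonoidHom.fst (D k) (D k))) := by
    apply Nat.card_le_card_of_injective (fun x : P => (⟨x.1.1, x.1, x.2, rfl⟩ : P.map (MonoidHom.fst (D k) (D k))))
    rintro ⟨⟨p, q⟩, hp⟩ ⟨⟨p', q'⟩, hp'⟩ e
    have e1 : p = p' := congrArg Subtype.val e
    have e2 := (fw_comm_f_iff h).1 (hcomm _ hu _ hp)
    have e3 := (fw_comm_f_iff h).1 (hcomm _ hu _ hp')
    have e4 : a * q = a * q' := by rw [e2.1, e3.1, e1]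
    rw [mul_left_cancel_iff] at e4
    simp [e1, e4]
  omega

end

end Cfsg.Agent.LFourA.Facts
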