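import Mathlib
import Cfsg.Agent.LFourA.Facts
import Cfsg.Agent.SylowSp4.Extremal
import Cfsg.Agent.SylowSp4.ExtTransfer

/-!
# Fusion in a group with Sylow 2-subgroup `D wr 2`, first steps

`t = f c 1` is not conjugate to `z = f c c`, the base group is a Sylow subgroup of `C(t)`.
-/

set_option autoImplicit false

namespace Cfsg.Agent.LFourA.FOne

open DihedralGroup Cfsg.Agent.LFourA.Model Cfsg.Agent.LFourA.Base Cfsg.Agent.LFourA.Facts Subgroup
open Cfsg.Agent.Lib.GoldschmidtFusion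

section Dih

variable {k : ℕ}

theorem x0_ne_comm_sr (i : ZMod (4 * 2 ^ k)) : x0 k * sr i ≠ sr i * x0 k := by
  intro e
  have h1 := x0_sr i
  rw [e, mul_inv_cancel_right] at h1
  exact src_ne_sr i h1.symm

theorem sr_mul_x0 (i : ZMod (4 * 2 ^ k)) : (sr i : D k) * x0 k = sr (i + ((2 ^ k : ℕ) : ZMod (4 * 2 ^ k))) := by
  rw [x0, sr_mul_r]

/-- Every element is a product of at most two reflections. -/
theorem eq_prod_sr (g : D k) : (∃ i, g = sr i) ∨ ∃ i j, g = sr i * sr j := by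
  rcases g with i | i
  · right
    refine ⟨0, i, ?_⟩
    rw [sr_mul_sr, sub_zero]
  · left; exact ⟨i, rfl⟩

/-- Commutator of a reflection with `x0`. -/
theorem comm_sr_x0 (i : ZMod (4 * 2 ^ k)) : (sr i : D k) * x0 k * (sr i)⁻¹ * (x0 k)⁻¹ = c k := by
  rw [x0, sr_r_sr, ← x0, x0_inv, mul_assoc (c k), ← mul_assoc (x0 k), ← c_comm, mul_assoc (c k) (x0 k), x0_mul_x0,
    c_mul_c, mul_one]

end Dih

variable {G : Type*} [Group G] {S : Subgroup G} {k : ℕ} {f : D k → D k → G} {w : G}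

/-- The elementary abelian subgroup `V_i × V_j` of order 16. -/
def E (h : DWr S k f w) (i j : ZMod (4 * 2 ^ k)) : Subgroup G := ((V i).prod (V j)).map (F h)

section

variable (h : DWr S k f w)

include h

theorem mem_E {i j : ZMod (4 * 2 ^ k)} {x : G} : x ∈ E h i j ↔ ∃ a ∈ V i, ∃ b ∈ V j, x = f a b := by
  constructor
  · rintro ⟨⟨a, b⟩, ⟨ha, hb⟩, rfl⟩
    exact ⟨a, ha, b, hb, rfl⟩
  · rintro ⟨a, ha, b, hb, rfl⟩
    exact ⟨(a, b), ⟨ha, hb⟩, rfl⟩

theorem card_E (i j : ZMod (4 * 2 ^ k)) : Nat.card (E h i j) = 16 := by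
  rw [E, ← Nat.card_congr (((V i).prod (V j)).equivMapOfInjective _ (F_injective h)).toEquiv,
    Nat.card_congr ((V i).prodEquiv (V j)).toEquiv, Nat.card_prod, card_V, card_V]

theorem E_sq {i j : ZMod (4 * 2 ^ k)} {x : G} (hx : x ∈ E h i j) : x * x = 1 := by
  obtain ⟨a, ha, b, hb, rfl⟩ := (mem_E h).1 hx
  rw [f_sq_one_iff h]
  exact ⟨sq_of_mem_V ha, sq_of_mem_V hb⟩

/-- Conjugates of `V_i × V_j` in `S` are contained in the base group. -/
theorem conj_E_le {i j : ZMod (4 * 2 ^ k)} {g : G} (hg : ∀ a ∈ V i, ∀ b ∈ V j, g * f a b * g⁻¹ ∈ S) :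
    ∀ a ∈ V i, ∀ b ∈ V j, g * f a b * g⁻¹ ∈ base h := by
  have h1 : (E h i j).map (MulAut.conj g).toMonoidHom ≤ base h := by
    apply le_base_of_elem h
    · rintro _ ⟨x, hx, rfl⟩
      obtain ⟨a, ha, b, hb, rfl⟩ := (mem_E h).1 hx
      exact hg a ha b hb
    · rintro _ ⟨x, hx, rfl⟩
      rw [← map_mul, E_sq h hx, map_one]
    · rw [card_map_conj, card_E]
  intro a ha b hb
  exact h1 ⟨f a b, (mem_E h).2 ⟨a, ha, b, hb, rfl⟩, rfl⟩

omit h in
theorem conj_mul_mem {H : Subgroup G} {g x y : G} (hx : g * x * g⁻¹ ∈ H) (hy : g * y * g⁻¹ ∈ H) :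
    g * (x * y) * g⁻¹ ∈ H := by
  have e : g * (x * y) * g⁻¹ = (g * x * g⁻¹) * (g * y * g⁻¹) := by group
  rw [e]
  exact H.mul_mem hx hy

/-- Conjugates of `V_i × D` in `S` are contained in the base group. -/
theorem conj_VD_le {i : ZMod (4 * 2 ^ k)} {g : G} (hg : ∀ a ∈ V i, ∀ b, g * f a b * g⁻¹ ∈ S) :
    ∀ a ∈ V i, ∀ b, g * f a b * g⁻¹ ∈ base h := by
  have h1 : ∀ a ∈ V i, ∀ j, g * f a (sr j) * g⁻¹ ∈ base h := fun a ha j =>
    conj_E_le h (fun a ha b _ => hg a ha b) a ha (sr j) (sr_mem_V j)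
  intro a ha b
  rcases eq_prod_sr b with ⟨j, rfl⟩ | ⟨j, j', rfl⟩
  · exact h1 a ha j
  · have e : f a (sr j * sr j') = f a (sr j) * f 1 (sr j') := by rw [h.f_mul, mul_one]
    rw [e]
    exact conj_mul_mem (h1 a ha j) (h1 1 (V i).one_mem j')

/-- Conjugates of the base group in `S` are equal to the base group. -/
theorem conj_base_le {g : G} (hg : ∀ a b, g * f a b * g⁻¹ ∈ S) : ∀ a b, g * f a b * g⁻¹ ∈ base h := by
  have h1 : ∀ i b, g * f (sr i) b * g⁻¹ ∈ base h := fun i b =>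
    conj_VD_le h (fun a _ b => hg a b) (sr i) (sr_mem_V i) b
  intro a b
  rcases eq_prod_sr a with ⟨j, rfl⟩ | ⟨j, j', rfl⟩
  · exact h1 j b
  · have e : f (sr j * sr j') b = f (sr j) b * f (sr j') 1 := by rw [h.f_mul, mul_one]
    rw [e]
    exact conj_mul_mem (h1 j b) (h1 j' 1)

/-- The roots of `z` in the base group commute. -/
theorem roots_z_comm {x y : G} (hx : x ∈ base h) (hy : y ∈ base h) (hx2 : x * x = f (c k) (c k))
    (hy2 : y * y = f (c k) (c k)) : x * y = y * x := by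
  obtain ⟨a, b, rfl⟩ := hx
  obtain ⟨a', b', rfl⟩ := hy
  rw [h.f_mul, f_eq_iff h] at hx2 hy2
  have key : ∀ {g g' : D k}, g * g = c k → g' * g' = c k → g * g' = g' * g := by
    intro g g' e e'
    rcases eq_of_sq_c e with rfl | rfl <;> rcases eq_of_sq_c e' with rfl | rfl
    · rfl
    · rw [← mul_assoc, ← c_comm]
    · rw [← mul_assoc, ← c_comm]
    · rfl
  rw [f_comm_iff h]
  exact ⟨key hx2.1 hy2.1, key hx2.2 hy2.2⟩

end

section Sylow

variable [Finite G] {P : Sylow 2 G} (h : DWr (P : Subgroup G) k f w)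

include h

/-- **(F1)** `t` and `z` are not conjugate. -/
theorem t_not_conj_z (g : G) : g * f (c k) 1 * g⁻¹ ≠ f (c k) (c k) := by
  intro hg
  obtain ⟨g, hg, hgP⟩ := Cfsg.Agent.SylowSp4.Extremal.exists_conj_of_central P (t := f (c k) (c k)) (w := f (c k) 1)
    (fun y hy => (z_comm h hy).symm) ⟨g, hg⟩
  have h1 : ∀ a b, g * f a b * g⁻¹ ∈ base h := by
    apply conj_base_le h
    intro a b
    exact hgP _ (f_mem h a b) (f_comm_center h (Or.inr rfl) (Or.inl rfl)).symm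
  have h2 : ∀ j, g * f (x0 k) (sr j) * g⁻¹ * (g * f (x0 k) (sr j) * g⁻¹) = f (c k) (c k) := by
    intro j
    have e : g * f (x0 k) (sr j) * g⁻¹ * (g * f (x0 k) (sr j) * g⁻¹) = g * (f (x0 k) (sr j) * f (x0 k) (sr j)) * g⁻¹ := by
      group
    rw [e, h.f_mul, x0_mul_x0, sr_mul_self, hg]
  have h3 := roots_z_comm h (h1 (x0 k) (sr 0)) (h1 (x0 k) (sr ((2 ^ k : ℕ) : ZMod (4 * 2 ^ k)))) (h2 _) (h2 _)
  have h4 : f (x0 k) (sr 0) * f (x0 k) (sr ((2 ^ k : ℕ) : ZMod (4 * 2 ^ k))) =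
      f (x0 k) (sr ((2 ^ k : ℕ) : ZMod (4 * 2 ^ k))) * f (x0 k) (sr 0) := by
    have e := congrArg (fun x => g⁻¹ * x * g) h3
    simpa [mul_assoc] using e
  have h5 := ((f_comm_iff h).1 h4).2
  have h6 : (sr ((2 ^ k : ℕ) : ZMod (4 * 2 ^ k)) : D k) = sr 0 * x0 k := by
    rw [sr_mul_x0, zero_add]
  rw [h6, mul_assoc, mul_right_inj] at h5
  exact x0_ne_comm_sr 0 h5.symm

theorem t'_not_conj_z (g : G) : g * f 1 (c k) * g⁻¹ ≠ f (c k) (c k) := by
  intro hg
  apply t_not_conj_z h (g * w)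
  have e : g * w * f (c k) 1 * (g * w)⁻¹ = g * (w * f (c k) 1 * w⁻¹) * g⁻¹ := by group
  rw [e, w_conj h, hg]

/-- The base group is a Sylow subgroup of the centraliser of `t`. -/
theorem not_dvd_relIndex_base : ¬ 2 ∣ (base h).relIndex (centralizer ({f (c k) 1} : Set G)) := by
  have hB : base h ≤ centralizer ({f (c k) 1} : Set G) := by
    rintro _ ⟨a, b, rfl⟩
    rw [mem_centralizer_singleton_iff]
    exact (f_comm_center h (Or.inr rfl) (Or.inl rfl)).symm
  have hBp : IsPGroup 2 (base h) := P.isPGroup'.to_le (base_le h)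
  obtain ⟨R, hBR, hRC, hR, hRi⟩ := exists_sylow_in (p := 2) hB hBp
  suffices R = base h by rwa [this] at hRi
  by_contra hne
  -- `R` is a Sylow subgroup of `G`
  obtain ⟨Q, hQ⟩ := hR.exists_le_sylow
  obtain ⟨n, hn⟩ := MulAction.exists_smul_eq G Q P
  have hnR : ∀ y ∈ R, n * y * n⁻¹ ∈ (P : Subgroup G) := by
    intro y hy
    rw [← hn, Sylow.coe_subgroup_smul]
    have := Subgroup.smul_mem_pointwise_smul _ (MulAut.conj n) _ (hQ hy)
    simpa using this
  have hlt : base h < R := lt_of_le_of_ne hBR (fun e => hne e.symm)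
  have hcard : 2 * Nat.card (base h) ≤ Nat.card R := by
    have h1 : Nat.card (base h) ∣ Nat.card R := Subgroup.card_dvd_of_le hBR
    obtain ⟨m, hm⟩ := h1
    have h2 : Nat.card (base h) < Nat.card R := by
      rw [← SetLike.coe_ssubset_coe] at hlt
      exact Set.ncard_lt_ncard hlt (Set.toFinite _)
    have h3 : 1 < m := by
      by_contra hm1
      have : m ≤ 1 := by omega
      rw [hm] at h2
      have h4 : Nat.card (base h) * m ≤ Nat.card (base h) * 1 := Nat.mul_le_mul_left _ this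
      omega
    rw [hm, mul_comm]
    exact Nat.mul_le_mul_left _ h3
  have hmap : R.map (MulAut.conj n).toMonoidHom = (P : Subgroup G) := by
    apply Subgroup.eq_of_le_of_card_ge
    · rintro _ ⟨y, hy, rfl⟩
      exact hnR y hy
    · rw [card_map_conj, card_S h]
      rw [card_base h] at hcard
      omega
  have h1 : n * f (c k) 1 * n⁻¹ ∈ (P : Subgroup G) := hnR _ (hBR (f_mem_base h _ _))
  have h2 : ∀ x ∈ (P : Subgroup G), n * f (c k) 1 * n⁻¹ * x = x * (n * f (c k) 1 * n⁻¹) := by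
    intro x hx
    rw [← hmap] at hx
    obtain ⟨y, hy, rfl⟩ := hx
    have h3 := mem_centralizer_singleton_iff.1 (hRC hy)
    have h4 : n * (f (c k) 1 * y) * n⁻¹ = n * (y * f (c k) 1) * n⁻¹ := by rw [h3]
    simpa [mul_assoc] using h4
  rcases eq_of_central_S h h1 h2 with h3 | h3
  · apply t_ne_one h
    have e : f (c k) 1 = n⁻¹ * (n * f (c k) 1 * n⁻¹) * n := by group
    rw [e, h3]; group
  · exact t_not_conj_z h n h3

/-- 2-subgroups centralising `t` are moved into the base group by elements centralising `t`. -/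
theorem exists_conj_base {R : Subgroup G} (hR : IsPGroup 2 R) (hRt : ∀ x ∈ R, x * f (c k) 1 = f (c k) 1 * x) :
    ∃ g : G, g * f (c k) 1 = f (c k) 1 * g ∧ ∀ x ∈ R, g * x * g⁻¹ ∈ base h := by
  have hRN : R ≤ centralizer ({f (c k) 1} : Set G) := by
    intro x hx
    rw [mem_centralizer_singleton_iff]
    exact hRt x hx
  obtain ⟨g, hg, hgR⟩ := exists_conj_le_in (P.isPGroup'.to_le (base_le h)) (not_dvd_relIndex_base h) hRN hR
  refine ⟨g, mem_centralizer_singleton_iff.1 hg, ?_⟩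
  intro x hx
  exact hgR ⟨x, hx, rfl⟩

/-- If `u` is conjugate to `t` then a 2-subgroup centralising `u` is moved into the base group, `u` to `t`. -/
theorem exists_conj_base_of_conj {u g₀ : G} (hu : g₀ * u * g₀⁻¹ = f (c k) 1) {R : Subgroup G} (hR : IsPGroup 2 R)
    (hRu : ∀ x ∈ R, x * u = u * x) :
    ∃ g : G, g * u * g⁻¹ = f (c k) 1 ∧ ∀ x ∈ R, g * x * g⁻¹ ∈ base h := by
  have hR' : IsPGroup 2 (R.map (MulAut.conj g₀).toMonoidHom : Subgroup G) := hR.map _
  obtain ⟨g, hg, hgR⟩ := exists_conj_base h hR' (by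
    rintro _ ⟨x, hx, rfl⟩
    have h1 : g₀ * (x * u) * g₀⁻¹ = g₀ * (u * x) * g₀⁻¹ := by rw [hRu x hx]
    rw [← hu]
    simpa [mul_assoc] using h1)
  refine ⟨g * g₀, ?_, ?_⟩
  · have e : g * g₀ * u * (g * g₀)⁻¹ = g * (g₀ * u * g₀⁻¹) * g⁻¹ := by group
    rw [e, hu, hg, mul_inv_cancel_right]
  · intro x hx
    have h1 := hgR (g₀ * x * g₀⁻¹) ⟨x, hx, rfl⟩
    have e : g * g₀ * x * (g * g₀)⁻¹ = g * (g₀ * x * g₀⁻¹) * g⁻¹ := by group
    rw [e]
    exact h1

end Sylow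

end Cfsg.Agent.LFourA.FOne
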