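import Mathlib
import Cfsg.Agent.LFourA.FOne
import Cfsg.Agent.LFourA.Defs

/-!
# Fusion in a group with Sylow 2-subgroup `D wr 2`: extremal transfer (F2) and the twist
-/

set_option autoImplicit false

namespace Cfsg.Agent.LFourA.FTwo

open DihedralGroup Cfsg.Agent.LFourA.Model Cfsg.Agent.LFourA.Base Cfsg.Agent.LFourA.Facts Subgroup
open Cfsg.Agent.Lib.GoldschmidtFusion Cfsg.Agent.LFourA.FOne Cfsg.Agent.LFourA.Defs

section Dih

variable {k : ℕ}

theorem comm_rot (a b : D k) : ∃ j, a * b * a⁻¹ * b⁻¹ = r j := by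
  rcases a with i | i <;> rcases b with j | j <;>
    simp only [r_mul_r, r_mul_sr, sr_mul_r, sr_mul_sr, inv_r, inv_sr] <;> exact ⟨_, rfl⟩

theorem rot_sq_one {j : ZMod (4 * 2 ^ k)} (h : (r j : D k) * r j = 1) : (r j : D k) = 1 ∨ (r j : D k) = c k := by
  rcases eq_of_sq_one h with h1 | h1 | ⟨i, h1⟩
  · exact Or.inl h1
  · exact Or.inr h1
  · exact absurd h1.symm (sr_ne_r _ _)

theorem chiFun_sr_one (i : ZMod (4 * 2 ^ k)) : chiFun 1 1 (sr i : D k) = 1 := by
  have h2 : (1 : ZMod 2) + 1 = 0 := by decide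
  rw [chiFun, h2, zero_mul, add_zero]

theorem chiFun_one (α β : ZMod 2) : chiFun α β (1 : D k) = 0 := by
  rw [one_def]
  simp [chiFun]

theorem chiFun_c (α β : ZMod 2) : chiFun α β (c k) = 0 := by
  rw [c, chiFun, pa_half, mul_zero]

end Dih

variable {G : Type*} [Group G] {S : Subgroup G} {k : ℕ} {f : D k → D k → G} {w : G}

/-- The subgroup of index two of `S` given by the character `chiFun α β` on both factors and the value 1 on `w`. -/
def Mc (h : DWr S k f w) (α β : ZMod 2) : Subgroup G where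
  carrier := {g | (∃ a b, chiFun α β a + chiFun α β b = 0 ∧ g = f a b) ∨
    ∃ a b, chiFun α β a + chiFun α β b + 1 = 0 ∧ g = f a b * w}
  one_mem' := Or.inl ⟨1, 1, by rw [chiFun_one, add_zero], (f_one h).symm⟩
  mul_mem' := by
    have key : ∀ p q p' q' : ZMod 2, (p + q = 0 → p' + q' = 0 → p + p' + (q + q') = 0) ∧
      (p + q = 0 → p' + q' + 1 = 0 → p + p' + (q + q') + 1 = 0) ∧
      (p + q + 1 = 0 → p' + q' = 0 → p + q' + (q + p') + 1 = 0) ∧
      (p + q + 1 = 0 → p' + q' + 1 = 0 → p + q' + (q + p') = 0) := by decide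
    rintro _ _ (⟨a, b, hab, rfl⟩ | ⟨a, b, hab, rfl⟩) (⟨a', b', hab', rfl⟩ | ⟨a', b', hab', rfl⟩)
    · refine Or.inl ⟨_, _, ?_, h.f_mul _ _ _ _⟩
      rw [chiFun_mul, chiFun_mul]
      exact (key _ _ _ _).1 hab hab'
    · refine Or.inr ⟨_, _, ?_, f_mul_fw h _ _ _ _⟩
      rw [chiFun_mul, chiFun_mul]
      exact (key _ _ _ _).2.1 hab hab'
    · refine Or.inr ⟨_, _, ?_, fw_mul_f h _ _ _ _⟩
      rw [chiFun_mul, chiFun_mul]
      exact (key _ _ _ _).2.2.1 hab hab'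
    · refine Or.inl ⟨_, _, ?_, fw_mul_fw h _ _ _ _⟩
      rw [chiFun_mul, chiFun_mul]
      exact (key _ _ _ _).2.2.2 hab hab'
  inv_mem' := by
    have hi : ∀ a : D k, chiFun α β a⁻¹ = chiFun α β a := by
      intro a
      have h1 := chiFun_mul α β a⁻¹ a
      rw [inv_mul_cancel, chiFun_one] at h1
      generalize chiFun α β a⁻¹ = p at h1 ⊢
      generalize chiFun α β a = q at h1 ⊢
      revert p q; decide
    rintro _ (⟨a, b, hab, rfl⟩ | ⟨a, b, hab, rfl⟩)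
    · refine Or.inl ⟨_, _, ?_, f_inv h _ _⟩
      rw [hi, hi]; exact hab
    · refine Or.inr ⟨b⁻¹, a⁻¹, ?_, ?_⟩
      · rw [hi, hi]
        rw [add_comm (chiFun α β b)]; exact hab
      · rw [mul_inv_rev, w_inv h, f_inv h, h.w_f]

section

variable (h : DWr S k f w)

include h

theorem f_mem_Mc {α β : ZMod 2} {a b : D k} : f a b ∈ Mc h α β ↔ chiFun α β a + chiFun α β b = 0 := by
  constructor
  · rintro (⟨a', b', hab, e⟩ | ⟨a', b', hab, e⟩)
    · obtain ⟨rfl, rfl⟩ := (f_eq_iff h).1 e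
      exact hab
    · exact absurd e.symm (fw_ne h _ _ _ _)
  · intro hab
    exact Or.inl ⟨a, b, hab, rfl⟩

theorem fw_mem_Mc {α β : ZMod 2} {a b : D k} : f a b * w ∈ Mc h α β ↔ chiFun α β a + chiFun α β b + 1 = 0 := by
  constructor
  · rintro (⟨a', b', hab, e⟩ | ⟨a', b', hab, e⟩)
    · exact absurd e (fw_ne h _ _ _ _)
    · obtain ⟨rfl, rfl⟩ := (fw_eq_iff h).1 e
      exact hab
  · intro hab
    exact Or.inr ⟨a, b, hab, rfl⟩

theorem Mc_le {α β : ZMod 2} : Mc h α β ≤ S := by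
  rintro _ (⟨a, b, hab, rfl⟩ | ⟨a, b, hab, rfl⟩)
  · exact f_mem h a b
  · exact fw_mem h a b

theorem relIndex_Mc {α β : ZMod 2} : (Mc h α β).relIndex S = 2 := by
  have key : ∀ p q : ZMod 2, (p + q + 1 = 0 ∧ ¬ (p + q = 0)) ∨ ((p + q = 0) ∧ ¬ (p + q + 1 = 0)) := by decide
  rw [relIndex, index_eq_two_iff]
  refine ⟨⟨w, w_mem h⟩, ?_⟩
  rintro ⟨g, hg⟩
  change (g * w ∈ Mc h α β ∧ ¬ g ∈ Mc h α β) ∨ (g ∈ Mc h α β ∧ ¬ g * w ∈ Mc h α β)
  rcases mem_cases h hg with ⟨a, b, rfl⟩ | ⟨a, b, rfl⟩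
  · rw [fw_mem_Mc, f_mem_Mc]
    exact key _ _
  · rw [mul_assoc, h.w_w, mul_one, fw_mem_Mc, f_mem_Mc, or_comm]
    exact key _ _

/-- The involutions of the four-group `T`. -/
theorem T_cases {p q : D k} (hp : p = 1 ∨ p = c k) (hq : q = 1 ∨ q = c k) :
    f p q = 1 ∨ f p q = f (c k) 1 ∨ f p q = f 1 (c k) ∨ f p q = f (c k) (c k) := by
  rcases hp with rfl | rfl <;> rcases hq with rfl | rfl
  · left; exact f_one h
  · right; right; left; rfl
  · right; left; rfl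
  · right; right; right; rfl

/-- The subgroup `V_i × D`. -/
theorem VD_isPGroup (hS : IsPGroup 2 S) (i : ZMod (4 * 2 ^ k)) : IsPGroup 2 (((V i).prod ⊤).map (F h) : Subgroup G) := by
  apply hS.to_le
  rintro _ ⟨⟨a, b⟩, -, rfl⟩
  exact f_mem h a b

end

section Sylow

variable [Finite G] {P : Sylow 2 G} (h : DWr (P : Subgroup G) k f w)

include h

/-- Images of a commutator of elements with images in the base group. -/
theorem conj_comm_rot {g x y : G} (hx : g * x * g⁻¹ ∈ base h) (hy : g * y * g⁻¹ ∈ base h)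
    (h2 : (x * y * x⁻¹ * y⁻¹) * (x * y * x⁻¹ * y⁻¹) = 1) :
    ∃ p q : D k, (p = 1 ∨ p = c k) ∧ (q = 1 ∨ q = c k) ∧ g * (x * y * x⁻¹ * y⁻¹) * g⁻¹ = f p q := by
  obtain ⟨p, q, e1⟩ := hx
  obtain ⟨p', q', e2⟩ := hy
  obtain ⟨i, hi⟩ := comm_rot p p'
  obtain ⟨j, hj⟩ := comm_rot q q'
  have e : g * (x * y * x⁻¹ * y⁻¹) * g⁻¹ = f (r i) (r j) := by
    have e3 : g * (x * y * x⁻¹ * y⁻¹) * g⁻¹ = (g * x * g⁻¹) * (g * y * g⁻¹) * (g * x * g⁻¹)⁻¹ * (g * y * g⁻¹)⁻¹ := by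
      group
    rw [e3, e1, e2, f_inv h, f_inv h, h.f_mul, h.f_mul, h.f_mul, hi, hj]
  have e4 : f (r i) (r j) * f (r i) (r j) = 1 := by
    rw [← e]
    have e5 : g * (x * y * x⁻¹ * y⁻¹) * g⁻¹ * (g * (x * y * x⁻¹ * y⁻¹) * g⁻¹) =
      g * ((x * y * x⁻¹ * y⁻¹) * (x * y * x⁻¹ * y⁻¹)) * g⁻¹ := by group
    rw [e5, h2, mul_one, mul_inv_cancel]
  rw [f_sq_one_iff h] at e4
  exact ⟨r i, r j, rot_sq_one e4.1, rot_sq_one e4.2, e⟩

/-- `t'` as a commutator. -/
theorem t'_eq_comm (i : ZMod (4 * 2 ^ k)) : f 1 (sr i) * f 1 (x0 k) * (f 1 (sr i))⁻¹ * (f 1 (x0 k))⁻¹ = f 1 (c k) := by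
  rw [f_inv h, f_inv h, h.f_mul, h.f_mul, h.f_mul, comm_sr_x0, inv_one, mul_one, mul_one, mul_one]

theorem t'_sq : f 1 (c k) * f 1 (c k) = 1 := by
  rw [h.f_mul, c_mul_c, one_mul, f_one h]

/-- If `g` maps `1 × D` into the base group then `t'` is mapped to `t` or `t'`. -/
theorem conj_t'_cases {g : G} (hg : ∀ b, g * f 1 b * g⁻¹ ∈ base h) :
    g * f 1 (c k) * g⁻¹ = f (c k) 1 ∨ g * f 1 (c k) * g⁻¹ = f 1 (c k) := by
  obtain ⟨p, q, hp, hq, e⟩ := conj_comm_rot h (hg (sr 0)) (hg (x0 k)) (by rw [t'_eq_comm h]; exact t'_sq h)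
  rw [t'_eq_comm h] at e
  rcases T_cases h hp hq with h1 | h1 | h1 | h1
  · exfalso
    apply t'_ne_one h
    have e1 : f 1 (c k) = g⁻¹ * (g * f 1 (c k) * g⁻¹) * g := by group
    rw [e1, e, h1]; group
  · left; rw [e, h1]
  · right; rw [e, h1]
  · exfalso
    apply t'_not_conj_z h g
    rw [e, h1]

/-- If `g` maps `1 × D` into elements of the base group commuting with `(p, q)` then `p` or `q` is not a reflection. -/
theorem not_both_sr {g : G} (hg : ∀ b, g * f 1 b * g⁻¹ ∈ base h) {i j : ZMod (4 * 2 ^ k)}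
    (hc : ∀ b, g * f 1 b * g⁻¹ * f (sr i) (sr j) = f (sr i) (sr j) * (g * f 1 b * g⁻¹)) : False := by
  have h1 : ∀ b, ∃ p ∈ V i, ∃ q ∈ V j, g * f 1 b * g⁻¹ = f p q := by
    intro b
    obtain ⟨p, q, e⟩ := hg b
    have h2 := hc b
    rw [e, f_comm_iff h] at h2
    exact ⟨p, comm_sr_iff.1 h2.1, q, comm_sr_iff.1 h2.2, e⟩
  obtain ⟨p, hp, q, hq, e⟩ := h1 (sr 0)
  obtain ⟨p', hp', q', hq', e'⟩ := h1 (x0 k)
  have h3 : f p q * f p' q' = f p' q' * f p q := by
    rw [f_comm_iff h]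
    exact ⟨comm_of_mem_V hp hp', comm_of_mem_V hq hq'⟩
  rw [← e, ← e'] at h3
  have h4 : f 1 (sr 0) * f 1 (x0 k) = f 1 (x0 k) * f 1 (sr 0) := by
    have e := congrArg (fun x => g⁻¹ * x * g) h3
    simpa [mul_assoc] using e
  exact x0_ne_comm_sr 0 ((f_comm_iff h).1 h4).2.symm

/-- **(F2)** Extremal transfer for the non-central involutions `(sr i, e)`. -/
theorem exists_f_two (hG : ∀ φ : G →* ℤˣ, ∀ x, φ x = 1) (i : ZMod (4 * 2 ^ k)) {e : D k} (he : e = 1 ∨ e = c k) :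
    ∃ g : G, g * f 1 (c k) * g⁻¹ = f 1 (c k) ∧
      (g * f (sr i) e * g⁻¹ = f (c k) 1 ∨ g * f (sr i) e * g⁻¹ = f (c k) (c k)) ∧
      ∀ a ∈ V i, ∀ b, g * f a b * g⁻¹ ∈ base h := by
  have he2 : e * e = 1 := by
    rcases he with rfl | rfl
    · simp
    · exact c_mul_c
  have hce : ∀ b : D k, b * e = e * b := by
    rcases he with rfl | rfl
    · simp
    · intro b; exact (c_comm b).symm
  obtain ⟨g, hgu, hgR⟩ := Cfsg.Agent.SylowSp4.ExtTransfer.exists_extremal P (Mc h 1 1) (Mc_le h) (relIndex_Mc h)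
    (f (sr i) e) ((f_sq_one_iff h).2 ⟨sr_mul_self i, he2⟩) (fun φ => hG φ _)
    (((V i).prod ⊤).map (F h)) (VD_isPGroup h P.isPGroup' i) (by
      rintro _ ⟨⟨a, b⟩, ⟨ha, -⟩, rfl⟩
      change f a b * _ = _ * f a b
      rw [f_comm_iff h]
      exact ⟨comm_sr_iff.2 ha, hce b⟩)
  have hgS : ∀ a ∈ V i, ∀ b, g * f a b * g⁻¹ ∈ (P : Subgroup G) := by
    intro a ha b
    exact hgR _ ⟨(a, b), ⟨ha, mem_top _⟩, rfl⟩
  have hgB := conj_VD_le h hgS
  have hg1 : ∀ b, g * f 1 b * g⁻¹ ∈ base h := hgB 1 (V i).one_mem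
  -- the image of `u`
  have hu : g * f (sr i) e * g⁻¹ = f (c k) 1 ∨ g * f (sr i) e * g⁻¹ = f 1 (c k) ∨
      g * f (sr i) e * g⁻¹ = f (c k) (c k) := by
    obtain ⟨p, q, hpq⟩ := hgB (sr i) (sr_mem_V i) e
    rw [hpq, f_mem_Mc h] at hgu
    have h2 : f p q * f p q = 1 := by
      rw [← hpq]
      have e5 : g * f (sr i) e * g⁻¹ * (g * f (sr i) e * g⁻¹) = g * (f (sr i) e * f (sr i) e) * g⁻¹ := by group
      rw [e5, (f_sq_one_iff h).2 ⟨sr_mul_self i, he2⟩, mul_one, mul_inv_cancel]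
    rw [f_sq_one_iff h] at h2
    have hcomm : ∀ b, g * f 1 b * g⁻¹ * f p q = f p q * (g * f 1 b * g⁻¹) := by
      intro b
      have h3 : f 1 b * f (sr i) e = f (sr i) e * f 1 b := by
        rw [f_comm_iff h]
        exact ⟨by simp, hce b⟩
      rw [← hpq]
      have h4 : g * (f 1 b * f (sr i) e) * g⁻¹ = g * (f (sr i) e * f 1 b) * g⁻¹ := by rw [h3]
      simpa [mul_assoc] using h4
    have hp : p = 1 ∨ p = c k := by
      rcases eq_of_sq_one h2.1 with h3 | h3 | ⟨i', rfl⟩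
      · exact Or.inl h3
      · exact Or.inr h3
      · exfalso
        rw [chiFun_sr_one] at hgu
        rcases eq_of_sq_one h2.2 with rfl | rfl | ⟨j', rfl⟩
        · rw [chiFun_one] at hgu
          exact absurd hgu (by decide)
        · rw [chiFun_c] at hgu
          exact absurd hgu (by decide)
        · exact not_both_sr h hg1 hcomm
    have hq : q = 1 ∨ q = c k := by
      rcases eq_of_sq_one h2.2 with h3 | h3 | ⟨i', rfl⟩
      · exact Or.inl h3
      · exact Or.inr h3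
      · exfalso
        rw [chiFun_sr_one] at hgu
        rcases hp with rfl | rfl
        · rw [chiFun_one] at hgu
          exact absurd hgu (by decide)
        · rw [chiFun_c] at hgu
          exact absurd hgu (by decide)
    rw [hpq]
    rcases T_cases h hp hq with h3 | h3
    · exfalso
      have e1 : f (sr i) e = g⁻¹ * (g * f (sr i) e * g⁻¹) * g := by group
      rw [hpq, h3] at e1
      have e2 : f (sr i) e = 1 := by rw [e1]; group
      exact sr_ne_one _ ((f_eq_one_iff h).1 e2).1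
    · exact h3
  have hne : ∀ g' : G, g' * f 1 (c k) * g'⁻¹ = f 1 (c k) → g' * f (sr i) e * g'⁻¹ ≠ f 1 (c k) := by
    intro g' h1 h2
    have h3 : f (sr i) e = f 1 (c k) := by
      have e1 : f (sr i) e = g'⁻¹ * (g' * f (sr i) e * g'⁻¹) * g' := by group
      have e2 : f 1 (c k) = g'⁻¹ * (g' * f 1 (c k) * g'⁻¹) * g' := by group
      rw [e1, h2]
      conv_rhs => rw [e2, h1]
    exact sr_ne_one _ ((f_eq_iff h).1 h3).1
  rcases conj_t'_cases h hg1 with h1 | h1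
  · refine ⟨w * g, ?_, ?_, ?_⟩
    · have e1 : w * g * f 1 (c k) * (w * g)⁻¹ = w * (g * f 1 (c k) * g⁻¹) * w⁻¹ := by group
      rw [e1, h1, w_conj h]
    · have e1 : w * g * f (sr i) e * (w * g)⁻¹ = w * (g * f (sr i) e * g⁻¹) * w⁻¹ := by group
      have hne' := hne (w * g) (by
        have e1 : w * g * f 1 (c k) * (w * g)⁻¹ = w * (g * f 1 (c k) * g⁻¹) * w⁻¹ := by group
        rw [e1, h1, w_conj h])
      rw [e1] at hne' ⊢
      rcases hu with h2 | h2 | h2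
      · rw [h2, w_conj h] at hne'
        exact absurd rfl hne'
      · left; rw [h2, w_conj h]
      · right; rw [h2, w_conj h]
    · intro a ha b
      have e1 : w * g * f a b * (w * g)⁻¹ = w * (g * f a b * g⁻¹) * w⁻¹ := by group
      obtain ⟨p, q, e2⟩ := hgB a ha b
      rw [e1, e2, w_conj h]
      exact f_mem_base h q p
  · refine ⟨g, h1, ?_, hgB⟩
    rcases hu with h2 | h2 | h2
    · exact Or.inl h2
    · exact absurd h2 (hne g h1)
    · exact Or.inr h2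

/-- The twisted coordinates. -/
theorem twist (η : D k →* D k) (hη : ∀ a, η a = 1 ∨ η a = c k) :
    DWr (P : Subgroup G) k (fun a b => f (a * η b) (b * η a)) w := by
  have hηc : η (c k) = 1 := by
    rw [← x0_mul_x0, map_mul]
    rcases hη (x0 k) with h1 | h1
    · rw [h1, one_mul]
    · rw [h1, c_mul_c]
  have hcomm : ∀ a b, η a * b = b * η a := by
    intro a b
    rcases hη a with h1 | h1
    · rw [h1, one_mul, mul_one]
    · rw [h1]; exact c_comm b
  have hηη : ∀ a, η (η a) = 1 := by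
    intro a
    rcases hη a with h1 | h1
    · rw [h1, map_one]
    · rw [h1, hηc]
  have hinv : ∀ a, η a * η a = 1 := by
    intro a
    rcases hη a with h1 | h1
    · rw [h1, one_mul]
    · rw [h1, c_mul_c]
  -- the twist is an involution on pairs
  have hsur : ∀ a b : D k, ∃ a' b' : D k, a' * η b' = a ∧ b' * η a' = b := by
    intro a b
    refine ⟨a * η b, b * η a, ?_, ?_⟩
    · rw [map_mul, hηη, mul_one, mul_assoc, hinv, mul_one]
    · rw [map_mul, hηη, mul_one, mul_assoc, hinv, mul_one]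
  refine ⟨?_, ?_, h.w_w, ?_, ?_, ?_⟩
  · intro a b a' b'
    rw [h.f_mul, map_mul, map_mul]
    congr 1
    · rw [mul_assoc, ← mul_assoc (η b), hcomm b a', mul_assoc, mul_assoc]
    · rw [mul_assoc, ← mul_assoc (η a), hcomm a b', mul_assoc, mul_assoc]
  · intro a b e
    obtain ⟨h1, h2⟩ := h.f_inj _ _ e
    have ha : a = η b := by
      have h3 := congrArg (· * η b) h1
      simpa [mul_assoc, hinv] using h3
    have hb : b = η a := by
      have h3 := congrArg (· * η a) h2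
      simpa [mul_assoc, hinv] using h3
    have ha1 : a = 1 := by rw [ha, hb, hηη]
    refine ⟨ha1, ?_⟩
    rw [hb, ha1, map_one]
  · intro a b
    exact h.w_f _ _
  · intro a b
    exact h.w_ne _ _
  · intro g
    rw [h.mem_iff]
    constructor
    · rintro (⟨a, b, rfl⟩ | ⟨a, b, rfl⟩)
      · obtain ⟨a', b', h1, h2⟩ := hsur a b
        left; exact ⟨a', b', by rw [h1, h2]⟩
      · obtain ⟨a', b', h1, h2⟩ := hsur a b
        right; exact ⟨a', b', by rw [h1, h2]⟩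
    · rintro (⟨a, b, rfl⟩ | ⟨a, b, rfl⟩)
      · left; exact ⟨_, _, rfl⟩
      · right; exact ⟨_, _, rfl⟩

end Sylow

end Cfsg.Agent.LFourA.FTwo
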