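import Mathlib
import Cfsg.Agent.LFourA.FTwo
import Cfsg.Agent.TwoFusion.OddAut

/-!
# Fusion in a group with Sylow 2-subgroup `D wr 2`: normalisation of the types, the 3-elements (F3)
-/

set_option autoImplicit false

namespace Cfsg.Agent.LFourA.FThree

open DihedralGroup Cfsg.Agent.LFourA.Model Cfsg.Agent.LFourA.Base Cfsg.Agent.LFourA.Facts Subgroup
open Cfsg.Agent.Lib.GoldschmidtFusion Cfsg.Agent.LFourA.FOne Cfsg.Agent.LFourA.Defs Cfsg.Agent.LFourA.FTwo
open Cfsg.Agent.TwoFusion.OddAut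

section Dih

variable {k : ℕ}

theorem exists_half {i : ZMod (4 * 2 ^ k)} (hi : pa i = 0) : ∃ j, i = j + j := by
  have h1 : ((i.val : ℕ) : ZMod (4 * 2 ^ k)) = i := ZMod.natCast_zmod_val i
  rw [← h1, map_natCast, ZMod.natCast_eq_zero_iff] at hi
  obtain ⟨m, hm⟩ := hi
  refine ⟨((m : ℕ) : ZMod (4 * 2 ^ k)), ?_⟩
  rw [← h1, hm]
  push_cast
  ring

/-- Reflections of the same parity are conjugate. -/
theorem exists_conj_sr {i j : ZMod (4 * 2 ^ k)} (hij : pa i = pa j) : ∃ l, (r l : D k) * sr i * (r l)⁻¹ = sr j := by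
  have h1 : pa (i - j) = 0 := by
    rw [pa_sub, hij]
    generalize pa j = e
    revert e; decide
  obtain ⟨l, hl⟩ := exists_half h1
  refine ⟨l, ?_⟩
  rw [inv_r, r_mul_sr, sr_mul_r]
  congr 1
  linear_combination hl

theorem pa_conj_sr {a : D k} {i j : ZMod (4 * 2 ^ k)} (h : a * sr i * a⁻¹ = sr j) : pa i = pa j := by
  have h2 : ∀ e : ZMod 2, e + e = 0 := by decide
  rcases a with l | l
  · rw [inv_r, r_mul_sr, sr_mul_r] at h
    have h1 := DihedralGroup.sr.inj h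
    rw [← h1, map_add, RingHom.map_neg, pa_sub, CharTwo.neg_eq]
    linear_combination -(h2 (pa l))
  · rw [inv_sr, sr_mul_sr, r_mul_sr] at h
    have h1 := DihedralGroup.sr.inj h
    rw [← h1, pa_sub, pa_sub]
    linear_combination -(h2 (pa l))

theorem pa_src (i : ZMod (4 * 2 ^ k)) : ∃ j, (sr i : D k) * c k = sr j ∧ pa j = pa i := by
  refine ⟨_, sr_c i, ?_⟩
  rw [map_add, pa_half, add_zero]

/-- Automorphisms of odd order of `D k` are trivial. -/
theorem odd_aut {σ : D k → D k} (hσ : IsOddAut (⊤ : Subgroup (D k)) σ) (b : D k) : σ b = b := by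
  have hexp : ∀ x : D k, x ^ (2 ^ (k + 3)) = 1 := by
    intro x
    have h1 : Nat.card (D k) = 2 ^ (k + 3) := by rw [card_D, pow_add]; ring
    rw [← h1]
    exact pow_card_eq_one'
  have hr1 : ∃ u, σ (r 1) = r u := by
    rcases hs : σ (r 1) with u | v
    · exact ⟨u, rfl⟩
    · exfalso
      have h1 : σ (r 1 * r 1) = 1 := by
        rw [hσ.mul _ (mem_top _) _ (mem_top _), hs, sr_mul_self]
      have h2 := hσ.inj (mem_top _) (mem_top _) (h1.trans hσ.one.symm)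
      rw [r_mul_r, one_def] at h2
      have h3 := DihedralGroup.r.inj h2
      have h4 : ((2 : ℕ) : ZMod (4 * 2 ^ k)) = 0 := by
        push_cast
        linear_combination h3
      rw [ZMod.natCast_eq_zero_iff] at h4
      have h5 := Nat.le_of_dvd (by norm_num) h4
      have h6 : 0 < 2 ^ k := by positivity
      omega
  obtain ⟨u, hu⟩ := hr1
  have hr : σ (r 1) = r 1 := by
    apply hσ.fix_of_eq_zpow_mul (mem_top _) (mem_top _) (j := (u.val : ℤ)) (c := 1) (m := k + 3) _ hσ.one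
      (Commute.one_right _) hexp
    rw [hu, mul_one, zpow_natCast, r_one_pow, ZMod.natCast_zmod_val]
  have hrj : ∀ j, σ (r j) = r j := by
    intro j
    have h1 : (r j : D k) = r 1 ^ j.val := by rw [r_one_pow, ZMod.natCast_zmod_val]
    rw [h1, hσ.pow (mem_top _), hr]
  have hs0 : ∃ v, σ (sr 0) = sr v := by
    rcases hs : σ (sr 0) with u | v
    · exfalso
      have h1 : σ (sr 0) = σ (r u) := by rw [hs, hrj]
      have h2 := hσ.inj (mem_top _) (mem_top _) h1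
      exact sr_ne_r _ _ h2
    · exact ⟨v, rfl⟩
  obtain ⟨v, hv⟩ := hs0
  have h1 : σ (sr 0) = sr 0 * r v := by rw [hv, sr_mul_r, zero_add]
  have h2 := hσ.fix_of_eq_mul (mem_top _) (mem_top _) h1 (hrj v) (hexp _)
  rw [h2, mul_one] at h1
  rcases b with j | j
  · exact hrj j
  · have h3 : (sr j : D k) = sr 0 * r j := by rw [sr_mul_r, zero_add]
    rw [h3, hσ.mul _ (mem_top _) _ (mem_top _), h1, hrj]

end Dih

variable {G : Type*} [Group G] {k : ℕ} {f : D k → D k → G} {w : G}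

/-- The normalised types of the involutions `(sr i, 1)`, `(sr i, c)`. -/
structure Typ (f : D k → D k → G) : Prop where
  typ_t : ∀ i, IsConj (f (sr i) 1) (f (c k) 1)
  typ_z : ∀ i, IsConj (f (sr i) (c k)) (f (c k) (c k))

section Sylow

variable [Finite G] {P : Sylow 2 G} (h : DWr (P : Subgroup G) k f w)

include h

theorem isConj_of_pa {i j : ZMod (4 * 2 ^ k)} (hij : pa i = pa j) (b : D k) : IsConj (f (sr i) b) (f (sr j) b) := by
  obtain ⟨l, hl⟩ := exists_conj_sr hij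
  rw [isConj_iff]
  exact ⟨f (r l) 1, by rw [f_conj h, hl]; simp⟩

/-- **The twist**: the types may be normalised. -/
theorem exists_typ (hG : ∀ φ : G →* ℤˣ, ∀ x, φ x = 1) :
    ∃ f' : D k → D k → G, DWr (P : Subgroup G) k f' w ∧ Typ f' := by
  have key : ∀ i : ZMod (4 * 2 ^ k), ∃ e : ZMod 2, IsConj (f (sr i) (cc k e)) (f (c k) 1) ∧
      IsConj (f (sr i) (c k * cc k e)) (f (c k) (c k)) := by
    intro i
    obtain ⟨g, h1, h2, -⟩ := exists_f_two h hG i (e := 1) (Or.inl rfl)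
    have h3 : f (sr i) (c k) = f (sr i) 1 * f 1 (c k) := by rw [h.f_mul, mul_one, one_mul]
    have h4 : g * f (sr i) (c k) * g⁻¹ = (g * f (sr i) 1 * g⁻¹) * (g * f 1 (c k) * g⁻¹) := by rw [h3]; group
    rcases h2 with h2 | h2
    · refine ⟨0, ?_, ?_⟩
      · rw [cc_zero, isConj_iff]; exact ⟨g, h2⟩
      · rw [cc_zero, mul_one, isConj_iff]
        exact ⟨g, by rw [h4, h1, h2, t_mul_t' h]⟩
    · refine ⟨1, ?_, ?_⟩
      · rw [cc_one, isConj_iff]
        refine ⟨g, ?_⟩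
        rw [h4, h1, h2, h.f_mul, mul_one, c_mul_c]
      · rw [cc_one, c_mul_c, isConj_iff]; exact ⟨g, h2⟩
  obtain ⟨α, hα1, hα2⟩ := key 0
  obtain ⟨β, hβ1, hβ2⟩ := key 1
  have hp0 : pa (0 : ZMod (4 * 2 ^ k)) = 0 := map_zero _
  have hp1 : pa (1 : ZMod (4 * 2 ^ k)) = 1 := map_one _
  refine ⟨_, twist h (chi α β) (chi_cases α β), ?_, ?_⟩
  · intro i
    simp only [map_one, mul_one, one_mul, chi_c]
    rcases zmod2_cases (pa i) with hi | hi
    · rw [chi_sr_even _ _ hi]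
      exact (isConj_of_pa h (hi.trans hp0.symm) _).trans hα1
    · rw [chi_sr_odd _ _ hi]
      exact (isConj_of_pa h (hi.trans hp1.symm) _).trans hβ1
  · intro i
    simp only [mul_one, chi_c]
    rcases zmod2_cases (pa i) with hi | hi
    · rw [chi_sr_even _ _ hi]
      exact (isConj_of_pa h (hi.trans hp0.symm) _).trans hα2
    · rw [chi_sr_odd _ _ hi]
      exact (isConj_of_pa h (hi.trans hp1.symm) _).trans hβ2

theorem not_isConj_tz : ¬ IsConj (f (c k) 1) (f (c k) (c k)) := by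
  rw [isConj_iff]
  rintro ⟨g, hg⟩
  exact t_not_conj_z h g hg

theorem swap_isConj (a b : D k) : IsConj (f a b) (f b a) := by
  rw [isConj_iff]
  exact ⟨w, w_conj h a b⟩

theorem c_sr_z (ht : Typ f) (i : ZMod (4 * 2 ^ k)) : IsConj (f (c k) (sr i)) (f (c k) (c k)) :=
  (swap_isConj h _ _).trans (ht.typ_z i)

theorem one_sr_t (ht : Typ f) (i : ZMod (4 * 2 ^ k)) : IsConj (f 1 (sr i)) (f (c k) 1) :=
  (swap_isConj h _ _).trans (ht.typ_t i)

theorem t'_t : IsConj (f 1 (c k)) (f (c k) 1) := swap_isConj h _ _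

/-- An element of the base group which is conjugate to `t`, with product with `t` conjugate to `t`, and which is not
in `T`, is a pair `(sr j, 1)` or a pair of reflections. -/
theorem sr_or_of_typ {p : G} (hp : p ∈ base h) (hp2 : p * p = 1) (hpT : p ≠ 1) (hpt : p ≠ f (c k) 1)
    (h1 : IsConj p (f (c k) 1)) (h2 : IsConj (p * f (c k) 1) (f (c k) 1)) (ht : Typ f) :
    (∃ j, p = f (sr j) 1) ∨ ∃ i j, p = f (sr i) (sr j) := by
  obtain ⟨a, b, rfl⟩ := hp
  rw [f_sq_one_iff h] at hp2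
  have htz := not_isConj_tz h
  rw [h.f_mul, mul_one] at h2
  rcases eq_of_sq_one hp2.1 with rfl | rfl | ⟨i, rfl⟩ <;> rcases eq_of_sq_one hp2.2 with rfl | rfl | ⟨j, rfl⟩
  · exact absurd (f_one h) hpT
  · rw [one_mul] at h2
    exact absurd h2.symm htz
  · rw [one_mul] at h2
    exact absurd (h2.symm.trans (c_sr_z h ht j)) htz
  · exact absurd rfl hpt
  · exact absurd h1.symm htz
  · exact absurd (h1.symm.trans (c_sr_z h ht j)) htz
  · exact Or.inl ⟨i, rfl⟩
  · exact absurd (h1.symm.trans (ht.typ_z i)) htz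
  · exact Or.inr ⟨i, j, rfl⟩

/-- The order of `V_i × D`. -/
theorem card_VD (i : ZMod (4 * 2 ^ k)) : Nat.card (((V i).prod ⊤).map (F h) : Subgroup G) = 4 * (8 * 2 ^ k) := by
  rw [← Nat.card_congr (((V i).prod (⊤ : Subgroup (D k))).equivMapOfInjective _ (F_injective h)).toEquiv,
    Nat.card_congr ((V i).prodEquiv (⊤ : Subgroup (D k))).toEquiv, Nat.card_prod, card_V, Subgroup.card_top, card_D]

theorem card_DV (i : ZMod (4 * 2 ^ k)) :
    Nat.card (((⊤ : Subgroup (D k)).prod (V i)).map (F h) : Subgroup G) = 4 * (8 * 2 ^ k) := by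
  rw [← Nat.card_congr (((⊤ : Subgroup (D k)).prod (V i)).equivMapOfInjective _ (F_injective h)).toEquiv,
    Nat.card_congr ((⊤ : Subgroup (D k)).prodEquiv (V i)).toEquiv, Nat.card_prod, card_V, Subgroup.card_top, card_D,
    mul_comm]

/-- 2-subgroups of `C(V_i × 1)` containing `V_i × 1` have order at most `4 |D|`. -/
theorem card_le_of_cent (ht : Typ f) {i : ZMod (4 * 2 ^ k)} {R : Subgroup G} (hR : IsPGroup 2 R)
    (hR1 : ∀ x ∈ R, x * f (c k) 1 = f (c k) 1 * x) (hR2 : ∀ x ∈ R, x * f (sr i) 1 = f (sr i) 1 * x)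
    (hsR : f (sr i) 1 ∈ R) : Nat.card R ≤ 4 * (8 * 2 ^ k) := by
  obtain ⟨g, hg, hgR⟩ := exists_conj_base h hR hR1
  have hgt : g * f (c k) 1 * g⁻¹ = f (c k) 1 := by rw [hg, mul_inv_cancel_right]
  have hback : ∀ x y : G, g * x * g⁻¹ = g * y * g⁻¹ → x = y := by
    intro x y e
    simpa using e
  have hp := hgR _ hsR
  have hp2 : g * f (sr i) 1 * g⁻¹ * (g * f (sr i) 1 * g⁻¹) = 1 := by
    have e : g * f (sr i) 1 * g⁻¹ * (g * f (sr i) 1 * g⁻¹) = g * (f (sr i) 1 * f (sr i) 1) * g⁻¹ := by group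
    rw [e, (f_sq_one_iff h).2 ⟨sr_mul_self i, one_mul 1⟩, mul_one, mul_inv_cancel]
  have hp1 : g * f (sr i) 1 * g⁻¹ ≠ 1 := by
    intro e
    have e1 := hback (f (sr i) 1) 1 (by rw [e, mul_one, mul_inv_cancel])
    exact sr_ne_one _ ((f_eq_one_iff h).1 e1).1
  have hpt : g * f (sr i) 1 * g⁻¹ ≠ f (c k) 1 := by
    intro e
    have e1 := hback (f (sr i) 1) (f (c k) 1) (by rw [e, hgt])
    exact sr_ne_c _ ((f_eq_iff h).1 e1).1
  have hc1 : IsConj (g * f (sr i) 1 * g⁻¹) (f (c k) 1) :=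
    (isConj_iff.2 ⟨g, rfl⟩ : IsConj (f (sr i) 1) (g * f (sr i) 1 * g⁻¹)).symm.trans (ht.typ_t i)
  have hc2 : IsConj (g * f (sr i) 1 * g⁻¹ * f (c k) 1) (f (c k) 1) := by
    have e : g * f (sr i) 1 * g⁻¹ * f (c k) 1 = g * f (sr i * c k) 1 * g⁻¹ := by
      have e1 : f (sr i * c k) 1 = f (sr i) 1 * f (c k) 1 := by rw [h.f_mul, mul_one]
      rw [e1]
      conv_lhs => rw [← hgt]
      group
    rw [e]
    refine (isConj_iff.2 ⟨g, rfl⟩ : IsConj (f (sr i * c k) 1) (g * f (sr i * c k) 1 * g⁻¹)).symm.trans ?_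
    rw [sr_c]
    exact ht.typ_t _
  have hcomm : ∀ x ∈ R, g * x * g⁻¹ * (g * f (sr i) 1 * g⁻¹) = g * f (sr i) 1 * g⁻¹ * (g * x * g⁻¹) := by
    intro x hx
    have h4 : g * (x * f (sr i) 1) * g⁻¹ = g * (f (sr i) 1 * x) * g⁻¹ := by rw [hR2 x hx]
    simpa [mul_assoc] using h4
  rw [← card_map_conj R g]
  rcases sr_or_of_typ h hp hp2 hp1 hpt hc1 hc2 ht with ⟨j, hj⟩ | ⟨j, j', hj⟩
  · rw [← card_VD h j]
    apply Subgroup.card_le_of_le
    rintro _ ⟨x, hx, rfl⟩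
    obtain ⟨a, b, e⟩ := hgR x hx
    have h3 := hcomm x hx
    rw [hj, e, f_comm_iff h] at h3
    exact ⟨(a, b), ⟨comm_sr_iff.1 h3.1, mem_top _⟩, e.symm⟩
  · rw [← card_VD h j]
    apply Subgroup.card_le_of_le
    rintro _ ⟨x, hx, rfl⟩
    obtain ⟨a, b, e⟩ := hgR x hx
    have h3 := hcomm x hx
    rw [hj, e, f_comm_iff h] at h3
    exact ⟨(a, b), ⟨comm_sr_iff.1 h3.1, mem_top _⟩, e.symm⟩

/-- `V_i × D` is a Sylow subgroup of every subgroup between it and `C(V_i × 1)`. -/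
theorem not_dvd_VD (ht : Typ f) {i : ZMod (4 * 2 ^ k)} {N : Subgroup G} (hN : ((V i).prod ⊤).map (F h) ≤ N)
    (hN1 : ∀ x ∈ N, x * f (c k) 1 = f (c k) 1 * x) (hN2 : ∀ x ∈ N, x * f (sr i) 1 = f (sr i) 1 * x) :
    ¬ 2 ∣ (((V i).prod ⊤).map (F h)).relIndex N := by
  obtain ⟨R, hQR, hRN, hR, hRi⟩ := exists_sylow_in (p := 2) hN (VD_isPGroup h P.isPGroup' i)
  have hle := card_le_of_cent h ht hR (fun x hx => hN1 x (hRN hx)) (fun x hx => hN2 x (hRN hx))
    (hQR ⟨(sr i, 1), ⟨sr_mem_V i, mem_top _⟩, rfl⟩)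
  have e : ((V i).prod ⊤).map (F h) = R := by
    apply Subgroup.eq_of_le_of_card_ge hQR
    rw [card_VD h]
    exact hle
  rw [e]
  exact hRi

end Sylow

end Cfsg.Agent.LFourA.FThree
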