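import Mathlib
import Cfsg.Agent.LFourA.FThree

/-!
# Existence of the 3-elements `ρ_i` (F3)
-/

set_option autoImplicit false

namespace Cfsg.Agent.LFourA.RhoExists

open DihedralGroup Cfsg.Agent.LFourA.Model Cfsg.Agent.LFourA.Base Cfsg.Agent.LFourA.Facts Subgroup
open Cfsg.Agent.Lib.GoldschmidtFusion Cfsg.Agent.LFourA.FOne Cfsg.Agent.LFourA.Defs Cfsg.Agent.LFourA.FTwo
open Cfsg.Agent.TwoFusion.OddAut Cfsg.Agent.LFourA.FThree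

variable {G : Type*} [Group G] {k : ℕ} {f : D k → D k → G} {w : G}

/-- An element of `C(t')` acting as a 3-cycle on `V_i × 1`. -/
structure Cyc (f : D k → D k → G) (i : ZMod (4 * 2 ^ k)) (ρ : G) : Prop where
  comm : ρ * f 1 (c k) = f 1 (c k) * ρ
  t_s : ρ * f (c k) 1 * ρ⁻¹ = f (sr i) 1
  s_sc : ρ * f (sr i) 1 * ρ⁻¹ = f (sr i * c k) 1
  sc_t : ρ * f (sr i * c k) 1 * ρ⁻¹ = f (c k) 1

/-- `ρ` permutes `V_i × 1`. -/
theorem Cyc.perm {i : ZMod (4 * 2 ^ k)} {ρ : G} (hρ : Cyc f i ρ) (h1 : f 1 1 = 1) {v : D k} (hv : v ∈ V i) :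
    ∃ v' ∈ V i, ρ * f v 1 * ρ⁻¹ = f v' 1 ∧ (v = 1 → v' = 1) := by
  rcases hv with rfl | rfl | rfl | rfl
  · exact ⟨1, (V i).one_mem, by rw [h1, mul_one, mul_inv_cancel], fun _ => rfl⟩
  · exact ⟨_, sr_mem_V i, hρ.t_s, fun e => absurd e c_ne_one⟩
  · exact ⟨_, src_mem_V i, hρ.s_sc, fun e => absurd e (sr_ne_one i)⟩
  · exact ⟨_, c_mem_V i, hρ.sc_t, fun e => absurd e (src_ne_one i)⟩

section Sylow

variable [Finite G] {P : Sylow 2 G} (h : DWr (P : Subgroup G) k f w)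

include h

/-- Step A: an element of `C(t')` moving `(sr i, 1)` to `t` and `t` to some `(sr j, 1)`. -/
theorem stepA (hG : ∀ φ : G →* ℤˣ, ∀ x, φ x = 1) (ht : Typ f) (i : ZMod (4 * 2 ^ k)) :
    ∃ (g : G) (j : ZMod (4 * 2 ^ k)), g * f 1 (c k) * g⁻¹ = f 1 (c k) ∧ g * f (sr i) 1 * g⁻¹ = f (c k) 1 ∧
      g * f (c k) 1 * g⁻¹ = f (sr j) 1 := by
  have htz := not_isConj_tz h
  obtain ⟨g, h1, h2, h3⟩ := exists_f_two h hG i (e := 1) (Or.inl rfl)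
  have h2' : g * f (sr i) 1 * g⁻¹ = f (c k) 1 := by
    rcases h2 with h2 | h2
    · exact h2
    · exact absurd ((ht.typ_t i).symm.trans (isConj_iff.2 ⟨g, h2⟩)) htz
  refine ⟨g, ?_⟩
  have hback : ∀ x y : G, g * x * g⁻¹ = g * y * g⁻¹ → x = y := by
    intro x y e
    simpa using e
  obtain ⟨p, q, hpq⟩ := h3 (c k) (c_mem_V i) 1
  have hpq2 : f p q * f p q = 1 := by
    rw [← hpq]
    have e : g * f (c k) 1 * g⁻¹ * (g * f (c k) 1 * g⁻¹) = g * (f (c k) 1 * f (c k) 1) * g⁻¹ := by group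
    rw [e, (f_sq_one_iff h).2 ⟨c_mul_c, one_mul 1⟩, mul_one, mul_inv_cancel]
  have htp : IsConj (f p q) (f (c k) 1) := (isConj_iff.2 ⟨g, hpq⟩ : IsConj (f (c k) 1) (f p q)).symm
  rw [f_sq_one_iff h] at hpq2
  -- `q` is not a reflection
  have hcomm : ∀ b, g * f 1 b * g⁻¹ * f p q = f p q * (g * f 1 b * g⁻¹) := by
    intro b
    have h3 : f 1 b * f (c k) 1 = f (c k) 1 * f 1 b := by
      rw [f_comm_iff h]; simp
    rw [← hpq]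
    have h4 : g * (f 1 b * f (c k) 1) * g⁻¹ = g * (f (c k) 1 * f 1 b) * g⁻¹ := by rw [h3]
    simpa [mul_assoc] using h4
  have hq : q = 1 ∨ q = c k := by
    rcases eq_of_sq_one hpq2.2 with h4 | h4 | ⟨j, rfl⟩
    · exact Or.inl h4
    · exact Or.inr h4
    · exfalso
      -- the second coordinates commute
      have h5 : ∀ b, ∃ p', ∃ q' ∈ V j, g * f 1 b * g⁻¹ = f p' q' := by
        intro b
        obtain ⟨p', q', e⟩ := h3 1 (V i).one_mem b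
        have h6 := hcomm b
        rw [e, f_comm_iff h] at h6
        exact ⟨p', q', comm_sr_iff.1 h6.2, e⟩
      obtain ⟨p1, q1, hq1, e1⟩ := h5 (sr 0)
      obtain ⟨p2, q2, hq2, e2⟩ := h5 (x0 k)
      have h6 : g * f 1 (c k) * g⁻¹ = f (p1 * p2 * p1⁻¹ * p2⁻¹) (q1 * q2 * q1⁻¹ * q2⁻¹) := by
        rw [← t'_eq_comm h 0]
        have e3 : g * (f 1 (sr 0) * f 1 (x0 k) * (f 1 (sr 0))⁻¹ * (f 1 (x0 k))⁻¹) * g⁻¹ =
          (g * f 1 (sr 0) * g⁻¹) * (g * f 1 (x0 k) * g⁻¹) * (g * f 1 (sr 0) * g⁻¹)⁻¹ * (g * f 1 (x0 k) * g⁻¹)⁻¹ := by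
          group
        rw [e3, e1, e2, f_inv h, f_inv h, h.f_mul, h.f_mul, h.f_mul]
      rw [h1, f_eq_iff h] at h6
      have h7 := h6.2
      rw [comm_of_mem_V hq1 hq2, mul_inv_cancel_right, mul_inv_cancel] at h7
      exact c_ne_one h7
  rcases eq_of_sq_one hpq2.1 with hp | hp | ⟨j, rfl⟩
  · exfalso
    rcases T_cases h (Or.inl hp) hq with e | e | e | e
    · have e1 := hback (f (c k) 1) 1 (by rw [hpq, e, mul_one, mul_inv_cancel])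
      exact t_ne_one h e1
    · have e1 := hback (f (c k) 1) (f (sr i) 1) (by rw [hpq, e, h2'])
      exact sr_ne_c _ ((f_eq_iff h).1 e1).1.symm
    · have e1 := hback (f (c k) 1) (f 1 (c k)) (by rw [hpq, e, h1])
      exact c_ne_one ((f_eq_iff h).1 e1).1
    · exact t_not_conj_z h g (by rw [hpq, e])
  · exfalso
    rcases T_cases h (Or.inr hp) hq with e | e | e | e
    · have e1 := hback (f (c k) 1) 1 (by rw [hpq, e, mul_one, mul_inv_cancel])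
      exact t_ne_one h e1
    · have e1 := hback (f (c k) 1) (f (sr i) 1) (by rw [hpq, e, h2'])
      exact sr_ne_c _ ((f_eq_iff h).1 e1).1.symm
    · have e1 := hback (f (c k) 1) (f 1 (c k)) (by rw [hpq, e, h1])
      exact c_ne_one ((f_eq_iff h).1 e1).1
    · exact t_not_conj_z h g (by rw [hpq, e])
  · rcases hq with rfl | rfl
    · exact ⟨j, h1, h2', hpq⟩
    · exact absurd (htp.symm.trans (ht.typ_z j)) htz

/-- Step B: an element acting as a 3-cycle. -/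
theorem stepB (hG : ∀ φ : G →* ℤˣ, ∀ x, φ x = 1) (ht : Typ f) (i : ZMod (4 * 2 ^ k)) : ∃ ρ, Cyc f i ρ := by
  obtain ⟨g, j, h1, h2, h3⟩ := stepA h hG ht i
  -- action of `m = f x0 1`
  have hm : ∀ l : ZMod (4 * 2 ^ k), f (x0 k) 1 * f (sr l) 1 * (f (x0 k) 1)⁻¹ = f (sr l * c k) 1 := by
    intro l
    rw [f_conj h, x0_sr]; simp
  have hmc : f (x0 k) 1 * f (c k) 1 * (f (x0 k) 1)⁻¹ = f (c k) 1 := by
    rw [f_conj h, ← c_comm, mul_inv_cancel_right]; simp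
  have hmt : f (x0 k) 1 * f 1 (c k) = f 1 (c k) * f (x0 k) 1 := by
    rw [f_comm_iff h]; simp
  have hgt' : g * f 1 (c k) = f 1 (c k) * g := by
    rw [← mul_inv_eq_iff_eq_mul]; exact h1
  have hgt'' : g⁻¹ * f 1 (c k) = f 1 (c k) * g⁻¹ := by
    rw [inv_mul_eq_iff_eq_mul, ← mul_assoc, hgt', mul_inv_cancel_right]
  have hgs : g⁻¹ * f (c k) 1 * g = f (sr i) 1 := by rw [← h2]; group
  have hgsj : g⁻¹ * f (sr j) 1 * g = f (c k) 1 := by rw [← h3]; group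
  -- action of `m' = g⁻¹ m g`
  have hm's : (g⁻¹ * f (x0 k) 1 * g) * f (sr i) 1 * (g⁻¹ * f (x0 k) 1 * g)⁻¹ = f (sr i) 1 := by
    have e : (g⁻¹ * f (x0 k) 1 * g) * f (sr i) 1 * (g⁻¹ * f (x0 k) 1 * g)⁻¹ =
      g⁻¹ * (f (x0 k) 1 * (g * f (sr i) 1 * g⁻¹) * (f (x0 k) 1)⁻¹) * g := by group
    rw [e, h2, hmc, hgs]
  have hm't : (g⁻¹ * f (x0 k) 1 * g) * f (c k) 1 * (g⁻¹ * f (x0 k) 1 * g)⁻¹ = f (sr i * c k) 1 := by
    have e : (g⁻¹ * f (x0 k) 1 * g) * f (c k) 1 * (g⁻¹ * f (x0 k) 1 * g)⁻¹ =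
      g⁻¹ * (f (x0 k) 1 * (g * f (c k) 1 * g⁻¹) * (f (x0 k) 1)⁻¹) * g := by group
    rw [e, h3, hm]
    have e2 : f (sr j * c k) 1 = f (c k) 1 * f (sr j) 1 := by rw [h.f_mul, c_comm, mul_one]
    have e3 : g⁻¹ * (f (c k) 1 * f (sr j) 1) * g = (g⁻¹ * f (c k) 1 * g) * (g⁻¹ * f (sr j) 1 * g) := by group
    rw [e2, e3, hgs, hgsj, h.f_mul, mul_one]
  have hm'sc : (g⁻¹ * f (x0 k) 1 * g) * f (sr i * c k) 1 * (g⁻¹ * f (x0 k) 1 * g)⁻¹ = f (c k) 1 := by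
    have e1 : f (sr i * c k) 1 = f (sr i) 1 * f (c k) 1 := by rw [h.f_mul, mul_one]
    have e2 : ∀ a x y : G, a * (x * y) * a⁻¹ = (a * x * a⁻¹) * (a * y * a⁻¹) := by intros; group
    rw [e1, e2, hm's, hm't, h.f_mul, ← mul_assoc, sr_mul_self, one_mul, mul_one]
  have e4 : ∀ a b x : G, (a * b) * x * (a * b)⁻¹ = a * (b * x * b⁻¹) * a⁻¹ := by intros; group
  refine ⟨f (x0 k) 1 * (g⁻¹ * f (x0 k) 1 * g), ?_, ?_, ?_, ?_⟩
  · have h5 : g⁻¹ * f (x0 k) 1 * g * f 1 (c k) = f 1 (c k) * (g⁻¹ * f (x0 k) 1 * g) := by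
      calc g⁻¹ * f (x0 k) 1 * g * f 1 (c k) = g⁻¹ * f (x0 k) 1 * (g * f 1 (c k)) := by group
        _ = g⁻¹ * (f (x0 k) 1 * f 1 (c k)) * g := by rw [hgt']; group
        _ = (g⁻¹ * f 1 (c k)) * f (x0 k) 1 * g := by rw [hmt]; group
        _ = f 1 (c k) * (g⁻¹ * f (x0 k) 1 * g) := by rw [hgt'']; group
    rw [mul_assoc, h5, ← mul_assoc, hmt, mul_assoc]
  · rw [e4, hm't]
    have e5 : (sr i : D k) * c k = sr (i + ((2 * 2 ^ k : ℕ) : ZMod (4 * 2 ^ k))) := sr_c i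
    rw [e5, hm, ← e5, mul_assoc, c_mul_c, mul_one]
  · rw [e4, hm's, hm]
  · rw [e4, hm'sc, hmc]

/-- The centraliser of `V_i × ⟨c⟩`. -/
theorem mem_C1 {i : ZMod (4 * 2 ^ k)} {x : G} :
    x ∈ centralizer ({f (c k) 1, f (sr i) 1, f 1 (c k)} : Set G) ↔
      x * f (c k) 1 = f (c k) 1 * x ∧ x * f (sr i) 1 = f (sr i) 1 * x ∧ x * f 1 (c k) = f 1 (c k) * x := by
  rw [mem_centralizer_iff]
  constructor
  · intro hx
    exact ⟨(hx _ (by simp)).symm, (hx _ (by simp)).symm, (hx _ (by simp)).symm⟩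
  · rintro ⟨h1, h2, h3⟩ y hy
    simp only [Set.mem_insert_iff, Set.mem_singleton_iff] at hy
    rcases hy with rfl | rfl | rfl
    · exact h1.symm
    · exact h2.symm
    · exact h3.symm

theorem VD_le_C1 (i : ZMod (4 * 2 ^ k)) :
    ((V i).prod ⊤).map (F h) ≤ centralizer ({f (c k) 1, f (sr i) 1, f 1 (c k)} : Set G) := by
  rintro _ ⟨⟨a, b⟩, ⟨ha, -⟩, rfl⟩
  rw [mem_C1 h]
  change f a b * _ = _ * f a b ∧ f a b * _ = _ * f a b ∧ f a b * _ = _ * f a b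
  refine ⟨?_, ?_, ?_⟩
  · exact (f_comm_center h (Or.inr rfl) (Or.inl rfl)).symm
  · rw [f_comm_iff h]
    exact ⟨comm_sr_iff.2 ha, by simp⟩
  · exact (f_comm_center h (Or.inl rfl) (Or.inr rfl)).symm

theorem src_eq (i : ZMod (4 * 2 ^ k)) : f (sr i * c k) 1 = f (sr i) 1 * f (c k) 1 := by rw [h.f_mul, mul_one]

/-- Step D: the 3-cycle may be chosen in the normaliser of `V_i × D`. -/
theorem stepD (hG : ∀ φ : G →* ℤˣ, ∀ x, φ x = 1) (ht : Typ f) (i : ZMod (4 * 2 ^ k)) :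
    ∃ ρ, Cyc f i ρ ∧ ∀ a ∈ V i, ∀ b, ρ * f a b * ρ⁻¹ ∈ ((V i).prod ⊤).map (F h) := by
  obtain ⟨ρ, hρ⟩ := stepB h hG ht i
  set Q := ((V i).prod ⊤).map (F h) with hQ
  set C := centralizer ({f (c k) 1, f (sr i) 1, f 1 (c k)} : Set G) with hC
  have hQC : Q ≤ C := VD_le_C1 h i
  have hρ' : ∀ x y : G, x * y = y * x → (ρ * x * ρ⁻¹) * (ρ * y * ρ⁻¹) = (ρ * y * ρ⁻¹) * (ρ * x * ρ⁻¹) := by
    intro x y e
    have e1 : (ρ * x * ρ⁻¹) * (ρ * y * ρ⁻¹) = ρ * (x * y) * ρ⁻¹ := by group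
    have e2 : (ρ * y * ρ⁻¹) * (ρ * x * ρ⁻¹) = ρ * (y * x) * ρ⁻¹ := by group
    rw [e1, e2, e]
  have hmap : Q.map (MulAut.conj ρ).toMonoidHom ≤ C := by
    rintro _ ⟨x, hx, rfl⟩
    obtain ⟨h1, h2, h3⟩ := (mem_C1 h).1 (hQC hx)
    rw [hC, mem_C1 h]
    change ρ * x * ρ⁻¹ * _ = _ ∧ ρ * x * ρ⁻¹ * _ = _ ∧ ρ * x * ρ⁻¹ * _ = _
    refine ⟨?_, ?_, ?_⟩
    · rw [← hρ.sc_t]
      apply hρ'
      rw [src_eq h, ← mul_assoc, h2, mul_assoc, h1, mul_assoc]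
    · rw [← hρ.t_s]
      exact hρ' _ _ h1
    · have e : f 1 (c k) = ρ * f 1 (c k) * ρ⁻¹ := by rw [hρ.comm, mul_inv_cancel_right]
      rw [e]
      exact hρ' _ _ h3
  have hnd : ¬ 2 ∣ Q.relIndex C := not_dvd_VD h ht hQC (fun x hx => ((mem_C1 h).1 hx).1)
    (fun x hx => ((mem_C1 h).1 hx).2.1)
  obtain ⟨n, hn, hnQ⟩ := exists_conj_le_in (VD_isPGroup h P.isPGroup' i) hnd hmap
    ((VD_isPGroup h P.isPGroup' i).map _)
  obtain ⟨hn1, hn2, hn3⟩ := (mem_C1 h).1 hn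
  refine ⟨n * ρ, ⟨?_, ?_, ?_, ?_⟩, ?_⟩
  · rw [mul_assoc, hρ.comm, ← mul_assoc, hn3, mul_assoc]
  · have e : n * ρ * f (c k) 1 * (n * ρ)⁻¹ = n * (ρ * f (c k) 1 * ρ⁻¹) * n⁻¹ := by group
    rw [e, hρ.t_s, hn2, mul_inv_cancel_right]
  · have e : n * ρ * f (sr i) 1 * (n * ρ)⁻¹ = n * (ρ * f (sr i) 1 * ρ⁻¹) * n⁻¹ := by group
    rw [e, hρ.s_sc, src_eq h, ← mul_assoc, hn2, mul_assoc (f (sr i) 1), hn1, ← mul_assoc, mul_inv_cancel_right]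
  · have e : n * ρ * f (sr i * c k) 1 * (n * ρ)⁻¹ = n * (ρ * f (sr i * c k) 1 * ρ⁻¹) * n⁻¹ := by group
    rw [e, hρ.sc_t, hn1, mul_inv_cancel_right]
  · intro a ha b
    have h1 := hnQ (x := n * (ρ * f a b * ρ⁻¹) * n⁻¹) ⟨ρ * f a b * ρ⁻¹, ⟨f a b, ⟨(a, b), ⟨ha, mem_top _⟩, rfl⟩, rfl⟩, rfl⟩
    have e : n * ρ * f a b * (n * ρ)⁻¹ = n * (ρ * f a b * ρ⁻¹) * n⁻¹ := by group
    rw [e]
    exact h1

/-- A power with exponent `≡ 1 mod 3` of a 3-cycle is a 3-cycle. -/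
theorem Cyc.pow {i : ZMod (4 * 2 ^ k)} {ρ : G} (hρ : Cyc f i ρ) (l : ℕ) : Cyc f i (ρ ^ (3 * l + 1)) := by
  have e4 : ∀ a b x : G, (a * b) * x * (a * b)⁻¹ = a * (b * x * b⁻¹) * a⁻¹ := by intros; group
  have hcube : ∀ x : G, x = f (c k) 1 ∨ x = f (sr i) 1 ∨ x = f (sr i * c k) 1 → ρ ^ 3 * x * (ρ ^ 3)⁻¹ = x := by
    have e3 : ρ ^ 3 = ρ * (ρ * ρ) := by rw [pow_succ, pow_two, mul_assoc]
    rintro x (rfl | rfl | rfl)
    · rw [e3, e4, e4, hρ.t_s, hρ.s_sc, hρ.sc_t]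
    · rw [e3, e4, e4, hρ.s_sc, hρ.sc_t, hρ.t_s]
    · rw [e3, e4, e4, hρ.sc_t, hρ.t_s, hρ.s_sc]
  have hcube' : ∀ (m : ℕ) (x : G), x = f (c k) 1 ∨ x = f (sr i) 1 ∨ x = f (sr i * c k) 1 →
      (ρ ^ 3) ^ m * x * ((ρ ^ 3) ^ m)⁻¹ = x := by
    intro m x hx
    have h1 : Commute (ρ ^ 3) x := by
      have := hcube x hx
      rw [mul_inv_eq_iff_eq_mul] at this
      exact this
    have h2 : (ρ ^ 3) ^ m * x = x * (ρ ^ 3) ^ m := (h1.pow_left m)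
    rw [h2, mul_inv_cancel_right]
  have epow : ρ ^ (3 * l + 1) = (ρ ^ 3) ^ l * ρ := by rw [pow_succ, pow_mul]
  rw [epow]
  refine ⟨?_, ?_, ?_, ?_⟩
  · have h1 : Commute ρ (f 1 (c k)) := hρ.comm
    exact ((h1.pow_left 3).pow_left l).mul_left h1
  · rw [e4, hρ.t_s]; exact hcube' _ _ (Or.inr (Or.inl rfl))
  · rw [e4, hρ.s_sc]; exact hcube' _ _ (Or.inr (Or.inr rfl))
  · rw [e4, hρ.sc_t]; exact hcube' _ _ (Or.inl rfl)

/-- Step E: the 3-cycle may be chosen of 3-power order. -/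
theorem stepE (hG : ∀ φ : G →* ℤˣ, ∀ x, φ x = 1) (ht : Typ f) (i : ZMod (4 * 2 ^ k)) :
    ∃ ρ, Cyc f i ρ ∧ (∀ a ∈ V i, ∀ b, ρ * f a b * ρ⁻¹ ∈ ((V i).prod ⊤).map (F h)) ∧ ∃ m, ρ ^ (3 ^ m) = 1 := by
  obtain ⟨ρ, hρ, hρQ⟩ := stepD h hG ht i
  obtain ⟨a, m, hm, ham⟩ := Nat.exists_eq_pow_mul_and_not_dvd (orderOf_pos ρ).ne' 3 (by norm_num)
  have hcop : Nat.Coprime (3 ^ (a + 1)) m := by
    apply Nat.Coprime.pow_left
    rwa [Nat.Prime.coprime_iff_not_dvd Nat.prime_three]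
  obtain ⟨e, he1, he2⟩ := Nat.chineseRemainder hcop 1 0
  have he3 : ∃ l, e = 3 * l + 1 := by
    have h1 : e ≡ 1 [MOD 3] := he1.of_dvd (dvd_pow_self 3 (by omega))
    have h2 : e % 3 = 1 := h1
    exact ⟨e / 3, by omega⟩
  obtain ⟨l, hl⟩ := he3
  have hme : m ∣ e := (Nat.modEq_zero_iff_dvd).1 he2
  have hpowQ : ∀ n : ℕ, ∀ a ∈ V i, ∀ b, ρ ^ n * f a b * (ρ ^ n)⁻¹ ∈ ((V i).prod ⊤).map (F h) := by
    intro n
    induction n with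
    | zero =>
      intro a ha b
      rw [pow_zero, one_mul, inv_one, mul_one]
      exact ⟨(a, b), ⟨ha, mem_top _⟩, rfl⟩
    | succ n ih =>
      intro a ha b
      obtain ⟨⟨a', b'⟩, ⟨ha', -⟩, e1⟩ := ih a ha b
      have e2 : ρ ^ (n + 1) * f a b * (ρ ^ (n + 1))⁻¹ = ρ * (ρ ^ n * f a b * (ρ ^ n)⁻¹) * ρ⁻¹ := by
        rw [pow_succ']; group
      rw [e2, ← e1]
      exact hρQ a' ha' b'
  refine ⟨ρ ^ e, ?_, hpowQ e, a, ?_⟩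
  · rw [hl]; exact Cyc.pow h hρ l
  · rw [← pow_mul]
    apply orderOf_dvd_iff_pow_eq_one.1
    rw [ham]
    obtain ⟨u, hu⟩ := hme
    exact ⟨u, by rw [hu]; ring⟩

end Sylow

end Cfsg.Agent.LFourA.RhoExists
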