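import Mathlib
import Cfsg.Agent.LFourA.RhoExists

/-!
# Fixed points of the 3-elements `ρ_i` (F3)
-/

set_option autoImplicit false

namespace Cfsg.Agent.LFourA.RhoFix

open DihedralGroup Cfsg.Agent.LFourA.Model Cfsg.Agent.LFourA.Base Cfsg.Agent.LFourA.Facts Subgroup
open Cfsg.Agent.Lib.GoldschmidtFusion Cfsg.Agent.LFourA.FOne Cfsg.Agent.LFourA.Defs Cfsg.Agent.LFourA.FTwo
open Cfsg.Agent.TwoFusion.OddAut Cfsg.Agent.LFourA.FThree Cfsg.Agent.LFourA.RhoExists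

variable {G : Type*} [Group G] {k : ℕ} {f : D k → D k → G} {w : G}

section Sylow

variable [Finite G] {P : Sylow 2 G} (h : DWr (P : Subgroup G) k f w)

include h

theorem mem_VD {i : ZMod (4 * 2 ^ k)} {x : G} : x ∈ ((V i).prod ⊤).map (F h) ↔ ∃ a ∈ V i, ∃ b, x = f a b := by
  constructor
  · rintro ⟨⟨a, b⟩, ⟨ha, -⟩, rfl⟩
    exact ⟨a, ha, b, rfl⟩
  · rintro ⟨a, ha, b, rfl⟩
    exact ⟨(a, b), ⟨ha, mem_top _⟩, rfl⟩

/-- Step F: a 3-element normalising `V_i × 1` and `V_i × D` acts trivially on the quotient. -/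
theorem stepF {i : ZMod (4 * 2 ^ k)} {ρ : G} (hρ : Cyc f i ρ)
    (hρQ : ∀ a ∈ V i, ∀ b, ρ * f a b * ρ⁻¹ ∈ ((V i).prod ⊤).map (F h)) {m : ℕ} (hm : ρ ^ (3 ^ m) = 1) (b : D k) :
    ∃ κ ∈ V i, ρ * f 1 b * ρ⁻¹ = f κ b := by
  have h1 : ∀ b, ∃ κ ∈ V i, ∃ b', ρ * f 1 b * ρ⁻¹ = f κ b' := by
    intro b
    exact (mem_VD h).1 (hρQ 1 (V i).one_mem b)
  choose κ hκ σ hσ using h1
  have h2 : ∀ a ∈ V i, ∀ b, ∃ a' ∈ V i, ρ * f a b * ρ⁻¹ = f a' (σ b) := by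
    intro a ha b
    obtain ⟨a', ha', e1, -⟩ := hρ.perm (f_one h) ha
    refine ⟨a' * κ b, (V i).mul_mem ha' (hκ b), ?_⟩
    have e2 : f a b = f a 1 * f 1 b := by rw [h.f_mul, mul_one, one_mul]
    have e3 : ρ * (f a 1 * f 1 b) * ρ⁻¹ = (ρ * f a 1 * ρ⁻¹) * (ρ * f 1 b * ρ⁻¹) := by group
    rw [e2, e3, e1, hσ, h.f_mul, one_mul]
  have h3 : ∀ n : ℕ, ∀ b, ∃ a' ∈ V i, ρ ^ n * f 1 b * (ρ ^ n)⁻¹ = f a' (σ^[n] b) := by
    intro n
    induction n with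
    | zero =>
      intro b
      exact ⟨1, (V i).one_mem, by simp⟩
    | succ n ih =>
      intro b
      obtain ⟨a', ha', e1⟩ := ih b
      obtain ⟨a'', ha'', e2⟩ := h2 a' ha' (σ^[n] b)
      refine ⟨a'', ha'', ?_⟩
      have e3 : ρ ^ (n + 1) * f 1 b * (ρ ^ (n + 1))⁻¹ = ρ * (ρ ^ n * f 1 b * (ρ ^ n)⁻¹) * ρ⁻¹ := by
        rw [pow_succ']; group
      rw [e3, e1, e2, Function.iterate_succ_apply']
  have hσo : IsOddAut (⊤ : Subgroup (D k)) σ := by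
    refine ⟨fun _ _ => mem_top _, ?_, 3 ^ m, Odd.pow (by decide), ?_⟩
    · intro x _ y _
      have e1 : f (κ (x * y)) (σ (x * y)) = f (κ x * κ y) (σ x * σ y) := by
        rw [← hσ, ← h.f_mul, ← hσ, ← hσ]
        have e2 : f 1 (x * y) = f 1 x * f 1 y := by rw [h.f_mul, mul_one]
        rw [e2]; group
      exact ((f_eq_iff h).1 e1).2
    · intro x _
      obtain ⟨a', ha', e1⟩ := h3 (3 ^ m) x
      rw [hm, one_mul, inv_one, mul_one] at e1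
      exact ((f_eq_iff h).1 e1).2.symm
  refine ⟨κ b, hκ b, ?_⟩
  rw [hσ b, odd_aut hσo b]

/-- Uniqueness of the fixed points in the cosets of `V_i × 1`. -/
theorem fix_unique {i : ZMod (4 * 2 ^ k)} {ρ : G} (hρ : Cyc f i ρ) {v v' b : D k} (hv : v ∈ V i) (hv' : v' ∈ V i)
    (e : ρ * f v b = f v b * ρ) (e' : ρ * f v' b = f v' b * ρ) : v = v' := by
  have h1 : ρ * f (v * v'⁻¹) 1 = f (v * v'⁻¹) 1 * ρ := by
    have e1 : f (v * v'⁻¹) 1 = f v b * (f v' b)⁻¹ := by rw [f_inv h, h.f_mul, mul_inv_cancel]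
    have e2 : Commute ρ (f v b) := e
    have e3 : Commute ρ (f v' b) := e'
    rw [e1]
    exact e2.mul_right e3.inv_right
  have h2 : ρ * f (v * v'⁻¹) 1 * ρ⁻¹ = f (v * v'⁻¹) 1 := by rw [h1, mul_inv_cancel_right]
  have h3 : v * v'⁻¹ = 1 := by
    rcases (V i).mul_mem hv ((V i).inv_mem hv') with h4 | h4 | h4 | h4
    · exact h4
    · rw [h4, hρ.t_s, f_eq_iff h] at h2
      exact absurd h2.1 (sr_ne_c i)
    · rw [h4, hρ.s_sc, f_eq_iff h] at h2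
      exact absurd h2.1 (src_ne_sr i)
    · rw [h4, hρ.sc_t, f_eq_iff h] at h2
      exact absurd h2.1.symm (src_ne_c i)
  exact mul_inv_eq_one.1 h3

/-- Step G: existence of the fixed points. -/
theorem stepG {i : ZMod (4 * 2 ^ k)} {ρ : G} (hρ : Cyc f i ρ) {b κ : D k} (hκ : κ ∈ V i)
    (e : ρ * f 1 b * ρ⁻¹ = f κ b) : ∃ v ∈ V i, ρ * f v b = f v b * ρ := by
  have key : ∀ v v' : D k, ρ * f v 1 * ρ⁻¹ = f v' 1 → v' * κ = v → ρ * f v b = f v b * ρ := by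
    intro v v' e1 e2
    rw [← mul_inv_eq_iff_eq_mul]
    have e3 : f v b = f v 1 * f 1 b := by rw [h.f_mul, mul_one, one_mul]
    have e4 : ρ * (f v 1 * f 1 b) * ρ⁻¹ = (ρ * f v 1 * ρ⁻¹) * (ρ * f 1 b * ρ⁻¹) := by group
    rw [e3, e4, e1, e, h.f_mul, e2, h.f_mul, mul_one, one_mul]
  rcases hκ with rfl | rfl | rfl | rfl
  · refine ⟨1, (V i).one_mem, key 1 1 ?_ (by simp)⟩
    rw [f_one h, mul_one, mul_inv_cancel]
  · exact ⟨_, sr_mem_V i, key _ _ hρ.s_sc (by rw [mul_assoc, c_mul_c, mul_one])⟩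
  · refine ⟨_, src_mem_V i, key _ _ hρ.sc_t (c_comm _)⟩
  · refine ⟨_, c_mem_V i, key _ _ hρ.t_s ?_⟩
    rw [← mul_assoc, sr_mul_self, one_mul]

/-- Step H: the fixed points are centralised by `x0`. -/
theorem stepH (ht : Typ f) {i : ZMod (4 * 2 ^ k)} {ρ : G} (hρ : Cyc f i ρ)
    (hF : ∀ b, ∃ κ ∈ V i, ρ * f 1 b * ρ⁻¹ = f κ b) {b v : D k} (hv : v ∈ V i) (e : ρ * f v b = f v b * ρ) :
    v = 1 ∨ v = c k := by
  have e4 : ∀ a b x : G, (a * b) * x * (a * b)⁻¹ = a * (b * x * b⁻¹) * a⁻¹ := by intros; group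
  have emul : ∀ g x y : G, g * (x * y) * g⁻¹ = (g * x * g⁻¹) * (g * y * g⁻¹) := by intros; group
  -- action of `m = f x0 1`
  have hm : ∀ l : ZMod (4 * 2 ^ k), f (x0 k) 1 * f (sr l) 1 * (f (x0 k) 1)⁻¹ = f (sr l * c k) 1 := by
    intro l
    rw [f_conj h, x0_sr]; simp
  have hmsc : f (x0 k) 1 * f (sr i * c k) 1 * (f (x0 k) 1)⁻¹ = f (sr i) 1 := by
    have e5 : (sr i : D k) * c k = sr (i + ((2 * 2 ^ k : ℕ) : ZMod (4 * 2 ^ k))) := sr_c i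
    rw [e5, hm, ← e5, mul_assoc, c_mul_c, mul_one]
  have hmc : f (x0 k) 1 * f (c k) 1 * (f (x0 k) 1)⁻¹ = f (c k) 1 := by
    rw [f_conj h, ← c_comm, mul_inv_cancel_right]; simp
  -- inverse of `m`
  have hminv : ∀ x y : G, f (x0 k) 1 * x * (f (x0 k) 1)⁻¹ = y → (f (x0 k) 1)⁻¹ * y * f (x0 k) 1 = x := by
    rintro x y rfl; group
  set m := f (x0 k) 1 with hmdef
  set K := m * ρ * m⁻¹ * ρ with hK
  have hKconj : ∀ x, K * x * K⁻¹ = m * (ρ * (m⁻¹ * (ρ * x * ρ⁻¹) * m) * ρ⁻¹) * m⁻¹ := by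
    intro x; rw [hK]; group
  have hKt : K * f (c k) 1 * K⁻¹ = f (c k) 1 := by
    rw [hKconj, hρ.t_s, hminv _ _ hmsc, hρ.sc_t, hmc]
  have hKs : K * f (sr i) 1 * K⁻¹ = f (sr i) 1 := by
    rw [hKconj, hρ.s_sc, hminv _ _ (hm i), hρ.s_sc, hmsc]
  have hmt' : m * f 1 (c k) * m⁻¹ = f 1 (c k) := by
    rw [hmdef, f_conj h]; simp
  have hρt' : ρ * f 1 (c k) * ρ⁻¹ = f 1 (c k) := by rw [hρ.comm, mul_inv_cancel_right]
  have hKt' : K * f 1 (c k) * K⁻¹ = f 1 (c k) := by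
    rw [hKconj, hρt', hminv _ _ hmt', hρt', hmt']
  have hKV : ∀ a ∈ V i, K * f a 1 * K⁻¹ = f a 1 := by
    rintro a (rfl | rfl | rfl | rfl)
    · rw [f_one h]; group
    · exact hKt
    · exact hKs
    · rw [src_eq h, emul, hKs, hKt]
  have hρF : ∀ a ∈ V i, ∀ b, ∃ a' ∈ V i, ρ * f a b * ρ⁻¹ = f a' b := by
    intro a ha b
    obtain ⟨a', ha', e1, -⟩ := hρ.perm (f_one h) ha
    obtain ⟨κ, hκ, e2⟩ := hF b
    refine ⟨a' * κ, (V i).mul_mem ha' hκ, ?_⟩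
    have e3 : f a b = f a 1 * f 1 b := by rw [h.f_mul, mul_one, one_mul]
    rw [e3, emul, e1, e2, h.f_mul, one_mul]
  have hx0V : ∀ a ∈ V i, x0 k * a * (x0 k)⁻¹ ∈ V i ∧ (x0 k)⁻¹ * a * x0 k ∈ V i := by
    have e5 : x0 k * c k * (x0 k)⁻¹ = c k := by rw [← c_comm, mul_inv_cancel_right]
    have e6 : x0 k * sr i * (x0 k)⁻¹ = sr i * c k := x0_sr i
    have e7 : x0 k * (sr i * c k) * (x0 k)⁻¹ = sr i := by
      rw [← mul_assoc, mul_assoc _ (c k), c_comm, ← mul_assoc, e6, mul_assoc, c_mul_c, mul_one]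
    rintro a (rfl | rfl | rfl | rfl)
    · simp [(V i).one_mem]
    · refine ⟨by rw [e5]; exact c_mem_V i, ?_⟩
      have e8 : (x0 k)⁻¹ * c k * x0 k = c k := by rw [mul_assoc, c_comm, ← mul_assoc, inv_mul_cancel, one_mul]
      rw [e8]; exact c_mem_V i
    · refine ⟨by rw [e6]; exact src_mem_V i, ?_⟩
      have e8 : (x0 k)⁻¹ * sr i * x0 k = sr i * c k := by
        rw [← e7]
        have : (x0 k)⁻¹ * (x0 k * (sr i * c k) * (x0 k)⁻¹) * x0 k = sr i * c k := by group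
        rw [this, e7]
      rw [e8]; exact src_mem_V i
    · refine ⟨by rw [e7]; exact sr_mem_V i, ?_⟩
      have e8 : (x0 k)⁻¹ * (sr i * c k) * x0 k = sr i := by
        rw [← e6]; group
      rw [e8]; exact sr_mem_V i
  have hmF : ∀ a ∈ V i, ∀ b, ∃ a' ∈ V i, m * f a b * m⁻¹ = f a' b := by
    intro a ha b
    exact ⟨_, (hx0V a ha).1, by rw [hmdef, f_conj h]; simp⟩
  have hmF' : ∀ a ∈ V i, ∀ b, ∃ a' ∈ V i, m⁻¹ * f a b * m = f a' b := by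
    intro a ha b
    refine ⟨_, (hx0V a ha).2, ?_⟩
    rw [hmdef, f_inv h, h.f_mul, h.f_mul]; simp
  have hKF : ∀ a ∈ V i, ∀ b, ∃ a' ∈ V i, K * f a b * K⁻¹ = f a' b := by
    intro a ha b
    obtain ⟨a1, ha1, e1⟩ := hρF a ha b
    obtain ⟨a2, ha2, e2⟩ := hmF' a1 ha1 b
    obtain ⟨a3, ha3, e3⟩ := hρF a2 ha2 b
    obtain ⟨a4, ha4, e5⟩ := hmF a3 ha3 b
    exact ⟨a4, ha4, by rw [hKconj, e1, e2, e3, e5]⟩
  -- `K ^ 2` centralises `V_i × D`
  have hK2 : ∀ b, Commute (K ^ 2) (f 1 b) := by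
    intro b
    obtain ⟨l, hl, e1⟩ := hKF 1 (V i).one_mem b
    have e2 : f l b = f l 1 * f 1 b := by rw [h.f_mul, mul_one, one_mul]
    have e3 : K * (K * f 1 b * K⁻¹) * K⁻¹ = f 1 b := by
      rw [e1, e2, emul, hKV l hl, e1, e2, ← mul_assoc, h.f_mul l 1 l 1, sq_of_mem_V hl, one_mul, f_one h, one_mul]
    have e5 : K ^ 2 * f 1 b * (K ^ 2)⁻¹ = f 1 b := by
      rw [pow_two, e4, e3]
    rw [mul_inv_eq_iff_eq_mul] at e5
    exact e5
  -- the 2-part of `K`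
  obtain ⟨a, n, hn, hKo⟩ := Nat.exists_eq_two_pow_mul_odd (orderOf_pos K).ne'
  have hK'2 : IsPGroup 2 (zpowers (K ^ n)) := by
    rintro ⟨x, hx⟩
    obtain ⟨z, rfl⟩ := mem_zpowers_iff.1 hx
    refine ⟨a, Subtype.ext ?_⟩
    change ((K ^ n) ^ z) ^ 2 ^ a = 1
    have e1 : (K ^ n) ^ 2 ^ a = 1 := by
      rw [← pow_mul, mul_comm, ← hKo, pow_orderOf_eq_one]
    rw [← zpow_natCast, ← zpow_mul, mul_comm, zpow_mul, zpow_natCast, e1, one_zpow]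
  set Q := ((V i).prod ⊤).map (F h) with hQ
  have hKnQ : ∀ n : ℕ, ∀ a ∈ V i, ∀ b, ∃ a' ∈ V i, K ^ n * f a b * (K ^ n)⁻¹ = f a' b := by
    intro n
    induction n with
    | zero =>
      intro a ha b
      exact ⟨a, ha, by simp⟩
    | succ n ih =>
      intro a ha b
      obtain ⟨a', ha', e1⟩ := ih a ha b
      obtain ⟨a'', ha'', e2⟩ := hKF a' ha' b
      refine ⟨a'', ha'', ?_⟩
      rw [pow_succ', e4, e1, e2]
  have hnorm : zpowers (K ^ n) ≤ normalizer (Q : Set G) := by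
    rw [zpowers_le, mem_normalizer_iff_map_conj]
    apply Subgroup.eq_of_le_of_card_ge
    · rintro _ ⟨x, hx, rfl⟩
      obtain ⟨a, ha, b, rfl⟩ := (mem_VD h).1 hx
      obtain ⟨a', ha', e1⟩ := hKnQ n a ha b
      exact (mem_VD h).2 ⟨a', ha', b, e1⟩
    · rw [card_map_conj]
  have hsup : IsPGroup 2 (zpowers (K ^ n) ⊔ Q : Subgroup G) :=
    IsPGroup.to_sup_of_normal_right' hK'2 (VD_isPGroup h P.isPGroup' i) hnorm
  have hcent : ∀ y : G, (K * y * K⁻¹ = y) → (∀ x ∈ Q, x * y = y * x) →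
      ∀ x ∈ (zpowers (K ^ n) ⊔ Q : Subgroup G), x * y = y * x := by
    intro y hy hQy x hx
    have h1 : (zpowers (K ^ n) ⊔ Q : Subgroup G) ≤ centralizer ({y} : Set G) := by
      rw [sup_le_iff]
      constructor
      · rw [zpowers_le, mem_centralizer_singleton_iff]
        have h2 : Commute K y := by
          rw [mul_inv_eq_iff_eq_mul] at hy
          exact hy
        exact h2.pow_left n
      · intro x hx
        rw [mem_centralizer_singleton_iff]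
        exact hQy x hx
    exact mem_centralizer_singleton_iff.1 (h1 hx)
  have hle := card_le_of_cent h ht hsup
    (hcent _ hKt (fun x hx => ((mem_C1 h).1 (VD_le_C1 h i hx)).1))
    (hcent _ hKs (fun x hx => ((mem_C1 h).1 (VD_le_C1 h i hx)).2.1))
    (mem_sup_right ((mem_VD h).2 ⟨sr i, sr_mem_V i, 1, rfl⟩))
  have hQeq : Q = zpowers (K ^ n) ⊔ Q := by
    apply Subgroup.eq_of_le_of_card_ge le_sup_right
    rw [card_VD h]
    exact hle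
  have hK'Q : K ^ n ∈ Q := by
    rw [hQeq]
    exact mem_sup_left (mem_zpowers _)
  obtain ⟨a0, ha0, b0, hab⟩ := (mem_VD h).1 hK'Q
  -- `K` centralises `(1, b)`
  have hK1 : ∀ b, K * f 1 b * K⁻¹ = f 1 b := by
    intro b
    obtain ⟨l, hl, e1⟩ := hKF 1 (V i).one_mem b
    obtain ⟨n', hn'⟩ := hn
    have e2 : K ^ n * f 1 b * (K ^ n)⁻¹ = K * f 1 b * K⁻¹ := by
      have e3 : K ^ n = K * (K ^ 2) ^ n' := by rw [hn', pow_succ', ← pow_mul]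
      rw [e3, e4]
      have h2 : (K ^ 2) ^ n' * f 1 b = f 1 b * (K ^ 2) ^ n' := (hK2 b).pow_left n'
      rw [h2, mul_inv_cancel_right]
    rw [hab, f_conj h, mul_one, mul_inv_cancel, e1, f_eq_iff h] at e2
    rw [e1, ← e2.1]
  have hKy : K * f v b * K⁻¹ = f v b := by
    have e2 : f v b = f v 1 * f 1 b := by rw [h.f_mul, mul_one, one_mul]
    rw [e2, emul, hKV v hv, hK1]
  -- `ρ` commutes with `m⁻¹ (v, b) m`
  have hρy : ρ * (m⁻¹ * f v b * m) * ρ⁻¹ = m⁻¹ * f v b * m := by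
    have e2 : ρ * f v b * ρ⁻¹ = f v b := by rw [e, mul_inv_cancel_right]
    have e3 := hKconj (f v b)
    rw [e2, hKy] at e3
    conv_rhs => rw [e3]
    group
  rw [mul_inv_eq_iff_eq_mul] at hρy
  have e5 : m⁻¹ * f v b * m = f ((x0 k)⁻¹ * v * x0 k) b := by
    rw [hmdef, f_inv h, h.f_mul, h.f_mul]; simp
  rw [e5] at hρy
  have e6 := fix_unique h hρ (hx0V v hv).2 hv hρy e
  have e7 : v * x0 k = x0 k * v := by
    have e8 : x0 k * ((x0 k)⁻¹ * v * x0 k) = v * x0 k := by group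
    rw [← e8, e6]
  obtain ⟨j, hj⟩ := eq_r_of_comm_x0 e7
  rcases hv with h1 | h1 | h1 | h1
  · exact Or.inl h1
  · exact Or.inr h1
  · rw [hj] at h1
    exact absurd h1.symm (sr_ne_r _ _)
  · rw [hj, sr_c] at h1
    exact absurd h1.symm (sr_ne_r _ _)

/-- **(F3)** Existence of the 3-elements. -/
theorem exists_rho (hG : ∀ φ : G →* ℤˣ, ∀ x, φ x = 1) (ht : Typ f) (i : ZMod (4 * 2 ^ k)) :
    ∃ ρ η, Rho f i ρ η := by
  obtain ⟨ρ, hρ, hρQ, m, hm⟩ := stepE h hG ht i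
  have hF := stepF h hρ hρQ hm
  have h1 : ∀ b, ∃ v ∈ V i, ρ * f v b = f v b * ρ := by
    intro b
    obtain ⟨κ, hκ, e⟩ := hF b
    exact stepG h hρ hκ e
  choose η hη hηρ using h1
  refine ⟨ρ, { toFun := η, map_one' := ?_, map_mul' := ?_ }, ?_⟩
  · apply fix_unique h hρ (hη 1) (V i).one_mem (hηρ 1)
    rw [f_one h]; simp
  · intro a b
    apply fix_unique h hρ (hη _) ((V i).mul_mem (hη a) (hη b)) (hηρ _)
    rw [← h.f_mul]
    have e2 : Commute ρ (f (η a) a) := hηρ a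
    have e3 : Commute ρ (f (η b) b) := hηρ b
    exact e2.mul_right e3
  · exact ⟨hρ.comm, hρ.t_s, hρ.s_sc, hρ.sc_t, ⟨m, hm⟩, fun b => stepH h ht hρ hF (hη b) (hηρ b), hηρ⟩

end Sylow

end Cfsg.Agent.LFourA.RhoFix
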