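import Mathlib
import Cfsg.Agent.LFourA.RhoFix

/-!
# The types of the involutions `(sr i, sr j)`
-/

set_option autoImplicit false

namespace Cfsg.Agent.LFourA.Types

open DihedralGroup Cfsg.Agent.LFourA.Model Cfsg.Agent.LFourA.Base Cfsg.Agent.LFourA.Facts Subgroup
open Cfsg.Agent.LFourA.FOne Cfsg.Agent.LFourA.Defs Cfsg.Agent.LFourA.FTwo
open Cfsg.Agent.LFourA.FThree

variable {G : Type*} [Group G] {k : ℕ} {f : D k → D k → G} {w : G}

section Sylow

variable [Finite G] {P : Sylow 2 G} (h : DWr (P : Subgroup G) k f w)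

include h

/-- The action of `ρ` on the coset of `(η b, b)`. -/
theorem rho_coset {i : ZMod (4 * 2 ^ k)} {ρ : G} {η : D k →* D k} (hρ : Rho f i ρ η) {u u' b : D k}
    (e : ρ * f u 1 * ρ⁻¹ = f u' 1) : ρ * f (u * η b) b * ρ⁻¹ = f (u' * η b) b := by
  have e1 : f (u * η b) b = f u 1 * f (η b) b := by rw [h.f_mul, one_mul]
  have e2 : f (u' * η b) b = f u' 1 * f (η b) b := by rw [h.f_mul, one_mul]
  have e3 : ρ * (f u 1 * f (η b) b) * ρ⁻¹ = (ρ * f u 1 * ρ⁻¹) * (ρ * f (η b) b * ρ⁻¹) := by group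
  rw [e1, e3, e, hρ.fix, mul_inv_cancel_right, e2]

theorem eta_sq {i : ZMod (4 * 2 ^ k)} {ρ : G} {η : D k →* D k} (hρ : Rho f i ρ η) (b : D k) : η b * η b = 1 := by
  rcases hρ.val b with h1 | h1
  · rw [h1, one_mul]
  · rw [h1, c_mul_c]

theorem isConj_coset {i : ZMod (4 * 2 ^ k)} {ρ : G} {η : D k →* D k} (hρ : Rho f i ρ η) (b : D k) :
    IsConj (f (sr i * η b) b) (f (c k * η b) b) ∧ IsConj (f (sr i * c k * η b) b) (f (c k * η b) b) := by
  constructor
  · apply IsConj.symm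
    rw [isConj_iff]
    exact ⟨ρ, rho_coset h hρ hρ.t_s⟩
  · rw [isConj_iff]
    exact ⟨ρ, rho_coset h hρ hρ.sc_t⟩

/-- The type of `(sr i, b)`. -/
theorem isConj_sr {i : ZMod (4 * 2 ^ k)} {ρ : G} {η : D k →* D k} (hρ : Rho f i ρ η) (b : D k) :
    IsConj (f (sr i) b) (f (c k * η b) b) := by
  rcases hρ.val b with h1 | h1
  · have h2 := (isConj_coset h hρ b).1
    rw [h1, mul_one] at h2
    rwa [h1]
  · have h2 := (isConj_coset h hρ b).2
    rw [h1, mul_assoc, c_mul_c, mul_one] at h2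
    rwa [h1, c_mul_c]

theorem isConj_t_of_eta (ht : Typ f) {i j : ZMod (4 * 2 ^ k)} {ρ : G} {η : D k →* D k} (hρ : Rho f i ρ η)
    (e : η (sr j) = c k) : IsConj (f (sr i) (sr j)) (f (c k) 1) := by
  have h1 := isConj_sr h hρ (sr j)
  rw [e, c_mul_c] at h1
  exact h1.trans (one_sr_t h ht j)

theorem isConj_z_of_eta (ht : Typ f) {i j : ZMod (4 * 2 ^ k)} {ρ : G} {η : D k →* D k} (hρ : Rho f i ρ η)
    (e : η (sr j) = 1) : IsConj (f (sr i) (sr j)) (f (c k) (c k)) := by
  have h1 := isConj_sr h hρ (sr j)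
  rw [e, mul_one] at h1
  exact h1.trans (c_sr_z h ht j)

theorem eta_of_t (ht : Typ f) {i j : ZMod (4 * 2 ^ k)} {ρ : G} {η : D k →* D k} (hρ : Rho f i ρ η)
    (e : IsConj (f (sr i) (sr j)) (f (c k) 1)) : η (sr j) = c k := by
  rcases hρ.val (sr j) with h1 | h1
  · exact absurd (e.symm.trans (isConj_z_of_eta h ht hρ h1)) (not_isConj_tz h)
  · exact h1

theorem eta_of_z (ht : Typ f) {i j : ZMod (4 * 2 ^ k)} {ρ : G} {η : D k →* D k} (hρ : Rho f i ρ η)
    (e : IsConj (f (sr i) (sr j)) (f (c k) (c k))) : η (sr j) = 1 := by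
  rcases hρ.val (sr j) with h1 | h1
  · exact h1
  · exact absurd ((isConj_t_of_eta h ht hρ h1).symm.trans e) (not_isConj_tz h)

/-- Conjugacy of pairs of reflections by parity. -/
theorem isConj_pair {i j i' j' : ZMod (4 * 2 ^ k)} (hi : pa i = pa i') (hj : pa j = pa j') :
    IsConj (f (sr i) (sr j)) (f (sr i') (sr j')) :=
  (isConj_of_pa h hi _).trans ((swap_isConj h _ _).trans ((isConj_of_pa h hj _).trans (swap_isConj h _ _)))

/-- Every pair of reflections is conjugate to `t` or to `z`. -/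
theorem isConj_t_or_z (hG : ∀ φ : G →* ℤˣ, ∀ x, φ x = 1) (ht : Typ f) (i j : ZMod (4 * 2 ^ k)) :
    IsConj (f (sr i) (sr j)) (f (c k) 1) ∨ IsConj (f (sr i) (sr j)) (f (c k) (c k)) := by
  obtain ⟨ρ, η, hρ⟩ := RhoFix.exists_rho h hG ht i
  rcases hρ.val (sr j) with h1 | h1
  · exact Or.inr (isConj_z_of_eta h ht hρ h1)
  · exact Or.inl (isConj_t_of_eta h ht hρ h1)

/-- A homomorphism `D k → {1, c}` is determined by its values on two reflections. -/
theorem eq_chi {η : D k →* D k} (hη : ∀ b, η b = 1 ∨ η b = c k) {α β : ZMod 2} (h0 : η (sr 0) = cc k α)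
    (h1 : η (sr 1) = cc k β) : η = chi α β := by
  have hr1 : η (r 1) = cc k (α + β) := by
    have e : (r 1 : D k) = sr 0 * sr 1 := by rw [sr_mul_sr, sub_zero]
    rw [e, map_mul, h0, h1, cc_add]
  have hrj : ∀ n : ℕ, η (r 1 ^ n) = cc k ((α + β) * n) := by
    intro n
    induction n with
    | zero => simp [cc_zero]
    | succ n ih =>
      rw [pow_succ, map_mul, ih, hr1, ← cc_add]
      congr 1
      push_cast
      ring
  have hr : ∀ j, η (r j) = chi α β (r j) := by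
    intro j
    have h2 : (r j : D k) = r 1 ^ j.val := by rw [r_one_pow, ZMod.natCast_zmod_val]
    rw [h2, hrj, ← h2, chi_r]
    congr 2
    conv_rhs => rw [← ZMod.natCast_zmod_val j, map_natCast]
  apply MonoidHom.ext
  intro b
  rcases b with j | j
  · exact hr j
  · have h3 : (sr j : D k) = sr 0 * r j := by rw [sr_mul_r, zero_add]
    rw [h3, map_mul, map_mul, hr, h0, chi_sr_even α β (map_zero pa)]

end Sylow

end Cfsg.Agent.LFourA.Types
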