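import Mathlib
import Cfsg.Agent.LFourA.Types
import Cfsg.Agent.LFourA.Burn

/-!
# Fusion in `C(T)`, `T = ⟨t, t'⟩` (for F4): the class of `(sr i, 1)` determines the parity of `i`
-/

set_option autoImplicit false

namespace Cfsg.Agent.LFourA.CentT

open DihedralGroup Cfsg.Agent.LFourA.Model Cfsg.Agent.LFourA.Base Cfsg.Agent.LFourA.Facts Subgroup
open Cfsg.Agent.Lib.GoldschmidtFusion Cfsg.Agent.LFourA.FOne Cfsg.Agent.LFourA.Defs Cfsg.Agent.LFourA.FTwo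
open Cfsg.Agent.TwoFusion.OddAut Cfsg.Agent.LFourA.FThree Cfsg.Agent.LFourA.Burn Cfsg.Agent.LFourA.RhoFix

section Dih

variable {k : ℕ}

/-- The normaliser of `V j` in `D k`. -/
def W (j : ZMod (4 * 2 ^ k)) : Subgroup (D k) where
  carrier := {a | a * sr j * a⁻¹ = sr j ∨ a * sr j * a⁻¹ = sr j * c k}
  one_mem' := by left; simp
  mul_mem' := by
    intro a b ha hb
    have e : a * b * sr j * (a * b)⁻¹ = a * (b * sr j * b⁻¹) * a⁻¹ := by group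
    have e1 : a * (sr j * c k) * a⁻¹ = a * sr j * a⁻¹ * c k := by
      rw [← mul_assoc a, mul_assoc _ (c k), c_comm, ← mul_assoc]
    rcases hb with hb | hb
    · change _ ∨ _
      rw [e, hb]; exact ha
    · change _ ∨ _
      rw [e, hb, e1]
      rcases ha with ha | ha
      · right; rw [ha]
      · left; rw [ha, mul_assoc, c_mul_c, mul_one]
  inv_mem' := by
    intro a ha
    change _ ∨ _
    have e1 : a⁻¹ * (sr j * c k) * a⁻¹⁻¹ = a⁻¹ * sr j * a⁻¹⁻¹ * c k := by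
      rw [← mul_assoc a⁻¹, mul_assoc _ (c k), c_comm, ← mul_assoc]
    rcases ha with ha | ha
    · left
      conv_lhs => rw [← ha]
      group
    · right
      have e2 : a⁻¹ * (sr j * c k) * a⁻¹⁻¹ = sr j := by rw [← ha]; group
      rw [e1] at e2
      have e3 : a⁻¹ * sr j * a⁻¹⁻¹ * c k * c k = sr j * c k := by rw [e2]
      rw [mul_assoc, c_mul_c, mul_one] at e3
      exact e3

theorem mem_W {j : ZMod (4 * 2 ^ k)} {a : D k} :
    a ∈ W j ↔ a * sr j * a⁻¹ = sr j ∨ a * sr j * a⁻¹ = sr j * c k := Iff.rfl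

theorem V_le_W (j : ZMod (4 * 2 ^ k)) : V j ≤ W j := by
  intro a ha
  left
  rw [comm_sr_iff.2 ha, mul_inv_cancel_right]

theorem x0_mem_W (j : ZMod (4 * 2 ^ k)) : x0 k ∈ W j := Or.inr (x0_sr j)

theorem x0_notMem_V (j : ZMod (4 * 2 ^ k)) : x0 k ∉ V j := by
  intro h
  exact x0_ne_comm_sr j (comm_sr_iff.2 h)

theorem card_W (j : ZMod (4 * 2 ^ k)) : Nat.card (W j) = 8 := by
  have h1 : (V j).relIndex (W j) = 2 := by
    rw [relIndex, index_eq_two_iff]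
    refine ⟨⟨x0 k, x0_mem_W j⟩, ?_⟩
    rintro ⟨a, ha⟩
    change (a * x0 k ∈ V j ∧ ¬ a ∈ V j) ∨ (a ∈ V j ∧ ¬ a * x0 k ∈ V j)
    rcases ha with ha | ha
    · right
      have h2 : a ∈ V j := by
        rw [← comm_sr_iff, ← mul_inv_eq_iff_eq_mul]; exact ha
      refine ⟨h2, fun h3 => x0_notMem_V j ?_⟩
      have h4 := (V j).mul_mem ((V j).inv_mem h2) h3
      rwa [inv_mul_cancel_left] at h4
    · left
      constructor
      · rw [← comm_sr_iff, ← mul_inv_eq_iff_eq_mul]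
        have e : a * x0 k * sr j * (a * x0 k)⁻¹ = a * (x0 k * sr j * (x0 k)⁻¹) * a⁻¹ := by group
        have e1 : a * (sr j * c k) * a⁻¹ = a * sr j * a⁻¹ * c k := by
          rw [← mul_assoc a, mul_assoc _ (c k), c_comm, ← mul_assoc]
        rw [e, x0_sr, e1, ha, mul_assoc, c_mul_c, mul_one]
      · intro h2
        rw [comm_sr_iff.2 h2, mul_inv_cancel_right] at ha
        exact src_ne_sr j ha.symm
  have h2 := Subgroup.card_mul_index ((V j).subgroupOf (W j))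
  have h3 : Nat.card ((V j).subgroupOf (W j)) = Nat.card (V j) :=
    Nat.card_congr (Subgroup.subgroupOfEquivOfLe (V_le_W j)).toEquiv
  have h4 : ((V j).subgroupOf (W j)).index = 2 := h1
  rw [h3, h4, card_V] at h2
  exact h2.symm

end Dih

variable {G : Type*} [Group G] {k : ℕ} {f : D k → D k → G} {w : G}

section Sylow

variable [Finite G] {P : Sylow 2 G} (h : DWr (P : Subgroup G) k f w)

/-- The normaliser of `⟨(sr j, 1), T⟩` in `C(T)`. -/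
def NT (j : ZMod (4 * 2 ^ k)) : Subgroup G where
  carrier := {x | x * f (c k) 1 = f (c k) 1 * x ∧ x * f 1 (c k) = f 1 (c k) * x ∧
    (x * f (sr j) 1 * x⁻¹ = f (sr j) 1 ∨ x * f (sr j) 1 * x⁻¹ = f (sr j * c k) 1)}
  one_mem' := ⟨by simp, by simp, Or.inl (by simp)⟩
  mul_mem' := by
    rintro x y ⟨h1, h2, h3⟩ ⟨h4, h5, h6⟩
    refine ⟨by rw [mul_assoc, h4, ← mul_assoc, h1, mul_assoc], by rw [mul_assoc, h5, ← mul_assoc, h2, mul_assoc], ?_⟩
    have e : x * y * f (sr j) 1 * (x * y)⁻¹ = x * (y * f (sr j) 1 * y⁻¹) * x⁻¹ := by group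
    have e1 : x * f (sr j * c k) 1 * x⁻¹ = x * f (sr j) 1 * x⁻¹ * f (c k) 1 := by
      have e2 : f (sr j * c k) 1 = f (sr j) 1 * f (c k) 1 := by rw [h.f_mul, mul_one]
      have e3 : x * (f (sr j) 1 * f (c k) 1) * x⁻¹ = x * f (sr j) 1 * x⁻¹ * (x * f (c k) 1 * x⁻¹) := by group
      rw [e2, e3, h1, mul_inv_cancel_right]
    rcases h6 with h6 | h6
    · rw [e, h6]; exact h3
    · rw [e, h6, e1]
      rcases h3 with h3 | h3
      · right; rw [h3, h.f_mul, mul_one]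
      · left; rw [h3, h.f_mul, mul_assoc, c_mul_c, mul_one, mul_one]
  inv_mem' := by
    rintro x ⟨h1, h2, h3⟩
    have hc1 : Commute x (f (c k) 1) := h1
    have hc2 : Commute x (f 1 (c k)) := h2
    refine ⟨hc1.inv_left, hc2.inv_left, ?_⟩
    rcases h3 with h3 | h3
    · left
      conv_lhs => rw [← h3]
      group
    · right
      have e1 : f (sr j * c k) 1 = f (sr j) 1 * f (c k) 1 := by rw [h.f_mul, mul_one]
      have e2 : f (sr j) 1 * f (c k) 1 * f (c k) 1 = f (sr j) 1 := by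
        rw [h.f_mul, h.f_mul, mul_assoc, c_mul_c, mul_one, mul_one, mul_one]
      have e3 : x⁻¹ * (f (sr j) 1 * f (c k) 1) * x⁻¹⁻¹ = x⁻¹ * f (sr j) 1 * x⁻¹⁻¹ * (x⁻¹ * f (c k) 1 * x⁻¹⁻¹) := by
        group
      have e4 : x⁻¹ * f (c k) 1 * x⁻¹⁻¹ = f (c k) 1 := by
        rw [show x⁻¹ * f (c k) 1 = f (c k) 1 * x⁻¹ from hc1.inv_left, mul_inv_cancel_right]
      have e5 : x⁻¹ * f (sr j * c k) 1 * x⁻¹⁻¹ = f (sr j) 1 := by rw [← h3]; group
      rw [e1, e3, e4] at e5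
      have e6 : x⁻¹ * f (sr j) 1 * x⁻¹⁻¹ * f (c k) 1 * f (c k) 1 = f (sr j) 1 * f (c k) 1 := by rw [e5]
      rw [mul_assoc, h.f_mul, c_mul_c, one_mul, f_one h, mul_one] at e6
      rw [e6, e1]

include h

theorem mem_NT {j : ZMod (4 * 2 ^ k)} {x : G} : x ∈ NT h j ↔ x * f (c k) 1 = f (c k) 1 * x ∧
    x * f 1 (c k) = f 1 (c k) * x ∧
    (x * f (sr j) 1 * x⁻¹ = f (sr j) 1 ∨ x * f (sr j) 1 * x⁻¹ = f (sr j * c k) 1) := Iff.rfl

/-- `W_j × D ≤ N_{C(T)}(⟨(sr j, 1), T⟩)`. -/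
theorem WD_le (j : ZMod (4 * 2 ^ k)) : ((W j).prod ⊤).map (F h) ≤ NT h j := by
  rintro _ ⟨⟨a, b⟩, ⟨ha, -⟩, rfl⟩
  change f a b ∈ NT h j
  rw [mem_NT]
  refine ⟨(f_comm_center h (Or.inr rfl) (Or.inl rfl)).symm, (f_comm_center h (Or.inl rfl) (Or.inr rfl)).symm, ?_⟩
  rw [f_conj h, mul_one, mul_inv_cancel, f_eq_iff h, f_eq_iff h]
  rcases ha with ha | ha
  · exact Or.inl ⟨ha, rfl⟩
  · exact Or.inr ⟨ha, rfl⟩

theorem card_WD (j : ZMod (4 * 2 ^ k)) : Nat.card (((W j).prod ⊤).map (F h) : Subgroup G) = 2 * (4 * (8 * 2 ^ k)) := by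
  rw [← Nat.card_congr (((W j).prod (⊤ : Subgroup (D k))).equivMapOfInjective _ (F_injective h)).toEquiv,
    Nat.card_congr ((W j).prodEquiv (⊤ : Subgroup (D k))).toEquiv, Nat.card_prod, card_W, Subgroup.card_top, card_D]
  ring

theorem WD_isPGroup (j : ZMod (4 * 2 ^ k)) : IsPGroup 2 (((W j).prod ⊤).map (F h) : Subgroup G) := by
  apply P.isPGroup'.to_le
  rintro _ ⟨⟨a, b⟩, -, rfl⟩
  exact f_mem h a b

/-- `W_j × D` is a Sylow subgroup of `NT j`. -/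
theorem not_dvd_WD (ht : Typ f) (j : ZMod (4 * 2 ^ k)) :
    ¬ 2 ∣ (((W j).prod ⊤).map (F h)).relIndex (NT h j) := by
  obtain ⟨R, hQR, hRN, hR, hRi⟩ := exists_sylow_in (p := 2) (WD_le h j) (WD_isPGroup h j)
  set R0 : Subgroup G := R ⊓ centralizer ({f (sr j) 1} : Set G) with hR0
  have hx0R : f (x0 k) 1 ∈ R := hQR ⟨(x0 k, 1), ⟨x0_mem_W j, mem_top _⟩, rfl⟩
  have hR0m : ∀ x ∈ R, (x ∈ R0 ↔ x * f (sr j) 1 * x⁻¹ = f (sr j) 1) := by
    intro x hx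
    rw [mul_inv_eq_iff_eq_mul]
    constructor
    · intro h1; exact mem_centralizer_singleton_iff.1 h1.2
    · intro h1; exact ⟨hx, mem_centralizer_singleton_iff.2 h1⟩
  have hx0s : f (x0 k) 1 * f (sr j) 1 * (f (x0 k) 1)⁻¹ = f (sr j * c k) 1 := by
    rw [f_conj h, x0_sr]; simp
  have hne : f (sr j * c k) 1 ≠ f (sr j) 1 := by
    rw [Ne, f_eq_iff h]
    exact fun e => src_ne_sr j e.1
  have h1 : R0.relIndex R = 2 := by
    rw [relIndex, index_eq_two_iff]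
    refine ⟨⟨f (x0 k) 1, hx0R⟩, ?_⟩
    rintro ⟨x, hx⟩
    change (x * f (x0 k) 1 ∈ R0 ∧ ¬ x ∈ R0) ∨ (x ∈ R0 ∧ ¬ x * f (x0 k) 1 ∈ R0)
    obtain ⟨h2, -, h3⟩ := hRN hx
    have e : x * f (x0 k) 1 * f (sr j) 1 * (x * f (x0 k) 1)⁻¹ = x * f (sr j) 1 * x⁻¹ * f (c k) 1 := by
      have e1 : x * f (x0 k) 1 * f (sr j) 1 * (x * f (x0 k) 1)⁻¹ =
        x * (f (x0 k) 1 * f (sr j) 1 * (f (x0 k) 1)⁻¹) * x⁻¹ := by group
      have e2 : f (sr j * c k) 1 = f (sr j) 1 * f (c k) 1 := by rw [h.f_mul, mul_one]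
      have e3 : x * (f (sr j) 1 * f (c k) 1) * x⁻¹ = x * f (sr j) 1 * x⁻¹ * (x * f (c k) 1 * x⁻¹) := by group
      rw [e1, hx0s, e2, e3, h2, mul_inv_cancel_right]
    rw [hR0m x hx, hR0m _ (R.mul_mem hx hx0R), e]
    rcases h3 with h3 | h3
    · right
      refine ⟨h3, ?_⟩
      rw [h3, h.f_mul, mul_one]
      exact hne
    · left
      refine ⟨?_, ?_⟩
      · rw [h3, h.f_mul, mul_assoc, c_mul_c, mul_one, mul_one]
      · rw [h3]; exact hne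
  have h2 := Subgroup.card_mul_index (R0.subgroupOf R)
  have h3 : Nat.card (R0.subgroupOf R) = Nat.card R0 :=
    Nat.card_congr (Subgroup.subgroupOfEquivOfLe inf_le_left).toEquiv
  have h4 : (R0.subgroupOf R).index = 2 := h1
  rw [h3, h4] at h2
  have h5 : Nat.card R0 ≤ 4 * (8 * 2 ^ k) := by
    apply card_le_of_cent h ht (i := j) (hR.to_le inf_le_left)
    · intro x hx; exact (hRN hx.1).1
    · intro x hx; exact mem_centralizer_singleton_iff.1 hx.2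
    · exact ⟨hQR ⟨(sr j, 1), ⟨V_le_W j (sr_mem_V j), mem_top _⟩, rfl⟩, mem_centralizer_singleton_iff.2 rfl⟩
  have e : ((W j).prod ⊤).map (F h) = R := by
    apply Subgroup.eq_of_le_of_card_ge hQR
    rw [card_WD h]
    omega
  rw [e]
  exact hRi

/-- Conjugates of `(sr i, 1)` in the base group under `C(T)`. -/
theorem conj_sr_mem (ht : Typ f) {g : G} (hg1 : g * f (c k) 1 = f (c k) 1 * g) (hg2 : g * f 1 (c k) = f 1 (c k) * g)
    {i : ZMod (4 * 2 ^ k)} (hb : g * f (sr i) 1 * g⁻¹ ∈ base h) : ∃ j, g * f (sr i) 1 * g⁻¹ = f (sr j) 1 := by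
  have htz := not_isConj_tz h
  have hgt : g * f (c k) 1 * g⁻¹ = f (c k) 1 := by rw [hg1, mul_inv_cancel_right]
  have hgt' : g * f 1 (c k) * g⁻¹ = f 1 (c k) := by rw [hg2, mul_inv_cancel_right]
  have hback : ∀ x y : G, g * x * g⁻¹ = g * y * g⁻¹ → x = y := by
    intro x y e
    simpa using e
  have hp2 : g * f (sr i) 1 * g⁻¹ * (g * f (sr i) 1 * g⁻¹) = 1 := by
    have e : g * f (sr i) 1 * g⁻¹ * (g * f (sr i) 1 * g⁻¹) = g * (f (sr i) 1 * f (sr i) 1) * g⁻¹ := by group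
    rw [e, (f_sq_one_iff h).2 ⟨sr_mul_self i, one_mul 1⟩, mul_one, mul_inv_cancel]
  have hp1 : g * f (sr i) 1 * g⁻¹ ≠ 1 := by
    intro e
    have e1 := hback (f (sr i) 1) 1 (by rw [e, mul_one, mul_inv_cancel])
    exact sr_ne_one _ ((f_eq_one_iff h).1 e1).1
  have hpt : g * f (sr i) 1 * g⁻¹ ≠ f (c k) 1 := by
    intro e
    have e1 := hback (f (sr i) 1) (f (c k) 1) (by rw [e, hgt])
    exact sr_ne_c _ ((f_eq_iff h).1 e1).1
  have hc1 : IsConj (g * f (sr i) 1 * g⁻¹) (f (c k) 1) :=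
    (isConj_iff.2 ⟨g, rfl⟩ : IsConj (f (sr i) 1) (g * f (sr i) 1 * g⁻¹)).symm.trans (ht.typ_t i)
  have hc2 : IsConj (g * f (sr i) 1 * g⁻¹ * f (c k) 1) (f (c k) 1) := by
    have e : g * f (sr i) 1 * g⁻¹ * f (c k) 1 = g * f (sr i * c k) 1 * g⁻¹ := by
      have e1 : f (sr i * c k) 1 = f (sr i) 1 * f (c k) 1 := by rw [h.f_mul, mul_one]
      rw [e1]
      conv_lhs => rw [← hgt]
      group
    rw [e]
    refine (isConj_iff.2 ⟨g, rfl⟩ : IsConj (f (sr i * c k) 1) (g * f (sr i * c k) 1 * g⁻¹)).symm.trans ?_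
    rw [sr_c]
    exact ht.typ_t _
  rcases sr_or_of_typ h hb hp2 hp1 hpt hc1 hc2 ht with h1 | ⟨j, j', hj⟩
  · exact h1
  · exfalso
    apply htz
    have e1 : IsConj (g * f (sr i) (c k) * g⁻¹) (f (c k) (c k)) :=
      (isConj_iff.2 ⟨g, rfl⟩ : IsConj (f (sr i) (c k)) (g * f (sr i) (c k) * g⁻¹)).symm.trans (ht.typ_z i)
    have e2 : g * f (sr i) (c k) * g⁻¹ = f (sr j) (sr j' * c k) := by
      have e3 : f (sr i) (c k) = f (sr i) 1 * f 1 (c k) := by rw [h.f_mul, mul_one, one_mul]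
      have e4 : g * (f (sr i) 1 * f 1 (c k)) * g⁻¹ = g * f (sr i) 1 * g⁻¹ * (g * f 1 (c k) * g⁻¹) := by group
      rw [e3, e4, hj, hgt', h.f_mul, mul_one]
    have e3 : IsConj (f (sr j) (sr j' * c k)) (f (sr j) (sr j')) := by
      apply IsConj.symm
      rw [isConj_iff]
      exact ⟨f 1 (x0 k), by rw [f_conj h, x0_sr]; simp⟩
    rw [hj] at hc1
    rw [e2] at e1
    exact hc1.symm.trans (e3.symm.trans e1)

/-- The same for `(1, sr i)`. -/
theorem conj_one_sr_mem (ht : Typ f) {g : G} (hg1 : g * f (c k) 1 = f (c k) 1 * g)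
    (hg2 : g * f 1 (c k) = f 1 (c k) * g) {i : ZMod (4 * 2 ^ k)} (hb : g * f 1 (sr i) * g⁻¹ ∈ base h) :
    ∃ j, g * f 1 (sr i) * g⁻¹ = f 1 (sr j) := by
  have hw1 : w * f (c k) 1 * w⁻¹ = f 1 (c k) := w_conj h _ _
  have hw2 : w * f 1 (c k) * w⁻¹ = f (c k) 1 := w_conj h _ _
  have e0 : ∀ x : G, (w * g * w⁻¹) * x * (w * g * w⁻¹)⁻¹ = w * (g * (w⁻¹ * x * w) * g⁻¹) * w⁻¹ := by
    intro x; group
  have e1 : (w * g * w⁻¹) * f (c k) 1 = f (c k) 1 * (w * g * w⁻¹) := by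
    rw [← mul_inv_eq_iff_eq_mul, e0, w_conj' h, hg2, mul_inv_cancel_right, hw2]
  have e2 : (w * g * w⁻¹) * f 1 (c k) = f 1 (c k) * (w * g * w⁻¹) := by
    rw [← mul_inv_eq_iff_eq_mul, e0, w_conj' h, hg1, mul_inv_cancel_right, hw1]
  have e3 : (w * g * w⁻¹) * f (sr i) 1 * (w * g * w⁻¹)⁻¹ ∈ base h := by
    rw [e0, w_conj' h]
    obtain ⟨p, q, e⟩ := hb
    rw [e, w_conj h]
    exact f_mem_base h q p
  obtain ⟨j, hj⟩ := conj_sr_mem h ht e1 e2 e3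
  refine ⟨j, ?_⟩
  rw [e0, w_conj' h] at hj
  have e4 : g * f 1 (sr i) * g⁻¹ = w⁻¹ * (w * (g * f 1 (sr i) * g⁻¹) * w⁻¹) * w := by group
  rw [e4, hj, w_conj' h]

end Sylow

end Cfsg.Agent.LFourA.CentT
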