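import Mathlib
import Cfsg.Agent.LFourA.CentT

/-!
# Fusion in `C(T)`: `(sr i, 1)` and `(sr j, 1)` are conjugate in `C(T)` only if `i ≡ j mod 2`
-/

set_option autoImplicit false

namespace Cfsg.Agent.LFourA.ClassInv

open DihedralGroup Cfsg.Agent.LFourA.Model Cfsg.Agent.LFourA.Base Cfsg.Agent.LFourA.Facts Subgroup
open Cfsg.Agent.Lib.GoldschmidtFusion Cfsg.Agent.LFourA.FOne Cfsg.Agent.LFourA.Defs Cfsg.Agent.LFourA.FTwo
open Cfsg.Agent.TwoFusion.OddAut Cfsg.Agent.LFourA.FThree Cfsg.Agent.LFourA.Burn Cfsg.Agent.LFourA.RhoFix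
open Cfsg.Agent.LFourA.CentT

section Dih

variable {k : ℕ}

/-- The rotations. -/
def Rt (k : ℕ) : Subgroup (D k) where
  carrier := {a | ∃ i, a = r i}
  one_mem' := ⟨0, one_def⟩
  mul_mem' := by
    rintro _ _ ⟨i, rfl⟩ ⟨j, rfl⟩
    exact ⟨_, r_mul_r i j⟩
  inv_mem' := by
    rintro _ ⟨i, rfl⟩
    exact ⟨_, inv_r i⟩

theorem mem_Rt {a : D k} : a ∈ Rt k ↔ ∃ i, a = r i := Iff.rfl

theorem Rt_comm {a b : D k} (ha : a ∈ Rt k) (hb : b ∈ Rt k) : a * b = b * a := by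
  obtain ⟨i, rfl⟩ := ha
  obtain ⟨j, rfl⟩ := hb
  exact r_comm i j

theorem x0_mem_Rt : x0 k ∈ Rt k := ⟨_, rfl⟩

theorem c_mem_Rt : c k ∈ Rt k := ⟨_, rfl⟩

theorem mem_Rt_of_comm {a p : D k} (hp : p * p = c k) (h : a * p = p * a) : a ∈ Rt k := by
  rcases eq_of_sq_c hp with rfl | rfl
  · exact eq_r_of_comm_x0 h
  · have h1 : a * x0 k = x0 k * a := by
      have e1 : a * (c k * x0 k) = c k * (a * x0 k) := by rw [← mul_assoc, ← c_comm, mul_assoc]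
      rw [e1, mul_assoc, mul_right_inj] at h
      exact h
    exact eq_r_of_comm_x0 h1

/-- An element whose `2 * 2 ^ k`-th power is `c` is a rotation. -/
theorem mem_Rt_of_pow {a : D k} (h : a ^ (2 * 2 ^ k) = c k) : a ∈ Rt k := by
  rcases a with i | i
  · exact ⟨i, rfl⟩
  · exfalso
    have h1 : (sr i : D k) ^ (2 * 2 ^ k) = 1 := by
      rw [pow_mul, pow_two, sr_mul_self, one_pow]
    rw [h1] at h
    exact c_ne_one h.symm

/-- An element commuting with an element whose `2 * 2 ^ k`-th power is `c` is a rotation. -/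
theorem mem_Rt_of_comm_pow {a b : D k} (h : a ^ (2 * 2 ^ k) = c k) (hab : b * a = a * b) : b ∈ Rt k := by
  obtain ⟨i, rfl⟩ := mem_Rt_of_pow h
  rcases b with j | j
  · exact ⟨j, rfl⟩
  · exfalso
    have h2 : ∀ x : D k, x = 1 ∨ x = c k → x ^ (2 * 2 ^ k) = 1 := by
      rintro x (rfl | rfl)
      · simp
      · rw [pow_mul, pow_two, c_mul_c, one_pow]
    have h3 := h2 _ (eq_of_r_comm_sr hab.symm)
    rw [h3] at h
    exact c_ne_one h.symm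

theorem r_one_pow_half : (r 1 : D k) ^ (2 * 2 ^ k) = c k := by
  rw [r_one_pow, c]

/-- Even powers are rotations. -/
theorem pow_even_mem_Rt (a : D k) (n : ℕ) : a ^ (2 * n) ∈ Rt k := by
  rw [pow_mul]
  apply (Rt k).pow_mem
  rcases a with i | i
  · rw [pow_two]; exact (Rt k).mul_mem ⟨i, rfl⟩ ⟨i, rfl⟩
  · rw [pow_two, sr_mul_self]; exact (Rt k).one_mem

theorem r_eq_pow (j : ZMod (4 * 2 ^ k)) : (r j : D k) = r 1 ^ j.val := by
  rw [r_one_pow, ZMod.natCast_zmod_val]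

end Dih

variable {G : Type*} [Group G] {k : ℕ} {f : D k → D k → G} {w : G}

section Sylow

variable [Finite G] {P : Sylow 2 G} (h : DWr (P : Subgroup G) k f w)

/-- The torus `⟨x⟩ × ⟨x⟩`. -/
def A : Subgroup G := ((Rt k).prod (Rt k)).map (F h)

include h

theorem mem_A {x : G} : x ∈ A h ↔ ∃ a ∈ Rt k, ∃ b ∈ Rt k, x = f a b := by
  constructor
  · rintro ⟨⟨a, b⟩, ⟨ha, hb⟩, rfl⟩
    exact ⟨a, ha, b, hb, rfl⟩
  · rintro ⟨a, ha, b, hb, rfl⟩
    exact ⟨(a, b), ⟨ha, hb⟩, rfl⟩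

theorem f_pow (a b : D k) (n : ℕ) : f a b ^ n = f (a ^ n) (b ^ n) := by
  induction n with
  | zero => simp [f_one h]
  | succ n ih => rw [pow_succ, pow_succ, pow_succ, ih, h.f_mul]

theorem A_comm {x y : G} (hx : x ∈ A h) (hy : y ∈ A h) : x * y = y * x := by
  obtain ⟨a, ha, b, hb, rfl⟩ := (mem_A h).1 hx
  obtain ⟨a', ha', b', hb', rfl⟩ := (mem_A h).1 hy
  rw [f_comm_iff h]
  exact ⟨Rt_comm ha ha', Rt_comm hb hb'⟩

theorem mem_Y0 {x : G} : x ∈ centralizer ({f (x0 k) 1, f 1 (x0 k)} : Set G) ↔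
    x * f (x0 k) 1 = f (x0 k) 1 * x ∧ x * f 1 (x0 k) = f 1 (x0 k) * x := by
  rw [mem_centralizer_iff]
  constructor
  · intro hx
    exact ⟨(hx _ (by simp)).symm, (hx _ (by simp)).symm⟩
  · rintro ⟨h1, h2⟩ y hy
    simp only [Set.mem_insert_iff, Set.mem_singleton_iff] at hy
    rcases hy with rfl | rfl
    · exact h1.symm
    · exact h2.symm

theorem comm_t_of_Y0 {x : G} (hx : x ∈ centralizer ({f (x0 k) 1, f 1 (x0 k)} : Set G)) :
    x * f (c k) 1 = f (c k) 1 * x ∧ x * f 1 (c k) = f 1 (c k) * x := by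
  obtain ⟨h1, h2⟩ := (mem_Y0 h).1 hx
  have e1 : f (c k) 1 = f (x0 k) 1 * f (x0 k) 1 := by rw [h.f_mul, x0_mul_x0, one_mul]
  have e2 : f 1 (c k) = f 1 (x0 k) * f 1 (x0 k) := by rw [h.f_mul, x0_mul_x0, one_mul]
  have h3 : Commute x (f (x0 k) 1) := h1
  have h4 : Commute x (f 1 (x0 k)) := h2
  rw [e1, e2]
  exact ⟨h3.mul_right h3, h4.mul_right h4⟩

theorem A_le_Y0 : A h ≤ centralizer ({f (x0 k) 1, f 1 (x0 k)} : Set G) := by
  intro x hx
  rw [mem_Y0 h]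
  exact ⟨A_comm h hx ((mem_A h).2 ⟨_, x0_mem_Rt, _, (Rt k).one_mem, rfl⟩),
    A_comm h hx ((mem_A h).2 ⟨_, (Rt k).one_mem, _, x0_mem_Rt, rfl⟩)⟩

theorem A_isPGroup : IsPGroup 2 (A h) := by
  apply P.isPGroup'.to_le
  rintro _ ⟨⟨a, b⟩, -, rfl⟩
  exact f_mem h a b

/-- `⟨x⟩ × ⟨x⟩` is a Sylow subgroup of `C((x0, 1), (1, x0))`. -/
theorem not_dvd_A {R : Subgroup G} (hAR : A h ≤ R) (hR : IsPGroup 2 R)
    (hRY : R ≤ centralizer ({f (x0 k) 1, f 1 (x0 k)} : Set G)) : R = A h := by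
  have hRt : ∀ x ∈ R, x * f (c k) 1 = f (c k) 1 * x := fun x hx => (comm_t_of_Y0 h (hRY hx)).1
  obtain ⟨g, hg, hgR⟩ := exists_conj_base h hR hRt
  have hgt : g * f (c k) 1 * g⁻¹ = f (c k) 1 := by rw [hg, mul_inv_cancel_right]
  have hx1 : f (r 1) 1 ∈ A h := (mem_A h).2 ⟨_, ⟨1, rfl⟩, _, (Rt k).one_mem, rfl⟩
  have hx2 : f 1 (r 1) ∈ A h := (mem_A h).2 ⟨_, (Rt k).one_mem, _, ⟨1, rfl⟩, rfl⟩
  have hpow : ∀ (x : G) (n : ℕ), (g * x * g⁻¹) ^ n = g * x ^ n * g⁻¹ := by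
    intro x n
    exact conj_pow
  obtain ⟨a, b, hab⟩ := hgR _ (hAR hx1)
  obtain ⟨a', b', hab'⟩ := hgR _ (hAR hx2)
  have ha : a ^ (2 * 2 ^ k) = c k ∧ b ^ (2 * 2 ^ k) = 1 := by
    have h1 := hpow (f (r 1) 1) (2 * 2 ^ k)
    rw [f_pow h, r_one_pow_half, one_pow, hgt, hab, f_pow h, f_eq_iff h] at h1
    exact h1
  -- the image of `t'`
  have hgt' : g * f 1 (c k) * g⁻¹ = f 1 (c k) := by
    have h1 := hpow (f 1 (r 1)) (2 * 2 ^ k)
    rw [f_pow h, r_one_pow_half, one_pow, hab', f_pow h] at h1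
    obtain ⟨u, hu⟩ := pow_even_mem_Rt a' (2 ^ k)
    obtain ⟨v, hv⟩ := pow_even_mem_Rt b' (2 ^ k)
    rw [hu, hv] at h1
    have h2 : f (r u) (r v) * f (r u) (r v) = 1 := by
      rw [h1]
      have e : g * f 1 (c k) * g⁻¹ * (g * f 1 (c k) * g⁻¹) = g * (f 1 (c k) * f 1 (c k)) * g⁻¹ := by group
      rw [e, t'_sq h, mul_one, mul_inv_cancel]
    rw [f_sq_one_iff h] at h2
    rcases T_cases h (rot_sq_one h2.1) (rot_sq_one h2.2) with h3 | h3 | h3 | h3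
    · exfalso
      rw [h1] at h3
      apply t'_ne_one h
      have e : f 1 (c k) = g⁻¹ * (g * f 1 (c k) * g⁻¹) * g := by group
      rw [e, h3]; group
    · exfalso
      rw [h1] at h3
      have e : f 1 (c k) = f (c k) 1 := by
        have e1 : f 1 (c k) = g⁻¹ * (g * f 1 (c k) * g⁻¹) * g := by group
        have e2 : f (c k) 1 = g⁻¹ * (g * f (c k) 1 * g⁻¹) * g := by group
        rw [e1, h3]
        conv_rhs => rw [e2, hgt]
      exact c_ne_one ((f_eq_iff h).1 e).2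
    · rw [← h1, h3]
    · exfalso
      rw [h1] at h3
      exact t'_not_conj_z h g h3
  have hb' : a' ^ (2 * 2 ^ k) = 1 ∧ b' ^ (2 * 2 ^ k) = c k := by
    have h1 := hpow (f 1 (r 1)) (2 * 2 ^ k)
    rw [f_pow h, r_one_pow_half, one_pow, hgt', hab', f_pow h, f_eq_iff h] at h1
    exact h1
  have hcomm : f a b * f a' b' = f a' b' * f a b := by
    rw [← hab, ← hab']
    have e1 : g * f (r 1) 1 * g⁻¹ * (g * f 1 (r 1) * g⁻¹) = g * (f (r 1) 1 * f 1 (r 1)) * g⁻¹ := by group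
    have e2 : g * f 1 (r 1) * g⁻¹ * (g * f (r 1) 1 * g⁻¹) = g * (f 1 (r 1) * f (r 1) 1) * g⁻¹ := by group
    rw [e1, e2, A_comm h hx1 hx2]
  rw [f_comm_iff h] at hcomm
  have haR : a ∈ Rt k := mem_Rt_of_pow ha.1
  have hb'R : b' ∈ Rt k := mem_Rt_of_pow hb'.2
  have hbR : b ∈ Rt k := mem_Rt_of_comm_pow hb'.2 hcomm.2
  have ha'R : a' ∈ Rt k := mem_Rt_of_comm_pow ha.1 hcomm.1.symm
  -- the image of the torus
  have hgA1 : ∀ x ∈ A h, g * x * g⁻¹ ∈ A h := by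
    intro x hx
    obtain ⟨_, ⟨i, rfl⟩, _, ⟨j, rfl⟩, rfl⟩ := (mem_A h).1 hx
    have e : f (r i) (r j) = (f (r 1) 1) ^ i.val * (f 1 (r 1)) ^ j.val := by
      rw [f_pow h, f_pow h, h.f_mul, one_pow, one_pow, one_mul, mul_one, ← r_eq_pow, ← r_eq_pow]
    have e2 : g * ((f (r 1) 1) ^ i.val * (f 1 (r 1)) ^ j.val) * g⁻¹ =
      (g * f (r 1) 1 * g⁻¹) ^ i.val * (g * f 1 (r 1) * g⁻¹) ^ j.val := by
      rw [hpow, hpow]; group
    rw [e, e2, hab, hab']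
    exact (A h).mul_mem ((A h).pow_mem ((mem_A h).2 ⟨a, haR, b, hbR, rfl⟩) _)
      ((A h).pow_mem ((mem_A h).2 ⟨a', ha'R, b', hb'R, rfl⟩) _)
  -- the image of `R`
  have hle : R.map (MulAut.conj g).toMonoidHom ≤ A h := by
    rintro _ ⟨y, hy, rfl⟩
    change g * y * g⁻¹ ∈ A h
    obtain ⟨y1, y2, hy12⟩ := hgR y hy
    obtain ⟨hc1, hc2⟩ := (mem_Y0 h).1 (hRY hy)
    rw [hy12, mem_A h]
    obtain ⟨p, hp, q, hq, e1⟩ := (mem_A h).1 (hgA1 _ ((mem_A h).2 ⟨_, x0_mem_Rt, _, (Rt k).one_mem, rfl⟩))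
    obtain ⟨p', hp', q', hq', e2⟩ := (mem_A h).1 (hgA1 _ ((mem_A h).2 ⟨_, (Rt k).one_mem, _, x0_mem_Rt, rfl⟩))
    have h1 : p * p = c k := by
      have h2 : g * f (x0 k) 1 * g⁻¹ * (g * f (x0 k) 1 * g⁻¹) = f (c k) 1 := by
        have e : g * f (x0 k) 1 * g⁻¹ * (g * f (x0 k) 1 * g⁻¹) = g * (f (x0 k) 1 * f (x0 k) 1) * g⁻¹ := by group
        rw [e, h.f_mul, x0_mul_x0, one_mul, hgt]
      rw [e1, h.f_mul, f_eq_iff h] at h2
      exact h2.1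
    have h1' : q' * q' = c k := by
      have h2 : g * f 1 (x0 k) * g⁻¹ * (g * f 1 (x0 k) * g⁻¹) = f 1 (c k) := by
        have e : g * f 1 (x0 k) * g⁻¹ * (g * f 1 (x0 k) * g⁻¹) = g * (f 1 (x0 k) * f 1 (x0 k)) * g⁻¹ := by group
        rw [e, h.f_mul, x0_mul_x0, one_mul, hgt']
      rw [e2, h.f_mul, f_eq_iff h] at h2
      exact h2.2
    have h3 : f y1 y2 * f p q = f p q * f y1 y2 := by
      rw [← hy12, ← e1]
      have e3 : g * y * g⁻¹ * (g * f (x0 k) 1 * g⁻¹) = g * (y * f (x0 k) 1) * g⁻¹ := by group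
      have e4 : g * f (x0 k) 1 * g⁻¹ * (g * y * g⁻¹) = g * (f (x0 k) 1 * y) * g⁻¹ := by group
      rw [e3, e4, hc1]
    have h4 : f y1 y2 * f p' q' = f p' q' * f y1 y2 := by
      rw [← hy12, ← e2]
      have e3 : g * y * g⁻¹ * (g * f 1 (x0 k) * g⁻¹) = g * (y * f 1 (x0 k)) * g⁻¹ := by group
      have e4 : g * f 1 (x0 k) * g⁻¹ * (g * y * g⁻¹) = g * (f 1 (x0 k) * y) * g⁻¹ := by group
      rw [e3, e4, hc2]
    rw [f_comm_iff h] at h3 h4
    exact ⟨y1, mem_Rt_of_comm h1 h3.1, y2, mem_Rt_of_comm h1' h4.2, rfl⟩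
  symm
  apply Subgroup.eq_of_le_of_card_ge hAR
  rw [← card_map_conj R g]
  exact Subgroup.card_le_of_le hle

/-- Elements of `C((x0, 1), (1, x0))` normalising the torus centralise it. -/
theorem comm_of_norm {x : G} (hx : x ∈ centralizer ({f (x0 k) 1, f 1 (x0 k)} : Set G))
    (hxA : ∀ a ∈ A h, x * a * x⁻¹ ∈ A h) : ∀ a ∈ A h, x * a = a * x := by
  obtain ⟨a, n, hn, hKo⟩ := Nat.exists_eq_two_pow_mul_odd (orderOf_pos x).ne'
  have hK'2 : IsPGroup 2 (zpowers (x ^ n)) := by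
    rintro ⟨y, hy⟩
    obtain ⟨z, rfl⟩ := mem_zpowers_iff.1 hy
    refine ⟨a, Subtype.ext ?_⟩
    change ((x ^ n) ^ z) ^ 2 ^ a = 1
    have e1 : (x ^ n) ^ 2 ^ a = 1 := by
      rw [← pow_mul, mul_comm, ← hKo, pow_orderOf_eq_one]
    rw [← zpow_natCast, ← zpow_mul, mul_comm, zpow_mul, zpow_natCast, e1, one_zpow]
  have hnA : ∀ n : ℕ, ∀ a ∈ A h, x ^ n * a * (x ^ n)⁻¹ ∈ A h := by
    intro n
    induction n with
    | zero => intro a ha; simpa using ha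
    | succ n ih =>
      intro a ha
      have e : x ^ (n + 1) * a * (x ^ (n + 1))⁻¹ = x * (x ^ n * a * (x ^ n)⁻¹) * x⁻¹ := by rw [pow_succ']; group
      rw [e]
      exact hxA _ (ih a ha)
  have hnorm : zpowers (x ^ n) ≤ normalizer (A h : Set G) := by
    rw [zpowers_le, mem_normalizer_iff_map_conj]
    apply map_conj_le_of_le_normalizer
    rintro _ ⟨y, hy, rfl⟩
    exact hnA n y hy
  have hsup : IsPGroup 2 (zpowers (x ^ n) ⊔ A h : Subgroup G) :=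
    IsPGroup.to_sup_of_normal_right' hK'2 (A_isPGroup h) hnorm
  have hxY : zpowers (x ^ n) ⊔ A h ≤ centralizer ({f (x0 k) 1, f 1 (x0 k)} : Set G) := by
    rw [sup_le_iff, zpowers_le]
    exact ⟨Subgroup.pow_mem _ hx n, A_le_Y0 h⟩
  have heq := not_dvd_A h le_sup_right hsup hxY
  have hxn : x ^ n ∈ A h := by
    rw [← heq]
    exact mem_sup_left (mem_zpowers _)
  have hodd : IsOddAut (A h) (fun y => x * y * x⁻¹) := by
    refine ⟨hxA, ?_, n, hn, ?_⟩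
    · intro y _ z _
      group
    · intro y hy
      have e : ∀ m : ℕ, (fun y => x * y * x⁻¹)^[m] y = x ^ m * y * (x ^ m)⁻¹ := by
        intro m
        induction m with
        | zero => simp
        | succ m ih =>
          rw [Function.iterate_succ_apply', ih, pow_succ']
          group
      rw [e, A_comm h hxn hy, mul_inv_cancel_right]
  have hT := comm_t_of_Y0 h hx
  intro y hy
  have h1 := odd_aut_abelian hodd (fun _ hx _ hy => A_comm h hx hy) (by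
    intro y hy hy2
    obtain ⟨_, ⟨i, rfl⟩, _, ⟨j, rfl⟩, rfl⟩ := (mem_A h).1 hy
    rw [f_sq_one_iff h] at hy2
    change x * f (r i) (r j) * x⁻¹ = f (r i) (r j)
    rcases T_cases h (rot_sq_one hy2.1) (rot_sq_one hy2.2) with h3 | h3 | h3 | h3
    · rw [h3]; group
    · rw [h3, hT.1, mul_inv_cancel_right]
    · rw [h3, hT.2, mul_inv_cancel_right]
    · rw [h3, ← t_mul_t' h, ← mul_assoc, hT.1, mul_assoc _ x, hT.2, ← mul_assoc, mul_inv_cancel_right]) (k + 2) y hy (by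
    obtain ⟨_, ⟨i, rfl⟩, _, ⟨j, rfl⟩, rfl⟩ := (mem_A h).1 hy
    have e1 : 2 ^ (k + 2) = 4 * 2 ^ k := by rw [pow_add]; ring
    have e2 : ∀ i : ZMod (4 * 2 ^ k), (r i : D k) ^ (4 * 2 ^ k) = 1 := by
      intro i
      rw [r_eq_pow, pow_right_comm, r_one_pow_n, one_pow]
    rw [f_pow h, e1, e2, e2, f_one h])
  change x * y * x⁻¹ = y at h1
  rw [mul_inv_eq_iff_eq_mul] at h1
  exact h1

/-- The last step: `C((x0, 1), (1, x0))` has a normal 2-complement. -/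
theorem pa_eq_of_Y0 {g : G} (hg : g ∈ centralizer ({f (x0 k) 1, f 1 (x0 k)} : Set G)) {i j : ZMod (4 * 2 ^ k)}
    (hij : g * f (sr i) 1 * g⁻¹ = f (sr j) 1) : pa i = pa j := by
  have hnd : ¬ 2 ∣ (A h).relIndex (centralizer ({f (x0 k) 1, f 1 (x0 k)} : Set G)) := by
    obtain ⟨R, hAR, hRY, hR, hRi⟩ := exists_sylow_in (p := 2) (A_le_Y0 h) (A_isPGroup h)
    rwa [not_dvd_A h hAR hR hRY] at hRi
  obtain ⟨K, hKY, hK2, hKA, hKo, hKn⟩ := burnside_in (A_isPGroup h) (A_le_Y0 h) hnd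
    (fun x hx hxA => comm_of_norm h hx hxA)
  obtain ⟨o, ho, a, ha, rfl⟩ := hKA g hg
  obtain ⟨_, ⟨l, rfl⟩, _, ⟨l', rfl⟩, rfl⟩ := (mem_A h).1 ha
  -- conjugation by the torus
  have h1 : f (r l) (r l') * f (sr i) 1 * (f (r l) (r l'))⁻¹ = f (r l * sr i * (r l)⁻¹) 1 := by
    rw [f_conj h, mul_one, mul_inv_cancel]
  obtain ⟨i', hi'⟩ : ∃ i', r l * sr i * (r l)⁻¹ = (sr i' : D k) := by
    rw [inv_r, r_mul_sr, sr_mul_r]
    exact ⟨_, rfl⟩
  have hpi := pa_conj_sr hi'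
  have h2 : o * f (sr i') 1 * o⁻¹ = f (sr j) 1 := by
    rw [← hij, ← hi', ← h1]; group
  -- the commutator lies in `K`
  have hy : f (sr i') 1 * o⁻¹ * (f (sr i') 1)⁻¹ ∈ K := by
    have h3 : f (sr i') 1 * o * (f (sr i') 1)⁻¹ ∈ centralizer ({f (x0 k) 1, f 1 (x0 k)} : Set G) := by
      rw [mem_Y0 h]
      obtain ⟨h4, h5⟩ := (mem_Y0 h).1 (hKY ho)
      have e0 : ∀ x : G, f (sr i') 1 * o * (f (sr i') 1)⁻¹ * x * (f (sr i') 1 * o * (f (sr i') 1)⁻¹)⁻¹ =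
        f (sr i') 1 * (o * ((f (sr i') 1)⁻¹ * x * f (sr i') 1) * o⁻¹) * (f (sr i') 1)⁻¹ := by
        intro x; group
      constructor
      · rw [← mul_inv_eq_iff_eq_mul, e0]
        have e1 : (f (sr i') 1)⁻¹ * f (x0 k) 1 * f (sr i') 1 = (f (x0 k) 1)⁻¹ := by
          rw [f_inv h, f_inv h, h.f_mul, h.f_mul, inv_one, one_mul, one_mul, x0, sr_inv, sr_mul_r, sr_mul_sr, inv_r]
          congr 2
          ring
        have h6 : Commute o (f (x0 k) 1) := h4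
        have h7 : o * (f (x0 k) 1)⁻¹ = (f (x0 k) 1)⁻¹ * o := h6.inv_right
        rw [e1, h7, mul_inv_cancel_right, ← e1]
        group
      · rw [← mul_inv_eq_iff_eq_mul, e0]
        have e1 : (f (sr i') 1)⁻¹ * f 1 (x0 k) * f (sr i') 1 = f 1 (x0 k) := by
          rw [f_inv h, h.f_mul, h.f_mul, inv_one, one_mul, mul_one, mul_one, inv_mul_cancel]
        have e2 : f (sr i') 1 * f 1 (x0 k) = f 1 (x0 k) * f (sr i') 1 := by
          rw [f_comm_iff h]; simp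
        rw [e1, h5, mul_inv_cancel_right, e2, mul_inv_cancel_right]
    have h6 : f (sr i') 1 * o * (f (sr i') 1)⁻¹ ∈ K := by
      apply hKo _ h3
      have h7 : orderOf (f (sr i') 1 * o * (f (sr i') 1)⁻¹) = orderOf o := by
        have h8 := orderOf_injective (MulAut.conj (f (sr i') 1)).toMonoidHom (MulAut.conj (f (sr i') 1)).injective o
        simpa using h8
      rw [h7]
      intro h8
      apply hK2
      have h9 : orderOf (⟨o, ho⟩ : K) ∣ Nat.card K := orderOf_dvd_natCard _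
      rw [Subgroup.orderOf_mk] at h9
      exact h8.trans h9
    have h7 := K.inv_mem h6
    have e : (f (sr i') 1 * o * (f (sr i') 1)⁻¹)⁻¹ = f (sr i') 1 * o⁻¹ * (f (sr i') 1)⁻¹ := by group
    rwa [e] at h7
  have hq : f (sr j * sr i') 1 ∈ K := by
    have h3 := K.mul_mem ho hy
    have e : o * (f (sr i') 1 * o⁻¹ * (f (sr i') 1)⁻¹) = f (sr j * sr i') 1 := by
      have e1 : o * (f (sr i') 1 * o⁻¹ * (f (sr i') 1)⁻¹) = (o * f (sr i') 1 * o⁻¹) * (f (sr i') 1)⁻¹ := by group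
      rw [e1, h2, f_inv h, h.f_mul, sr_inv, inv_one, mul_one]
    rwa [e] at h3
  -- an element of 2-power order in `K` is trivial
  have h3 : f (sr j * sr i') 1 = 1 := by
    obtain ⟨n, hn⟩ := P.isPGroup' ⟨f (sr j * sr i') 1, f_mem h _ _⟩
    have hn' : (f (sr j * sr i') 1) ^ 2 ^ n = 1 := congrArg Subtype.val hn
    have h4 : orderOf (f (sr j * sr i') 1) ∣ 2 ^ n := orderOf_dvd_of_pow_eq_one hn'
    have h5 : orderOf (⟨_, hq⟩ : K) ∣ Nat.card K := orderOf_dvd_natCard _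
    rw [Subgroup.orderOf_mk] at h5
    obtain ⟨m, -, hm⟩ := (Nat.dvd_prime_pow Nat.prime_two).1 h4
    rcases Nat.eq_zero_or_pos m with h6 | h6
    · rw [h6, pow_zero] at hm
      exact orderOf_eq_one_iff.1 hm
    · exfalso
      apply hK2
      rw [hm] at h5
      exact (dvd_pow_self 2 (by omega)).trans h5
  have h4 := ((f_eq_one_iff h).1 h3).1
  have h5 : (sr j : D k) = sr i' := by
    rw [mul_eq_one_iff_eq_inv, sr_inv] at h4
    exact h4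
  rw [hpi, DihedralGroup.sr.inj h5]

/-- `(sr i, 1)` and `(sr j, 1)` are conjugate in `C(T)` only if `i ≡ j mod 2`. -/
theorem pa_eq (ht : Typ f) {g : G} (hg1 : g * f (c k) 1 = f (c k) 1 * g) (hg2 : g * f 1 (c k) = f 1 (c k) * g)
    {i j : ZMod (4 * 2 ^ k)} (hij : g * f (sr i) 1 * g⁻¹ = f (sr j) 1) : pa i = pa j := by
  have hgt : g * f (c k) 1 * g⁻¹ = f (c k) 1 := by rw [hg1, mul_inv_cancel_right]
  have hgt' : g * f 1 (c k) * g⁻¹ = f 1 (c k) := by rw [hg2, mul_inv_cancel_right]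
  have hsrc : ∀ l : ZMod (4 * 2 ^ k), f (sr l * c k) 1 = f (sr l) 1 * f (c k) 1 := by
    intro l; rw [h.f_mul, mul_one]
  have hijc : g * f (sr i * c k) 1 * g⁻¹ = f (sr j * c k) 1 := by
    rw [hsrc, hsrc, ← hij]
    conv_rhs => rw [← hgt]
    group
  have hgc1 : Commute g (f (c k) 1) := hg1
  have hgc2 : Commute g (f 1 (c k)) := hg2
  -- Sylow in the normaliser
  have hmap : (((W i).prod ⊤).map (F h)).map (MulAut.conj g).toMonoidHom ≤ NT h j := by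
    rintro _ ⟨x, hx, rfl⟩
    change g * x * g⁻¹ ∈ NT h j
    obtain ⟨h1, h2, h3⟩ := WD_le h i hx
    have h4 : Commute x (f (c k) 1) := h1
    have h5 : Commute x (f 1 (c k)) := h2
    refine ⟨(hgc1.mul_left h4).mul_left hgc1.inv_left, (hgc2.mul_left h5).mul_left hgc2.inv_left, ?_⟩
    have e : g * x * g⁻¹ * f (sr j) 1 * (g * x * g⁻¹)⁻¹ = g * (x * f (sr i) 1 * x⁻¹) * g⁻¹ := by
      rw [← hij]; group
    rw [e]
    rcases h3 with h3 | h3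
    · left; rw [h3, hij]
    · right; rw [h3, hijc]
  obtain ⟨n, hn, hnW⟩ := exists_conj_le_in (WD_isPGroup h j) (not_dvd_WD h ht j) hmap ((WD_isPGroup h i).map _)
  obtain ⟨hn1, hn2, hn3⟩ := hn
  have hnc1 : Commute n (f (c k) 1) := hn1
  have hnc2 : Commute n (f 1 (c k)) := hn2
  set g1 := n * g with hg1def
  have hc1 : g1 * f (c k) 1 = f (c k) 1 * g1 := hnc1.mul_left hgc1
  have hc2 : g1 * f 1 (c k) = f 1 (c k) * g1 := hnc2.mul_left hgc2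
  have hmem : ∀ a ∈ W i, ∀ b, g1 * f a b * g1⁻¹ ∈ base h := by
    intro a ha b
    obtain ⟨⟨p, q⟩, -, e⟩ := hnW (x := n * (g * f a b * g⁻¹) * n⁻¹)
      ⟨g * f a b * g⁻¹, ⟨f a b, ⟨(a, b), ⟨ha, mem_top _⟩, rfl⟩, rfl⟩, rfl⟩
    refine ⟨p, q, ?_⟩
    change f p q = _ at e
    rw [e, hg1def]; group
  obtain ⟨j', hj', hpj⟩ : ∃ j', g1 * f (sr i) 1 * g1⁻¹ = f (sr j') 1 ∧ pa j' = pa j := by
    have e : g1 * f (sr i) 1 * g1⁻¹ = n * f (sr j) 1 * n⁻¹ := by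
      rw [← hij, hg1def]; group
    rcases hn3 with hn3 | hn3
    · exact ⟨j, by rw [e, hn3], rfl⟩
    · obtain ⟨l, hl1, hl2⟩ := pa_src j
      exact ⟨l, by rw [e, hn3, hl1], hl2⟩
  -- the images of `(x0, 1)` and `(1, x0)`
  have hroot : ∀ l l' : ZMod (4 * 2 ^ k), (sr l * sr l' : D k) * (sr l * sr l') = c k →
      sr l * sr l' = x0 k ∨ sr l * sr l' = (x0 k)⁻¹ := by
    intro l l' e
    rcases eq_of_sq_c e with h1 | h1
    · exact Or.inl h1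
    · right; rw [h1, x0_inv]
  have hsx : sr i * x0 k ∈ W i := (W i).mul_mem (V_le_W i (sr_mem_V i)) (x0_mem_W i)
  have hx1 : g1 * f (x0 k) 1 * g1⁻¹ = f (x0 k) 1 ∨ g1 * f (x0 k) 1 * g1⁻¹ = f (x0 k)⁻¹ 1 := by
    have hm := hmem _ hsx 1
    rw [sr_mul_x0] at hm
    obtain ⟨l, hl⟩ := conj_sr_mem h ht hc1 hc2 hm
    have e : f (x0 k) 1 = f (sr i) 1 * f (sr (i + ((2 ^ k : ℕ) : ZMod (4 * 2 ^ k)))) 1 := by
      rw [← sr_mul_x0, h.f_mul, ← mul_assoc, sr_mul_self, one_mul, one_mul]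
    have e1 : g1 * f (x0 k) 1 * g1⁻¹ = f (sr j' * sr l) 1 := by
      have e2 : ∀ x y : G, g1 * (x * y) * g1⁻¹ = (g1 * x * g1⁻¹) * (g1 * y * g1⁻¹) := by intros; group
      rw [e, e2, hj', hl, h.f_mul, one_mul]
    have e3 : (sr j' * sr l : D k) * (sr j' * sr l) = c k := by
      have e4 : f ((sr j' * sr l) * (sr j' * sr l)) 1 = f (c k) 1 := by
        have e5 : g1 * f (x0 k) 1 * g1⁻¹ * (g1 * f (x0 k) 1 * g1⁻¹) = g1 * (f (x0 k) 1 * f (x0 k) 1) * g1⁻¹ := by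
          group
        rw [h.f_mul (x0 k), x0_mul_x0, one_mul, hc1, mul_inv_cancel_right, e1, h.f_mul, one_mul] at e5
        exact e5
      exact ((f_eq_iff h).1 e4).1
    rcases hroot _ _ e3 with h4 | h4
    · left; rw [e1, h4]
    · right; rw [e1, h4]
  have hx2 : g1 * f 1 (x0 k) * g1⁻¹ = f 1 (x0 k) ∨ g1 * f 1 (x0 k) * g1⁻¹ = f 1 (x0 k)⁻¹ := by
    obtain ⟨l, hl⟩ := conj_one_sr_mem h ht hc1 hc2 (hmem 1 (W i).one_mem (sr 0))
    obtain ⟨l', hl'⟩ := conj_one_sr_mem h ht hc1 hc2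
      (hmem 1 (W i).one_mem (sr (0 + ((2 ^ k : ℕ) : ZMod (4 * 2 ^ k)))))
    have e : f 1 (x0 k) = f 1 (sr 0) * f 1 (sr (0 + ((2 ^ k : ℕ) : ZMod (4 * 2 ^ k)))) := by
      rw [← sr_mul_x0, h.f_mul, ← mul_assoc, sr_mul_self, one_mul, one_mul]
    have e1 : g1 * f 1 (x0 k) * g1⁻¹ = f 1 (sr l * sr l') := by
      have e2 : ∀ x y : G, g1 * (x * y) * g1⁻¹ = (g1 * x * g1⁻¹) * (g1 * y * g1⁻¹) := by intros; group
      rw [e, e2, hl, hl', h.f_mul, one_mul]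
    have e3 : (sr l * sr l' : D k) * (sr l * sr l') = c k := by
      have e4 : f 1 ((sr l * sr l') * (sr l * sr l')) = f 1 (c k) := by
        have e5 : g1 * f 1 (x0 k) * g1⁻¹ * (g1 * f 1 (x0 k) * g1⁻¹) = g1 * (f 1 (x0 k) * f 1 (x0 k)) * g1⁻¹ := by
          group
        rw [h.f_mul 1 (x0 k), x0_mul_x0, one_mul, hc2, mul_inv_cancel_right, e1, h.f_mul, one_mul] at e5
        exact e5
      exact ((f_eq_iff h).1 e4).2
    rcases hroot _ _ e3 with h4 | h4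
    · left; rw [e1, h4]
    · right; rw [e1, h4]
  -- adjust by reflections
  have hsr : ∀ l : ZMod (4 * 2 ^ k), sr l * (x0 k)⁻¹ * (sr l)⁻¹ = x0 k := by
    intro l
    rw [x0, inv_r, sr_r_sr, inv_r, neg_neg]
  have e0 : ∀ a b x : G, (a * b) * x * (a * b)⁻¹ = a * (b * x * b⁻¹) * a⁻¹ := by intros; group
  obtain ⟨g2, j'', hg2x, hg2y, hg2s, hp2⟩ : ∃ g2 j'', g2 * f (x0 k) 1 * g2⁻¹ = f (x0 k) 1 ∧
      (g2 * f 1 (x0 k) * g2⁻¹ = f 1 (x0 k) ∨ g2 * f 1 (x0 k) * g2⁻¹ = f 1 (x0 k)⁻¹) ∧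
      g2 * f (sr i) 1 * g2⁻¹ = f (sr j'') 1 ∧ pa j'' = pa j := by
    rcases hx1 with hx1 | hx1
    · exact ⟨g1, j', hx1, hx2, hj', hpj⟩
    · obtain ⟨l, hl⟩ : ∃ l, sr j' * sr j' * (sr j')⁻¹ = (sr l : D k) := ⟨j', by rw [mul_inv_cancel_right]⟩
      refine ⟨f (sr j') 1 * g1, j', ?_, ?_, ?_, hpj⟩
      · rw [e0, hx1, f_conj h, hsr]; simp
      · rw [e0]
        rcases hx2 with hx2 | hx2
        · left; rw [hx2, f_conj h]; simp
        · right; rw [hx2, f_conj h]; simp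
      · rw [e0, hj', mul_inv_cancel_right]
  rcases hg2y with hg2y | hg2y
  · rw [← hp2]
    apply pa_eq_of_Y0 h _ hg2s
    rw [mem_Y0 h, ← mul_inv_eq_iff_eq_mul, ← mul_inv_eq_iff_eq_mul]
    exact ⟨hg2x, hg2y⟩
  · rw [← hp2]
    apply pa_eq_of_Y0 h (g := f 1 (sr 0) * g2)
    · rw [mem_Y0 h, ← mul_inv_eq_iff_eq_mul, ← mul_inv_eq_iff_eq_mul]
      constructor
      · rw [e0, hg2x, f_conj h]; simp
      · rw [e0, hg2y, f_conj h, hsr]; simp
    · rw [e0, hg2s, f_conj h]; simp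

end Sylow

end Cfsg.Agent.LFourA.ClassInv
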