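import Mathlib
import Cfsg.Agent.LFourA.ClassInv

/-!
# Fusion in a group with Sylow 2-subgroup `D wr 2`: the two fusion patterns
-/

set_option autoImplicit false

namespace Cfsg.Agent.LFourA.Fusion

open DihedralGroup Cfsg.Agent.LFourA.Model Cfsg.Agent.LFourA.Base Cfsg.Agent.LFourA.Facts Subgroup
open Cfsg.Agent.Lib.GoldschmidtFusion Cfsg.Agent.LFourA.FOne Cfsg.Agent.LFourA.Defs Cfsg.Agent.LFourA.FTwo
open Cfsg.Agent.LFourA.FThree Cfsg.Agent.LFourA.RhoFix Cfsg.Agent.LFourA.Types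

variable {G : Type*} [Group G] {k : ℕ} {f : D k → D k → G} {w : G}

section Sylow

variable [Finite G] {P : Sylow 2 G} (h : DWr (P : Subgroup G) k f w)

include h

/-- **(F4)** Pairs of reflections of different parity are conjugate to `z`. -/
theorem diff_z (hG : ∀ φ : G →* ℤˣ, ∀ x, φ x = 1) (ht : Typ f) {i j : ZMod (4 * 2 ^ k)} (hij : pa i ≠ pa j) :
    IsConj (f (sr i) (sr j)) (f (c k) (c k)) := by
  rcases isConj_t_or_z h hG ht i j with h1 | h1
  swap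
  · exact h1
  exfalso
  obtain ⟨ρ, η, hρ⟩ := exists_rho h hG ht i
  obtain ⟨ρ', η', hρ'⟩ := exists_rho h hG ht j
  have hη : η (sr j) = c k := eta_of_t h ht hρ h1
  have hη' : η' (sr i) = c k := eta_of_t h ht hρ' ((swap_isConj h _ _).symm.trans h1)
  have hηc : η (c k) = 1 := by
    rw [← x0_mul_x0, map_mul]; exact eta_sq h hρ _
  have hηc' : η' (c k) = 1 := by
    rw [← x0_mul_x0, map_mul]; exact eta_sq h hρ' _
  have hηj : η (sr j * c k) = c k := by rw [map_mul, hη, hηc, mul_one]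
  have hηi : η' (sr i * c k) = c k := by rw [map_mul, hη', hηc', mul_one]
  -- the five elements
  have a0 : ρ * f (c k) (c k) * ρ⁻¹ = f (sr i) (c k) := by
    have := rho_coset h hρ (b := c k) hρ.t_s
    rwa [hηc, mul_one, mul_one] at this
  have a1 : ρ * f (sr i) (c k) * ρ⁻¹ = f (sr i * c k) (c k) := by
    have := rho_coset h hρ (b := c k) hρ.s_sc
    rwa [hηc, mul_one, mul_one] at this
  have a2 : ρ * f (sr i * c k) (c k) * ρ⁻¹ = f (c k) (c k) := by
    have := rho_coset h hρ (b := c k) hρ.sc_t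
    rwa [hηc, mul_one, mul_one] at this
  have a3 : ρ * f (c k) (sr j) * ρ⁻¹ = f (c k) (sr j) := by
    have := hρ.fix (sr j)
    rw [hη] at this
    rw [this, mul_inv_cancel_right]
  have a4 : ρ * f (c k) (sr j * c k) * ρ⁻¹ = f (c k) (sr j * c k) := by
    have := hρ.fix (sr j * c k)
    rw [hηj] at this
    rw [this, mul_inv_cancel_right]
  have eb : ∀ p q p' q' : D k, ρ' * f p q * ρ'⁻¹ = f p' q' →
      (w * ρ' * w⁻¹) * f q p * (w * ρ' * w⁻¹)⁻¹ = f q' p' := by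
    intro p q p' q' e
    have e1 : (w * ρ' * w⁻¹) * f q p * (w * ρ' * w⁻¹)⁻¹ = w * (ρ' * (w⁻¹ * f q p * w) * ρ'⁻¹) * w⁻¹ := by group
    rw [e1, w_conj' h, e, w_conj h]
  have b0 : (w * ρ' * w⁻¹) * f (c k) (c k) * (w * ρ' * w⁻¹)⁻¹ = f (c k) (sr j) := by
    apply eb
    have := rho_coset h hρ' (b := c k) hρ'.t_s
    rwa [hηc', mul_one, mul_one] at this
  have b3 : (w * ρ' * w⁻¹) * f (c k) (sr j) * (w * ρ' * w⁻¹)⁻¹ = f (c k) (sr j * c k) := by
    apply eb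
    have := rho_coset h hρ' (b := c k) hρ'.s_sc
    rwa [hηc', mul_one, mul_one] at this
  have b4 : (w * ρ' * w⁻¹) * f (c k) (sr j * c k) * (w * ρ' * w⁻¹)⁻¹ = f (c k) (c k) := by
    apply eb
    have := rho_coset h hρ' (b := c k) hρ'.sc_t
    rwa [hηc', mul_one, mul_one] at this
  have b1 : (w * ρ' * w⁻¹) * f (sr i) (c k) * (w * ρ' * w⁻¹)⁻¹ = f (sr i) (c k) := by
    apply eb
    have := hρ'.fix (sr i)
    rw [hη'] at this
    rw [this, mul_inv_cancel_right]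
  have b2 : (w * ρ' * w⁻¹) * f (sr i * c k) (c k) * (w * ρ' * w⁻¹)⁻¹ = f (sr i * c k) (c k) := by
    apply eb
    have := hρ'.fix (sr i * c k)
    rw [hηi] at this
    rw [this, mul_inv_cancel_right]
  generalize hb : w * ρ' * w⁻¹ = b at b0 b1 b2 b3 b4
  have e5 : ∀ x : G, (ρ * b * ρ * b * ρ) * x * (ρ * b * ρ * b * ρ)⁻¹ =
      ρ * (b * (ρ * (b * (ρ * x * ρ⁻¹) * b⁻¹) * ρ⁻¹) * b⁻¹) * ρ⁻¹ := by intro x; group
  set σ := ρ * b * ρ * b * ρ with hσ
  have s1 : σ * f (sr i) (c k) * σ⁻¹ = f (c k) (sr j) := by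
    rw [e5, a1, b2, a2, b0, a3]
  have s2 : σ * f (sr i * c k) (c k) * σ⁻¹ = f (c k) (sr j * c k) := by
    rw [e5, a2, b0, a3, b3, a4]
  have s3 : σ * f (c k) (sr j) * σ⁻¹ = f (sr i) (c k) := by
    rw [e5, a3, b3, a4, b4, a0]
  have s4 : σ * f (c k) (sr j * c k) * σ⁻¹ = f (sr i * c k) (c k) := by
    rw [e5, a4, b4, a0, b1, a1]
  have emul : ∀ x y : G, σ * (x * y) * σ⁻¹ = (σ * x * σ⁻¹) * (σ * y * σ⁻¹) := by intros; group
  have hi2 : (sr i : D k) * (sr i * c k) = c k := by rw [← mul_assoc, sr_mul_self, one_mul]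
  have hj2 : (sr j : D k) * (sr j * c k) = c k := by rw [← mul_assoc, sr_mul_self, one_mul]
  have st : σ * f (c k) 1 * σ⁻¹ = f 1 (c k) := by
    have e : f (c k) 1 = f (sr i) (c k) * f (sr i * c k) (c k) := by rw [h.f_mul, hi2, c_mul_c]
    rw [e, emul, s1, s2, h.f_mul, hj2, c_mul_c]
  have st' : σ * f 1 (c k) * σ⁻¹ = f (c k) 1 := by
    have e : f 1 (c k) = f (c k) (sr j) * f (c k) (sr j * c k) := by rw [h.f_mul, hj2, c_mul_c]
    rw [e, emul, s3, s4, h.f_mul, hi2, c_mul_c]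
  have ss : σ * f (sr i) 1 * σ⁻¹ = f 1 (sr j) := by
    have e : f (sr i) 1 = f (sr i) (c k) * f 1 (c k) := by rw [h.f_mul, mul_one, c_mul_c]
    rw [e, emul, s1, st', h.f_mul, c_mul_c, mul_one]
  apply hij
  have e6 : ∀ x : G, (w * σ) * x * (w * σ)⁻¹ = w * (σ * x * σ⁻¹) * w⁻¹ := by intro x; group
  apply ClassInv.pa_eq h ht (g := w * σ)
  · rw [← mul_inv_eq_iff_eq_mul, e6, st, w_conj h]
  · rw [← mul_inv_eq_iff_eq_mul, e6, st', w_conj h]
  · rw [e6, ss, w_conj h]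

/-- Every involution of the base group is conjugate to `t` or `z`. -/
theorem base_inv (hG : ∀ φ : G →* ℤˣ, ∀ x, φ x = 1) (ht : Typ f) {x : G} (hx : x ∈ base h) (hx2 : x * x = 1)
    (hx1 : x ≠ 1) : IsConj x (f (c k) 1) ∨ IsConj x (f (c k) (c k)) := by
  obtain ⟨a, b, rfl⟩ := hx
  rw [f_sq_one_iff h] at hx2
  rcases eq_of_sq_one hx2.1 with rfl | rfl | ⟨i, rfl⟩ <;> rcases eq_of_sq_one hx2.2 with rfl | rfl | ⟨j, rfl⟩
  · exact absurd (f_one h) hx1
  · exact Or.inl (t'_t h)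
  · exact Or.inl (one_sr_t h ht j)
  · exact Or.inl (IsConj.refl _)
  · exact Or.inr (IsConj.refl _)
  · exact Or.inr (c_sr_z h ht j)
  · exact Or.inl (ht.typ_t i)
  · exact Or.inr (ht.typ_z i)
  · exact isConj_t_or_z h hG ht i j

/-- `w` is conjugate to `t` or `z`. -/
theorem w_t_or_z (hG : ∀ φ : G →* ℤˣ, ∀ x, φ x = 1) (ht : Typ f) : IsConj w (f (c k) 1) ∨ IsConj w (f (c k) (c k)) := by
  obtain ⟨g, hg, -⟩ := Cfsg.Agent.SylowSp4.ExtTransfer.exists_extremal P (base h) (base_le h) (relIndex_base h) w h.w_w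
    (fun φ => hG φ _) ⊥ IsPGroup.of_bot (by
      intro r hr
      rw [mem_bot.1 hr, one_mul, mul_one])
  have h1 : IsConj w (g * w * g⁻¹) := isConj_iff.2 ⟨g, rfl⟩
  have h2 : g * w * g⁻¹ * (g * w * g⁻¹) = 1 := by
    have e : g * w * g⁻¹ * (g * w * g⁻¹) = g * (w * w) * g⁻¹ := by group
    rw [e, h.w_w, mul_one, mul_inv_cancel]
  have h3 : g * w * g⁻¹ ≠ 1 := by
    intro e
    apply h.w_ne 1 1
    rw [f_one h]
    have e1 : w = g⁻¹ * (g * w * g⁻¹) * g := by group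
    rw [e1, e]; group
  rcases base_inv h hG ht hg h2 h3 with h4 | h4
  · exact Or.inl (h1.trans h4)
  · exact Or.inr (h1.trans h4)

theorem ff_comm_w (a : D k) : f a a * w = w * f a a := (h.w_f a a).symm

/-- Commutator of diagonal elements. -/
theorem z_eq_comm (i : ZMod (4 * 2 ^ k)) :
    f (sr i) (sr i) * f (x0 k) (x0 k) * (f (sr i) (sr i))⁻¹ * (f (x0 k) (x0 k))⁻¹ = f (c k) (c k) := by
  rw [f_inv h, f_inv h, h.f_mul, h.f_mul, h.f_mul, comm_sr_x0]

theorem z_sq : f (c k) (c k) * f (c k) (c k) = 1 := by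
  rw [h.f_mul, c_mul_c, f_one h]

/-- **(F5), (F6)** If `w` is conjugate to `t` then all pairs `(sr i, sr i)` are. -/
theorem same_t (hG : ∀ φ : G →* ℤˣ, ∀ x, φ x = 1) (ht : Typ f) (hw : IsConj w (f (c k) 1)) :
    (∃ g : G, g * w * g⁻¹ = f (c k) 1 ∧ g * f (c k) (c k) * g⁻¹ = f (c k) (c k)) ∧
      ∀ i, IsConj (f (sr i) (sr i)) (f (c k) 1) := by
  have htz := not_isConj_tz h
  obtain ⟨g₀, hg₀⟩ := isConj_iff.1 hw
  have hR : IsPGroup 2 ((P : Subgroup G) ⊓ centralizer ({w} : Set G) : Subgroup G) := P.isPGroup'.to_le inf_le_left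
  obtain ⟨g, hg, hgR⟩ := exists_conj_base_of_conj h hg₀ hR (fun x hx => mem_centralizer_singleton_iff.1 hx.2)
  have hgD : ∀ a, g * f a a * g⁻¹ ∈ base h := fun a =>
    hgR _ ⟨f_mem h a a, mem_centralizer_singleton_iff.2 (ff_comm_w h a)⟩
  have hz : g * f (c k) (c k) * g⁻¹ = f (c k) (c k) := by
    obtain ⟨p, q, hp, hq, e⟩ := conj_comm_rot h (hgD (sr 0)) (hgD (x0 k)) (by rw [z_eq_comm h, z_sq h])
    rw [z_eq_comm h] at e
    have hcz : IsConj (f (c k) (c k)) (f p q) := isConj_iff.2 ⟨g, e⟩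
    rcases T_cases h hp hq with h1 | h1 | h1 | h1
    · exfalso
      rw [h1] at e
      apply z_ne_one h
      have e1 : f (c k) (c k) = g⁻¹ * (g * f (c k) (c k) * g⁻¹) * g := by group
      rw [e1, e]; group
    · rw [h1] at hcz
      exact absurd hcz.symm htz
    · rw [h1] at hcz
      exact absurd ((t'_t h).symm.trans hcz.symm) htz
    · rw [e, h1]
  refine ⟨⟨g, hg, hz⟩, ?_⟩
  intro i
  rcases isConj_t_or_z h hG ht i i with h1 | h1
  · exact h1
  exfalso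
  have hconj : ∀ x : G, IsConj x (g * x * g⁻¹) := fun x => isConj_iff.2 ⟨g, rfl⟩
  set u := g * f (sr i) (sr i) * g⁻¹ with hu
  have hu_z : IsConj u (f (c k) (c k)) := (hconj _).symm.trans h1
  have huz : IsConj (u * f (c k) (c k)) (f (c k) (c k)) := by
    have e : u * f (c k) (c k) = g * f (sr i * c k) (sr i * c k) * g⁻¹ := by
      rw [← h.f_mul (sr i) (sr i) (c k) (c k), hu]
      conv_lhs => rw [← hz]
      group
    rw [e]
    refine (hconj _).symm.trans ?_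
    obtain ⟨l, hl1, hl2⟩ := pa_src i
    rw [hl1]
    exact (isConj_pair h hl2 hl2).trans h1
  have hut : IsConj (u * f (c k) 1) (f (c k) 1) := by
    have e : u * f (c k) 1 = g * (f (sr i) (sr i) * w) * g⁻¹ := by
      rw [hu, ← hg]; group
    have e1 : f (sr i) (sr i) * w = f (sr i) 1 * w * (f (sr i) 1)⁻¹ := by
      have := fw_eq_conj_w h (sr i)
      rwa [sr_inv] at this
    rw [e]
    refine (hconj _).symm.trans ?_
    rw [e1]
    exact (isConj_iff.2 ⟨_, rfl⟩ : IsConj w (f (sr i) 1 * w * (f (sr i) 1)⁻¹)).symm.trans hw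
  have hu2 : u * u = 1 := by
    have e : u * u = g * (f (sr i) (sr i) * f (sr i) (sr i)) * g⁻¹ := by rw [hu]; group
    rw [e, (f_sq_one_iff h).2 ⟨sr_mul_self i, sr_mul_self i⟩, mul_one, mul_inv_cancel]
  obtain ⟨a, b, hab⟩ := hgD (sr i)
  rw [← hu] at hab
  rw [hab] at hu_z huz hut hu2
  rw [f_sq_one_iff h] at hu2
  rw [h.f_mul] at huz hut
  rw [mul_one] at hut
  rcases eq_of_sq_one hu2.1 with rfl | rfl | ⟨l, rfl⟩ <;> rcases eq_of_sq_one hu2.2 with rfl | rfl | ⟨l', rfl⟩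
  · rw [f_one h] at hu_z
    exact z_ne_one h (isConj_one_right.1 hu_z)
  · exact htz ((t'_t h).symm.trans hu_z)
  · exact htz ((one_sr_t h ht l').symm.trans hu_z)
  · exact htz hu_z
  · have e1 : f (sr i) (sr i) = f (c k) (c k) := by
      have e2 : f (sr i) (sr i) = g⁻¹ * u * g := by rw [hu]; group
      have e3 : f (c k) (c k) = g⁻¹ * (g * f (c k) (c k) * g⁻¹) * g := by group
      rw [e2, hab]
      conv_rhs => rw [e3, hz]
    exact sr_ne_c _ ((f_eq_iff h).1 e1).1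
  · rw [c_mul_c] at huz
    rw [sr_c] at huz
    exact htz ((one_sr_t h ht _).symm.trans huz)
  · exact htz ((ht.typ_t l).symm.trans hu_z)
  · rw [c_mul_c, sr_c] at huz
    exact htz ((ht.typ_t _).symm.trans huz)
  · have e1 : IsConj (f (sr l * c k) (sr l')) (f (sr l) (sr l')) := by
      apply IsConj.symm
      rw [isConj_iff]
      exact ⟨f (x0 k) 1, by rw [f_conj h, x0_sr]; simp⟩
    exact htz (hut.symm.trans (e1.trans hu_z))

/-- Commutators of elements of `S` lie in subgroups of index two. -/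
theorem comm_mem_of_relIndex {M : Subgroup G} (hMP : M ≤ (P : Subgroup G)) (hM : M.relIndex (P : Subgroup G) = 2)
    {x y : G} (hx : x ∈ (P : Subgroup G)) (hy : y ∈ (P : Subgroup G)) : x * y * x⁻¹ * y⁻¹ ∈ M := by
  have hM' : (M.subgroupOf (P : Subgroup G)).index = 2 := hM
  have h1 := fun (a b : (P : Subgroup G)) => Subgroup.mul_mem_iff_of_index_two hM' (a := a) (b := b)
  have h2 : (⟨x, hx⟩ * ⟨y, hy⟩ * ⟨x, hx⟩⁻¹ * ⟨y, hy⟩⁻¹ : (P : Subgroup G)) ∈ M.subgroupOf (P : Subgroup G) := by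
    rw [h1, h1, h1, inv_mem_iff, inv_mem_iff]
    tauto
  exact h2

end Sylow

end Cfsg.Agent.LFourA.Fusion
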