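import Mathlib
import Cfsg.Agent.LFourA.Fusion

/-!
# Fusion in a group with Sylow 2-subgroup `D wr 2`: the theorem `CaseI ∨ CaseII`
-/

set_option autoImplicit false

namespace Cfsg.Agent.LFourA.FusionMain

open DihedralGroup Cfsg.Agent.LFourA.Model Cfsg.Agent.LFourA.Base Cfsg.Agent.LFourA.Facts Subgroup
open Cfsg.Agent.Lib.GoldschmidtFusion Cfsg.Agent.LFourA.FOne Cfsg.Agent.LFourA.Defs Cfsg.Agent.LFourA.FTwo
open Cfsg.Agent.LFourA.FThree Cfsg.Agent.LFourA.RhoFix Cfsg.Agent.LFourA.Types Cfsg.Agent.LFourA.Fusion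

section Dih

variable {k : ℕ}

/-- The automorphism of `D k` fixing the rotations and shifting the reflections. -/
def sh (k : ℕ) : D k →* D k where
  toFun
    | r i => r i
    | sr i => sr (i + 1)
  map_one' := rfl
  map_mul' := by
    rintro (i | i) (j | j)
    · rfl
    · simp only [r_mul_sr]; congr 1; ring
    · simp only [sr_mul_r]; congr 1; ring
    · simp only [sr_mul_sr]; congr 1; ring

theorem sh_sr (i : ZMod (4 * 2 ^ k)) : sh k (sr i) = sr (i + 1) := rfl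

theorem sh_c : sh k (c k) = c k := rfl

theorem sh_surj (a : D k) : ∃ b, sh k b = a := by
  rcases a with i | i
  · exact ⟨r i, rfl⟩
  · exact ⟨sr (i - 1), by rw [sh_sr]; congr 1; ring⟩

theorem sh_inj {a : D k} (ha : sh k a = 1) : a = 1 := by
  rcases a with i | i
  · exact ha
  · exact absurd ha (sr_ne_one _)

theorem pa_add_one (i : ZMod (4 * 2 ^ k)) : pa (i + 1) = pa i + 1 := by
  rw [map_add, map_one]

end Dih

variable {G : Type*} [Group G] {k : ℕ} {f : D k → D k → G} {w : G}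

section Sylow

variable [Finite G] {P : Sylow 2 G} (h : DWr (P : Subgroup G) k f w)

include h

/-- The coordinates with shifted reflections. -/
theorem shift : DWr (P : Subgroup G) k (fun a b => f (sh k a) (sh k b)) w := by
  refine ⟨?_, ?_, h.w_w, ?_, ?_, ?_⟩
  · intro a b a' b'
    rw [h.f_mul, map_mul, map_mul]
  · intro a b e
    obtain ⟨h1, h2⟩ := h.f_inj _ _ e
    exact ⟨sh_inj h1, sh_inj h2⟩
  · intro a b; exact h.w_f _ _
  · intro a b; exact h.w_ne _ _
  · intro g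
    rw [h.mem_iff]
    constructor
    · rintro (⟨a, b, rfl⟩ | ⟨a, b, rfl⟩)
      · obtain ⟨a', rfl⟩ := sh_surj a
        obtain ⟨b', rfl⟩ := sh_surj b
        exact Or.inl ⟨a', b', rfl⟩
      · obtain ⟨a', rfl⟩ := sh_surj a
        obtain ⟨b', rfl⟩ := sh_surj b
        exact Or.inr ⟨a', b', rfl⟩
    · rintro (⟨a, b, rfl⟩ | ⟨a, b, rfl⟩)
      · exact Or.inl ⟨_, _, rfl⟩
      · exact Or.inr ⟨_, _, rfl⟩

omit h in
theorem shift_typ (ht : Typ f) : Typ (fun a b => f (sh k a) (sh k b)) :=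
  ⟨fun _ => ht.typ_t _, fun _ => ht.typ_z _⟩

/-- `(x0, x0)` is a commutator of diagonal elements if `k ≠ 0`. -/
theorem x0x0_comm (hk : k ≠ 0) : ∃ a b : D k, f a a * f b b * (f a a)⁻¹ * (f b b)⁻¹ = f (x0 k) (x0 k) := by
  obtain ⟨m, rfl⟩ : ∃ m, k = m + 1 := ⟨k - 1, by omega⟩
  refine ⟨sr 0, r (-((2 ^ m : ℕ) : ZMod (4 * 2 ^ (m + 1)))), ?_⟩
  have e : (sr 0 : D (m + 1)) * r (-((2 ^ m : ℕ) : ZMod (4 * 2 ^ (m + 1)))) * (sr 0)⁻¹ *
      (r (-((2 ^ m : ℕ) : ZMod (4 * 2 ^ (m + 1)))))⁻¹ = x0 (m + 1) := by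
    rw [sr_r_sr, inv_r, neg_neg, r_mul_r, x0, ← Nat.cast_add]
    congr 2
    rw [pow_succ]; ring
  rw [f_inv h, f_inv h, h.f_mul, h.f_mul, h.f_mul, e]

/-- **(F5)**, case `w ~ z`. -/
theorem w_z_data (ht : Typ f) (hw : IsConj w (f (c k) (c k))) :
    ∃ (g : G) (i j : ZMod (4 * 2 ^ k)), g * w * g⁻¹ = f (c k) (c k) ∧ pa i = pa j ∧ k = 0 ∧
      g * f (c k) (c k) * g⁻¹ = f (sr i) (sr j) ∧
      ∀ y ∈ (P : Subgroup G), y * w = w * y → g * y * g⁻¹ ∈ (P : Subgroup G) := by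
  have htz := not_isConj_tz h
  obtain ⟨g, hg, hgP⟩ := Cfsg.Agent.SylowSp4.Extremal.exists_conj_of_central P (t := f (c k) (c k)) (w := w)
    (fun y hy => (z_comm h hy).symm) (isConj_iff.1 hw)
  have hgD : ∀ a, g * f a a * g⁻¹ ∈ (P : Subgroup G) := fun a => hgP _ (f_mem h a a) (ff_comm_w h a)
  have hcomm : ∀ a b : D k, g * (f a a * f b b * (f a a)⁻¹ * (f b b)⁻¹) * g⁻¹ =
      (g * f a a * g⁻¹) * (g * f b b * g⁻¹) * (g * f a a * g⁻¹)⁻¹ * (g * f b b * g⁻¹)⁻¹ := by intros; group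
  have hconj : ∀ x : G, IsConj x (g * x * g⁻¹) := fun x => isConj_iff.2 ⟨g, rfl⟩
  obtain ⟨a, b, hab⟩ : ∃ a b, g * f (c k) (c k) * g⁻¹ = f a b := by
    rw [← z_eq_comm h 0, hcomm]
    exact comm_mem_of_relIndex h (base_le h) (relIndex_base h) (hgD _) (hgD _)
  have hchi : ∀ α β, chiFun α β a + chiFun α β b = 0 := by
    intro α β
    rw [← f_mem_Mc h, ← hab, ← z_eq_comm h 0, hcomm]
    exact comm_mem_of_relIndex h (Mc_le h) (relIndex_Mc h) (hgD _) (hgD _)
  have hz : IsConj (f (c k) (c k)) (f a b) := isConj_iff.2 ⟨g, hab⟩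
  have hab2 : f a b * f a b = 1 := by
    rw [← hab]
    have e : g * f (c k) (c k) * g⁻¹ * (g * f (c k) (c k) * g⁻¹) = g * (f (c k) (c k) * f (c k) (c k)) * g⁻¹ := by
      group
    rw [e, z_sq h, mul_one, mul_inv_cancel]
  have hne : f a b ≠ f (c k) (c k) := by
    intro e
    have e1 : f (c k) (c k) = w := by
      have e2 : f (c k) (c k) = g⁻¹ * (g * f (c k) (c k) * g⁻¹) * g := by group
      have e3 : w = g⁻¹ * (g * w * g⁻¹) * g := by group
      rw [e2, hab, e]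
      conv_rhs => rw [e3, hg]
    exact h.w_ne _ _ e1.symm
  rw [f_sq_one_iff h] at hab2
  have hsr : ∃ i j, a = sr i ∧ b = sr j := by
    have h1 := hchi 1 1
    rcases eq_of_sq_one hab2.1 with rfl | rfl | ⟨l, rfl⟩ <;> rcases eq_of_sq_one hab2.2 with rfl | rfl | ⟨l', rfl⟩
    · rw [f_one h] at hz
      exact absurd (isConj_one_left.1 hz) (z_ne_one h)
    · exact absurd ((t'_t h).symm.trans hz.symm) htz
    · rw [chiFun_one, chiFun_sr_one] at h1
      exact absurd h1 (by decide)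
    · exact absurd hz.symm htz
    · exact absurd rfl hne
    · rw [chiFun_c, chiFun_sr_one] at h1
      exact absurd h1 (by decide)
    · rw [chiFun_one, chiFun_sr_one] at h1
      exact absurd h1 (by decide)
    · rw [chiFun_c, chiFun_sr_one] at h1
      exact absurd h1 (by decide)
    · exact ⟨l, l', rfl, rfl⟩
  obtain ⟨i, j, rfl, rfl⟩ := hsr
  refine ⟨g, i, j, hg, ?_, ?_, hab, hgP⟩
  · have h1 := hchi 1 0
    rw [chiFun, chiFun] at h1
    generalize pa i = p at h1 ⊢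
    generalize pa j = q at h1 ⊢
    revert p q; decide
  · by_contra hk
    obtain ⟨a, b, e⟩ := x0x0_comm h hk
    have h1 : g * f (x0 k) (x0 k) * g⁻¹ ∈ base h := by
      rw [← e, hcomm]
      exact comm_mem_of_relIndex h (base_le h) (relIndex_base h) (hgD _) (hgD _)
    obtain ⟨p, q, hpq⟩ := h1
    have h2 : f (sr i) (sr j) = f (p * p) (q * q) := by
      rw [← hab, ← h.f_mul, ← hpq, ← x0_mul_x0, ← h.f_mul]; group
    have h3 := ((f_eq_iff h).1 h2).1
    rcases p with l | l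
    · rw [r_mul_r] at h3
      exact sr_ne_r _ _ h3
    · rw [sr_mul_self] at h3
      exact sr_ne_one _ h3

/-- **(F7)** If `w` is conjugate to `z` then some pair `(sr l, sr l)` is conjugate to `t`. -/
theorem exists_same_t (hG : ∀ φ : G →* ℤˣ, ∀ x, φ x = 1) (ht : Typ f) (hw : IsConj w (f (c k) (c k)))
    {g : G} {i j : ZMod (4 * 2 ^ k)}
    (hg2 : g * f (c k) (c k) * g⁻¹ = f (sr i) (sr j))
    (hgP : ∀ y ∈ (P : Subgroup G), y * w = w * y → g * y * g⁻¹ ∈ (P : Subgroup G)) :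
    ∃ l, IsConj (f (sr l) (sr l)) (f (c k) 1) := by
  have htz := not_isConj_tz h
  by_contra hcon
  push Not at hcon
  have hsame : ∀ l, IsConj (f (sr l) (sr l)) (f (c k) (c k)) := by
    intro l
    rcases isConj_t_or_z h hG ht l l with h1 | h1
    · exact absurd h1 (hcon l)
    · exact h1
  -- the image of the centraliser of `w`
  set R : Subgroup G := ((P : Subgroup G) ⊓ centralizer ({w} : Set G)).map (MulAut.conj g).toMonoidHom with hR
  have hRP : R ≤ (P : Subgroup G) := by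
    rintro _ ⟨y, hy, rfl⟩
    exact hgP y hy.1 (mem_centralizer_singleton_iff.1 hy.2)
  -- elements of `C_S(w)`
  have hCm : ∀ y ∈ (P : Subgroup G) ⊓ centralizer ({w} : Set G), (∃ a, y = f a a) ∨ ∃ a, y = f a a * w := by
    rintro y ⟨hy, hyw⟩
    have hyw := mem_centralizer_singleton_iff.1 hyw
    rcases mem_cases h hy with ⟨a, b, rfl⟩ | ⟨a, b, rfl⟩
    · rw [h.w_f, mul_left_inj, f_eq_iff h] at hyw
      left; exact ⟨a, by rw [← hyw.1]⟩
    · rw [← mul_assoc, h.w_f, mul_left_inj, mul_left_inj, f_eq_iff h] at hyw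
      right; exact ⟨a, by rw [← hyw.1]⟩
  have hcardC : 16 ≤ Nat.card ((P : Subgroup G) ⊓ centralizer ({w} : Set G) : Subgroup G) := by
    let φ : Bool × D k → ((P : Subgroup G) ⊓ centralizer ({w} : Set G) : Subgroup G) := fun p =>
      ⟨if p.1 then f p.2 p.2 else f p.2 p.2 * w, by
        split_ifs
        · exact ⟨f_mem h _ _, mem_centralizer_singleton_iff.2 (ff_comm_w h _)⟩
        · refine ⟨fw_mem h _ _, mem_centralizer_singleton_iff.2 ?_⟩
          rw [← mul_assoc, h.w_f]⟩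
    have hφ : Function.Injective φ := by
      rintro ⟨b, a⟩ ⟨b', a'⟩ e
      have e1 : (if b then f a a else f a a * w) = (if b' then f a' a' else f a' a' * w) := congrArg Subtype.val e
      rcases b with _ | _ <;> rcases b' with _ | _
      · simp only [Bool.false_eq_true, if_false] at e1
        rw [((fw_eq_iff h).1 e1).1]
      · simp only [Bool.false_eq_true, if_false, if_true] at e1
        exact absurd e1 (fw_ne h _ _ _ _)
      · simp only [Bool.false_eq_true, if_false, if_true] at e1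
        exact absurd e1.symm (fw_ne h _ _ _ _)
      · simp only [if_true] at e1
        rw [((f_eq_iff h).1 e1).1]
    have h1 := Nat.card_le_card_of_injective φ hφ
    rw [Nat.card_prod, card_D, Nat.card_eq_fintype_card, Fintype.card_bool] at h1
    have : 1 ≤ 2 ^ k := Nat.one_le_two_pow
    omega
  have hcardR : 16 ≤ Nat.card R := by
    rw [hR, card_map_conj]; exact hcardC
  have hcardRB : 8 ≤ Nat.card (R ⊓ base h : Subgroup G) := by
    by_cases hRb : R ≤ base h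
    · rw [inf_eq_left.2 hRb]; omega
    · obtain ⟨u, hu, hub⟩ := SetLike.not_le_iff_exists.1 hRb
      have := card_eq_two_mul h hRP hu hub
      omega
  -- elements of `R ∩ base` are in `V_i × V_j`
  have hRV : ∀ y ∈ R ⊓ base h, ∃ a ∈ V i, ∃ b ∈ V j, y = f a b := by
    rintro y ⟨⟨x, hx, rfl⟩, a, b, hab⟩
    have h1 : f a b * f (sr i) (sr j) = f (sr i) (sr j) * f a b := by
      rw [← hab, ← hg2]
      change g * x * g⁻¹ * (g * f (c k) (c k) * g⁻¹) = g * f (c k) (c k) * g⁻¹ * (g * x * g⁻¹)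
      have h2 := z_comm h hx.1
      have e1 : g * x * g⁻¹ * (g * f (c k) (c k) * g⁻¹) = g * (x * f (c k) (c k)) * g⁻¹ := by group
      have e2 : g * f (c k) (c k) * g⁻¹ * (g * x * g⁻¹) = g * (f (c k) (c k) * x) * g⁻¹ := by group
      rw [e1, e2, h2]
    rw [f_comm_iff h] at h1
    exact ⟨a, comm_sr_iff.1 h1.1, b, comm_sr_iff.1 h1.2, hab⟩
  -- the second coordinate is not injective
  obtain ⟨y, hy, v, hv, hyv, hv1⟩ : ∃ y ∈ R ⊓ base h, ∃ v ∈ V i, y = f v 1 ∧ v ≠ 1 := by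
    by_contra hno
    push Not at hno
    have h4 : Nat.card (R ⊓ base h : Subgroup G) ≤ Nat.card (V j) := by
      have hch : ∀ y : (R ⊓ base h : Subgroup G), ∃ b : V j, ∃ a ∈ V i, (y : G) = f a b := by
        intro y
        obtain ⟨a, ha, b, hb, e⟩ := hRV y y.2
        exact ⟨⟨b, hb⟩, a, ha, e⟩
      choose φ a ha hφ using hch
      apply Nat.card_le_card_of_injective φ
      intro y y' e
      apply Subtype.ext
      have h5 : (y : G) * (y' : G)⁻¹ = f (a y * (a y')⁻¹) 1 := by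
        rw [hφ y, hφ y', e, f_inv h, h.f_mul, mul_inv_cancel]
      have h6 : (y : G) * (y' : G)⁻¹ ∈ R ⊓ base h := (R ⊓ base h).mul_mem y.2 ((R ⊓ base h).inv_mem y'.2)
      have h7 := hno _ h6 _ ((V i).mul_mem (ha y) ((V i).inv_mem (ha y'))) h5
      rw [h7, f_one h] at h5
      exact mul_inv_eq_one.1 h5
    rw [card_V] at h4
    omega
  have hyt : IsConj y (f (c k) 1) := by
    rw [hyv]
    rcases hv with h1 | h1 | h1 | h1
    · exact absurd h1 hv1
    · rw [h1]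
    · rw [h1]; exact ht.typ_t i
    · rw [h1, sr_c]; exact ht.typ_t _
  obtain ⟨⟨x, hx, rfl⟩, -⟩ := hy
  have hxt : IsConj x (f (c k) 1) := (isConj_iff.2 ⟨g, rfl⟩ : IsConj x (g * x * g⁻¹)).trans hyt
  have hx2 : x * x = 1 := by
    obtain ⟨u, hu⟩ := isConj_iff.1 hxt.symm
    rw [← hu]
    have e : u * f (c k) 1 * u⁻¹ * (u * f (c k) 1 * u⁻¹) = u * (f (c k) 1 * f (c k) 1) * u⁻¹ := by group
    rw [e, (f_sq_one_iff h).2 ⟨c_mul_c, one_mul 1⟩, mul_one, mul_inv_cancel]
  have hx1 : x ≠ 1 := by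
    intro e
    rw [e] at hxt
    exact t_ne_one h (isConj_one_right.1 hxt)
  apply htz
  refine hxt.symm.trans ?_
  rcases hCm x hx with ⟨a, rfl⟩ | ⟨a, rfl⟩
  · rw [f_sq_one_iff h] at hx2
    rcases eq_of_sq_one hx2.1 with rfl | rfl | ⟨l, rfl⟩
    · exact absurd (f_one h) hx1
    · exact IsConj.refl _
    · exact hsame l
  · rw [fw_sq_one_iff h] at hx2
    have e : f a a * w = f a 1 * w * (f a 1)⁻¹ := by
      rw [← fw_eq_conj_w h a, ← hx2]
    rw [e]
    exact (isConj_iff.2 ⟨_, rfl⟩ : IsConj w (f a 1 * w * (f a 1)⁻¹)).symm.trans hw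

/-- Case II with the odd reflections of type `z`. -/
theorem caseII_of_odd (hG : ∀ φ : G →* ℤˣ, ∀ x, φ x = 1) (ht : Typ f) (hk : k = 0) {g : G} {i j : ZMod (4 * 2 ^ k)}
    (hg1 : g * w * g⁻¹ = f (c k) (c k)) (hg2 : g * f (c k) (c k) * g⁻¹ = f (sr i) (sr j)) (hi : pa i = 1)
    (hj : pa j = 1) {l : ZMod (4 * 2 ^ k)} (hl : IsConj (f (sr l) (sr l)) (f (c k) 1)) : CaseII f w := by
  have htz := not_isConj_tz h
  have hodd : ∀ i' j' : ZMod (4 * 2 ^ k), pa i' = 1 → pa j' = 1 → IsConj (f (sr i') (sr j')) (f (c k) (c k)) := by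
    intro i' j' hi' hj'
    exact (isConj_pair h (hi'.trans hi.symm) (hj'.trans hj.symm)).trans
      (isConj_iff.2 ⟨g, hg2⟩ : IsConj (f (c k) (c k)) (f (sr i) (sr j))).symm
  have hl0 : pa l = 0 := by
    rcases zmod2_cases (pa l) with h1 | h1
    · exact h1
    · exact absurd (hl.symm.trans (hodd l l h1 h1)) htz
  have heven : ∀ i' j' : ZMod (4 * 2 ^ k), pa i' = 0 → pa j' = 0 → IsConj (f (sr i') (sr j')) (f (c k) 1) := by
    intro i' j' hi' hj'
    exact (isConj_pair h (hi'.trans hl0.symm) (hj'.trans hl0.symm)).trans hl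
  have hdiff : ∀ i j : ZMod (4 * 2 ^ k), pa i ≠ pa j → IsConj (f (sr i) (sr j)) (f (c k) (c k)) :=
    fun i j hij => diff_z h hG ht hij
  have hp0 : pa (0 : ZMod (4 * 2 ^ k)) = 0 := map_zero _
  have hp1 : pa (1 : ZMod (4 * 2 ^ k)) = 1 := map_one _
  refine ⟨hk, htz, ht.typ_t, ht.typ_z, heven, hodd, hdiff, ?_, ?_, g, i, j, hi, hj, hg1, hg2⟩
  · intro i' hi'
    obtain ⟨ρ, η, hρ⟩ := exists_rho h hG ht i'
    refine ⟨ρ, ?_⟩
    have e : η = chi 1 0 := by
      apply eq_chi h hρ.val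
      · rw [cc_one]; exact eta_of_t h ht hρ (heven _ _ hi' hp0)
      · rw [cc_zero]; exact eta_of_z h ht hρ (hdiff _ _ (by rw [hi', hp1]; decide))
    rw [← e]
    exact hρ
  · intro i' hi'
    obtain ⟨ρ, η, hρ⟩ := exists_rho h hG ht i'
    refine ⟨ρ, ?_⟩
    have e : η = chi 0 0 := by
      apply eq_chi h hρ.val
      · rw [cc_zero]; exact eta_of_z h ht hρ (hdiff _ _ (by rw [hi', hp0]; decide))
      · rw [cc_zero]; exact eta_of_z h ht hρ (hodd _ _ hi' hp1)
    rw [← e]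
    exact hρ

/-- Case I. -/
theorem caseI_of (hG : ∀ φ : G →* ℤˣ, ∀ x, φ x = 1) (ht : Typ f) (hw : IsConj w (f (c k) 1)) : CaseI f w := by
  have htz := not_isConj_tz h
  obtain ⟨hwt, hs⟩ := same_t h hG ht hw
  have hsame : ∀ i j : ZMod (4 * 2 ^ k), pa i = pa j → IsConj (f (sr i) (sr j)) (f (c k) 1) := by
    intro i j hij
    exact (isConj_pair h rfl hij.symm).trans (hs i)
  have hdiff : ∀ i j : ZMod (4 * 2 ^ k), pa i ≠ pa j → IsConj (f (sr i) (sr j)) (f (c k) (c k)) :=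
    fun i j hij => diff_z h hG ht hij
  have hp0 : pa (0 : ZMod (4 * 2 ^ k)) = 0 := map_zero _
  have hp1 : pa (1 : ZMod (4 * 2 ^ k)) = 1 := map_one _
  refine ⟨htz, ht.typ_t, ht.typ_z, hsame, hdiff, ?_, hwt⟩
  intro i
  obtain ⟨ρ, η, hρ⟩ := exists_rho h hG ht i
  refine ⟨ρ, ?_⟩
  have e : η = chi (1 + pa i) (pa i) := by
    rcases zmod2_cases (pa i) with hi | hi
    · rw [hi]
      apply eq_chi h hρ.val
      · rw [add_zero, cc_one]; exact eta_of_t h ht hρ (hsame _ _ (hi.trans hp0.symm))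
      · rw [cc_zero]; exact eta_of_z h ht hρ (hdiff _ _ (by rw [hi, hp1]; decide))
    · rw [hi]
      apply eq_chi h hρ.val
      · have : (1 : ZMod 2) + 1 = 0 := by decide
        rw [this, cc_zero]; exact eta_of_z h ht hρ (hdiff _ _ (by rw [hi, hp0]; decide))
      · rw [cc_one]; exact eta_of_t h ht hρ (hsame _ _ (hi.trans hp1.symm))
  rw [← e]
  exact hρ

/-- **The fusion theorem for Sylow 2-subgroups `D wr 2`.** -/
theorem main (hG : ∀ φ : G →* ℤˣ, ∀ x, φ x = 1) :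
    ∃ f' : D k → D k → G, DWr (P : Subgroup G) k f' w ∧ (CaseI f' w ∨ CaseII f' w) := by
  obtain ⟨f, h, ht⟩ := exists_typ h hG
  rcases w_t_or_z h hG ht with hw | hw
  · exact ⟨f, h, Or.inl (caseI_of h hG ht hw)⟩
  · obtain ⟨g, i, j, hg1, hij, hk, hg2, hgP⟩ := w_z_data h ht hw
    obtain ⟨l, hl⟩ := exists_same_t h hG ht hw hg2 hgP
    rcases zmod2_cases (pa i) with hi | hi
    · refine ⟨_, shift h, Or.inr ?_⟩
      have hs : ∀ i : ZMod (4 * 2 ^ k), (sr i : D k) = sh k (sr (i - 1)) := by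
        intro i; rw [sh_sr]; congr 1; ring
      have hp : ∀ i : ZMod (4 * 2 ^ k), pa (i - 1) = pa i + 1 := by
        intro i; rw [pa_sub, map_one]
      refine caseII_of_odd (shift h) hG (shift_typ ht) hk (g := g) (i := i - 1) (j := j - 1) hg1 ?_ ?_ ?_
        (l := l - 1) ?_
      · change g * f (c k) (c k) * g⁻¹ = f (sh k (sr (i - 1))) (sh k (sr (j - 1)))
        rw [← hs, ← hs]; exact hg2
      · rw [hp, hi, zero_add]
      · rw [hp, ← hij, hi, zero_add]
      · change IsConj (f (sh k (sr (l - 1))) (sh k (sr (l - 1)))) (f (c k) 1)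
        rw [← hs]; exact hl
    · exact ⟨f, h, Or.inr (caseII_of_odd h hG ht hk hg1 hg2 hi (hij.symm.trans hi) hl)⟩

end Sylow

end Cfsg.Agent.LFourA.FusionMain
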