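import Mathlib
import Cfsg.Agent.LFourA.Quot
import Cfsg.Agent.LFourA.Defs

/-!
# The centraliser of `z`, case I: types of involutions, and passage to the quotient by the odd core
-/

set_option autoImplicit false

namespace Cfsg.Agent.LFourA.CzData

open DihedralGroup Cfsg.Agent.LFourA.Model Cfsg.Agent.LFourA.Base Cfsg.Agent.LFourA.Defs Subgroup
open Cfsg.Agent.LFourA.Quot

/-- The types of the involutions in a group with central `z`, in case I. -/
structure ZData {X : Type*} [Group X] {k : ℕ} (f : D k → D k → X) (w : X) (T : X → Prop) : Prop where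
  central : ∀ g, g * f (c k) (c k) = f (c k) (c k) * g
  conj : ∀ g x, T x → T (g * x * g⁻¹)
  z : ¬ T (f (c k) (c k))
  t : T (f (c k) 1)
  sr_one : ∀ i, T (f (sr i) 1)
  sr_c : ∀ i, ¬ T (f (sr i) (c k))
  same : ∀ i j : ZMod (4 * 2 ^ k), pa i = pa j → T (f (sr i) (sr j))
  diff : ∀ i j : ZMod (4 * 2 ^ k), pa i ≠ pa j → ¬ T (f (sr i) (sr j))
  w_t : ∃ g, g * w * g⁻¹ = f (c k) 1

section quot

variable {X : Type*} [Group X] [Finite X] {P : Sylow 2 X} {k : ℕ} {f : D k → D k → X} {w : X}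
  (h : DWr (P : Subgroup X) k f w) {T : X → Prop} (hT : ZData f w T)

/-- the types in the quotient -/
def TQ (P : Sylow 2 X) (T : X → Prop) (y : X ⧸ Cfsg.oddCore X) : Prop :=
  ∃ x ∈ (P : Subgroup X), T x ∧ ∃ g, g * pr X x * g⁻¹ = y

theorem TQ_iff (hconj : ∀ g x, T x → T (g * x * g⁻¹)) {y : X} (hy : y ∈ (P : Subgroup X)) :
    TQ P T (pr X y) ↔ T y := by
  constructor
  · rintro ⟨x, hx, hTx, g, hg⟩
    obtain ⟨g', -, hg'⟩ := conj_lift P hx hy hg
    rw [← hg']
    exact hconj _ _ hTx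
  · intro hTy
    exact ⟨y, hy, hTy, 1, by group⟩

include h hT

theorem ZData.quot : ZData (fun a b => pr X (f a b)) (pr X w) (TQ P T) where
  central g := by
    obtain ⟨g, rfl⟩ := pr_surj g
    rw [← map_mul, ← map_mul, hT.central]
  conj := by
    rintro g x ⟨y, hy, hTy, g', rfl⟩
    exact ⟨y, hy, hTy, g * g', by group⟩
  z := by rw [TQ_iff hT.conj (f_mem h _ _)]; exact hT.z
  t := by rw [TQ_iff hT.conj (f_mem h _ _)]; exact hT.t
  sr_one i := by rw [TQ_iff hT.conj (f_mem h _ _)]; exact hT.sr_one i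
  sr_c i := by rw [TQ_iff hT.conj (f_mem h _ _)]; exact hT.sr_c i
  same i j hij := by rw [TQ_iff hT.conj (f_mem h _ _)]; exact hT.same i j hij
  diff i j hij := by rw [TQ_iff hT.conj (f_mem h _ _)]; exact hT.diff i j hij
  w_t := by
    obtain ⟨g, hg⟩ := hT.w_t
    exact ⟨pr X g, by rw [← map_inv, ← map_mul, ← map_mul, hg]⟩

end quot

/-! ### The group `C(z)` -/

section cent

variable {G : Type*} [Group G] [Finite G] {P : Sylow 2 G} {k : ℕ} {f : D k → D k → G} {w : G}
  (h : DWr (P : Subgroup G) k f w)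

include h

omit [Finite G] in
theorem sylow_le : (P : Subgroup G) ≤ centralizer ({f (c k) (c k)} : Set G) := by
  intro g hg
  rw [mem_centralizer_singleton_iff]
  rcases mem_cases h hg with ⟨a, b, rfl⟩ | ⟨a, b, rfl⟩
  · rw [f_comm_iff h]
    exact ⟨(c_comm a).symm, (c_comm b).symm⟩
  · rw [fw_mul_f h, f_mul_fw h, c_comm, c_comm]

omit [Finite G] in
/-- The coordinates in a subgroup containing the Sylow subgroup. -/
theorem dwr_sub {M : Subgroup G} (hM : (P : Subgroup G) ≤ M) :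
    DWr ((P.subtype hM : Sylow 2 M) : Subgroup M) k (fun a b => ⟨f a b, hM (f_mem h a b)⟩) ⟨w, hM (w_mem h)⟩ where
  f_mul a b a' b' := Subtype.ext (h.f_mul _ _ _ _)
  f_inj a b e := h.f_inj a b (congrArg Subtype.val e)
  w_w := Subtype.ext h.w_w
  w_f a b := Subtype.ext (h.w_f a b)
  w_ne a b e := h.w_ne a b (congrArg Subtype.val e)
  mem_iff g := by
    have h1 := h.mem_iff (g : G)
    constructor
    · intro hg
      rcases h1.1 hg with ⟨a, b, e⟩ | ⟨a, b, e⟩
      · exact Or.inl ⟨a, b, Subtype.ext e⟩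
      · exact Or.inr ⟨a, b, Subtype.ext e⟩
    · rintro (⟨a, b, e⟩ | ⟨a, b, e⟩)
      · exact h1.2 (Or.inl ⟨a, b, congrArg Subtype.val e⟩)
      · exact h1.2 (Or.inr ⟨a, b, congrArg Subtype.val e⟩)

omit [Finite G] in
/-- The types in `C(z)`. -/
theorem zdata (hI : CaseI f w) :
    ZData (X := centralizer ({f (c k) (c k)} : Set G)) (fun a b => ⟨f a b, sylow_le h (f_mem h a b)⟩)
      ⟨w, sylow_le h (w_mem h)⟩ (fun x => IsConj (x : G) (f (c k) 1)) where
  central g := by
    apply Subtype.ext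
    exact mem_centralizer_singleton_iff.1 g.2
  conj := by
    intro g x hx
    refine IsConj.trans ?_ hx
    exact (isConj_iff.2 ⟨(g : G), rfl⟩).symm
  z := fun e => hI.tz e.symm
  t := IsConj.refl _
  sr_one i := hI.typ_t i
  sr_c i := fun e => hI.tz (e.symm.trans (hI.typ_z i))
  same i j hij := hI.same i j hij
  diff i j hij := fun e => hI.tz (e.symm.trans (hI.diff i j hij))
  w_t := by
    obtain ⟨g, hg, hgz⟩ := hI.w_t
    refine ⟨⟨g, ?_⟩, Subtype.ext hg⟩
    rw [mem_centralizer_singleton_iff]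
    exact mul_inv_eq_iff_eq_mul.1 hgz

end cent

end Cfsg.Agent.LFourA.CzData
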