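import Mathlib
import Cfsg.Agent.LFourA.Quot
import Cfsg.Agent.LFourA.Defs
import Cfsg.Agent.LFourA.CzData
import Cfsg.Agent.LFourA.FOne

/-!
# The centraliser of `t`: coordinates, types of involutions, and passage to the quotient by the odd core
-/

set_option autoImplicit false

namespace Cfsg.Agent.LFourA.CtData

open DihedralGroup Cfsg.Agent.LFourA.Model Cfsg.Agent.LFourA.Base Cfsg.Agent.LFourA.Defs Subgroup
open Cfsg.Agent.LFourA.Quot

/-- Coordinates on a subgroup `D × D`. -/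
structure DBase {G : Type*} [Group G] (S : Subgroup G) (k : ℕ) (f : D k → D k → G) : Prop where
  f_mul : ∀ a b a' b', f a b * f a' b' = f (a * a') (b * b')
  f_inj : ∀ a b, f a b = 1 → a = 1 ∧ b = 1
  mem_iff : ∀ g, g ∈ S ↔ ∃ a b, g = f a b

/-- A 3-element acting as a 3-cycle on `1 × V_i` and centralising all `(a, η a)`. -/
structure Rho' {G : Type*} [Group G] {k : ℕ} (f : D k → D k → G) (i : ZMod (4 * 2 ^ k)) (ρ : G) (η : D k →* D k) :
    Prop where
  c_s : ρ * f 1 (c k) * ρ⁻¹ = f 1 (sr i)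
  s_sc : ρ * f 1 (sr i) * ρ⁻¹ = f 1 (sr i * c k)
  sc_c : ρ * f 1 (sr i * c k) * ρ⁻¹ = f 1 (c k)
  ord : ∃ m, ρ ^ (3 ^ m) = 1
  fix : ∀ a, ρ * f a (η a) = f a (η a) * ρ

/-- The types of the involutions in a group with central `t`. -/
structure TData {X : Type*} [Group X] {k : ℕ} (f : D k → D k → X) (T : X → Prop)
    (η : ZMod (4 * 2 ^ k) → D k →* D k) : Prop where
  central : ∀ g, g * f (c k) 1 = f (c k) 1 * g
  conj : ∀ g x, T x → T (g * x * g⁻¹)
  one_b : ∀ b, b * b = 1 → b ≠ 1 → T (f 1 b)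
  c_b : ∀ b, b * b = 1 → b ≠ 1 → ¬ T (f (c k) b)
  pure : ∀ i b, b * b = 1 → (T (f (sr i) b) ↔ T (f (sr i * c k) b))
  val : ∀ i a, η i a = 1 ∨ η i a = c k
  rho : ∀ i, ∃ ρ, Rho' f i ρ (η i)

section facts

variable {G : Type*} [Group G] {S : Subgroup G} {k : ℕ} {f : D k → D k → G} (h : DBase S k f)

include h

theorem f_one : f 1 1 = 1 := by
  have h1 := h.f_mul 1 1 1 1
  rw [one_mul] at h1
  exact mul_eq_left.1 h1

theorem f_inv (a b : D k) : (f a b)⁻¹ = f a⁻¹ b⁻¹ := by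
  apply inv_eq_of_mul_eq_one_left
  rw [h.f_mul, inv_mul_cancel, inv_mul_cancel, f_one h]

theorem f_eq_iff {a b a' b' : D k} : f a b = f a' b' ↔ a = a' ∧ b = b' := by
  constructor
  · intro e
    have h1 : f (a * a'⁻¹) (b * b'⁻¹) = 1 := by
      rw [← h.f_mul, ← f_inv h, e, mul_inv_cancel]
    obtain ⟨h2, h3⟩ := h.f_inj _ _ h1
    exact ⟨mul_inv_eq_one.1 h2, mul_inv_eq_one.1 h3⟩
  · rintro ⟨rfl, rfl⟩
    rfl

theorem f_eq_one_iff {a b : D k} : f a b = 1 ↔ a = 1 ∧ b = 1 := by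
  rw [← f_one h, f_eq_iff h]

theorem f_comm_iff {a b a' b' : D k} : f a b * f a' b' = f a' b' * f a b ↔ a * a' = a' * a ∧ b * b' = b' * b := by
  rw [h.f_mul, h.f_mul, f_eq_iff h]

theorem f_mem (a b : D k) : f a b ∈ S := (h.mem_iff _).2 ⟨a, b, rfl⟩

end facts

section quot

variable {X : Type*} [Group X] [Finite X] {P : Sylow 2 X} {k : ℕ} {f : D k → D k → X}
  (h : DBase (P : Subgroup X) k f) {T : X → Prop} {η : ZMod (4 * 2 ^ k) → D k →* D k} (hT : TData f T η)

include h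

/-- the coordinates of the image -/
theorem dbase_quot : DBase (syl P : Subgroup (X ⧸ Cfsg.oddCore X)) k (fun a b => pr X (f a b)) where
  f_mul a b a' b' := by rw [← map_mul, h.f_mul]
  f_inj a b e := h.f_inj a b (eq_one_of_mem P (f_mem h a b) e)
  mem_iff g := by
    constructor
    · intro hg
      obtain ⟨x, hx, rfl⟩ := (mem_syl P).1 hg
      obtain ⟨a, b, rfl⟩ := (h.mem_iff x).1 hx
      exact ⟨a, b, rfl⟩
    · rintro ⟨a, b, rfl⟩
      exact pr_mem_syl P (f_mem h a b)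

include hT

theorem TData.quot : TData (fun a b => pr X (f a b)) (CzData.TQ P T) η where
  central g := by
    obtain ⟨g, rfl⟩ := pr_surj g
    rw [← map_mul, ← map_mul, hT.central]
  conj := by
    rintro g x ⟨y, hy, hTy, g', rfl⟩
    exact ⟨y, hy, hTy, g * g', by group⟩
  one_b b hb hb1 := by rw [CzData.TQ_iff hT.conj (f_mem h _ _)]; exact hT.one_b b hb hb1
  c_b b hb hb1 := by rw [CzData.TQ_iff hT.conj (f_mem h _ _)]; exact hT.c_b b hb hb1
  pure i b hb := by
    rw [CzData.TQ_iff hT.conj (f_mem h _ _), CzData.TQ_iff hT.conj (f_mem h _ _)]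
    exact hT.pure i b hb
  val := hT.val
  rho i := by
    obtain ⟨ρ, hρ⟩ := hT.rho i
    refine ⟨pr X ρ, ?_, ?_, ?_, ?_, ?_⟩
    · rw [← map_inv, ← map_mul, ← map_mul, hρ.c_s]
    · rw [← map_inv, ← map_mul, ← map_mul, hρ.s_sc]
    · rw [← map_inv, ← map_mul, ← map_mul, hρ.sc_c]
    · obtain ⟨m, hm⟩ := hρ.ord
      exact ⟨m, by rw [← map_pow, hm, map_one]⟩
    · intro a
      rw [← map_mul, ← map_mul, hρ.fix]

end quot

/-! ### The group `C(t)` -/

section cent

variable {G : Type*} [Group G] [Finite G] {P : Sylow 2 G} {k : ℕ} {f : D k → D k → G} {w : G}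
  (h : DWr (P : Subgroup G) k f w)

include h

omit [Finite G] in
theorem f_mem_cent (a b : D k) : f a b ∈ centralizer ({f (c k) 1} : Set G) := by
  rw [mem_centralizer_singleton_iff, Base.f_comm_iff h]
  exact ⟨(c_comm a).symm, by rw [mul_one, one_mul]⟩

/-- the Sylow subgroup of `C(t)` -/
noncomputable def sylT : Sylow 2 (centralizer ({f (c k) 1} : Set G)) :=
  ((P.isPGroup'.to_le (base_le h)).comap_of_injective (centralizer ({f (c k) 1} : Set G)).subtype
    (centralizer ({f (c k) 1} : Set G)).subtype_injective :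
      IsPGroup 2 ((base h).subgroupOf (centralizer ({f (c k) 1} : Set G)))).toSylow (FOne.not_dvd_relIndex_base h)

theorem dbase : DBase (sylT h : Subgroup (centralizer ({f (c k) 1} : Set G))) k
    (fun a b => ⟨f a b, f_mem_cent h a b⟩) where
  f_mul a b a' b' := Subtype.ext (h.f_mul _ _ _ _)
  f_inj a b e := h.f_inj a b (congrArg Subtype.val e)
  mem_iff g := by
    have h1 : g ∈ (sylT h : Subgroup (centralizer ({f (c k) 1} : Set G))) ↔ (g : G) ∈ base h := Iff.rfl
    rw [h1]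
    constructor
    · rintro ⟨a, b, e⟩
      exact ⟨a, b, Subtype.ext e⟩
    · rintro ⟨a, b, e⟩
      exact ⟨a, b, congrArg Subtype.val e⟩

omit [Finite G] in
theorem isConj_swap (a b : D k) : IsConj (f a b) (f b a) := by
  rw [isConj_iff]
  exact ⟨w, w_conj h a b⟩

omit [Finite G] in
/-- The swapped 3-elements. -/
theorem rho_swap {i : ZMod (4 * 2 ^ k)} {ρ : G} {η : D k →* D k} (hρ : Rho f i ρ η) :
    Rho' f i (w * ρ * w⁻¹) η := by
  have key : ∀ a b a' b' : D k, ρ * f a b * ρ⁻¹ = f a' b' →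
      w * ρ * w⁻¹ * f b a * (w * ρ * w⁻¹)⁻¹ = f b' a' := by
    intro a b a' b' e
    rw [← w_conj h a b, ← w_conj h a' b', ← e]
    group
  refine ⟨key _ _ _ _ hρ.t_s, key _ _ _ _ hρ.s_sc, key _ _ _ _ hρ.sc_t, ?_, ?_⟩
  · obtain ⟨m, hm⟩ := hρ.ord
    refine ⟨m, ?_⟩
    rw [conj_pow, hm]
    group
  · intro a
    have h1 := key (η a) a (η a) a (by rw [hρ.fix, mul_inv_cancel_right])
    exact mul_inv_eq_iff_eq_mul.1 h1

omit [Finite G] in
theorem rho_mem {i : ZMod (4 * 2 ^ k)} {ρ : G} {η : D k →* D k} (hρ : Rho f i ρ η) :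
    w * ρ * w⁻¹ ∈ centralizer ({f (c k) 1} : Set G) := by
  rw [mem_centralizer_singleton_iff]
  have h1 : ρ * f 1 (c k) * ρ⁻¹ = f 1 (c k) := by rw [hρ.comm, mul_inv_cancel_right]
  have h2 : w * ρ * w⁻¹ * f (c k) 1 * (w * ρ * w⁻¹)⁻¹ = f (c k) 1 := by
    rw [← w_conj h 1 (c k)]
    calc w * ρ * w⁻¹ * (w * f 1 (c k) * w⁻¹) * (w * ρ * w⁻¹)⁻¹ = w * (ρ * f 1 (c k) * ρ⁻¹) * w⁻¹ := by group
      _ = _ := by rw [h1]
  exact mul_inv_eq_iff_eq_mul.1 h2

omit [Finite G] in
/-- General form of the types in `C(t)`. -/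
theorem tdata_of {η : ZMod (4 * 2 ^ k) → D k →* D k} (tz : ¬ IsConj (f (c k) 1) (f (c k) (c k)))
    (typ_t : ∀ i, IsConj (f (sr i) 1) (f (c k) 1)) (typ_z : ∀ i, IsConj (f (sr i) (c k)) (f (c k) (c k)))
    (hpure : ∀ i j, IsConj (f (sr i) (sr j)) (f (c k) 1) ↔ IsConj (f (sr i * c k) (sr j)) (f (c k) 1))
    (hval : ∀ i a, η i a = 1 ∨ η i a = c k) (hrho : ∀ i, ∃ ρ, Rho f i ρ (η i)) :
    TData (X := centralizer ({f (c k) 1} : Set G)) (fun a b => ⟨f a b, f_mem_cent h a b⟩)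
      (fun x => IsConj (x : G) (f (c k) 1)) η where
  central g := Subtype.ext (mem_centralizer_singleton_iff.1 g.2)
  conj := by
    intro g x hx
    refine IsConj.trans ?_ hx
    exact (isConj_iff.2 ⟨(g : G), rfl⟩).symm
  one_b b hb hb1 := by
    rcases eq_of_sq_one hb with rfl | rfl | ⟨i, rfl⟩
    · exact absurd rfl hb1
    · exact isConj_swap h _ _
    · exact (isConj_swap h _ _).trans (typ_t i)
  c_b b hb hb1 := by
    rcases eq_of_sq_one hb with rfl | rfl | ⟨i, rfl⟩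
    · exact absurd rfl hb1
    · exact fun e => tz e.symm
    · exact fun e => tz (e.symm.trans ((isConj_swap h _ _).trans (typ_z i)))
  pure i b hb := by
    have hsc : ∀ e : Prop, e ↔ e := fun e => Iff.rfl
    rcases eq_of_sq_one hb with rfl | rfl | ⟨j, rfl⟩
    · refine iff_of_true (typ_t i) ?_
      rw [sr_c]
      exact typ_t _
    · refine iff_of_false (fun e => tz (e.symm.trans (typ_z i))) (fun e => tz (e.symm.trans ?_))
      rw [sr_c]
      exact typ_z _
    · exact hpure i j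
  val := hval
  rho i := by
    obtain ⟨ρ, hρ⟩ := hrho i
    have h1 := rho_swap h hρ
    refine ⟨⟨w * ρ * w⁻¹, rho_mem h hρ⟩, Subtype.ext h1.c_s, Subtype.ext h1.s_sc, Subtype.ext h1.sc_c, ?_,
      fun a => Subtype.ext (h1.fix a)⟩
    obtain ⟨m, hm⟩ := h1.ord
    exact ⟨m, Subtype.ext hm⟩

omit [Finite G] in
theorem pa_add_half (i : ZMod (4 * 2 ^ k)) : pa (i + ((2 * 2 ^ k : ℕ) : ZMod (4 * 2 ^ k))) = pa i := by
  rw [map_add, pa_half, add_zero]

omit [Finite G] in
theorem tdata_one (hI : CaseI f w) :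
    TData (X := centralizer ({f (c k) 1} : Set G)) (fun a b => ⟨f a b, f_mem_cent h a b⟩)
      (fun x => IsConj (x : G) (f (c k) 1)) (fun i => chi (1 + pa i) (pa i)) := by
  refine tdata_of h hI.tz hI.typ_t hI.typ_z ?_ (fun i a => chi_cases _ _ a) hI.rho
  intro i j
  rw [sr_c]
  by_cases hij : pa i = pa j
  · exact iff_of_true (hI.same i j hij) (hI.same _ j (by rw [pa_add_half h, hij]))
  · exact iff_of_false (fun e => hI.tz (e.symm.trans (hI.diff i j hij)))
      (fun e => hI.tz (e.symm.trans (hI.diff _ j (by rw [pa_add_half h]; exact hij))))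

omit [Finite G] in
theorem tdata_two (hI : CaseII f w) :
    TData (X := centralizer ({f (c k) 1} : Set G)) (fun a b => ⟨f a b, f_mem_cent h a b⟩)
      (fun x => IsConj (x : G) (f (c k) 1)) (fun i => chi (1 + pa i) 0) := by
  refine tdata_of h hI.tz hI.typ_t hI.typ_z ?_ (fun i a => chi_cases _ _ a) ?_
  · intro i j
    rw [sr_c]
    by_cases hij : pa i = pa j
    · rcases zmod2_cases (pa i) with hi | hi
      · exact iff_of_true (hI.even i j hi (hij ▸ hi)) (hI.even _ j (by rw [pa_add_half h, hi]) (hij ▸ hi))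
      · exact iff_of_false (fun e => hI.tz (e.symm.trans (hI.odd i j hi (hij ▸ hi))))
          (fun e => hI.tz (e.symm.trans (hI.odd _ j (by rw [pa_add_half h, hi]) (hij ▸ hi))))
    · exact iff_of_false (fun e => hI.tz (e.symm.trans (hI.diff i j hij)))
        (fun e => hI.tz (e.symm.trans (hI.diff _ j (by rw [pa_add_half h]; exact hij))))
  · intro i
    rcases zmod2_cases (pa i) with hi | hi
    · obtain ⟨ρ, hρ⟩ := hI.rho_even i hi
      exact ⟨ρ, by rw [hi, add_zero]; exact hρ⟩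
    · obtain ⟨ρ, hρ⟩ := hI.rho_odd i hi
      refine ⟨ρ, ?_⟩
      rw [hi, show (1 : ZMod 2) + 1 = 0 by decide]
      exact hρ

end cent

end Cfsg.Agent.LFourA.CtData
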