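import Mathlib
import Cfsg.Agent.LFourA.CtData
import Cfsg.Agent.SylowSp4.Extremal
import Cfsg.Agent.LFourA.OddFree

/-!
# The centraliser of `t`: the two transfers
-/

set_option autoImplicit false

namespace Cfsg.Agent.LFourA.CtTransfer

open DihedralGroup Cfsg.Agent.LFourA.Model Cfsg.Agent.LFourA.Defs Cfsg.Agent.LFourA.CtData Subgroup

section

variable {X : Type*} [Group X] {S : Subgroup X} {k : ℕ} {f : D k → D k → X} (h : DBase S k f)

/-- the subgroup of pairs whose first coordinate is a rotation -/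
def b0 (h : DBase S k f) : Subgroup X where
  carrier := {g | ∃ i b, g = f (r i) b}
  mul_mem' := by
    rintro _ _ ⟨i, b, rfl⟩ ⟨j, b', rfl⟩
    exact ⟨i + j, b * b', by rw [h.f_mul, r_mul_r]⟩
  one_mem' := ⟨0, 1, by rw [← one_def]; exact (f_one h).symm⟩
  inv_mem' := by
    rintro _ ⟨i, b, rfl⟩
    exact ⟨-i, b⁻¹, by rw [f_inv h, inv_r]⟩

include h

theorem mem_b0 {a b : D k} : f a b ∈ b0 h ↔ ∃ i, a = r i := by
  constructor
  · rintro ⟨i, b', e⟩
    exact ⟨i, ((f_eq_iff h).1 e).1⟩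
  · rintro ⟨i, rfl⟩
    exact ⟨i, b, rfl⟩

theorem b0_le : b0 h ≤ S := by
  rintro _ ⟨i, b, rfl⟩
  exact f_mem h _ _

theorem relIndex_b0 : (b0 h).relIndex S = 2 := by
  rw [relIndex, index_eq_two_iff]
  refine ⟨⟨f (sr 0) 1, f_mem h _ _⟩, ?_⟩
  rintro ⟨g, hg⟩
  rw [mem_subgroupOf, mem_subgroupOf]
  change Xor (g * f (sr 0) 1 ∈ b0 h) (g ∈ b0 h)
  obtain ⟨a, b, rfl⟩ := (h.mem_iff g).1 hg
  rw [h.f_mul, mem_b0 h, mem_b0 h]
  rcases a with i | i
  · refine Or.inr ⟨⟨i, rfl⟩, ?_⟩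
    rintro ⟨j, e⟩
    rw [r_mul_sr] at e
    cases e
  · refine Or.inl ⟨⟨_, sr_mul_sr _ _⟩, ?_⟩
    rintro ⟨j, e⟩
    cases e

theorem choose_eq {g : X} (hg : g ∈ b0 h) {i : ZMod (4 * 2 ^ k)} {b : D k} (e : g = f (r i) b) :
    Classical.choose hg = i := by
  have h1 := e.symm.trans (Classical.choose_spec (Classical.choose_spec hg))
  exact (DihedralGroup.r.inj ((f_eq_iff h).1 h1).1).symm

/-- the exponent of the first coordinate -/
noncomputable def rot : b0 h →* Multiplicative (ZMod (4 * 2 ^ k)) where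
  toFun g := Multiplicative.ofAdd (Classical.choose g.2)
  map_one' := by
    rw [choose_eq h (1 : b0 h).2 (i := 0) (b := 1) (by rw [← one_def, f_one h]; rfl)]
    rfl
  map_mul' g g' := by
    obtain ⟨i, b, e⟩ := id g.2
    obtain ⟨j, b', e'⟩ := id g'.2
    rw [choose_eq h g.2 e, choose_eq h g'.2 e', choose_eq h (g * g').2 (i := i + j) (b := b * b')
      (by rw [Subgroup.coe_mul, e, e', h.f_mul, r_mul_r]), ofAdd_add]

theorem rot_apply (i : ZMod (4 * 2 ^ k)) (b : D k) (hm : f (r i) b ∈ b0 h) :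
    rot h ⟨f (r i) b, hm⟩ = Multiplicative.ofAdd i := by
  change Multiplicative.ofAdd (Classical.choose hm) = _
  rw [choose_eq h hm rfl]

end

section

variable {k : ℕ}

/-- every non-zero element has a multiple equal to the half -/
theorem exists_half {i : ZMod (4 * 2 ^ k)} (hi : i ≠ 0) : ∃ n : ℕ, n • i = ((2 * 2 ^ k : ℕ) : ZMod (4 * 2 ^ k)) := by
  have h1 : addOrderOf i ∣ 2 ^ (k + 2) := by
    have h2 := addOrderOf_dvd_natCard i
    rw [Nat.card_zmod] at h2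
    have h3 : 4 * 2 ^ k = 2 ^ (k + 2) := by ring
    exact h2.trans (dvd_of_eq h3)
  obtain ⟨m, -, hm⟩ := (Nat.dvd_prime_pow Nat.prime_two).1 h1
  have hm0 : m ≠ 0 := by
    rintro rfl
    rw [pow_zero, AddMonoid.addOrderOf_eq_one_iff] at hm
    exact hi hm
  obtain ⟨m, rfl⟩ := Nat.exists_eq_succ_of_ne_zero hm0
  refine ⟨2 ^ m, ?_⟩
  have h2 : (2 ^ m) • i + (2 ^ m) • i = 0 := by
    rw [← add_smul, ← two_mul, ← pow_succ', ← Nat.succ_eq_add_one, ← hm]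
    exact addOrderOf_nsmul_eq_zero i
  rcases eq_of_add_self h2 with h3 | h3
  · exfalso
    have h4 := addOrderOf_dvd_of_nsmul_eq_zero h3
    rw [hm] at h4
    have h5 := Nat.le_of_dvd (by positivity) h4
    have h6 : 2 ^ m < 2 ^ m.succ := Nat.pow_lt_pow_right (by norm_num) (Nat.lt_succ_self m)
    omega
  · exact h3

end

section

variable {X : Type*} [Group X] {S : Subgroup X} {k : ℕ} {f : D k → D k → X} (h : DBase S k f)
  {Ty : X → Prop} {η : ZMod (4 * 2 ^ k) → D k →* D k} (hT : TData f Ty η)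

include hT

theorem Ty_iff (g x : X) : Ty (g * x * g⁻¹) ↔ Ty x := by
  constructor
  · intro h1
    have h2 := hT.conj g⁻¹ _ h1
    have h3 : g⁻¹ * (g * x * g⁻¹) * g⁻¹⁻¹ = x := by group
    rwa [h3] at h2
  · exact hT.conj g x

include h

/-- The involutions of the subgroup `b0` are the impure ones. -/
theorem mem_iff_impure {x : X} (hx : x ∈ S) (hx2 : x * x = 1) (hx1 : x ≠ 1) (hxt : x ≠ f (c k) 1) :
    x ∈ b0 h ↔ ¬ (Ty x ↔ Ty (f (c k) 1 * x)) := by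
  obtain ⟨a, b, rfl⟩ := (h.mem_iff x).1 hx
  rw [h.f_mul, f_eq_one_iff h] at hx2
  rw [mem_b0 h, h.f_mul, one_mul]
  rcases eq_of_sq_one hx2.1 with rfl | rfl | ⟨i, rfl⟩
  · have hb : b ≠ 1 := by
      rintro rfl
      exact hx1 (f_one h)
    rw [mul_one]
    exact iff_of_true ⟨0, one_def⟩ (fun e => hT.c_b b hx2.2 hb (e.1 (hT.one_b b hx2.2 hb)))
  · have hb : b ≠ 1 := by
      rintro rfl
      exact hxt rfl
    rw [c_mul_c]
    exact iff_of_true ⟨_, rfl⟩ (fun e => hT.c_b b hx2.2 hb (e.2 (hT.one_b b hx2.2 hb)))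
  · rw [c_comm]
    refine iff_of_false ?_ (not_not.2 (hT.pure i b hx2.2))
    rintro ⟨j, e⟩
    cases e

theorem stable {y : X} (hy : y ∈ S) (hy2 : y * y = 1) {g : X} (hg : g * y * g⁻¹ ∈ S) :
    g * y * g⁻¹ ∈ b0 h ↔ y ∈ b0 h := by
  have hsq : g * y * g⁻¹ * (g * y * g⁻¹) = g * (y * y) * g⁻¹ := by group
  by_cases hy1 : y = 1
  · subst hy1
    rw [mul_one, mul_inv_cancel]
  by_cases hyt : y = f (c k) 1
  · rw [hyt, hT.central, mul_inv_cancel_right]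
  have h1 : g * y * g⁻¹ ≠ 1 := by
    intro h2
    apply hy1
    have h3 : y = g⁻¹ * (g * y * g⁻¹) * g := by group
    rw [h3, h2]
    group
  have h2 : g * y * g⁻¹ ≠ f (c k) 1 := by
    intro h2
    apply hyt
    have h3 : y = g⁻¹ * (g * y * g⁻¹) * g := by group
    rw [h3, h2, hT.central]
    group
  rw [mem_iff_impure h hT hy hy2 hy1 hyt, mem_iff_impure h hT hg (by rw [hsq, hy2]; group) h1 h2, Ty_iff hT]
  have h3 : f (c k) 1 * (g * y * g⁻¹) = g * (f (c k) 1 * y) * g⁻¹ := by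
    rw [← mul_assoc, ← mul_assoc, ← hT.central]
    group
  rw [h3, Ty_iff hT]

end

section

variable {X : Type*} [Group X] [Finite X] {P : Sylow 2 X} {k : ℕ} {f : D k → D k → X}
  (h : DBase (P : Subgroup X) k f) {Ty : X → Prop} {η : ZMod (4 * 2 ^ k) → D k →* D k} (hT : TData f Ty η)

include h hT

/-- The first transfer. -/
theorem exists_V : ∃ V : X →* ℤˣ, ∀ a b, (V (f a b) = 1 ↔ ∃ i, a = r i) := by
  obtain ⟨V, hV⟩ := Cfsg.Agent.SylowSp4.Extremal.exists_transfer P (b0 h) (relIndex_b0 h)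
  have hV' : ∀ y ∈ (P : Subgroup X), y * y = 1 → (V y = 1 ↔ y ∈ b0 h) := by
    intro y hy hy2
    apply hV y hy
    intro n g hg
    refine stable h hT (pow_mem hy n) ?_ hg
    rw [← pow_add, ← two_mul, pow_mul, pow_two, hy2, one_pow]
  have h1 : ∀ j, V (f 1 (sr j)) = 1 := by
    intro j
    rw [hV' _ (f_mem h _ _) (by rw [h.f_mul, sr_mul_self, one_mul, f_one h]), mem_b0 h]
    exact ⟨0, one_def⟩
  have h2 : ∀ b, V (f 1 b) = 1 := by
    intro b
    rcases FOne.eq_prod_sr b with ⟨j, rfl⟩ | ⟨j, j', rfl⟩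
    · exact h1 j
    · have e : f 1 (sr j * sr j') = f 1 (sr j) * f 1 (sr j') := by rw [h.f_mul, one_mul]
      rw [e, map_mul, h1, h1, one_mul]
  have h3 : ∀ i, V (f (sr i) 1) ≠ 1 := by
    intro i
    rw [Ne, hV' _ (f_mem h _ _) (by rw [h.f_mul, sr_mul_self, one_mul, f_one h]), mem_b0 h]
    rintro ⟨j, e⟩
    cases e
  have h4 : ∀ i, V (f (sr i) 1) = -1 := fun i => (Int.units_eq_one_or _).resolve_left (h3 i)
  refine ⟨V, ?_⟩
  intro a b
  have e : f a b = f a 1 * f 1 b := by rw [h.f_mul, mul_one, one_mul]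
  rw [e, map_mul, h2, mul_one]
  rcases a with i | i
  · refine iff_of_true ?_ ⟨i, rfl⟩
    have e1 : (r i : D k) = sr 0 * sr i := by rw [sr_mul_sr, sub_zero]
    have e2 : f (sr 0 * sr i) 1 = f (sr 0) 1 * f (sr i) 1 := by rw [h.f_mul, mul_one]
    rw [e1, e2, map_mul, h4, h4]
    decide
  · refine iff_of_false (h3 i) ?_
    rintro ⟨j, e⟩
    cases e

omit hT in
/-- The second transfer. -/
theorem exists_V' (V : X →* ℤˣ) (hV : ∀ a b, (V (f a b) = 1 ↔ ∃ i, a = r i)) (hT : TData f Ty η) :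
    ∃ V' : V.ker →* Multiplicative (ZMod (4 * 2 ^ k)),
      ∀ a b (hm : f a b ∈ V.ker), (V' ⟨f a b, hm⟩ = 1 ↔ a = 1) := by
  have hle : b0 h ≤ V.ker := by
    rintro _ ⟨i, b, rfl⟩
    rw [MonoidHom.mem_ker, hV]
    exact ⟨i, rfl⟩
  -- the Sylow subgroup of the kernel
  have hsyl : ((P : Subgroup X).subgroupOf V.ker) = (b0 h).subgroupOf V.ker := by
    ext y
    rw [mem_subgroupOf, mem_subgroupOf]
    constructor
    · intro hy
      obtain ⟨a, b, e⟩ := (h.mem_iff _).1 hy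
      have h1 : V (f a b) = 1 := by rw [← e]; exact y.2
      rw [e, mem_b0 h]
      exact (hV a b).1 h1
    · intro hy
      exact b0_le h hy
  have hodd : ¬ 2 ∣ ((b0 h).subgroupOf V.ker).index := by
    rw [← hsyl]
    exact Cfsg.Agent.Lib.SylowNormalInf.not_dvd_relIndex P V.ker
  let ϕ : (b0 h).subgroupOf V.ker →* Multiplicative (ZMod (4 * 2 ^ k)) :=
    (rot h).comp ((V.ker.subtype.comp ((b0 h).subgroupOf V.ker).subtype).codRestrict (b0 h) (fun x => x.2))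
  have hϕ : ∀ i b (hm : f (r i) b ∈ V.ker) (hm' : (⟨f (r i) b, hm⟩ : V.ker) ∈ (b0 h).subgroupOf V.ker),
      ϕ ⟨⟨f (r i) b, hm⟩, hm'⟩ = Multiplicative.ofAdd i := by
    intro i b hm hm'
    exact rot_apply h i b _
  let V' : V.ker →* Multiplicative (ZMod (4 * 2 ^ k)) := MonoidHom.transfer ϕ
  -- the value at `t`
  have htm : f (c k) 1 ∈ V.ker := hle ⟨_, _, rfl⟩
  have hcard : Multiplicative.ofAdd ((2 * 2 ^ k : ℕ) : ZMod (4 * 2 ^ k)) ≠ 1 := by
    intro e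
    exact half_ne_zero (Multiplicative.ofAdd.injective e)
  have ht2 : (⟨f (c k) 1, htm⟩ : V.ker) ^ 2 = 1 := by
    apply Subtype.ext
    change f (c k) 1 ^ 2 = 1
    rw [pow_two, h.f_mul, c_mul_c, one_mul, f_one h]
  have hVt : V' ⟨f (c k) 1, htm⟩ ≠ 1 := by
    have hkey : ∀ (n : ℕ) (g₀ : V.ker), g₀⁻¹ * (⟨f (c k) 1, htm⟩ : V.ker) ^ n * g₀ ∈ (b0 h).subgroupOf V.ker →
        g₀⁻¹ * (⟨f (c k) 1, htm⟩ : V.ker) ^ n * g₀ = (⟨f (c k) 1, htm⟩ : V.ker) ^ n := by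
      intro n g₀ _
      have h1 : Commute g₀ (⟨f (c k) 1, htm⟩ : V.ker) := Subtype.ext (hT.central g₀)
      rw [mul_assoc, ← (h1.pow_right n).eq, inv_mul_cancel_left]
    have h1 := MonoidHom.transfer_eq_pow ϕ (⟨f (c k) 1, htm⟩ : V.ker) hkey
    change MonoidHom.transfer ϕ _ ≠ 1
    rw [h1]
    have hpow : (⟨f (c k) 1, htm⟩ : V.ker) ^ ((b0 h).subgroupOf V.ker).index = ⟨f (c k) 1, htm⟩ := by
      obtain ⟨n, hn⟩ : Odd ((b0 h).subgroupOf V.ker).index := by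
        rw [← Nat.not_even_iff_odd, even_iff_two_dvd]
        exact hodd
      rw [hn, pow_succ, pow_mul, ht2, one_pow, one_mul]
    have h2 : (⟨(⟨f (c k) 1, htm⟩ : V.ker) ^ ((b0 h).subgroupOf V.ker).index,
        MonoidHom.transfer_eq_pow_aux _ hkey⟩ : (b0 h).subgroupOf V.ker) =
        ⟨⟨f (c k) 1, htm⟩, mem_subgroupOf.2 ((mem_b0 h).2 ⟨_, rfl⟩)⟩ := Subtype.ext hpow
    rw [h2]
    have h3 := hϕ ((2 * 2 ^ k : ℕ) : ZMod (4 * 2 ^ k)) 1 htm (mem_subgroupOf.2 ((mem_b0 h).2 ⟨_, rfl⟩))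
    change ϕ ⟨⟨f (r _) 1, htm⟩, _⟩ ≠ 1
    rw [h3]
    exact hcard
  -- the second factor
  have hm1 : ∀ b, f 1 b ∈ V.ker := fun b => hle ⟨0, b, by rw [one_def]⟩
  have hVone : ∀ b b' (g : V.ker), (g : X) * f 1 b * (g : X)⁻¹ = f 1 b' → V' ⟨f 1 b, hm1 b⟩ = V' ⟨f 1 b', hm1 b'⟩ := by
    intro b b' g hg
    have h1 : g * ⟨f 1 b, hm1 b⟩ * g⁻¹ = ⟨f 1 b', hm1 b'⟩ := Subtype.ext hg
    rw [← h1, map_mul, map_mul, map_inv, mul_comm (V' g), mul_inv_cancel_right]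
  have hVsr : ∀ j, V' ⟨f 1 (sr j), hm1 _⟩ = 1 := by
    intro j
    obtain ⟨ρ, hρ⟩ := hT.rho j
    have hρV : ρ ∈ V.ker := by
      obtain ⟨m, hm⟩ := hρ.ord
      have h1 : V ρ ^ (3 ^ m) = 1 := by rw [← map_pow, hm, map_one]
      rcases Int.units_eq_one_or (V ρ) with h2 | h2
      · exact h2
      · rw [h2, Odd.neg_one_pow (Odd.pow (by decide))] at h1
        exact absurd h1 (by decide)
    have h1 := hVone (c k) (sr j) ⟨ρ, hρV⟩ hρ.c_s
    have h2 := hVone (sr j) (sr j * c k) ⟨ρ, hρV⟩ hρ.s_sc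
    have h3 : (⟨f 1 (sr j * c k), hm1 _⟩ : V.ker) = ⟨f 1 (sr j), hm1 _⟩ * ⟨f 1 (c k), hm1 _⟩ := by
      apply Subtype.ext
      change f 1 (sr j * c k) = f 1 (sr j) * f 1 (c k)
      rw [h.f_mul, one_mul]
    rw [h3, map_mul, h1] at h2
    exact (mul_eq_left.1 h2.symm)
  have hV1 : ∀ b, V' ⟨f 1 b, hm1 b⟩ = 1 := by
    intro b
    rcases FOne.eq_prod_sr b with ⟨j, rfl⟩ | ⟨j, j', rfl⟩
    · exact hVsr j
    · have e : (⟨f 1 (sr j * sr j'), hm1 _⟩ : V.ker) = ⟨f 1 (sr j), hm1 _⟩ * ⟨f 1 (sr j'), hm1 _⟩ := by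
        apply Subtype.ext
        change f 1 (sr j * sr j') = f 1 (sr j) * f 1 (sr j')
        rw [h.f_mul, one_mul]
      rw [e, map_mul, hVsr, hVsr, one_mul]
  refine ⟨V', ?_⟩
  intro a b hm
  obtain ⟨i, rfl⟩ := (hV a b).1 hm
  have hmi : ∀ i, f (r i) 1 ∈ V.ker := fun i => hle ⟨i, 1, rfl⟩
  have e : (⟨f (r i) b, hm⟩ : V.ker) = ⟨f (r i) 1, hmi i⟩ * ⟨f 1 b, hm1 b⟩ := by
    apply Subtype.ext
    change f (r i) b = f (r i) 1 * f 1 b
    rw [h.f_mul, mul_one, one_mul]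
  rw [e, map_mul, hV1, mul_one]
  constructor
  · intro h1
    by_contra hi
    have hi' : i ≠ 0 := by
      rintro rfl
      exact hi one_def.symm
    obtain ⟨n, hn⟩ := exists_half hi'
    have h2 : (⟨f (r i) 1, hmi i⟩ : V.ker) ^ n = ⟨f (c k) 1, htm⟩ := by
      have h3 : ∀ n : ℕ, (f (r i) 1) ^ n = f (r (n • i)) 1 := by
        intro n
        induction n with
        | zero => rw [pow_zero, zero_smul, ← one_def, f_one h]
        | succ n ih => rw [pow_succ, ih, h.f_mul, r_mul_r, one_mul, succ_nsmul]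
      apply Subtype.ext
      change f (r i) 1 ^ n = f (c k) 1
      rw [h3, hn]
      rfl
    apply hVt
    rw [← h2, map_pow, h1, one_pow]
  · intro h1
    have h2 : (⟨f (r i) 1, hmi i⟩ : V.ker) = 1 := by
      apply Subtype.ext
      change f (r i) 1 = 1
      rw [h1, f_one h]
    rw [h2, map_one]

end

end Cfsg.Agent.LFourA.CtTransfer
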