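import Mathlib
import Cfsg.Agent.LFourA.CtTransfer
import Cfsg.Agent.Lib.HallHigman

/-!
# The structure of `C(t)/O(C(t))`
-/

set_option autoImplicit false

namespace Cfsg.Agent.LFourA.CtMain

open DihedralGroup Cfsg.Agent.LFourA.Model Cfsg.Agent.LFourA.Defs Cfsg.Agent.LFourA.CtData
open Cfsg.Agent.LFourA.CtTransfer Cfsg.Agent.LFourA.OddFree Subgroup

universe u

/-- the derived series becomes stationary -/
theorem exists_stable (X : Type*) [Group X] [Finite X] : ∃ n, derivedSeries X (n + 1) = derivedSeries X n := by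
  by_contra hcon
  push Not at hcon
  have h1 : ∀ n, Nat.card (derivedSeries X (n + 1)) < Nat.card (derivedSeries X n) := by
    intro n
    have h2 : derivedSeries X (n + 1) ≤ derivedSeries X n := derivedSeries_antitone X (Nat.le_succ n)
    by_contra h3
    exact hcon n (Subgroup.eq_of_le_of_card_ge h2 (not_lt.1 h3))
  have h2 : ∀ n, Nat.card (derivedSeries X n) + n ≤ Nat.card (derivedSeries X 0) := by
    intro n
    induction n with
    | zero => simp
    | succ n ih =>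
      have := h1 n
      omega
  have h3 := h2 (Nat.card (derivedSeries X 0) + 1)
  omega

/-- a perfect group has no nontrivial homomorphism to a commutative group -/
theorem hom_eq_one {L A : Type*} [Group L] [CommGroup A] (hL : commutator L = ⊤) (φ : L →* A) (x : L) : φ x = 1 := by
  have h1 : commutator L ≤ φ.ker := Abelianization.commutator_subset_ker φ
  rw [hL] at h1
  exact h1 (mem_top x)

section

variable {X : Type u} [Group X] [Finite X] {P : Sylow 2 X} {k : ℕ} {f : D k → D k → X}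
  (h : DBase (P : Subgroup X) k f) {Ty : X → Prop} {η : ZMod (4 * 2 ^ k) → D k →* D k} (hT : TData f Ty η)

include h hT

omit [Finite X] in
/-- A normal subgroup containing one `f 1 b`, `b ≠ 1` contains all. -/
theorem all_mem (N : Subgroup X) [hN : N.Normal] {b : D k} (hb : b ≠ 1) (hbN : f 1 b ∈ N) (b' : D k) : f 1 b' ∈ N := by
  have hconj : ∀ g x, x ∈ N → g * x * g⁻¹ ∈ N := fun g x hx => hN.conj_mem x hx g
  -- `f 1 c` is enough
  have h1 : f 1 (c k) ∈ N → ∀ b', f 1 b' ∈ N := by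
    intro hc b'
    have h2 : ∀ j, f 1 (sr j) ∈ N := by
      intro j
      obtain ⟨ρ, hρ⟩ := hT.rho j
      rw [← hρ.c_s]
      exact hconj _ _ hc
    rcases FOne.eq_prod_sr b' with ⟨j, rfl⟩ | ⟨j, j', rfl⟩
    · exact h2 j
    · have e : f 1 (sr j * sr j') = f 1 (sr j) * f 1 (sr j') := by rw [h.f_mul, one_mul]
      rw [e]
      exact mul_mem (h2 j) (h2 j')
  apply h1
  -- from a reflection
  have h3 : ∀ j, f 1 (sr j) ∈ N → f 1 (c k) ∈ N := by
    intro j hj
    obtain ⟨ρ, hρ⟩ := hT.rho j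
    rw [← hρ.sc_c, ← hρ.s_sc]
    exact hconj _ _ (hconj _ _ hj)
  rcases b with i | j
  · have hi : i ≠ 0 := by
      rintro rfl
      exact hb one_def.symm
    obtain ⟨n, hn⟩ := exists_half hi
    have h4 : ∀ n : ℕ, (f 1 (r i)) ^ n = f 1 (r (n • i)) := by
      intro n
      induction n with
      | zero => rw [pow_zero, zero_smul, ← one_def, f_one h]
      | succ n ih => rw [pow_succ, ih, h.f_mul, r_mul_r, one_mul, succ_nsmul]
    have h5 := pow_mem hbN n
    rw [h4, hn] at h5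
    exact h5
  · exact h3 j hbN

/-- A normal 2-subgroup of a solvable group with trivial odd core: contradiction. -/
theorem not_solvable (hO : Cfsg.oddCore X = ⊥) (V : X →* ℤˣ) (hV : ∀ a b, (V (f a b) = 1 ↔ ∃ i, a = r i))
    (V' : V.ker →* Multiplicative (ZMod (4 * 2 ^ k)))
    (hV' : ∀ a b (hm : f a b ∈ V.ker), (V' ⟨f a b, hm⟩ = 1 ↔ a = 1)) : ¬ Group.IsSolvable X := by
  intro hsol
  have hC := Cfsg.Agent.Lib.HallHigman.centralizer_pCore_le_of_solvable (G := X) 2 hO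
  set R : Subgroup X := Cfsg.pCore 2 X with hR
  have hRn : R.Normal := Cfsg.Agent.Lib.Cores.pCore_normal 2
  have hRP : R ≤ P := Cfsg.Agent.Lib.Cores.pCore_le_sylow P
  have hRp : IsPGroup 2 R := Cfsg.Agent.Lib.Cores.pCore_isPGroup 2
  obtain ⟨ρ, hρ⟩ := hT.rho 0
  obtain ⟨m, hm⟩ := hρ.ord
  have hρV : ρ ∈ V.ker := by
    have h1 : V ρ ^ (3 ^ m) = 1 := by rw [← map_pow, hm, map_one]
    rcases Int.units_eq_one_or (V ρ) with h2 | h2
    · exact h2
    · rw [h2, Odd.neg_one_pow (Odd.pow (by decide))] at h1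
      exact absurd h1 (by decide)
  -- an element of `P` in both kernels
  have hmem : ∀ x ∈ (P : Subgroup X), ∀ hx : x ∈ V.ker, V' ⟨x, hx⟩ = 1 → ∃ b, x = f 1 b := by
    intro x hxP hx hx'
    obtain ⟨a, b, rfl⟩ := (h.mem_iff x).1 hxP
    have h1 := (hV' a b hx).1 hx'
    subst h1
    exact ⟨b, rfl⟩
  have hm1 : ∀ b, f 1 b ∈ V.ker := fun b => (hV 1 b).2 ⟨0, one_def⟩
  have hV1 : ∀ b, V' ⟨f 1 b, hm1 b⟩ = 1 := fun b => (hV' 1 b _).2 rfl
  have hconj1 : ∀ (g : X), g ∈ V.ker → ∀ b, ∀ hx : g * f 1 b * g⁻¹ ∈ V.ker, V' ⟨g * f 1 b * g⁻¹, hx⟩ = 1 := by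
    intro g hg b hx
    have h1 : (⟨g * f 1 b * g⁻¹, hx⟩ : V.ker) = ⟨g, hg⟩ * ⟨f 1 b, hm1 b⟩ * ⟨g, hg⟩⁻¹ := rfl
    rw [h1, map_mul, map_mul, map_inv, hV1, mul_one, mul_inv_cancel]
  by_cases hcase : ∃ b : D k, b ≠ 1 ∧ f 1 b ∈ R
  · obtain ⟨b, hb, hbR⟩ := hcase
    have hall := all_mem h hT R hb hbR
    -- `ρ` normalises `f 1 D`
    have hnorm : ∀ b, ∃ b', ρ⁻¹ * f 1 b * ρ = f 1 b' := by
      intro b
      have h1 : ρ⁻¹ * f 1 b * ρ⁻¹⁻¹ ∈ R := hRn.conj_mem _ (hall b) _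
      have h2 : ρ⁻¹ * f 1 b * ρ⁻¹⁻¹ ∈ V.ker := by
        have h3 : V.ker.Normal := inferInstance
        exact h3.conj_mem _ (hm1 b) _
      have h3 := hmem _ (hRP h1) h2 (hconj1 ρ⁻¹ (inv_mem hρV) b h2)
      rwa [inv_inv] at h3
    have h1 : ∀ b, sr 0 * b = b * (sr 0 : D k) := by
      intro b
      obtain ⟨b', hb'⟩ := hnorm b
      have h2 : f 1 (c k) * f 1 b' = f 1 b' * f 1 (c k) := by
        rw [f_comm_iff h]
        exact ⟨rfl, c_comm b'⟩
      have h3 : f 1 (sr 0) * f 1 b = f 1 b * f 1 (sr 0) := by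
        rw [← hρ.c_s]
        have h4 : f 1 b = ρ * f 1 b' * ρ⁻¹ := by rw [← hb']; group
        rw [h4]
        calc ρ * f 1 (c k) * ρ⁻¹ * (ρ * f 1 b' * ρ⁻¹) = ρ * (f 1 (c k) * f 1 b') * ρ⁻¹ := by group
          _ = ρ * (f 1 b' * f 1 (c k)) * ρ⁻¹ := by rw [h2]
          _ = _ := by group
      exact ((f_comm_iff h).1 h3).2
    rcases eq_of_central h1 with h2 | h2
    · exact sr_ne_one _ h2
    · exact sr_ne_c _ h2
  · push Not at hcase
    -- `ρ` centralises `R ⊓ V.ker`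
    have h1 : ∀ x ∈ R, V x = 1 → ρ * x * ρ⁻¹ * x⁻¹ = 1 := by
      intro x hx hVx
      have h2 : ρ * x * ρ⁻¹ * x⁻¹ ∈ R := mul_mem (hRn.conj_mem _ hx _) (inv_mem hx)
      have h3 : ρ * x * ρ⁻¹ * x⁻¹ ∈ V.ker := by
        rw [MonoidHom.mem_ker, map_mul, map_mul, map_mul, map_inv, map_inv, hVx, MonoidHom.mem_ker.1 hρV]
        rfl
      have h4 : V' ⟨ρ * x * ρ⁻¹ * x⁻¹, h3⟩ = 1 := by
        have h5 : (⟨ρ * x * ρ⁻¹ * x⁻¹, h3⟩ : V.ker) = ⟨ρ, hρV⟩ * ⟨x, hVx⟩ * ⟨ρ, hρV⟩⁻¹ * ⟨x, hVx⟩⁻¹ := rfl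
        rw [h5, map_mul, map_mul, map_mul, map_inv, map_inv, mul_comm (V' ⟨ρ, hρV⟩), mul_inv_cancel_right,
          mul_inv_cancel]
      obtain ⟨b, hb⟩ := hmem _ (hRP h2) h3 h4
      by_contra h5
      have hb1 : b ≠ 1 := by
        rintro rfl
        exact h5 (by rw [hb, f_one h])
      exact hcase b hb1 (hb ▸ h2)
    have h2 : ∀ x ∈ R, ρ * x = x * ρ := by
      intro x hx
      set s := ρ * x * ρ⁻¹ * x⁻¹ with hs
      have hsR : s ∈ R := mul_mem (hRn.conj_mem _ hx _) (inv_mem hx)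
      have hsV : V s = 1 := by
        rw [hs, map_mul, map_mul, map_mul, map_inv, map_inv, MonoidHom.mem_ker.1 hρV, one_mul, inv_one, mul_one,
          mul_inv_cancel]
      have hsρ : ρ * s = s * ρ := by
        have h3 := h1 s hsR hsV
        exact mul_inv_eq_iff_eq_mul.1 (mul_inv_eq_one.1 h3)
      have h3 : ρ * x = s * x * ρ := by rw [hs]; group
      have h4 : ∀ n : ℕ, ρ ^ n * x = s ^ n * x * ρ ^ n := by
        intro n
        induction n with
        | zero => simp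
        | succ n ih =>
          have h5 : Commute ρ (s ^ n) := (show Commute ρ s from hsρ).pow_right n
          calc ρ ^ (n + 1) * x = ρ * (ρ ^ n * x) := by rw [pow_succ']; group
            _ = ρ * s ^ n * x * ρ ^ n := by rw [ih]; group
            _ = s ^ n * (ρ * x) * ρ ^ n := by rw [h5.eq]; group
            _ = s ^ n * (s * x * ρ) * ρ ^ n := by rw [h3]
            _ = s ^ (n + 1) * x * ρ ^ (n + 1) := by rw [pow_succ, pow_succ']; group
      have h5 := h4 (3 ^ m)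
      rw [hm, one_mul, mul_one] at h5
      have h6 : s ^ (3 ^ m) = 1 := mul_eq_right.1 h5.symm
      have h7 : s = 1 := by
        obtain ⟨e, he⟩ := IsPGroup.iff_orderOf.1 hRp ⟨s, hsR⟩
        rw [Subgroup.orderOf_mk] at he
        have h8 := orderOf_dvd_of_pow_eq_one h6
        rw [he] at h8
        have h9 : Nat.Coprime (2 ^ e) (3 ^ m) := Nat.Coprime.pow _ _ (by norm_num)
        have h10 : 2 ^ e = 1 := Nat.eq_one_of_dvd_coprimes h9 dvd_rfl h8
        rw [h10] at he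
        exact orderOf_eq_one_iff.1 he
      rw [h3, h7, one_mul]
    have h3 : ρ ∈ R := by
      apply hC
      rw [mem_centralizer_iff]
      intro x hx
      exact (h2 x hx).symm
    have h4 : ρ = 1 := by
      obtain ⟨e, he⟩ := IsPGroup.iff_orderOf.1 hRp ⟨ρ, h3⟩
      rw [Subgroup.orderOf_mk] at he
      have h8 := orderOf_dvd_of_pow_eq_one hm
      rw [he] at h8
      have h9 : Nat.Coprime (2 ^ e) (3 ^ m) := Nat.Coprime.pow _ _ (by norm_num)
      have h10 : 2 ^ e = 1 := Nat.eq_one_of_dvd_coprimes h9 dvd_rfl h8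
      rw [h10] at he
      exact orderOf_eq_one_iff.1 he
    have h5 := hρ.c_s
    rw [h4, one_mul, inv_one, mul_one, f_eq_iff h] at h5
    exact sr_ne_c _ h5.2.symm

end

/-- The structure of `C(t)/O(C(t))`. -/
structure CtOut {X : Type u} [Group X] {k : ℕ} (f : D k → D k → X) (η : ZMod (4 * 2 ^ k) → D k →* D k)
    (L : Subgroup X) : Prop where
  normal : L.Normal
  res : ∃ n, L = derivedSeries X n
  perfect : commutator L = ⊤
  d₂ : ∀ b, f 1 b ∈ L
  out : ∀ a b, f a b ∈ L → a = 1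
  iso : (∃ (F : Type) (_ : Field F) (_ : Fintype F), Odd (Fintype.card F) ∧ 3 < Fintype.card F ∧
    Nonempty (L ≃* Matrix.ProjectiveSpecialLinearGroup (Fin 2) F)) ∨ Nonempty (L ≃* alternatingGroup (Fin 7))
  cent : ∀ a b, (∀ x ∈ L, f a b * x = x * f a b) → ∀ i, b = η i a

section

variable {X : Type u} [Group X] {S : Subgroup X} {k : ℕ} {f : D k → D k → X}
  (h : DBase S k f) {Ty : X → Prop} {η : ZMod (4 * 2 ^ k) → D k →* D k} (hT : TData f Ty η)

include h hT

theorem cent_aux (L : Subgroup X) [hL : L.Normal] (hd : ∀ b, f 1 b ∈ L) (a b : D k)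
    (hc : ∀ x ∈ L, f a b * x = x * f a b) (i : ZMod (4 * 2 ^ k)) : b = η i a := by
  have h1 : ∀ b', b * b' = b' * b := fun b' => ((f_comm_iff h).1 (hc _ (hd b'))).2
  by_contra hne
  have hb : b = η i a * c k := by
    rcases eq_of_central h1 with rfl | rfl <;> rcases hT.val i a with h2 | h2
    · exact absurd h2.symm hne
    · rw [h2, c_mul_c]
    · rw [h2, one_mul]
    · exact absurd h2.symm hne
  obtain ⟨ρ, hρ⟩ := hT.rho i
  have e1 : f a b = f a (η i a) * f 1 (c k) := by rw [h.f_mul, mul_one, hb]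
  have e2 : ρ * f a b * ρ⁻¹ = f a (η i a) * f 1 (sr i) := by
    rw [e1, ← hρ.c_s]
    calc ρ * (f a (η i a) * f 1 (c k)) * ρ⁻¹ = (ρ * f a (η i a)) * f 1 (c k) * ρ⁻¹ := by group
      _ = (f a (η i a) * ρ) * f 1 (c k) * ρ⁻¹ := by rw [hρ.fix]
      _ = _ := by group
  -- the conjugate centralises `L`
  have h3 : ∀ x ∈ L, ρ * f a b * ρ⁻¹ * x = x * (ρ * f a b * ρ⁻¹) := by
    intro x hx
    have h4 : ρ⁻¹ * x * ρ⁻¹⁻¹ ∈ L := hL.conj_mem x hx _
    have h5 := hc _ h4
    calc ρ * f a b * ρ⁻¹ * x = ρ * (f a b * (ρ⁻¹ * x * ρ⁻¹⁻¹)) * ρ⁻¹ := by group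
      _ = ρ * (ρ⁻¹ * x * ρ⁻¹⁻¹ * f a b) * ρ⁻¹ := by rw [h5]
      _ = _ := by group
  have h4 : ∀ b', b * (η i a * sr i * b') = η i a * sr i * b' * b := fun b' => h1 _
  have h5 : ∀ b', sr i * b' = b' * (sr i : D k) := by
    intro b'
    have h6 := h3 _ (hd b')
    rw [e2, h.f_mul, f_comm_iff h] at h6
    have h7 := h6.2
    rcases hT.val i a with h8 | h8
    · rwa [h8, one_mul] at h7
    · rw [h8, mul_assoc, ← mul_assoc b', ← c_comm b', mul_assoc, mul_right_inj] at h7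
      exact h7
  rcases eq_of_central h5 with h6 | h6
  · exact sr_ne_one _ h6
  · exact sr_ne_c _ h6

end

section

variable {X : Type u} [Group X] [Finite X] {P : Sylow 2 X} {k : ℕ} {f : D k → D k → X}
  (h : DBase (P : Subgroup X) k f) {Ty : X → Prop} {η : ZMod (4 * 2 ^ k) → D k →* D k} (hT : TData f Ty η)

include h hT

theorem main
    (hGW : ∀ (X : Type u) [Group X] [Finite X] [Group.IsPerfect X]
      (S : Sylow 2 X) (n : ℕ), 2 ≤ n → Nonempty ((S : Subgroup X) ≃* DihedralGroup n) →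
      (∃ (F : Type) (_ : Field F) (_ : Fintype F), Odd (Fintype.card F) ∧ 3 < Fintype.card F ∧
        Nonempty (X ⧸ Cfsg.oddCore X ≃* Matrix.ProjectiveSpecialLinearGroup (Fin 2) F)) ∨
      Nonempty (X ⧸ Cfsg.oddCore X ≃* alternatingGroup (Fin 7)))
    (hO : Cfsg.oddCore X = ⊥) : ∃ L : Subgroup X, CtOut f η L := by
  obtain ⟨V, hV⟩ := exists_V h hT
  obtain ⟨V', hV'⟩ := exists_V' h V hV hT
  obtain ⟨n, hn⟩ := exists_stable X
  set L : Subgroup X := derivedSeries X n with hL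
  have hLn : L.Normal := inferInstance
  have hLL : ⁅L, L⁆ = L := by
    rw [hL, ← derivedSeries_succ, hn]
  have hperf : commutator L = ⊤ := by
    apply Subgroup.map_injective L.subtype_injective
    rw [Subgroup.map_subtype_commutator, hLL, ← MonoidHom.range_eq_map, Subgroup.range_subtype]
  have hL1 : L ≠ ⊥ := by
    intro h1
    apply not_solvable h hT hO V hV V' hV'
    exact ⟨n, h1⟩
  have hLV : ∀ x ∈ L, V x = 1 := fun x hx => hom_eq_one hperf (V.comp L.subtype) ⟨x, hx⟩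
  have hLV' : ∀ x (hx : x ∈ L), V' ⟨x, hLV x hx⟩ = 1 := by
    intro x hx
    exact hom_eq_one hperf (V'.comp (Subgroup.inclusion (show L ≤ V.ker from hLV))) ⟨x, hx⟩
  have hout : ∀ a b, f a b ∈ L → a = 1 := fun a b hab => (hV' a b _).1 (hLV' _ hab)
  have h2 : 2 ∣ Nat.card L := by
    by_contra h2
    apply hL1
    rw [eq_bot_iff, ← hO]
    apply Cfsg.Agent.Lib.Cores.le_pPrimeCore hLn
    rw [Nat.coprime_comm]
    exact (Nat.Prime.coprime_iff_not_dvd Nat.prime_two).2 h2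
  have hex : ∃ b : D k, b ≠ 1 ∧ f 1 b ∈ L := by
    by_contra hcon
    push Not at hcon
    have h3 : (sylN P L : Subgroup L) = ⊥ := by
      rw [eq_bot_iff]
      intro y hy
      obtain ⟨a, b, e⟩ := (h.mem_iff _).1 ((mem_sylN P L y).1 hy)
      have h4 : f a b ∈ L := e ▸ y.2
      have h5 := hout a b h4
      subst h5
      have h6 : b = 1 := by
        by_contra h6
        exact hcon b h6 h4
      subst h6
      rw [Subgroup.mem_bot]
      apply Subtype.ext
      rw [e, f_one h]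
      rfl
    have h4 := (sylN P L).not_dvd_index
    rw [h3, Subgroup.index_bot] at h4
    exact h4 h2
  obtain ⟨b₀, hb₀, hb₀L⟩ := hex
  have hd : ∀ b, f 1 b ∈ L := all_mem h hT L hb₀ hb₀L
  -- the Sylow subgroup of `L`
  let θ : D k →* (sylN P L : Subgroup L) :=
    { toFun := fun b => ⟨⟨f 1 b, hd b⟩, f_mem h _ _⟩
      map_one' := by
        apply Subtype.ext
        apply Subtype.ext
        exact f_one h
      map_mul' := by
        intro b b'
        apply Subtype.ext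
        apply Subtype.ext
        change f 1 (b * b') = f 1 b * f 1 b'
        rw [h.f_mul, one_mul] }
  have hθ : Function.Bijective θ := by
    constructor
    · intro b b' e
      have h3 : f 1 b = f 1 b' := congrArg Subtype.val (congrArg Subtype.val e)
      exact ((f_eq_iff h).1 h3).2
    · intro y
      obtain ⟨a, b, e⟩ := (h.mem_iff _).1 ((mem_sylN P L y.1).1 y.2)
      have h4 : f a b ∈ L := e ▸ y.1.2
      have h5 := hout a b h4
      subst h5
      refine ⟨b, ?_⟩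
      apply Subtype.ext
      apply Subtype.ext
      exact e.symm
  have hperf' : Group.IsPerfect L := ⟨hperf⟩
  have hOL := oddCore_eq_bot hO L
  have e2 : L ⧸ Cfsg.oddCore L ≃* L := (QuotientGroup.quotientMulEquivOfEq hOL).trans QuotientGroup.quotientBot
  have hiso := hGW L (sylN P L) (4 * 2 ^ k) (by
    have : 0 < 2 ^ k := by positivity
    omega) ⟨(MulEquiv.ofBijective θ hθ).symm⟩
  refine ⟨L, hLn, ⟨n, rfl⟩, hperf, hd, hout, ?_, fun a b hc i => cent_aux h hT L hd a b hc i⟩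
  rcases hiso with ⟨F, i1, i2, hodd, hcard, ⟨e⟩⟩ | h7
  · exact Or.inl ⟨F, i1, i2, hodd, hcard, ⟨e2.symm.trans e⟩⟩
  · obtain ⟨e⟩ := h7
    exact Or.inr ⟨e2.symm.trans e⟩

end

end Cfsg.Agent.LFourA.CtMain
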