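import Mathlib
import Cfsg.Agent.LFourA.CtMain
import Cfsg.Agent.LFourA.CzCt

/-!
# The structure of `C(t)` modulo its odd core
-/

set_option autoImplicit false

namespace Cfsg.Agent.LFourA.CtFinal

open DihedralGroup Cfsg.Agent.LFourA.Model Cfsg.Agent.LFourA.Base Cfsg.Agent.LFourA.Defs
open Cfsg.Agent.LFourA.CtData Cfsg.Agent.LFourA.CtMain Cfsg.Agent.LFourA.Quot Cfsg.Agent.LFourA.OddFree
open Cfsg.Agent.LFourA.CzCt Subgroup

universe u

/-- Additional information on `K = L(t)`: it is the solvable residual of `X`, perfect, and the elements of the Sylow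
subgroup centralising it satisfy `b = η i a` for all `i`. -/
structure CtExt {G X : Type*} [Group G] [Group X] {k : ℕ} (f : D k → D k → G) {t : G}
    (p : ↥(centralizer ({t} : Set G)) →* X) (K : Subgroup X) (η : ZMod (4 * 2 ^ k) → D k →* D k) : Prop where
  res : ∃ n, K = derivedSeries X n
  perfect : commutator K = ⊤
  cent : ∀ a b (hm : f a b ∈ centralizer ({t} : Set G)), (∀ x ∈ K, p ⟨f a b, hm⟩ * x = x * p ⟨f a b, hm⟩) →
    ∀ i, b = η i a

/-- membership in the core of the centraliser -/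
theorem mem_core {G : Type*} [Group G] {z : G} (x : centralizer ({z} : Set G)) :
    (x : G) ∈ Cfsg.centralizerPPrimeCore 2 z ↔ x ∈ Cfsg.oddCore (centralizer ({z} : Set G)) := by
  constructor
  · rintro ⟨y, hy, hyx⟩
    have h1 : y = x := Subtype.ext hyx
    rwa [← h1]
  · intro hx
    exact ⟨x, hx, rfl⟩

section

variable {G : Type u} [Group G] [Finite G] {P : Sylow 2 G} {k : ℕ} {f : D k → D k → G} {w : G}
  (h : DWr (P : Subgroup G) k f w)

include h

theorem main_gen
    (hGW : ∀ (X : Type u) [Group X] [Finite X] [Group.IsPerfect X]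
      (S : Sylow 2 X) (n : ℕ), 2 ≤ n → Nonempty ((S : Subgroup X) ≃* DihedralGroup n) →
      (∃ (F : Type) (_ : Field F) (_ : Fintype F), Odd (Fintype.card F) ∧ 3 < Fintype.card F ∧
        Nonempty (X ⧸ Cfsg.oddCore X ≃* Matrix.ProjectiveSpecialLinearGroup (Fin 2) F)) ∨
      Nonempty (X ⧸ Cfsg.oddCore X ≃* alternatingGroup (Fin 7)))
    {η : ZMod (4 * 2 ^ k) → D k →* D k}
    (hT : TData (X := centralizer ({f (c k) 1} : Set G)) (fun a b => ⟨f a b, f_mem_cent h a b⟩)
      (fun x => IsConj (x : G) (f (c k) 1)) η) :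
    ∃ (X : Type u) (_ : Group X) (_ : Finite X) (p : centralizer ({f (c k) 1} : Set G) →* X) (B : Sylow 2 X)
      (K : Subgroup X), Cfsg.oddCore X = ⊥ ∧ DBase (B : Subgroup X) k (fun a b => p ⟨f a b, f_mem_cent h a b⟩) ∧
        Function.Surjective p ∧ (∀ x, p x = 1 ↔ (x : G) ∈ Cfsg.centralizerPPrimeCore 2 (f (c k) 1)) ∧ K.Normal ∧
        TPos f p K ∧ CtExt f p K η ∧
        ((∃ (F : Type) (_ : Field F) (_ : Fintype F), Odd (Fintype.card F) ∧ 3 < Fintype.card F ∧
          Nonempty (K ≃* Matrix.ProjectiveSpecialLinearGroup (Fin 2) F)) ∨ Nonempty (K ≃* alternatingGroup (Fin 7))) := by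
  set C := centralizer ({f (c k) 1} : Set G) with hC
  have h' := dbase h
  have h'' := dbase_quot h'
  obtain ⟨L, hL⟩ := CtMain.main h'' (hT.quot h') hGW oddCore_quot
  refine ⟨C ⧸ Cfsg.oddCore C, inferInstance, inferInstance, pr C, syl (sylT h), L, oddCore_quot, h'', pr_surj, ?_,
    hL.normal, ⟨?_, ?_⟩, ⟨hL.res, hL.perfect, ?_⟩, hL.iso⟩
  · intro x
    rw [mem_core, pr_eq_one]
  · intro b
    rw [mem_up]
    exact ⟨f_mem_cent h 1 b, hL.d₂ b⟩
  · intro a b hab
    rw [mem_up] at hab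
    obtain ⟨hm, hab⟩ := hab
    exact hL.out a b hab
  · intro a b hm hc i
    exact hL.cent a b hc i

/-- **C(t), case I.** -/
theorem main_one
    (hGW : ∀ (X : Type u) [Group X] [Finite X] [Group.IsPerfect X]
      (S : Sylow 2 X) (n : ℕ), 2 ≤ n → Nonempty ((S : Subgroup X) ≃* DihedralGroup n) →
      (∃ (F : Type) (_ : Field F) (_ : Fintype F), Odd (Fintype.card F) ∧ 3 < Fintype.card F ∧
        Nonempty (X ⧸ Cfsg.oddCore X ≃* Matrix.ProjectiveSpecialLinearGroup (Fin 2) F)) ∨
      Nonempty (X ⧸ Cfsg.oddCore X ≃* alternatingGroup (Fin 7)))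
    (hI : CaseI f w) :
    ∃ (X : Type u) (_ : Group X) (_ : Finite X) (p : centralizer ({f (c k) 1} : Set G) →* X)
      (K : Subgroup X), CT (f (c k) 1) p K ∧ TPos f p K ∧ CtExt f p K (fun i => chi (1 + pa i) (pa i)) ∧
        (∀ x, (∀ y ∈ K, x * y = y * x) → x ∈ zpowers (p ⟨f (r 1) (c k), f_mem_cent h _ _⟩)) ∧
        ((∃ (F : Type) (_ : Field F) (_ : Fintype F), Odd (Fintype.card F) ∧ 3 < Fintype.card F ∧
          Nonempty (K ≃* Matrix.ProjectiveSpecialLinearGroup (Fin 2) F)) ∨ Nonempty (K ≃* alternatingGroup (Fin 7))) := by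
  obtain ⟨X, i1, i2, p, B, K, hO, hB, hsurj, hker, hn, hpos, hext, hiso⟩ := main_gen h hGW (tdata_one h hI)
  -- the centraliser of `K`
  have hCB : ∀ x, (∀ y ∈ K, x * y = y * x) → x ∈ (B : Subgroup X) →
      x ∈ zpowers (p ⟨f (r 1) (c k), f_mem_cent h _ _⟩) := by
    intro x hx hxB
    obtain ⟨a, b, rfl⟩ := (hB.mem_iff x).1 hxB
    have h1 := hext.cent a b (f_mem_cent h a b) hx
    have h2 := h1 0
    have h3 := h1 1
    simp only [map_zero, map_one] at h2 h3
    rw [add_zero] at h2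
    rw [show (1 : ZMod 2) + 1 = 0 by decide] at h3
    rcases a with j | j
    · -- rotation
      rw [chi_r] at h2
      simp only [add_zero, one_mul] at h2
      refine mem_zpowers_iff.2 ⟨(j.val : ℤ), ?_⟩
      rw [zpow_natCast, ← map_pow]
      congr 1
      apply Subtype.ext
      change f (r 1) (c k) ^ j.val = f (r j) b
      have h4 : ∀ n : ℕ, f (r 1) (c k) ^ n = f (r (n : ZMod (4 * 2 ^ k))) (cc k (n : ZMod 2)) := by
        intro n
        induction n with
        | zero =>
          rw [pow_zero, Nat.cast_zero, Nat.cast_zero, cc_zero, ← one_def, Base.f_one h]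
        | succ n ih =>
          rw [pow_succ, ih, h.f_mul, r_mul_r, Nat.cast_succ, Nat.cast_succ, cc_add, cc_one]
      rw [h4, ZMod.natCast_zmod_val, h2]
      congr 2
      rw [← map_natCast (pa (k := k)), ZMod.natCast_zmod_val]
    · exfalso
      rw [chi_sr] at h2 h3
      have h4 : cc k (1 + (1 + 0) * pa j) = cc k (0 + (0 + 1) * pa j) := h2.symm.trans h3
      rcases zmod2_cases (pa j) with h5 | h5
      · rw [h5] at h4
        have h6 : cc k 1 = cc k 0 := by simpa using h4
        rw [cc_one, cc_zero] at h6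
        exact c_ne_one h6
      · rw [h5] at h4
        have h6 : cc k (1 + 1) = cc k 1 := by simpa using h4
        rw [show (1 : ZMod 2) + 1 = 0 by decide, cc_one, cc_zero] at h6
        exact c_ne_one h6.symm
  let C : Subgroup X := centralizer (K : Set X)
  have hCm : ∀ x, x ∈ C ↔ ∀ y ∈ K, x * y = y * x := by
    intro x
    change x ∈ centralizer _ ↔ _
    rw [mem_centralizer_iff]
    exact ⟨fun h y hy => (h y hy).symm, fun h y hy => (h y hy).symm⟩
  have hCn : C.Normal := inferInstance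
  have hle : C ≤ B := le_of_cyclic hO B C (x := p ⟨f (r 1) (c k), f_mem_cent h _ _⟩)
    (fun y hy hyB => hCB y ((hCm y).1 hy) hyB)
  refine ⟨X, i1, i2, p, K, ⟨hsurj, hker, hn, ?_⟩, hpos, hext, ?_, hiso⟩
  · intro g hg hgc
    have h1 : g ∈ (B : Subgroup X) := hle ((hCm g).2 hgc)
    obtain ⟨e, he⟩ := IsPGroup.iff_orderOf.1 B.isPGroup' ⟨g, h1⟩
    rw [Subgroup.orderOf_mk] at he
    rw [he] at hg
    have h2 : e = 0 := by
      by_contra h2
      exact (Nat.not_odd_iff_even.2 ((Nat.even_pow' h2).2 even_two)) hg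
    rw [h2, pow_zero] at he
    exact orderOf_eq_one_iff.1 he
  · intro x hx
    exact hCB x hx (hle ((hCm x).2 hx))

omit h in
/-- the even rotations of the dihedral group of order eight -/
theorem even_cases (hk : k = 0) {j : ZMod (4 * 2 ^ k)} (hj : pa j = 0) :
    j = 0 ∨ j = ((2 * 2 ^ k : ℕ) : ZMod (4 * 2 ^ k)) := by
  apply eq_of_add_self
  have h1 : ((j.val : ℕ) : ZMod 2) = 0 := by
    rw [← map_natCast (pa (k := k)), ZMod.natCast_zmod_val, hj]
  rw [ZMod.natCast_eq_zero_iff] at h1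
  obtain ⟨m, hm⟩ := h1
  have h2 : j + j = ((4 * m : ℕ) : ZMod (4 * 2 ^ k)) := by
    have h3 : ((j.val + j.val : ℕ) : ZMod (4 * 2 ^ k)) = j + j := by
      rw [Nat.cast_add, ZMod.natCast_zmod_val]
    rw [← h3, hm]
    congr 1
    ring
  rw [h2, ZMod.natCast_eq_zero_iff, hk]
  exact ⟨m, by ring⟩

/-- **C(t), case II.** The centraliser of `K` is the 2-group `{f a 1 | a ∈ {1, c, sr 1, sr 1 * c}}`. -/
theorem main_two
    (hGW : ∀ (X : Type u) [Group X] [Finite X] [Group.IsPerfect X]
      (S : Sylow 2 X) (n : ℕ), 2 ≤ n → Nonempty ((S : Subgroup X) ≃* DihedralGroup n) →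
      (∃ (F : Type) (_ : Field F) (_ : Fintype F), Odd (Fintype.card F) ∧ 3 < Fintype.card F ∧
        Nonempty (X ⧸ Cfsg.oddCore X ≃* Matrix.ProjectiveSpecialLinearGroup (Fin 2) F)) ∨
      Nonempty (X ⧸ Cfsg.oddCore X ≃* alternatingGroup (Fin 7)))
    (hI : CaseII f w) :
    ∃ (X : Type u) (_ : Group X) (_ : Finite X) (p : centralizer ({f (c k) 1} : Set G) →* X)
      (K : Subgroup X), CT (f (c k) 1) p K ∧ TPos f p K ∧ CtExt f p K (fun i => chi (1 + pa i) 0) ∧
        (∀ x, (∀ y ∈ K, x * y = y * x) → ∃ a : D k, (a = 1 ∨ a = c k ∨ a = sr 1 ∨ a = sr 1 * c k) ∧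
          x = p ⟨f a 1, f_mem_cent h _ _⟩) ∧
        ((∃ (F : Type) (_ : Field F) (_ : Fintype F), Odd (Fintype.card F) ∧ 3 < Fintype.card F ∧
          Nonempty (K ≃* Matrix.ProjectiveSpecialLinearGroup (Fin 2) F)) ∨ Nonempty (K ≃* alternatingGroup (Fin 7))) := by
  obtain ⟨X, i1, i2, p, B, K, hO, hB, hsurj, hker, hn, hpos, hext, hiso⟩ := main_gen h hGW (tdata_two h hI)
  -- the centraliser of `K`
  have hCB : ∀ x, (∀ y ∈ K, x * y = y * x) → x ∈ (B : Subgroup X) →
      ∃ a : D k, (a = 1 ∨ a = c k ∨ a = sr 1 ∨ a = sr 1 * c k) ∧ x = p ⟨f a 1, f_mem_cent h _ _⟩ := by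
    intro x hx hxB
    obtain ⟨a, b, rfl⟩ := (hB.mem_iff x).1 hxB
    have h1 := hext.cent a b (f_mem_cent h a b) hx
    have h2 := h1 0
    have h3 := h1 1
    simp only [map_zero, map_one] at h2 h3
    rw [add_zero] at h2
    rw [show (1 : ZMod 2) + 1 = 0 by decide] at h3
    have hb : b = 1 := by
      rcases a with j | j
      · rw [chi_r] at h3
        simpa [cc_zero] using h3
      · rw [chi_sr] at h3
        simpa [cc_zero] using h3
    subst hb
    refine ⟨a, ?_, rfl⟩
    rcases a with j | j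
    · rw [chi_r] at h2
      simp only [add_zero, one_mul] at h2
      have hj : pa j = 0 := by
        rcases zmod2_cases (pa j) with h4 | h4
        · exact h4
        · rw [h4, cc_one] at h2
          exact absurd h2.symm c_ne_one
      rcases even_cases hI.k0 hj with h4 | h4
      · left; rw [h4, one_def]
      · right; left; rw [h4]; rfl
    · rw [chi_sr] at h2
      have hj : pa (j - 1) = 0 := by
        rw [map_sub, map_one]
        rcases zmod2_cases (pa j) with h4 | h4
        · rw [h4] at h2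
          have h5 : 1 = cc k 1 := by simpa using h2
          rw [cc_one] at h5
          exact absurd h5.symm c_ne_one
        · rw [h4, sub_self]
      right; right
      rcases even_cases hI.k0 hj with h4 | h4
      · left
        rw [sub_eq_zero.1 h4]
      · right
        rw [sr_c, ← h4]
        congr 1
        ring
  let C : Subgroup X := centralizer (K : Set X)
  have hCm : ∀ x, x ∈ C ↔ ∀ y ∈ K, x * y = y * x := by
    intro x
    change x ∈ centralizer _ ↔ _
    rw [mem_centralizer_iff]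
    exact ⟨fun h y hy => (h y hy).symm, fun h y hy => (h y hy).symm⟩
  have hCn : C.Normal := inferInstance
  have hpm : ∀ a b a' b', p ⟨f a b, f_mem_cent h _ _⟩ * p ⟨f a' b', f_mem_cent h _ _⟩ =
      p ⟨f (a * a') (b * b'), f_mem_cent h _ _⟩ := hB.f_mul
  have hp1 : p ⟨f 1 1, f_mem_cent h _ _⟩ = 1 := CtData.f_one hB
  have hle : C ≤ B := by
    refine le_of_klein hO B C (t := p ⟨f (c k) 1, f_mem_cent h _ _⟩) (v := p ⟨f (sr 1) 1, f_mem_cent h _ _⟩)
      ?_ ?_ ?_ ?_
    · intro g
      obtain ⟨g, rfl⟩ := hsurj g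
      rw [← map_mul, ← map_mul]
      congr 1
      apply Subtype.ext
      exact mem_centralizer_singleton_iff.1 g.2
    · rw [hpm, c_mul_c, one_mul, hp1]
    · rw [hpm, sr_mul_self, one_mul, hp1]
    · intro y hy hyB
      obtain ⟨a, ha, rfl⟩ := hCB y ((hCm y).1 hy) hyB
      rcases ha with rfl | rfl | rfl | rfl
      · left; exact hp1
      · right; left; rfl
      · right; right; left; rfl
      · right; right; right
        rw [hpm, one_mul]
  refine ⟨X, i1, i2, p, K, ⟨hsurj, hker, hn, ?_⟩, hpos, hext, ?_, hiso⟩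
  · intro g hg hgc
    have h1 : g ∈ (B : Subgroup X) := hle ((hCm g).2 hgc)
    obtain ⟨e, he⟩ := IsPGroup.iff_orderOf.1 B.isPGroup' ⟨g, h1⟩
    rw [Subgroup.orderOf_mk] at he
    rw [he] at hg
    have h2 : e = 0 := by
      by_contra h2
      exact (Nat.not_odd_iff_even.2 ((Nat.even_pow' h2).2 even_two)) hg
    rw [h2, pow_zero] at he
    exact orderOf_eq_one_iff.1 he
  · intro x hx
    exact hCB x hx (hle ((hCm x).2 hx))

end

end Cfsg.Agent.LFourA.CtFinal
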