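import Cfsg.Agent.ClassificationK.GTwoMain


/-!
# Two strongly closed quaternion factors which are exchanged by an automorphism

The factors `L₁ ≥ φ.range`, `L₂ ≥ ψ.range` isomorphic to `SL(2, F)` can be chosen to be exchanged by the automorphism.
-/

set_option autoImplicit false

namespace Cfsg.Agent.LFourA.CzSwap

open QuaternionGroup Subgroup Cfsg.Agent.ClassificationK Cfsg.Agent.ClassificationK.GTwoConf
open Cfsg.Agent.ClassificationK.GTwoFactor

universe u

/-- The two factors. -/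
structure Factors {X : Type u} [Group X] [Finite X] {k : ℕ} (P : Sylow 2 X) (φ ψ : QuaternionGroup (2 ^ k) →* X)
    (L₁ L₂ : Subgroup X) : Prop where
  n₁ : L₁.Normal
  n₂ : L₂.Normal
  le₁ : φ.range ≤ L₁
  le₂ : ψ.range ≤ L₂
  inf₁ : L₁ ⊓ (P : Subgroup X) ≤ φ.range
  inf₂ : L₂ ⊓ (P : Subgroup X) ≤ ψ.range
  comm : ⁅L₁, L₂⁆ = ⊥
  sup : L₁ ⊔ L₂ = commutator X
  iso₁ : ∃ (F : Type) (_ : Field F) (_ : Fintype F), Odd (Fintype.card F) ∧
    Nonempty (L₁ ≃* Matrix.SpecialLinearGroup (Fin 2) F)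
  iso₂ : ∃ (F : Type) (_ : Field F) (_ : Fintype F), Odd (Fintype.card F) ∧
    Nonempty (L₂ ≃* Matrix.SpecialLinearGroup (Fin 2) F)

theorem map_centralizer_equiv {X Y : Type*} [Group X] [Group Y] (α : X ≃* Y) (A : Subgroup X) :
    (centralizer (A : Set X)).map α.toMonoidHom = centralizer ((A.map α.toMonoidHom : Subgroup Y) : Set Y) := by
  ext y
  constructor
  · rintro ⟨x, hx, rfl⟩
    rw [mem_centralizer_iff]
    rintro _ ⟨a, ha, rfl⟩
    rw [← map_mul, mem_centralizer_iff.1 hx a ha, map_mul]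
  · intro hy
    refine ⟨α.symm y, ?_, α.apply_symm_apply y⟩
    change _ ∈ centralizer _
    rw [mem_centralizer_iff]
    intro a ha
    have h1 := mem_centralizer_iff.1 hy (α a) ⟨a, ha, rfl⟩
    apply α.injective
    rw [map_mul, map_mul, α.apply_symm_apply, h1]

theorem LK_eq {X : Type u} [Group X] {k : ℕ} (φ : QuaternionGroup (2 ^ k) →* X) (t : X) [hn : (zpowers t).Normal]
    (ht : t ∈ φ.range) : LK φ t = normalClosure (φ.range : Set X) := by
  have hs : Function.Surjective (QuotientGroup.mk' (zpowers t)) := QuotientGroup.mk'_surjective _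
  rw [LK, NK, DK, Subgroup.coe_map, ← Subgroup.map_normalClosure _ _ hs, Subgroup.comap_map_eq, QuotientGroup.ker_mk',
    sup_eq_left]
  rw [zpowers_le]
  exact subset_normalClosure ht

section

variable {X : Type u} [Group X] [Finite X] {k : ℕ} {P : Sylow 2 X} {s : X} {φ ψ : QuaternionGroup (2 ^ k) →* X}

/-- final step: two normal subgroups with all properties except commutativity and the commutator subgroup -/
theorem factors_of (h : Conf k P s φ ψ) (L M : Subgroup X) (hLn : L.Normal) (hMn : M.Normal)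
    (hL : φ.range ≤ L) (hM : ψ.range ≤ M) (hLP : L ⊓ (P : Subgroup X) ≤ φ.range)
    (hMP : M ⊓ (P : Subgroup X) ≤ ψ.range) (hLM : ⁅L, M⁆ ≤ Subgroup.zpowers (Conf.t φ))
    (hLF : ∃ (F₁ : Type) (_ : Field F₁) (_ : Fintype F₁), Odd (Fintype.card F₁) ∧
      Nonempty (↥L ≃* Matrix.SpecialLinearGroup (Fin 2) F₁))
    (hMF : ∃ (F₂ : Type) (_ : Field F₂) (_ : Fintype F₂), Odd (Fintype.card F₂) ∧
      Nonempty (↥M ≃* Matrix.SpecialLinearGroup (Fin 2) F₂))
    (hLc : L ≤ commutator X) (hMc : M ≤ commutator X) : Factors P φ ψ L M := by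
  obtain ⟨F₁, i₁, j₁, ho₁, ⟨e₁⟩⟩ := id hLF
  obtain ⟨F₂, i₂, j₂, ho₂, ⟨e₂⟩⟩ := id hMF
  have h1 : ⁅L, M⁆ = ⊥ := GTwoAfter.commutator_eq_bot (Conf.t φ) (GTwoFactorBasic.Conf.t_center h)
    (GTwoFactorBasic.Conf.orderOf_t h) L M hLM ho₁ e₁
  exact ⟨hLn, hMn, hL, hM, hLP, hMP, h1,
    le_antisymm (sup_le hLc hMc) (GTwoConfBasic.commutator_le h L M hL hM h1 e₁ e₂), hLF, hMF⟩

/-- the automorphism fixes `t` -/
theorem map_t (h : Conf k P s φ ψ) (α : X ≃* X) (hα : φ.range.map α.toMonoidHom = ψ.range)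
    (hα' : ψ.range.map α.toMonoidHom = φ.range) : α (Conf.t φ) = Conf.t φ := by
  have h1 : α (Conf.t φ) ∈ ψ.range := by
    rw [← hα]
    exact ⟨_, ⟨_, rfl⟩, rfl⟩
  have h2 : α (Conf.t φ) ∈ φ.range := by
    rw [← hα']
    refine ⟨Conf.t φ, ?_, rfl⟩
    rw [← GTwoFactorBasic.Conf.t_symm h]
    exact ⟨_, rfl⟩
  obtain ⟨x, hx⟩ := h2
  obtain ⟨y, hy⟩ := h1
  rcases h.inf₁ x y (hx.trans hy.symm) with rfl | rfl
  · rw [map_one] at hx
    have h3 : Conf.t φ = 1 := α.injective (by rw [← hx, map_one])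
    exact absurd h3 (GTwoFactorBasic.Conf.t_ne h)
  · exact hx.symm

theorem exists_swap
    (hC1 : ∀ (G : Type u) [Group G] [Finite G] (P : Sylow 2 G) (A B : Subgroup G), A ⊓ B = ⊥ →
      Cfsg.IsStronglyClosed A (P : Subgroup G) → Cfsg.IsStronglyClosed B (P : Subgroup G) →
      ⁅normalClosure (A : Set G), normalClosure (B : Set G)⁆ ≤ Cfsg.oddCore G)
    (hGW : ∀ (X : Type u) [Group X] [Finite X] [Group.IsPerfect X]
      (S : Sylow 2 X) (n : ℕ), 2 ≤ n → Nonempty ((S : Subgroup X) ≃* DihedralGroup n) →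
      (∃ (F : Type) (_ : Field F) (_ : Fintype F), Odd (Fintype.card F) ∧ 3 < Fintype.card F ∧
        Nonempty (X ⧸ Cfsg.oddCore X ≃* Matrix.ProjectiveSpecialLinearGroup (Fin 2) F)) ∨
      Nonempty (X ⧸ Cfsg.oddCore X ≃* alternatingGroup (Fin 7)))
    (h : Conf k P s φ ψ) (α : X ≃* X) (hα : φ.range.map α.toMonoidHom = ψ.range)
    (hα' : ψ.range.map α.toMonoidHom = φ.range) :
    ∃ L₁ L₂ : Subgroup X, Factors P φ ψ L₁ L₂ ∧ L₁.map α.toMonoidHom = L₂ ∧ L₂.map α.toMonoidHom = L₁ := by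
  have hn : (zpowers (Conf.t φ)).Normal := GTwoFactorBasic.Conf.normal_t h
  have ht : Conf.t φ = Conf.t φ := rfl
  have ht' : Conf.t ψ = Conf.t φ := GTwoFactorBasic.Conf.t_symm h
  have h3 : Fact (Nat.Prime 3) := ⟨Nat.prime_three⟩
  have hc3 : Odd (Fintype.card (ZMod 3)) := by rw [ZMod.card 3]; decide
  have hL0 : φ.range ≤ LK φ (Conf.t φ) := range_le_LK φ (Conf.t φ)
  have hM0 : ψ.range ≤ LK ψ (Conf.t φ) := range_le_LK ψ (Conf.t φ)
  have hLP : LK φ (Conf.t φ) ⊓ (P : Subgroup X) ≤ φ.range := fun x hx => LK_inf_P h ht hC1 x hx.1 hx.2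
  have hMP : LK ψ (Conf.t φ) ⊓ (P : Subgroup X) ≤ ψ.range := fun x hx => LK_inf_P h.symm ht' hC1 x hx.1 hx.2
  have hLM : ⁅LK φ (Conf.t φ), LK ψ (Conf.t φ)⁆ ≤ zpowers (Conf.t φ) := LK_comm h ht hC1
  have hmap : ∀ (φ ψ : QuaternionGroup (2 ^ k) →* X) (_ : Conf k P s φ ψ) (_ : φ.range.map α.toMonoidHom = ψ.range)
      (t : X) [hn : (zpowers t).Normal] (_ : t = Conf.t φ) (_ : t = Conf.t ψ),
      (LK φ t).map α.toMonoidHom = LK ψ t := by
    intro φ ψ h hα t hn h1 h2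
    rw [LK_eq φ t (by rw [h1]; exact ⟨_, rfl⟩), LK_eq ψ t (by rw [h2]; exact ⟨_, rfl⟩),
      Subgroup.map_normalClosure _ _ α.surjective, ← hα, Subgroup.coe_map]
  have hmap1 : (LK φ (Conf.t φ)).map α.toMonoidHom = LK ψ (Conf.t φ) := hmap φ ψ h hα _ rfl ht'.symm
  have hmap2 : (LK ψ (Conf.t φ)).map α.toMonoidHom = LK φ (Conf.t φ) := hmap ψ φ h.symm hα' _ ht'.symm rfl
  have hcard : Nat.card (LK φ (Conf.t φ)) = Nat.card (LK ψ (Conf.t φ)) := by
    rw [← hmap1]
    exact (Nat.card_congr ((LK φ (Conf.t φ)).equivMapOfInjective _ α.injective).toEquiv)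
  have hcard' : Nat.card φ.range = Nat.card ψ.range := by
    rw [← hα]
    exact (Nat.card_congr (φ.range.equivMapOfInjective _ α.injective).toEquiv)
  -- not perfect
  have hnp : ∀ (φ ψ : QuaternionGroup (2 ^ k) →* X) (_ : Conf k P s φ ψ) (L : Subgroup X), L = φ.range →
      commutator L ≠ ⊤ := by
    rintro φ ψ h L rfl hcon
    have h1 : IsPGroup 2 φ.range := P.isPGroup'.to_le (GTwoFactorBasic.Conf.range_le h)
    have h2 : Group.IsNilpotent φ.range := h1.isNilpotent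
    have h4 : Nontrivial φ.range := by
      rw [Subgroup.nontrivial_iff_exists_ne_one]
      exact ⟨Conf.t φ, ⟨_, rfl⟩, GTwoFactorBasic.Conf.t_ne h⟩
    have h5 := Group.IsSolvable.commutator_lt_top_of_nontrivial φ.range
    rw [hcon] at h5
    exact lt_irrefl _ h5
  rcases LK_perfect h ht hC1 with hL | ⟨hk, hL⟩ <;> rcases LK_perfect h.symm ht' hC1 with hM | ⟨hk', hM⟩
  · -- both factors perfect
    obtain ⟨F₁, i₁, j₁, ho₁, -, e₁⟩ := GTwoSLTwo.exists_sl_two hGW h _ hL0 hLP hL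
    obtain ⟨F₂, i₂, j₂, ho₂, -, e₂⟩ := GTwoSLTwo.exists_sl_two hGW h.symm _ hM0 hMP hM
    exact ⟨_, _, factors_of h _ _ inferInstance inferInstance hL0 hM0 hLP hMP hLM ⟨F₁, i₁, j₁, ho₁, e₁⟩
      ⟨F₂, i₂, j₂, ho₂, e₂⟩ (GTwoAfter.le_commutator_of_perfect _ hL) (GTwoAfter.le_commutator_of_perfect _ hM),
      hmap1, hmap2⟩
  · -- the second factor solvable
    exfalso
    apply hnp φ ψ h (LK φ (Conf.t φ)) ?_ hL
    exact (Subgroup.eq_of_le_of_card_ge hL0 (by rw [hcard, hM, hcard'])).symm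
  · exfalso
    apply hnp ψ φ h.symm (LK ψ (Conf.t φ)) ?_ hM
    exact (Subgroup.eq_of_le_of_card_ge hM0 (by rw [← hcard, hL, hcard'])).symm
  · -- both factors solvable
    have hφn : φ.range.Normal := by rw [← hL]; infer_instance
    have hψn : ψ.range.Normal := by rw [← hM]; infer_instance
    have hc : ∀ x, ∀ y ∈ ψ.range, φ x * y = y * φ x := by
      rintro x _ ⟨y, rfl⟩
      exact h.comm x y
    have hc' : ∀ x, ∀ y ∈ φ.range, ψ x * y = y * ψ x := by
      rintro x _ ⟨y, rfl⟩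
      exact (h.comm y x).symm
    subst hk
    obtain ⟨h1, h1', h2, h4⟩ := GTwoCenterCase.center_case h hφn ψ.range le_rfl inf_le_left hc (Or.inl rfl)
    obtain ⟨h5, h5', h6, h7⟩ := GTwoCenterCase.center_case h.symm hψn φ.range le_rfl inf_le_left hc' (Or.inl rfl)
    refine ⟨centralizer (ψ.range : Set X), centralizer (φ.range : Set X),
      factors_of h (centralizer (ψ.range : Set X)) (centralizer (φ.range : Set X)) inferInstance inferInstance
      h1 h5 h1' h5' ?_ ⟨ZMod 3, inferInstance, inferInstance, hc3, h2⟩ ⟨ZMod 3, inferInstance, inferInstance, hc3, h6⟩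
      h4 h7, ?_, ?_⟩
    · have h8 : ∀ x ∈ centralizer (ψ.range : Set X) ⊓ centralizer (φ.range : Set X), x = 1 ∨ x = Conf.t φ := by
        refine GTwoFactorBasic.Conf.eq_one_or_eq_t_of_inf h ht _ ?_
        intro x hx hxP
        have h9 : x ∈ φ.range := h1' ⟨hx.1, hxP⟩
        have h10 : x ∈ ψ.range := h5' ⟨hx.2, hxP⟩
        obtain ⟨u, rfl⟩ := h9
        obtain ⟨v, hv⟩ := h10
        rcases h.inf₁ u v hv.symm with h11 | h11
        · left; rw [h11, map_one]
        · right; rw [h11]; rfl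
      have h9 : ⁅centralizer (ψ.range : Set X), centralizer (φ.range : Set X)⁆ ≤
          centralizer (ψ.range : Set X) ⊓ centralizer (φ.range : Set X) :=
        le_inf (Subgroup.commutator_le_left _ _) (Subgroup.commutator_le_right _ _)
      intro x hx
      exact (GTwoFactorBasic.Conf.mem_zpowers_t h).2 (h8 x (h9 hx))
    · rw [map_centralizer_equiv, hα']
    · rw [map_centralizer_equiv, hα]

end

end Cfsg.Agent.LFourA.CzSwap
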