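import Mathlib
import Cfsg.Agent.LFourA.CzData
import Cfsg.Agent.ClassificationK.GTwoModelConf

/-!
# The subgroup of index 2 of `D wr 2` isomorphic to the model group `T (4 * 2 ^ k)`
-/

set_option autoImplicit false

namespace Cfsg.Agent.LFourA.CzEmb

open DihedralGroup Cfsg.Agent.LFourA.Model Cfsg.Agent.LFourA.Base Cfsg.Agent.LFourA.Defs
open Cfsg.Agent.ClassificationK.GTwoModel
open Cfsg.Agent.ClassificationK.GTwoQuat
open Cfsg.Agent.ClassificationK.GTwoModelConf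

section

variable {k : ℕ}

/-- comparison of the rings of exponents -/
def kap (k : ℕ) : ZMod (2 * 2 ^ (k + 1)) ≃+* ZMod (4 * 2 ^ k) := ZMod.ringEquivCongr (by ring)

theorem pa_kap (i : ZMod (2 * 2 ^ (k + 1))) : pa (kap k i) = par (2 ^ (k + 1)) i := by
  have h : (pa (k := k)).comp (kap k : ZMod (2 * 2 ^ (k + 1)) →+* ZMod (4 * 2 ^ k)) = par (2 ^ (k + 1)) :=
    RingHom.ext_zmod _ _
  exact DFunLike.congr_fun h i

theorem kap_natCast (n : ℕ) : kap k (n : ZMod (2 * 2 ^ (k + 1))) = (n : ZMod (4 * 2 ^ k)) := map_natCast _ _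

theorem kap_half : kap k ((2 ^ (k + 1) : ℕ) : ZMod (2 * 2 ^ (k + 1))) = ((2 * 2 ^ k : ℕ) : ZMod (4 * 2 ^ k)) := by
  rw [kap_natCast, pow_succ', mul_comm]

/-- the elements `r i`, `r i * sr 0` -/
def de (e : Bool) (i : ZMod (4 * 2 ^ k)) : D k := cond e (sr (-i)) (r i)

theorem de_false (i : ZMod (4 * 2 ^ k)) : de false i = r i := rfl

theorem de_true (i : ZMod (4 * 2 ^ k)) : de true i = sr (-i) := rfl

theorem de_mul (e e' : Bool) (i i' : ZMod (4 * 2 ^ k)) :
    de e i * de e' i' = de (xor e e') (i + cond e (-i') i') := by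
  cases e <;> cases e'
  · rw [de_false, de_false, r_mul_r]; rfl
  · rw [de_false, de_true, r_mul_sr]
    change sr (-i' - i) = sr (-(i + i'))
    congr 1
    ring
  · rw [de_true, de_false, sr_mul_r]
    change sr (-i + i') = sr (-(i + -i'))
    congr 1
    ring
  · rw [de_true, de_true, sr_mul_sr]
    change r (-i' - -i) = r (i + -i')
    congr 1
    ring

theorem de_inj {e e' : Bool} {i i' : ZMod (4 * 2 ^ k)} (h : de e i = de e' i') : e = e' ∧ i = i' := by
  cases e <;> cases e'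
  · exact ⟨rfl, DihedralGroup.r.inj h⟩
  · cases h
  · cases h
  · exact ⟨rfl, neg_injective (DihedralGroup.sr.inj h)⟩

theorem kap_sg (e : Bool) (i : ZMod (2 * 2 ^ (k + 1))) :
    kap k (sg (2 * 2 ^ (k + 1)) e * i) = cond e (-(kap k i)) (kap k i) := by
  cases e
  · simp
  · simp

end

variable {X : Type*} [Group X] {S : Subgroup X} {k : ℕ} {f : D k → D k → X} {w : X}

/-- the embedding of the model group -/
def emb (h : DWr S k f w) : T (2 * 2 ^ (k + 1)) →* X where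
  toFun p := f (de p.e (kap k p.i)) (de p.e (kap k p.j)) * cond p.d w 1
  map_one' := by
    rw [T.one_def]
    simp only [map_zero, de_false, cond_false, mul_one]
    exact f_one h
  map_mul' := by
    rintro ⟨i, j, e, d⟩ ⟨i', j', e', d'⟩
    rw [T.mul_mk]
    simp only [map_add, kap_sg]
    cases d <;> cases d'
    · simp only [cond_false, mul_one, Bool.xor_false]
      rw [h.f_mul, de_mul, de_mul]
    · simp only [cond_false, cond_true, mul_one, Bool.xor_true, Bool.not_false]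
      rw [f_mul_fw h, de_mul, de_mul]
    · simp only [cond_false, cond_true, mul_one, Bool.xor_false]
      rw [fw_mul_f h, de_mul, de_mul]
    · simp only [cond_false, cond_true, mul_one, Bool.xor_true, Bool.not_true]
      rw [fw_mul_fw h, de_mul, de_mul]

section

variable (h : DWr S k f w)

include h

theorem emb_mk (i j : ZMod (2 * 2 ^ (k + 1))) (e d : Bool) :
    emb h ⟨i, j, e, d⟩ = f (de e (kap k i)) (de e (kap k j)) * cond d w 1 := rfl

theorem emb_mk_false (i j : ZMod (2 * 2 ^ (k + 1))) (e : Bool) :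
    emb h ⟨i, j, e, false⟩ = f (de e (kap k i)) (de e (kap k j)) := by
  rw [emb_mk]
  exact mul_one _

theorem emb_mk_true (i j : ZMod (2 * 2 ^ (k + 1))) (e : Bool) :
    emb h ⟨i, j, e, true⟩ = f (de e (kap k i)) (de e (kap k j)) * w := rfl

theorem emb_inj : Function.Injective (emb h) := by
  rintro ⟨i, j, e, d⟩ ⟨i', j', e', d'⟩ hp
  cases d <;> cases d'
  · rw [emb_mk_false, emb_mk_false, f_eq_iff h] at hp
    obtain ⟨h1, h2⟩ := de_inj hp.1
    obtain ⟨-, h3⟩ := de_inj hp.2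
    rw [h1, (kap k).injective h2, (kap k).injective h3]
  · rw [emb_mk_false, emb_mk_true] at hp
    exact absurd hp.symm (fw_ne h _ _ _ _)
  · rw [emb_mk_false, emb_mk_true] at hp
    exact absurd hp (fw_ne h _ _ _ _)
  · rw [emb_mk_true, emb_mk_true, fw_eq_iff h] at hp
    obtain ⟨h1, h2⟩ := de_inj hp.1
    obtain ⟨-, h3⟩ := de_inj hp.2
    rw [h1, (kap k).injective h2, (kap k).injective h3]

theorem emb_mem (p : T (2 * 2 ^ (k + 1))) : emb h p ∈ S := by
  obtain ⟨i, j, e, d⟩ := p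
  cases d
  · rw [emb_mk_false]; exact f_mem h _ _
  · rw [emb_mk_true]; exact fw_mem h _ _

theorem emb_z : emb h (T.z (2 ^ (k + 1))) = f (c k) (c k) := by
  rw [T.z, emb_mk_false, kap_half]
  rfl

theorem emb_a' : emb h (T.a' (2 ^ (k + 1))) = f (c k) 1 := by
  rw [T.a', emb_mk_false, kap_half, map_zero]
  rfl

theorem emb_b' : emb h (T.b' (2 ^ (k + 1))) = f 1 (c k) := by
  rw [T.b', emb_mk_false, kap_half, map_zero]
  rfl

theorem emb_u : emb h (T.u (2 ^ (k + 1))) = w := by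
  rw [T.u, emb_mk_true, map_zero]
  change f 1 1 * w = w
  rw [f_one h, one_mul]

theorem emb_w : emb h (T.w (2 ^ (k + 1))) = f (sr 0) (sr 0) * w := by
  rw [T.w, emb_mk_true, map_zero]
  change f (sr (-0)) (sr (-0)) * w = _
  rw [neg_zero]

/-- the range of the embedding -/
theorem mem_range_f {a b : D k} : f a b ∈ (emb h).range ↔
    (∃ i j, a = r i ∧ b = r j) ∨ ∃ i j, a = sr i ∧ b = sr j := by
  constructor
  · rintro ⟨⟨i, j, e, d⟩, hp⟩
    cases d
    · rw [emb_mk_false, f_eq_iff h] at hp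
      cases e
      · exact Or.inl ⟨_, _, hp.1.symm, hp.2.symm⟩
      · exact Or.inr ⟨_, _, hp.1.symm, hp.2.symm⟩
    · rw [emb_mk_true] at hp
      exact absurd hp (fw_ne h _ _ _ _)
  · rintro (⟨i, j, rfl, rfl⟩ | ⟨i, j, rfl, rfl⟩)
    · refine ⟨⟨(kap k).symm i, (kap k).symm j, false, false⟩, ?_⟩
      rw [emb_mk_false, RingEquiv.apply_symm_apply, RingEquiv.apply_symm_apply]
      rfl
    · refine ⟨⟨(kap k).symm (-i), (kap k).symm (-j), true, false⟩, ?_⟩
      rw [emb_mk_false, RingEquiv.apply_symm_apply, RingEquiv.apply_symm_apply, de_true, de_true, neg_neg, neg_neg]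

theorem w_mem_range : w ∈ (emb h).range := ⟨_, emb_u h⟩

theorem mem_range_fw {a b : D k} : f a b * w ∈ (emb h).range ↔
    (∃ i j, a = r i ∧ b = r j) ∨ ∃ i j, a = sr i ∧ b = sr j := by
  rw [← mem_range_f h]
  exact Subgroup.mul_mem_cancel_right _ (w_mem_range h)

theorem range_le : (emb h).range ≤ S := by
  rintro _ ⟨p, rfl⟩
  exact emb_mem h p

/-- The reflection `(y, 1)` is outside the subgroup, which has index two. -/
theorem relIndex_range : (emb h).range.relIndex S = 2 := by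
  rw [Subgroup.relIndex, Subgroup.index_eq_two_iff]
  refine ⟨⟨f (sr 0) 1, f_mem h _ _⟩, ?_⟩
  have key : ∀ a b : D k, Xor ((∃ i j, a * sr 0 = r i ∧ b = r j) ∨ ∃ i j, a * sr 0 = sr i ∧ b = sr j)
      ((∃ i j, a = r i ∧ b = r j) ∨ ∃ i j, a = sr i ∧ b = sr j) := by
    intro a b
    rcases a with i | i <;> rcases b with j | j
    · refine Or.inr ⟨Or.inl ⟨i, j, rfl, rfl⟩, ?_⟩
      rw [r_mul_sr]
      rintro (⟨_, _, h1, -⟩ | ⟨_, _, -, h1⟩) <;> cases h1
    · refine Or.inl ⟨Or.inr ⟨_, _, r_mul_sr _ _, rfl⟩, ?_⟩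
      rintro (⟨_, _, -, h1⟩ | ⟨_, _, h1, -⟩) <;> cases h1
    · refine Or.inl ⟨Or.inl ⟨_, _, sr_mul_sr _ _, rfl⟩, ?_⟩
      rintro (⟨_, _, h1, -⟩ | ⟨_, _, -, h1⟩) <;> cases h1
    · refine Or.inr ⟨Or.inr ⟨i, j, rfl, rfl⟩, ?_⟩
      rw [sr_mul_sr]
      rintro (⟨_, _, -, h1⟩ | ⟨_, _, h1, -⟩) <;> cases h1
  have key' : ∀ a b : D k, Xor ((∃ i j, a = r i ∧ b * sr 0 = r j) ∨ ∃ i j, a = sr i ∧ b * sr 0 = sr j)
      ((∃ i j, a = r i ∧ b = r j) ∨ ∃ i j, a = sr i ∧ b = sr j) := by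
    intro a b
    rcases a with i | i <;> rcases b with j | j
    · refine Or.inr ⟨Or.inl ⟨i, j, rfl, rfl⟩, ?_⟩
      rw [r_mul_sr]
      rintro (⟨_, _, -, h1⟩ | ⟨_, _, h1, -⟩) <;> cases h1
    · refine Or.inl ⟨Or.inl ⟨_, _, rfl, sr_mul_sr _ _⟩, ?_⟩
      rintro (⟨_, _, -, h1⟩ | ⟨_, _, h1, -⟩) <;> cases h1
    · refine Or.inl ⟨Or.inr ⟨_, _, rfl, r_mul_sr _ _⟩, ?_⟩
      rintro (⟨_, _, h1, -⟩ | ⟨_, _, -, h1⟩) <;> cases h1
    · refine Or.inr ⟨Or.inr ⟨i, j, rfl, rfl⟩, ?_⟩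
      rw [sr_mul_sr]
      rintro (⟨_, _, h1, -⟩ | ⟨_, _, -, h1⟩) <;> cases h1
  rintro ⟨g, hg⟩
  rw [Subgroup.mem_subgroupOf, Subgroup.mem_subgroupOf]
  change Xor (g * f (sr 0) 1 ∈ (emb h).range) (g ∈ (emb h).range)
  rcases mem_cases h hg with ⟨a, b, rfl⟩ | ⟨a, b, rfl⟩
  · rw [h.f_mul, mul_one, mem_range_f h, mem_range_f h]
    exact key a b
  · rw [fw_mul_f h, mul_one, mem_range_fw h, mem_range_fw h]
    exact key' a b

end

end Cfsg.Agent.LFourA.CzEmb
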