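import Mathlib
import Cfsg.Agent.LFourA.CzEmb
import Cfsg.Agent.SylowSp4.Extremal

/-!
# The centraliser of `z`, case I: the normal subgroup of index two with Sylow 2-subgroup `T (4 * 2 ^ k)`
-/

set_option autoImplicit false

namespace Cfsg.Agent.LFourA.CzTransfer

open DihedralGroup Cfsg.Agent.LFourA.Model Cfsg.Agent.LFourA.Base Cfsg.Agent.LFourA.Defs
open Cfsg.Agent.LFourA.CzData Cfsg.Agent.LFourA.CzEmb
open Cfsg.Agent.ClassificationK.GTwoModel
open Cfsg.Agent.ClassificationK.GTwoQuat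
open Cfsg.Agent.ClassificationK.GTwoModelConf

section

variable {X : Type*} [Group X] {S : Subgroup X} {k : ℕ} {f : D k → D k → X} {w : X}
  (h : DWr S k f w) {T : X → Prop} (hT : ZData f w T)

theorem pa_add_half (i : ZMod (4 * 2 ^ k)) : pa (i + ((2 * 2 ^ k : ℕ) : ZMod (4 * 2 ^ k))) = pa i := by
  rw [map_add, pa_half, add_zero]

include hT

theorem T_iff (g x : X) : T (g * x * g⁻¹) ↔ T x := by
  constructor
  · intro h1
    have h2 := hT.conj g⁻¹ _ h1
    have h3 : g⁻¹ * (g * x * g⁻¹) * g⁻¹⁻¹ = x := by group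
    rwa [h3] at h2
  · exact hT.conj g x

include h

theorem T_swap (a b : D k) : T (f a b) ↔ T (f b a) := by
  rw [← w_conj h a b, T_iff hT]

/-- An involution different from `z` is in the subgroup of index two if and only if it is pure. -/
theorem mem_iff_pure {x : X} (hx : x ∈ S) (hx2 : x * x = 1) (hx1 : x ≠ 1) (hxz : x ≠ f (c k) (c k)) :
    x ∈ (emb h).range ↔ (T x ↔ T (f (c k) (c k) * x)) := by
  have ht' : T (f 1 (c k)) := by rw [T_swap h hT]; exact hT.t
  rcases mem_cases h hx with ⟨a, b, rfl⟩ | ⟨a, b, rfl⟩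
  · rw [h.f_mul, f_eq_one_iff h] at hx2
    rw [mem_range_f h, h.f_mul]
    rcases eq_of_sq_one hx2.1 with rfl | rfl | ⟨i, rfl⟩ <;> rcases eq_of_sq_one hx2.2 with rfl | rfl | ⟨j, rfl⟩
    · exact absurd (f_one h) hx1
    · rw [mul_one, c_mul_c]
      refine iff_of_true (Or.inl ⟨0, _, one_def, rfl⟩) (iff_of_true ht' hT.t)
    · rw [mul_one, c_comm, sr_c, T_swap h hT 1, T_swap h hT (c k)]
      refine iff_of_false ?_ (fun h1 => hT.sr_c _ (h1.1 (hT.sr_one _)))
      rintro (⟨_, _, -, h1⟩ | ⟨_, _, h1, -⟩)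
      · cases h1
      · exact sr_ne_one _ h1.symm
    · rw [mul_one, c_mul_c]
      refine iff_of_true (Or.inl ⟨_, 0, rfl, one_def⟩) (iff_of_true hT.t ht')
    · exact absurd rfl hxz
    · rw [c_comm (sr j), c_mul_c, sr_c, T_swap h hT (c k), T_swap h hT 1]
      refine iff_of_false ?_ (fun h1 => hT.sr_c _ (h1.2 (hT.sr_one _)))
      rintro (⟨_, _, -, h1⟩ | ⟨_, _, h1, -⟩)
      · cases h1
      · exact sr_ne_c _ h1.symm
    · rw [mul_one, c_comm, sr_c]
      refine iff_of_false ?_ (fun h1 => hT.sr_c _ (h1.1 (hT.sr_one _)))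
      rintro (⟨_, _, h1, -⟩ | ⟨_, _, -, h1⟩)
      · cases h1
      · exact sr_ne_one _ h1.symm
    · rw [c_comm (sr i), c_mul_c, sr_c]
      refine iff_of_false ?_ (fun h1 => hT.sr_c _ (h1.2 (hT.sr_one _)))
      rintro (⟨_, _, h1, -⟩ | ⟨_, _, -, h1⟩)
      · cases h1
      · exact sr_ne_c _ h1.symm
    · rw [c_comm (sr i), c_comm (sr j), sr_c, sr_c]
      refine iff_of_true (Or.inr ⟨i, j, rfl, rfl⟩) ?_
      by_cases hij : pa i = pa j
      · exact iff_of_true (hT.same i j hij) (hT.same _ _ (by rw [pa_add_half, pa_add_half, hij]))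
      · exact iff_of_false (hT.diff i j hij) (hT.diff _ _ (by rw [pa_add_half, pa_add_half]; exact hij))
  · rw [fw_mul_fw h, f_eq_one_iff h] at hx2
    obtain ⟨g, hg⟩ := hT.w_t
    have hTw : T w := by
      rw [← T_iff hT g, hg]
      exact hT.t
    have hb : b = a⁻¹ := (inv_eq_of_mul_eq_one_right hx2.1).symm
    subst hb
    have key : ∀ a : D k, T (f a a⁻¹ * w) := by
      intro a
      have h1 : f a a⁻¹ * w = f a 1 * w * (f a 1)⁻¹ := by
        rw [f_inv h, fw_mul_f h, inv_one, mul_one, one_mul]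
      rw [h1, T_iff hT]
      exact hTw
    refine iff_of_true ?_ (iff_of_true (key a) ?_)
    · rw [mem_range_fw h]
      rcases a with i | i
      · exact Or.inl ⟨i, -i, rfl, inv_r i⟩
      · exact Or.inr ⟨i, i, rfl, sr_inv i⟩
    · have h1 : f (c k) (c k) * (f a a⁻¹ * w) = f (c k * a) (c k * a)⁻¹ * w := by
        rw [f_mul_fw h, mul_inv_rev, c_inv, c_comm a⁻¹]
      rw [h1]
      exact key _

omit hT in
/-- The roots of `z` are in the subgroup of index two. -/
theorem root_mem {x : X} (hx : x ∈ S) (hx2 : x * x = f (c k) (c k)) : x ∈ (emb h).range := by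
  rcases mem_cases h hx with ⟨a, b, rfl⟩ | ⟨a, b, rfl⟩
  · rw [h.f_mul, f_eq_iff h] at hx2
    rw [mem_range_f h]
    have key : ∀ {a : D k}, a * a = c k → ∃ i, a = r i := by
      intro a ha
      rcases eq_of_sq_c ha with rfl | rfl
      · exact ⟨_, rfl⟩
      · exact ⟨_, by rw [x0, c, r_mul_r]⟩
    obtain ⟨i, hi⟩ := key hx2.1
    obtain ⟨j, hj⟩ := key hx2.2
    exact Or.inl ⟨i, j, hi, hj⟩
  · rw [fw_mul_fw h, f_eq_iff h] at hx2
    rw [mem_range_fw h]
    have hb : b = a⁻¹ * c k := by rw [← hx2.1, inv_mul_cancel_left]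
    subst hb
    rcases a with i | i
    · exact Or.inl ⟨i, _, rfl, by rw [inv_r, c, r_mul_r]⟩
    · exact Or.inr ⟨i, _, rfl, by rw [sr_inv, sr_c]⟩

theorem stable {y : X} (hy : y ∈ S) (hy2 : y * y = 1 ∨ y * y = f (c k) (c k)) {g : X} (hg : g * y * g⁻¹ ∈ S) :
    g * y * g⁻¹ ∈ (emb h).range ↔ y ∈ (emb h).range := by
  have hsq : g * y * g⁻¹ * (g * y * g⁻¹) = g * (y * y) * g⁻¹ := by group
  rcases hy2 with hy2 | hy2
  · by_cases hy1 : y = 1
    · subst hy1
      rw [mul_one, mul_inv_cancel]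
    by_cases hyz : y = f (c k) (c k)
    · rw [hyz, hT.central, mul_inv_cancel_right]
    have h1 : g * y * g⁻¹ ≠ 1 := by
      intro h2
      apply hy1
      have h3 : y = g⁻¹ * (g * y * g⁻¹) * g := by group
      rw [h3, h2]
      group
    have h2 : g * y * g⁻¹ ≠ f (c k) (c k) := by
      intro h2
      apply hyz
      have h3 : y = g⁻¹ * (g * y * g⁻¹) * g := by group
      rw [h3, h2, hT.central]
      group
    rw [mem_iff_pure h hT hy hy2 hy1 hyz, mem_iff_pure h hT hg (by rw [hsq, hy2]; group) h1 h2, T_iff hT]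
    have h3 : f (c k) (c k) * (g * y * g⁻¹) = g * (f (c k) (c k) * y) * g⁻¹ := by
      rw [← mul_assoc, ← mul_assoc, ← hT.central]
      group
    rw [h3, T_iff hT]
  · refine iff_of_true (root_mem h hg ?_) (root_mem h hy hy2)
    rw [hsq, hy2, hT.central, mul_inv_cancel_right]

end

/-- The transfer. -/
theorem exists_hom {X : Type*} [Group X] [Finite X] {P : Sylow 2 X} {k : ℕ} {f : D k → D k → X} {w : X}
    (h : DWr (P : Subgroup X) k f w) {Ty : X → Prop} (hT : ZData f w Ty) :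
    ∃ V : X →* ℤˣ, ∀ y ∈ (P : Subgroup X), (V y = 1 ↔ y ∈ (emb h).range) := by
  obtain ⟨V, hV⟩ := Cfsg.Agent.SylowSp4.Extremal.exists_transfer P (emb h).range (relIndex_range h)
  have hzz : f (c k) (c k) * f (c k) (c k) = 1 := by rw [h.f_mul, c_mul_c, f_one h]
  have hV' : ∀ y ∈ (P : Subgroup X), (y * y = 1 ∨ y * y = f (c k) (c k)) → (V y = 1 ↔ y ∈ (emb h).range) := by
    intro y hy hy2
    apply hV y hy
    intro n g hg
    refine stable h hT (pow_mem hy n) ?_ hg
    have h1 : y ^ n * y ^ n = (y * y) ^ n := by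
      rw [← pow_add, ← pow_two, ← pow_mul, two_mul]
    rw [h1]
    rcases hy2 with hy2 | hy2
    · left
      rw [hy2, one_pow]
    · rw [hy2]
      rcases Nat.even_or_odd n with ⟨m, rfl⟩ | ⟨m, rfl⟩
      · left
        rw [← two_mul, pow_mul, pow_two, hzz, one_pow]
      · right
        rw [pow_succ, pow_mul, pow_two, hzz, one_pow, one_mul]
  have hl : 2 ∣ 2 ^ (k + 1) := dvd_pow_self 2 (Nat.succ_ne_zero k)
  have : NeZero (2 ^ (k + 1)) := ⟨by positivity⟩
  -- `V` is trivial on the subgroup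
  have hV2 : ∀ p : Cfsg.Agent.ClassificationK.GTwoModel.T (2 * 2 ^ (k + 1)),
      (p * p = 1 ∨ p * p = T.z (2 ^ (k + 1))) → V (emb h p) = 1 := by
    intro p hp
    rw [hV' _ (emb_mem h p) ?_]
    · exact ⟨p, rfl⟩
    · rcases hp with hp | hp
      · left
        rw [← map_mul, hp, map_one]
      · right
        rw [← map_mul, hp, emb_z]
  have hphi : ∀ x, V (emb h (phiT (2 ^ (k + 1)) x)) = 1 := by
    have h1 : ∀ i, V (emb h (phiT (2 ^ (k + 1)) (.xa i))) = 1 := by
      intro i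
      apply hV2
      right
      rw [← pow_two]
      exact sq_of_e (by rw [← phiT_range]; exact ⟨_, rfl⟩) rfl
    rintro (i | i)
    · have h2 : (QuaternionGroup.a i : QuaternionGroup (2 ^ (k + 1))) =
          .xa 0 * .xa (i - ((2 ^ (k + 1) : ℕ) : ZMod (2 * 2 ^ (k + 1)))) := by
        rw [QuaternionGroup.xa_mul_xa]
        congr 1
        ring
      rw [h2, map_mul, map_mul, map_mul, h1, h1, one_mul]
    · exact h1 i
  have hpsi : ∀ x, V (emb h (psiT (2 ^ (k + 1)) x)) = 1 := by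
    have h1 : ∀ i, V (emb h (psiT (2 ^ (k + 1)) (.xa i))) = 1 := by
      intro i
      apply hV2
      right
      rw [← pow_two]
      exact sq_of_d (by rw [← psiT_range]; exact ⟨_, rfl⟩) rfl
    rintro (i | i)
    · have h2 : (QuaternionGroup.a i : QuaternionGroup (2 ^ (k + 1))) =
          .xa 0 * .xa (i - ((2 ^ (k + 1) : ℕ) : ZMod (2 * 2 ^ (k + 1)))) := by
        rw [QuaternionGroup.xa_mul_xa]
        congr 1
        ring
      rw [h2, map_mul, map_mul, map_mul, h1, h1, one_mul]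
    · exact h1 i
  have hs : V (emb h (sT (2 ^ (k + 1)))) = 1 := by
    have h1 : sT (2 ^ (k + 1)) = T.s (2 ^ (k + 1)) * T.t (2 ^ (k + 1)) := by
      rw [sT, T.s, T.t, T.mul_mk]
      simp
    rw [h1, map_mul, map_mul, hV2, hV2, one_mul]
    · left
      rw [T.t, T.mul_mk, T.one_def]
      simp
    · left
      rw [T.s, T.mul_mk, T.one_def]
      simp
  have hM : ∀ y ∈ (emb h).range, V y = 1 := by
    rintro _ ⟨p, rfl⟩
    obtain ⟨x, y, rfl | rfl⟩ := cases_all hl p
    · rw [map_mul, map_mul, hphi, hpsi, one_mul]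
    · rw [map_mul, map_mul, map_mul, map_mul, hphi, hpsi, hs, one_mul, one_mul]
  refine ⟨V, fun y hy => ⟨fun h1 => ?_, hM y⟩⟩
  by_contra hy'
  have h2 : f (sr 0) 1 ∉ (emb h).range := by
    rw [mem_range_f h]
    rintro (⟨_, _, h1, -⟩ | ⟨_, _, -, h1⟩)
    · cases h1
    · exact sr_ne_one _ h1.symm
  have h3 : V (f (sr 0) 1) ≠ 1 := by
    rw [Ne, hV' _ (f_mem h _ _) (Or.inl (by rw [h.f_mul, sr_mul_self, one_mul, f_one h]))]
    exact h2
  have h4 : y * f (sr 0) 1 ∈ (emb h).range := by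
    have h5 := Subgroup.mul_mem_iff_of_index_two (relIndex_range h) (a := ⟨y, hy⟩) (b := ⟨f (sr 0) 1, f_mem h _ _⟩)
    rw [Subgroup.mem_subgroupOf, Subgroup.mem_subgroupOf, Subgroup.mem_subgroupOf] at h5
    exact h5.2 (iff_of_false hy' h2)
  have h5 := hM _ h4
  rw [map_mul, h1, one_mul] at h5
  exact h3 h5

end Cfsg.Agent.LFourA.CzTransfer
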