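import Cfsg.Agent.ClassificationK.GTwoModelConf
import Cfsg.Agent.ClassificationK.GTwoClosed

/-!
# Conjugacy of the involutions in a Sylow 2-subgroup of type `T (2 l)`

If `z` is central in `X` and the swapping involutions `u`, `w` are conjugate to `a' = (l, 0)`, then all involutions
`p ≠ z` of the even part of `T (2 l)` are conjugate to `a'`.
-/

set_option autoImplicit false

namespace Cfsg.Agent.LFourA.InvConj

open Cfsg.Agent.ClassificationK.GTwoModel Cfsg.Agent.ClassificationK.GTwoModel.T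
open Cfsg.Agent.ClassificationK.GTwoQuat
open Cfsg.Agent.ClassificationK.GTwoModelConf
open Cfsg.Agent.Lib.GoldschmidtFusion
open Subgroup

/-- If `C_S(v)` has index at most two in the Sylow `2`-subgroup `S` and `v` is not conjugate to a central element of
`S`, then elements of 2-power order of `C(v)` can be moved into `S` by elements of `C(v)`. -/
theorem exists_conj_mem {X : Type*} [Group X] [Finite X] (S : Sylow 2 X) {v : X} (hv : v ∈ (S : Subgroup X))
    (hidx : Nat.card (S : Subgroup X) ≤ 2 * Nat.card ((S : Subgroup X) ⊓ centralizer {v} : Subgroup X))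
    (hnc : ∀ g : X, g * v * g⁻¹ ∈ (S : Subgroup X) →
      ∃ s ∈ (S : Subgroup X), s * (g * v * g⁻¹) ≠ g * v * g⁻¹ * s)
    {x : X} (hx : x * v = v * x) {n : ℕ} (hxn : x ^ (2 ^ n) = 1) :
    ∃ m : X, m * v = v * m ∧ m * x * m⁻¹ ∈ (S : Subgroup X) := by
  set N : Subgroup X := centralizer {v} with hN
  have hNm : ∀ y, y ∈ N ↔ y * v = v * y := by
    intro y
    rw [hN, mem_centralizer_singleton_iff]
  set C : Subgroup X := (S : Subgroup X) ⊓ N with hC
  have hCp : IsPGroup 2 C := S.isPGroup'.to_le inf_le_left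
  obtain ⟨R, hCR, hRN, hR, hRi⟩ := exists_sylow_in (p := 2) (N := N) (D := C) inf_le_right hCp
  have hRC : R = C := by
    by_contra hne
    have hlt : C < R := lt_of_le_of_ne hCR (Ne.symm hne)
    -- the order of `R`
    have h1 : 2 * Nat.card C ≤ Nat.card R := by
      obtain ⟨e, he⟩ := card_dvd_of_le hCR
      have h2 : e ≠ 1 := by
        rintro rfl
        rw [mul_one] at he
        exact hne (Subgroup.eq_of_le_of_card_ge hCR he.le).symm
      have h3 : e ≠ 0 := by
        rintro rfl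
        rw [mul_zero] at he
        exact Nat.card_pos.ne' he
      have h4 : 2 ≤ e := by omega
      rw [he, mul_comm]
      exact Nat.mul_le_mul_left _ h4
    obtain ⟨Q, hQ⟩ := hR.exists_le_sylow
    obtain ⟨g, hg⟩ := MulAction.exists_smul_eq X Q S
    have h5 : Nat.card (Q : Subgroup X) = Nat.card (S : Subgroup X) := by
      rw [← hg]
      exact (Nat.card_congr (MulAut.conj g |>.subgroupMap (Q : Subgroup X)).toEquiv)
    have h6 : R = Q := Subgroup.eq_of_le_of_card_ge hQ (by
      rw [h5]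
      exact hidx.trans h1)
    have hgS : ∀ y, g⁻¹ * y * g ∈ (Q : Subgroup X) ↔ y ∈ (S : Subgroup X) := by
      intro y
      rw [← hg, Sylow.coe_subgroup_smul]
      rw [Subgroup.mem_pointwise_smul_iff_inv_smul_mem]
      simp [mul_assoc]
    have hvR : v ∈ R := hCR ⟨hv, (hNm v).2 rfl⟩
    have h7 : g * v * g⁻¹ ∈ (S : Subgroup X) := by
      rw [← hgS, ← h6]
      have : g⁻¹ * (g * v * g⁻¹) * g = v := by group
      rw [this]
      exact hvR
    obtain ⟨s, hs, hsne⟩ := hnc g h7
    apply hsne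
    have h8 : g⁻¹ * s * g ∈ R := by
      rw [h6]
      exact (hgS s).2 hs
    have h9 := (hNm _).1 (hRN h8)
    calc s * (g * v * g⁻¹) = g * (g⁻¹ * s * g * v) * g⁻¹ := by group
      _ = g * (v * (g⁻¹ * s * g)) * g⁻¹ := by rw [h9]
      _ = g * v * g⁻¹ * s := by group
  have hD : IsPGroup 2 (zpowers x) := by
    rw [IsPGroup.iff_orderOf]
    rintro ⟨y, hy⟩
    obtain ⟨k, rfl⟩ := mem_zpowers_iff.1 hy
    rw [Subgroup.orderOf_mk]
    have h1 : orderOf (x ^ k) ∣ 2 ^ n := by
      rw [orderOf_dvd_iff_pow_eq_one, ← zpow_natCast, ← zpow_mul, mul_comm, zpow_mul, zpow_natCast, hxn, one_zpow]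
    obtain ⟨m, -, hm⟩ := (Nat.dvd_prime_pow Nat.prime_two).1 h1
    exact ⟨m, hm⟩
  obtain ⟨m, hm, hmD⟩ := exists_conj_le_in (p := 2) hR hRi (N := N) (D := zpowers x)
    (by rw [zpowers_le]; exact (hNm x).2 hx) hD
  refine ⟨m, (hNm m).1 hm, ?_⟩
  have h1 : m * x * m⁻¹ ∈ R := hmD (conj_mem_map_conj (mem_zpowers x) m)
  rw [hRC] at h1
  exact h1.1

section

variable {X : Type*} [Group X] [Finite X] {l : ℕ} [NeZero l] (hl : 2 ∣ l) (S : Sylow 2 X) (f : T (2 * l) →* X)
    (hf : Function.Injective f) (hr : f.range = (S : Subgroup X)) (hz : ∀ x, x * f (z l) = f (z l) * x)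

theorem comm_a'_iff (p : T (2 * l)) : p * a' l = a' l * p ↔ p.d = false := by
  obtain ⟨i, j, e, d⟩ := p
  have h0 := half_ne_zero l
  have h1 := neg_half l
  constructor
  · intro h
    cases d
    · rfl
    · exfalso
      rw [a', mul_mk, mul_mk, T.mk.injEq] at h
      obtain ⟨-, h3, -, -⟩ := h
      cases e <;> simp only [sg_false, sg_true, cond_false, cond_true, one_mul, zero_add, neg_mul] at h3
      · apply h0
        linear_combination h3
      · apply h0
        linear_combination -h3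
  · intro h
    simp only at h
    subst h
    rw [a', mul_mk, mul_mk]
    cases e <;> simp only [sg_false, sg_true, cond_false, one_mul, zero_add, neg_mul, Bool.xor_false, Bool.false_xor]
    · congr 1 <;> ring
    · congr 1
      · linear_combination h1
      · ring

/-- a central element of the model group is `1` or `z` -/
theorem central_cases (hl : 2 ∣ l) {p : T (2 * l)} (h : ∀ q, q * p = p * q) : p = 1 ∨ p = z l := by
  have h1 := (comm_c1_iff hl p).1 (h (c1 l)).symm
  have h2 := (comm_c2_iff hl p).1 (h (c2 l)).symm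
  obtain ⟨i, j, e, d⟩ := p
  simp only at h1 h2
  subst h1
  subst h2
  have h3 := h (t l)
  have h4 := h (u l)
  rw [t, mul_mk, mul_mk, T.mk.injEq] at h3
  rw [u, mul_mk, mul_mk, T.mk.injEq] at h4
  simp only [sg_false, sg_true, cond_false, cond_true, one_mul, zero_add, neg_mul, mul_zero, add_zero] at h3 h4
  have h5 : i + i = 0 := by linear_combination -h3.1
  have h6 : j = i := h4.1
  rcases two_half l i h5 with h7 | h7
  · left
    rw [h6, h7]
    rfl
  · right
    rw [h6, h7]
    rfl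

/-- the kernel of a homomorphism onto a group of order two -/
theorem card_le_ker {H K : Type*} [Group H] [Finite H] [Group K] [Finite K] (φ : H →* K) (hK : Nat.card K = 2) :
    Nat.card H ≤ 2 * Nat.card φ.ker := by
  have h1 := φ.ker.card_mul_index
  rw [index_ker] at h1
  have h2 : Nat.card φ.range ≤ 2 := by
    rw [← hK]
    exact Subgroup.card_le_card_group _
  calc Nat.card H = Nat.card φ.ker * Nat.card φ.range := h1.symm
    _ ≤ Nat.card φ.ker * 2 := Nat.mul_le_mul_left _ h2
    _ = 2 * Nat.card φ.ker := mul_comm _ _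

include hf hr in
omit [Finite X] in
theorem card_cent_le [Finite X] {v : T (2 * l)} (β γ : ZMod 2) (h : ∀ p : T (2 * l), lam l 0 β γ p = 1 → p * v = v * p) :
    Nat.card (S : Subgroup X) ≤ 2 * Nat.card ((S : Subgroup X) ⊓ centralizer {f v} : Subgroup X) := by
  have h1 : Nat.card (S : Subgroup X) = Nat.card (T (2 * l)) := by
    rw [← hr]
    exact (Nat.card_congr (MonoidHom.ofInjective hf).toEquiv).symm
  rw [h1]
  refine (card_le_ker (lam l 0 β γ) (by simp)).trans (Nat.mul_le_mul_left _ ?_)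
  have h2 : Nat.card (lam l 0 β γ).ker = Nat.card ((lam l 0 β γ).ker.map f) :=
    (Nat.card_congr ((lam l 0 β γ).ker.equivMapOfInjective f hf).toEquiv)
  rw [h2]
  refine Subgroup.card_le_of_le ?_
  rintro _ ⟨p, hp, rfl⟩
  refine ⟨?_, ?_⟩
  · rw [← hr]
    exact ⟨p, rfl⟩
  · change f p ∈ centralizer {f v}
    rw [mem_centralizer_singleton_iff, ← map_mul, ← map_mul, h p hp]

include hl hf hr hz

omit [Finite X] in
/-- non-central elements -/
theorem not_central {v : T (2 * l)} (hv1 : v ≠ 1) (hvz : v ≠ z l) (g : X)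
    (hg : g * f v * g⁻¹ ∈ (S : Subgroup X)) :
    ∃ s ∈ (S : Subgroup X), s * (g * f v * g⁻¹) ≠ g * f v * g⁻¹ * s := by
  by_contra hcon
  push Not at hcon
  rw [← hr] at hg
  obtain ⟨q, hq⟩ := hg
  rw [← hq] at hcon
  have h1 : ∀ p, p * q = q * p := by
    intro p
    have h2 := hcon (f p) (by rw [← hr]; exact ⟨p, rfl⟩)
    rw [← map_mul, ← map_mul] at h2
    exact hf h2
  rcases central_cases hl h1 with h2 | h2
  · apply hv1
    apply hf
    rw [h2, map_one] at hq
    rw [map_one]
    have : f v = g⁻¹ * (g * f v * g⁻¹) * g := by group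
    rw [this, ← hq]
    group
  · apply hvz
    apply hf
    have : f v = g⁻¹ * (g * f v * g⁻¹) * g := by group
    rw [this, ← hq, h2, mul_assoc, ← hz g]
    group

/-- moving elements of `C(v)` into `S` -/
theorem exists_move {v : T (2 * l)} (hv1 : v ≠ 1) (hvz : v ≠ z l) (β γ : ZMod 2)
    (h : ∀ p : T (2 * l), lam l 0 β γ p = 1 → p * v = v * p) {x : X} (hx : x * f v = f v * x) {n : ℕ}
    (hxn : x ^ (2 ^ n) = 1) : ∃ m : X, m * f v = f v * m ∧ ∃ q, m * x * m⁻¹ = f q := by
  obtain ⟨m, hm, hmx⟩ := exists_conj_mem S (v := f v) (by rw [← hr]; exact ⟨v, rfl⟩)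
    (card_cent_le S f hf hr β γ h) (fun g hg => not_central hl S f hf hr hz hv1 hvz g hg) hx hxn
  rw [← hr] at hmx
  obtain ⟨q, hq⟩ := hmx
  exact ⟨m, hm, q, hq.symm⟩

omit hl hf hr hz [Finite X] [NeZero l] in
theorem good_of_isConj {p q v : T (2 * l)} (h : IsConj p q) (hq : ∃ g, g * f q * g⁻¹ = f v) :
    ∃ g, g * f p * g⁻¹ = f v := by
  obtain ⟨g, hg⟩ := hq
  obtain ⟨c, hc⟩ := isConj_iff.1 h
  refine ⟨g * f c, ?_⟩
  rw [← hg, ← hc, map_mul, map_mul, map_inv]
  group

omit hl hf hr hz [Finite X] in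
theorem good_of_not (hu : ∃ g, g * f (u l) * g⁻¹ = f (a' l)) (hw : ∃ g, g * f (w l) * g⁻¹ = f (a' l))
    {p : T (2 * l)} (hp : p * p = 1) (hp1 : p ≠ 1) (hpz : p ≠ z l) (h : p.e = true → p.d = true) :
    ∃ g, g * f p * g⁻¹ = f (a' l) := by
  obtain ⟨i, j, e, d⟩ := p
  rw [mul_mk, one_def, T.mk.injEq] at hp
  obtain ⟨h1, h2, -, -⟩ := hp
  cases e <;> cases d
  · simp only [sg_false, cond_false, one_mul] at h1 h2
    rcases two_half l i h1 with rfl | rfl <;> rcases two_half l j h2 with rfl | rfl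
    · exact absurd rfl hp1
    · exact good_of_isConj f (isConj_a'_b' l).symm ⟨1, by group⟩
    · exact ⟨1, by rw [one_mul, inv_one, mul_one]; rfl⟩
    · exact absurd rfl hpz
  · simp only [sg_false, cond_true, one_mul] at h1 h2
    have hj : j = -i := eq_neg_of_add_eq_zero_right h1
    subst hj
    have := isConj_swapElt i (0 : ZMod (2 * l))
    rw [neg_zero] at this
    exact good_of_isConj f this hu
  · exact absurd (h rfl) Bool.false_ne_true
  · simp only [sg_true, cond_true] at h1 h2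
    have hj : j = i := by linear_combination -h1
    subst hj
    exact good_of_isConj f (isConj_swapInvElt j 0) hw

/-- all involutions of the even part are conjugate -/
theorem good (hu : ∃ g, g * f (u l) * g⁻¹ = f (a' l)) (hw : ∃ g, g * f (w l) * g⁻¹ = f (a' l))
    {p : T (2 * l)} (hp : p * p = 1) (hp1 : p ≠ 1) (hpz : p ≠ z l) (hpar : par l p.i = par l p.j) :
    ∃ g, g * f p * g⁻¹ = f (a' l) := by
  by_cases hcase : p.e = true → p.d = true
  · exact good_of_not f hu hw hp hp1 hpz hcase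
  push Not at hcase
  obtain ⟨hpe, hpd⟩ := hcase
  obtain ⟨x, y, hxy⟩ := cases_even hl p hpar
  set a := phiT l x with ha
  set b := psiT l y with hb
  have haQ : a ∈ Q1 l := by rw [← phiT_range]; exact ⟨x, rfl⟩
  have hbQ : b ∈ Q2 l := by rw [← psiT_range]; exact ⟨y, rfl⟩
  have hab : a * b = b * a := comm_of_mem haQ hbQ
  have hexy : a.e = true ∧ b.d = true := by
    have hpd' : p.d = false := by simpa using hpd
    clear_value a b
    obtain ⟨i, j, e, d⟩ := a
    obtain ⟨i', j', e', d'⟩ := b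
    have h1 : e = d := (mem_Q1.1 haQ).1
    have h2 : e' = false := (mem_Q2.1 hbQ).1
    subst h1
    subst h2
    rw [hxy, mul_mk] at hpe hpd'
    simp only at hpe hpd' ⊢
    cases e
    · exact absurd hpe (by decide)
    · refine ⟨rfl, ?_⟩
      cases d'
      · exact absurd hpd' (by decide)
      · rfl
  have ha2 : a ^ 2 = z l := sq_of_e haQ hexy.1
  have hb2 : b ^ 2 = z l := sq_of_d hbQ hexy.2
  have hc1b : c1 l * b = b * c1 l := comm_of_mem c1_mem hbQ
  have hzz : z l * z l = 1 := by rw [← pow_two]; exact z_sq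
  -- the involution `b c₁`
  have h1 : (b * c1 l) * (b * c1 l) = 1 := by
    calc (b * c1 l) * (b * c1 l) = b * (c1 l * b) * c1 l := by group
      _ = b ^ 2 * c1 l ^ 2 := by rw [hc1b, pow_two, pow_two]; group
      _ = 1 := by rw [hb2, c1_sq hl, hzz]
  have hbd : (b * c1 l).d = true := by
    have h5 := hexy.2
    clear_value b
    obtain ⟨i, j, e, d⟩ := b
    simp only at h5
    rw [c1, mul_mk, h5]
    rfl
  have h2 : b * c1 l ≠ 1 := by
    intro h
    rw [h, one_def] at hbd
    exact Bool.false_ne_true hbd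
  have h3 : b * c1 l ≠ z l := by
    intro h
    rw [h, z] at hbd
    exact Bool.false_ne_true hbd
  obtain ⟨g1, hg1⟩ := good_of_not f hu hw h1 h2 h3 (fun _ => hbd)
  have hk1 : (1 : ZMod 2) * 0 = 0 := by decide
  have ha'1 : a' l ≠ 1 := by
    intro h
    rw [a', one_def, T.mk.injEq] at h
    exact half_ne_zero l h.1
  have ha'z : a' l ≠ z l := by
    intro h
    rw [a', z, T.mk.injEq] at h
    exact half_ne_zero l h.2.1.symm
  have hc2sq : c2 l ^ 2 = z l := c2_sq hl
  have hc21 : c2 l ≠ 1 := by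
    intro h
    rw [h, one_pow] at hc2sq
    exact z_ne hc2sq.symm
  have hc2z : c2 l ≠ z l := by
    intro h
    rw [h, z_sq] at hc2sq
    exact z_ne hc2sq.symm
  have h4 : (g1 * f (c1 l) * g1⁻¹) * f (a' l) = f (a' l) * (g1 * f (c1 l) * g1⁻¹) := by
    rw [← hg1]
    have h5 : f (c1 l) * f (b * c1 l) = f (b * c1 l) * f (c1 l) := by
      rw [← map_mul, ← map_mul, ← mul_assoc, hc1b]
    calc g1 * f (c1 l) * g1⁻¹ * (g1 * f (b * c1 l) * g1⁻¹) = g1 * (f (c1 l) * f (b * c1 l)) * g1⁻¹ := by group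
      _ = g1 * (f (b * c1 l) * f (c1 l)) * g1⁻¹ := by rw [h5]
      _ = _ := by group
  have h6 : (g1 * f (c1 l) * g1⁻¹) ^ (2 ^ 2) = 1 := by
    rw [conj_pow, ← map_pow]
    have : c1 l ^ (2 ^ 2) = 1 := by
      rw [show (2 ^ 2 : ℕ) = 2 * 2 by norm_num, pow_mul, c1_sq hl, z_sq]
    rw [this, map_one]
    group
  obtain ⟨m, hm, q, hq⟩ := exists_move hl S f hf hr hz ha'1 ha'z 0 1 (by
    intro p hp
    rw [comm_a'_iff]
    rw [lam_eq_one_iff] at hp
    simp only [zero_mul, zero_add, one_mul] at hp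
    cases hd : p.d
    · rfl
    · rw [hd] at hp
      exact absurd hp (by decide)) h4 h6
  set g2 := m * g1 with hg2
  have h7 : g2 * f (c1 l) * g2⁻¹ = f q := by
    rw [← hq, hg2]
    group
  have h8 : g2 * f (b * c1 l) * g2⁻¹ = f (a' l) := by
    have : g2 * f (b * c1 l) * g2⁻¹ = m * (g1 * f (b * c1 l) * g1⁻¹) * m⁻¹ := by
      rw [hg2]; group
    rw [this, hg1, hm, mul_inv_cancel_right]
  have hqQ : q ∈ Q1 l := Cfsg.Agent.ClassificationK.GTwoClosed.closed1 hl S f hf hr hz c1_mem h7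
  have hqsq : q ^ 2 = z l := by
    apply hf
    rw [map_pow, ← h7, conj_pow, ← map_pow, c1_sq hl, hz, mul_inv_cancel_right]
  have hqa : q * a' l = a' l * q := by
    apply hf
    rw [map_mul, map_mul, ← h7, ← h8]
    have h5 : f (c1 l) * f (b * c1 l) = f (b * c1 l) * f (c1 l) := by
      rw [← map_mul, ← map_mul, ← mul_assoc, hc1b]
    calc g2 * f (c1 l) * g2⁻¹ * (g2 * f (b * c1 l) * g2⁻¹) = g2 * (f (c1 l) * f (b * c1 l)) * g2⁻¹ := by group
      _ = g2 * (f (b * c1 l) * f (c1 l)) * g2⁻¹ := by rw [h5]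
      _ = _ := by group
  have hqd : q.d = false := (comm_a'_iff q).1 hqa
  have hqe : q.e = false := by rw [(mem_Q1.1 hqQ).1, hqd]
  -- the image of `b`
  have h9 : g2 * f b * g2⁻¹ = f (a' l * q⁻¹) := by
    rw [map_mul, map_inv, ← h7, ← h8, map_mul]
    group
  have hc12 : c1 l * c2 l = a' l := c1_mul_c2 hl
  have hc12' : c1 l * c2 l = c2 l * c1 l := comm_of_mem c1_mem c2_mem
  obtain ⟨q2, hq2, hq2c⟩ : ∃ q2, a' l * q⁻¹ = q2 ∧ (q2 = c2 l ∨ q2 = (c2 l)⁻¹) := by
    refine ⟨_, rfl, ?_⟩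
    rcases eq_c1_of_sq hl hqQ hqe hqsq with h | h
    · left
      rw [h, ← hc12, hc12', mul_inv_cancel_right]
    · right
      rw [h, ← hc12, inv_inv, hc12', mul_assoc, ← pow_two, c1_sq hl, ← hc2sq]
      rw [← pow_succ', eq_inv_iff_mul_eq_one, ← pow_succ, show (2 + 1 + 1 : ℕ) = 2 * 2 by norm_num, pow_mul, hc2sq, z_sq]
  rw [hq2] at h9
  -- the image of `a` commutes with `c₂`
  have h10 : (g2 * f a * g2⁻¹) * f (c2 l) = f (c2 l) * (g2 * f a * g2⁻¹) := by
    have h11 : Commute (g2 * f a * g2⁻¹) (g2 * f b * g2⁻¹) := by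
      have h12 : f a * f b = f b * f a := by rw [← map_mul, ← map_mul, hab]
      change g2 * f a * g2⁻¹ * (g2 * f b * g2⁻¹) = g2 * f b * g2⁻¹ * (g2 * f a * g2⁻¹)
      calc g2 * f a * g2⁻¹ * (g2 * f b * g2⁻¹) = g2 * (f a * f b) * g2⁻¹ := by group
        _ = g2 * (f b * f a) * g2⁻¹ := by rw [h12]
        _ = _ := by group
    rw [h9] at h11
    rcases hq2c with h | h
    · rw [h] at h11
      exact h11
    · rw [h, map_inv] at h11
      have := h11.inv_right
      rw [inv_inv] at this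
      exact this
  have h11 : (g2 * f a * g2⁻¹) ^ (2 ^ 2) = 1 := by
    rw [conj_pow, ← map_pow]
    have : a ^ (2 ^ 2) = 1 := by
      rw [show (2 ^ 2 : ℕ) = 2 * 2 by norm_num, pow_mul, ha2, z_sq]
    rw [this, map_one]
    group
  obtain ⟨m', hm', s, hs⟩ := exists_move hl S f hf hr hz hc21 hc2z 1 1 (by
    intro p hp
    rw [comm_c2_iff hl]
    rw [lam_eq_one_iff] at hp
    simp only [zero_mul, zero_add, one_mul] at hp
    cases he : p.e <;> cases hd : p.d
    · rfl
    · rw [hd, he] at hp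
      exact absurd hp (by decide)
    · rw [hd, he] at hp
      exact absurd hp (by decide)
    · rfl) h10 h11
  have h12 : (m' * g2) * f a * (m' * g2)⁻¹ = f s := by
    rw [← hs]
    group
  have hsQ : s ∈ Q1 l := Cfsg.Agent.ClassificationK.GTwoClosed.closed1 hl S f hf hr hz haQ h12
  have h13 : (m' * g2) * f b * (m' * g2)⁻¹ = f q2 := by
    have h14 : (m' * g2) * f b * (m' * g2)⁻¹ = m' * (g2 * f b * g2⁻¹) * m'⁻¹ := by group
    rw [h14, h9]
    have h15 : Commute m' (f (c2 l)) := hm'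
    rcases hq2c with h | h
    · rw [h, h15.eq, mul_inv_cancel_right]
    · rw [h, map_inv, h15.inv_right.eq, mul_inv_cancel_right]
  have h14 : (m' * g2) * f p * (m' * g2)⁻¹ = f (s * q2) := by
    rw [hxy, map_mul, map_mul, ← h12, ← h13]
    group
  have h15 : (s * q2) * (s * q2) = 1 := by
    apply hf
    rw [map_mul, ← h14, map_one]
    calc m' * g2 * f p * (m' * g2)⁻¹ * (m' * g2 * f p * (m' * g2)⁻¹) = m' * g2 * (f p * f p) * (m' * g2)⁻¹ := by group
      _ = 1 := by rw [← map_mul, hp, map_one]; group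
  have h16 : s * q2 ≠ 1 := by
    intro h
    rw [h, map_one] at h14
    apply hp1
    apply hf
    rw [map_one]
    have : f p = (m' * g2)⁻¹ * (m' * g2 * f p * (m' * g2)⁻¹) * (m' * g2) := by group
    rw [this, h14]
    group
  have h17 : s * q2 ≠ z l := by
    intro h
    rw [h] at h14
    apply hpz
    apply hf
    have : f p = (m' * g2)⁻¹ * (m' * g2 * f p * (m' * g2)⁻¹) * (m' * g2) := by group
    rw [this, h14, mul_assoc, ← hz]
    group
  have h18 : (s * q2).e = true → (s * q2).d = true := by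
    have h19 : q2.e = false ∧ q2.d = false := by
      rcases hq2c with h | h <;> rw [h, c2] <;> exact ⟨rfl, rfl⟩
    have h20 := (mem_Q1.1 hsQ).1
    obtain ⟨i, j, e, d⟩ := s
    obtain ⟨i', j', e', d'⟩ := q2
    simp only at h19 h20
    rw [mul_mk, h19.1, h19.2, h20]
    intro h
    exact h
  obtain ⟨g, hg⟩ := good_of_not f hu hw h15 h16 h17 h18
  refine ⟨g * (m' * g2), ?_⟩
  rw [← hg, ← h14]
  group

end

end Cfsg.Agent.LFourA.InvConj
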