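import Mathlib
import Cfsg.Agent.LFourA.CzTransfer
import Cfsg.Agent.LFourA.CzSwap
import Cfsg.Agent.LFourA.InvConj
import Cfsg.Agent.LFourA.OddFree

/-!
# The structure of `C(z)/O(C(z))`, case I
-/

set_option autoImplicit false

namespace Cfsg.Agent.LFourA.CzMain

open DihedralGroup Cfsg.Agent.LFourA.Model Cfsg.Agent.LFourA.Base Cfsg.Agent.LFourA.Defs
open Cfsg.Agent.LFourA.CzData Cfsg.Agent.LFourA.CzEmb Cfsg.Agent.LFourA.CzSwap Cfsg.Agent.LFourA.OddFree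
open Cfsg.Agent.ClassificationK
open Cfsg.Agent.ClassificationK.GTwoModel
open Cfsg.Agent.ClassificationK.GTwoQuat
open Cfsg.Agent.ClassificationK.GTwoModelConf
open Cfsg.Agent.ClassificationK.GTwoConf

universe u

/-- the automorphism `a i ↦ a (-i)`, `xa i ↦ xa (-i)` of the quaternion group -/
def sig {n : ℕ} : QuaternionGroup n → QuaternionGroup n
  | .a i => .a (-i)
  | .xa i => .xa (-i)

theorem sig_sig {n : ℕ} (x : QuaternionGroup n) : sig (sig x) = x := by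
  rcases x with i | i
  · change QuaternionGroup.a (- -i) = _
    rw [neg_neg]
  · change QuaternionGroup.xa (- -i) = _
    rw [neg_neg]

section

variable {X : Type*} [Group X] {S : Subgroup X} {k : ℕ} {f : D k → D k → X} {w : X} (h : DWr S k f w)

include h

/-- conjugation by `(y, 1)` exchanges the two quaternion groups -/
theorem conj_phi (x : QuaternionGroup (2 ^ (k + 1))) :
    f (sr 0) 1 * emb h (phiT _ x) * (f (sr 0) 1)⁻¹ = emb h (psiT _ (sig x)) := by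
  have hh := half_add_half (2 ^ (k + 1))
  rcases x with i | i
  · change _ = emb h (psiT _ (.a (-i)))
    rw [phiT_a, psiT_a, emb_mk_false, emb_mk_false, f_conj h, de_false, de_false, de_false, sr_r_sr, inv_r]
    simp
  · change _ = emb h (psiT _ (.xa (-i)))
    rw [phiT_xa, psiT_xa, emb_mk_true, emb_mk_true, f_inv h, ← mul_assoc, h.f_mul, fw_mul_f h, de_true, de_true,
      de_false, de_false, sr_mul_sr, inv_one, mul_one, one_mul, sr_inv, sr_mul_sr]
    congr 3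
    · simp only [map_add, map_neg, neg_neg, sub_zero]
      have h1 : kap k ((2 ^ (k + 1) : ℕ) : ZMod (2 * 2 ^ (k + 1))) + kap k ((2 ^ (k + 1) : ℕ) : ZMod (2 * 2 ^ (k + 1))) = 0 := by
        rw [← map_add, hh, map_zero]
      linear_combination -h1
    · simp

theorem conj_psi (x : QuaternionGroup (2 ^ (k + 1))) :
    f (sr 0) 1 * emb h (psiT _ x) * (f (sr 0) 1)⁻¹ = emb h (phiT _ (sig x)) := by
  have h1 : f (sr 0) 1 * f (sr 0) 1 = 1 := by rw [h.f_mul, sr_mul_self, one_mul, f_one h]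
  have h2 : (f (sr 0) 1)⁻¹ = f (sr 0) 1 := inv_eq_of_mul_eq_one_left h1
  have h3 := conj_phi h (sig x)
  rw [sig_sig] at h3
  rw [← h3, h2]
  calc f (sr 0) 1 * (f (sr 0) 1 * emb h (phiT _ (sig x)) * f (sr 0) 1) * f (sr 0) 1 =
      (f (sr 0) 1 * f (sr 0) 1) * emb h (phiT _ (sig x)) * (f (sr 0) 1 * f (sr 0) 1) := by group
    _ = _ := by rw [h1, one_mul, mul_one]

end

/-- The structure of `C(z)/O(C(z))`, case I: `V` is the homomorphism with kernel the normaliser of the two factors. -/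
structure CzOut {X : Type u} [Group X] {S : Subgroup X} {k : ℕ} {f : D k → D k → X} {w : X} (h : DWr S k f w)
    (V : X →* ℤˣ) (L₁ L₂ : Subgroup X) : Prop where
  V_iff : ∀ y ∈ S, (V y = 1 ↔ y ∈ (emb h).range)
  V_L₁ : ∀ a ∈ L₁, V a = 1
  V_L₂ : ∀ a ∈ L₂, V a = 1
  norm₁ : ∀ g, V g = 1 → ∀ a ∈ L₁, g * a * g⁻¹ ∈ L₁
  norm₂ : ∀ g, V g = 1 → ∀ a ∈ L₂, g * a * g⁻¹ ∈ L₂
  swap₁ : ∀ g, V g ≠ 1 → ∀ a ∈ L₁, g * a * g⁻¹ ∈ L₂
  swap₂ : ∀ g, V g ≠ 1 → ∀ a ∈ L₂, g * a * g⁻¹ ∈ L₁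
  comm : ∀ a ∈ L₁, ∀ b ∈ L₂, a * b = b * a
  comm_le : ∀ g g', V g = 1 → V g' = 1 → g * g' * g⁻¹ * g'⁻¹ ∈ L₁ ⊔ L₂
  le₁ : ∀ x, emb h (phiT _ x) ∈ L₁
  le₂ : ∀ x, emb h (psiT _ x) ∈ L₂
  inf₁ : ∀ y ∈ S, y ∈ L₁ → ∃ x, y = emb h (phiT _ x)
  inf₂ : ∀ y ∈ S, y ∈ L₂ → ∃ x, y = emb h (psiT _ x)
  iso : ∃ (F : Type) (_ : Field F) (_ : Fintype F), Odd (Fintype.card F) ∧
    Nonempty (L₁ ≃* Matrix.SpecialLinearGroup (Fin 2) F) ∧ Nonempty (L₂ ≃* Matrix.SpecialLinearGroup (Fin 2) F)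
  cent : ∀ g, (∀ a ∈ L₁, g * a = a * g) → (∀ b ∈ L₂, g * b = b * g) → g = 1 ∨ g = f (c k) (c k)

theorem units_mul {a b : ℤˣ} (ha : a ≠ 1) (hb : b ≠ 1) : a * b = 1 := by
  rcases Int.units_eq_one_or a with h | h
  · exact absurd h ha
  · rcases Int.units_eq_one_or b with h' | h'
    · exact absurd h' hb
    · rw [h, h']; decide

section

variable {X : Type u} [Group X] [Finite X]

set_option maxHeartbeats 1000000 in
theorem main
    (hC1 : ∀ (G : Type u) [Group G] [Finite G] (P : Sylow 2 G) (A B : Subgroup G), A ⊓ B = ⊥ →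
      Cfsg.IsStronglyClosed A (P : Subgroup G) → Cfsg.IsStronglyClosed B (P : Subgroup G) →
      ⁅Subgroup.normalClosure (A : Set G), Subgroup.normalClosure (B : Set G)⁆ ≤ Cfsg.oddCore G)
    (hGW : ∀ (X : Type u) [Group X] [Finite X] [Group.IsPerfect X]
      (S : Sylow 2 X) (n : ℕ), 2 ≤ n → Nonempty ((S : Subgroup X) ≃* DihedralGroup n) →
      (∃ (F : Type) (_ : Field F) (_ : Fintype F), Odd (Fintype.card F) ∧ 3 < Fintype.card F ∧
        Nonempty (X ⧸ Cfsg.oddCore X ≃* Matrix.ProjectiveSpecialLinearGroup (Fin 2) F)) ∨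
      Nonempty (X ⧸ Cfsg.oddCore X ≃* alternatingGroup (Fin 7)))
    (hO : Cfsg.oddCore X = ⊥) {P : Sylow 2 X} {k : ℕ} {f : D k → D k → X} {w : X}
    (h : DWr (P : Subgroup X) k f w) {Ty : X → Prop} (hT : ZData f w Ty) :
    ∃ (V : X →* ℤˣ) (L₁ L₂ : Subgroup X), CzOut h V L₁ L₂ := by
  obtain ⟨V, hV⟩ := CzTransfer.exists_hom h hT
  have hl : 2 ∣ 2 ^ (k + 1) := dvd_pow_self 2 (Nat.succ_ne_zero k)
  have hne : NeZero (2 ^ (k + 1)) := ⟨by positivity⟩
  set s : X := f (sr 0) 1 with hs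
  have hsP : s ∈ (P : Subgroup X) := f_mem h _ _
  have hss : s * s = 1 := by rw [hs, h.f_mul, sr_mul_self, one_mul, f_one h]
  have hVs : V s ≠ 1 := by
    rw [Ne, hV _ hsP, hs, mem_range_f h]
    rintro (⟨_, _, h1, -⟩ | ⟨_, _, -, h1⟩)
    · cases h1
    · exact sr_ne_one _ h1.symm
  have hmem : ∀ p, emb h p ∈ V.ker := by
    intro p
    rw [MonoidHom.mem_ker, hV _ (emb_mem h p)]
    exact ⟨p, rfl⟩
  -- the normal subgroup of index two
  let H : Subgroup X := V.ker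
  let F : T (2 * 2 ^ (k + 1)) →* H := (emb h).codRestrict H hmem
  have hFc : ∀ p, (F p : X) = emb h p := fun p => rfl
  have hFi : Function.Injective F := by
    intro p q hpq
    exact emb_inj h (congrArg Subtype.val hpq)
  have hFr : F.range = (sylN P H : Subgroup H) := by
    ext y
    rw [mem_sylN]
    constructor
    · rintro ⟨p, rfl⟩
      exact emb_mem h p
    · intro hy
      obtain ⟨p, hp⟩ := (hV _ hy).1 (MonoidHom.mem_ker.1 y.2)
      exact ⟨p, Subtype.ext hp⟩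
  have hFz : ∀ x, x * F (T.z (2 ^ (k + 1))) = F (T.z (2 ^ (k + 1))) * x := by
    intro x
    apply Subtype.ext
    change (x : X) * emb h _ = emb h _ * (x : X)
    rw [emb_z]
    exact hT.central _
  have hOH : Cfsg.oddCore H = ⊥ := oddCore_eq_bot hO H
  -- conjugacy of the swapping involutions
  have hcorr : ∀ y : X, (∃ g : X, g * y * g⁻¹ = f (c k) 1) → ∃ g : X, V g = 1 ∧ g * y * g⁻¹ = f (c k) 1 := by
    rintro y ⟨g, hg⟩
    by_cases hg1 : V g = 1
    · exact ⟨g, hg1, hg⟩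
    · refine ⟨s * g, ?_, ?_⟩
      · rw [map_mul]; exact units_mul hVs hg1
      · have e : s * g * y * (s * g)⁻¹ = s * (g * y * g⁻¹) * s⁻¹ := by group
        rw [e, hg, hs, f_conj h, ← c_comm, mul_inv_cancel_right, mul_one, inv_one, mul_one]
  have hu : ∃ g, g * F (T.u (2 ^ (k + 1))) * g⁻¹ = F (T.a' (2 ^ (k + 1))) := by
    obtain ⟨g, hg1, hg⟩ := hcorr w hT.w_t
    refine ⟨⟨g, hg1⟩, Subtype.ext ?_⟩
    change g * emb h _ * g⁻¹ = emb h _
    rw [emb_u, emb_a', hg]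
  have hw : ∃ g, g * F (T.w (2 ^ (k + 1))) * g⁻¹ = F (T.a' (2 ^ (k + 1))) := by
    obtain ⟨g, hg1, hg⟩ := hcorr (f (sr 0) (sr 0) * w) (by
      obtain ⟨g, hg⟩ := hT.w_t
      refine ⟨g * s, ?_⟩
      rw [← hg]
      have e : s * (f (sr 0) (sr 0) * w) * s⁻¹ = w := by
        have h2 : s⁻¹ = s := inv_eq_of_mul_eq_one_left hss
        rw [h2, hs, f_mul_fw h, fw_mul_f h, sr_mul_self, one_mul, one_mul, sr_mul_self, f_one h, one_mul]
      have e2 : g * s * (f (sr 0) (sr 0) * w) * (g * s)⁻¹ = g * (s * (f (sr 0) (sr 0) * w) * s⁻¹) * g⁻¹ := by group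
      rw [e2, e])
    refine ⟨⟨g, hg1⟩, Subtype.ext ?_⟩
    change g * emb h _ * g⁻¹ = emb h _
    rw [emb_w, emb_a', hg]
  have hconf : Conf (k + 1) (sylN P H) (F (sT (2 ^ (k + 1)))) (F.comp (phiT (2 ^ (k + 1))))
      (F.comp (psiT (2 ^ (k + 1)))) :=
    conf (k + 1) (by omega) hOH (sylN P H) F hFi hFr hFz
      (fun g p q hp hg => GTwoClosed.closed1 hl (sylN P H) F hFi hFr hFz hp hg)
      (fun g p q hp hg => GTwoClosed.closed2 hl (sylN P H) F hFi hFr hFz hp hg)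
      (fun p hp hp1 hpz hpar => InvConj.good hl (sylN P H) F hFi hFr hFz hu hw hp hp1 hpz hpar)
  -- the automorphism
  let α : H ≃* H := MulAut.conjNormal s
  have hαc : ∀ x : H, (α x : X) = s * x * s⁻¹ := fun x => MulAut.conjNormal_apply s x
  have hα1 : ∀ x, α (F (phiT _ x)) = F (psiT _ (sig x)) := by
    intro x
    apply Subtype.ext
    rw [hαc, hFc, hFc]
    exact conj_phi h x
  have hα2 : ∀ x, α (F (psiT _ x)) = F (phiT _ (sig x)) := by
    intro x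
    apply Subtype.ext
    rw [hαc, hFc, hFc]
    exact conj_psi h x
  have hα : (F.comp (phiT (2 ^ (k + 1)))).range.map α.toMonoidHom = (F.comp (psiT (2 ^ (k + 1)))).range := by
    ext y
    constructor
    · rintro ⟨_, ⟨x, rfl⟩, rfl⟩
      exact ⟨sig x, (hα1 x).symm⟩
    · rintro ⟨x, rfl⟩
      refine ⟨_, ⟨sig x, rfl⟩, ?_⟩
      have h1 := hα1 (sig x)
      rw [sig_sig] at h1
      exact h1
  have hα' : (F.comp (psiT (2 ^ (k + 1)))).range.map α.toMonoidHom = (F.comp (phiT (2 ^ (k + 1)))).range := by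
    ext y
    constructor
    · rintro ⟨_, ⟨x, rfl⟩, rfl⟩
      exact ⟨sig x, (hα2 x).symm⟩
    · rintro ⟨x, rfl⟩
      refine ⟨_, ⟨sig x, rfl⟩, ?_⟩
      have h1 := hα2 (sig x)
      rw [sig_sig] at h1
      exact h1
  obtain ⟨L₁, L₂, hL, hL12, hL21⟩ := exists_swap hC1 hGW hconf α hα hα'
  have hn₁ := hL.n₁
  have hn₂ := hL.n₂
  have hHV : ∀ x : H, V (x : X) = 1 := fun x => MonoidHom.mem_ker.1 x.2
  have norm : ∀ (L : Subgroup H) [L.Normal], ∀ g, V g = 1 → ∀ a ∈ L.map H.subtype, g * a * g⁻¹ ∈ L.map H.subtype := by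
    rintro L hLn g hg _ ⟨x, hx, rfl⟩
    exact ⟨⟨g, hg⟩ * x * ⟨g, hg⟩⁻¹, hLn.conj_mem x hx _, rfl⟩
  have swap : ∀ (L M : Subgroup H) [L.Normal], L.map α.toMonoidHom = M → ∀ g, V g ≠ 1 → ∀ a ∈ L.map H.subtype,
      g * a * g⁻¹ ∈ M.map H.subtype := by
    rintro L _ hLn rfl g hg a ha
    have h1 : V (s⁻¹ * g) = 1 := by
      rw [map_mul, map_inv]
      have h2 : (V s)⁻¹ ≠ 1 := inv_ne_one.2 hVs
      exact units_mul h2 hg
    obtain ⟨x, hx, hxe⟩ := norm L (s⁻¹ * g) h1 a ha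
    refine ⟨α x, ⟨x, hx, rfl⟩, ?_⟩
    change (α x : X) = _
    rw [hαc]
    have h2 : (x : X) = s⁻¹ * g * a * (s⁻¹ * g)⁻¹ := hxe
    rw [h2]
    group
  have hcomm : ∀ a ∈ L₁.map H.subtype, ∀ b ∈ L₂.map H.subtype, a * b = b * a := by
    rintro _ ⟨x, hx, rfl⟩ _ ⟨y, hy, rfl⟩
    have h1 := Subgroup.commutator_mem_commutator hx hy
    rw [hL.comm, Subgroup.mem_bot, commutatorElement_eq_one_iff_mul_comm] at h1
    exact congrArg Subtype.val h1
  have hinf₁ : ∀ y ∈ (P : Subgroup X), y ∈ L₁.map H.subtype → ∃ x, y = emb h (phiT _ x) := by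
    rintro _ hyP ⟨y, hy, rfl⟩
    obtain ⟨x, hx⟩ := hL.inf₁ ⟨hy, hyP⟩
    exact ⟨x, (congrArg Subtype.val hx).symm⟩
  have hinf₂ : ∀ y ∈ (P : Subgroup X), y ∈ L₂.map H.subtype → ∃ x, y = emb h (psiT _ x) := by
    rintro _ hyP ⟨y, hy, rfl⟩
    obtain ⟨x, hx⟩ := hL.inf₂ ⟨hy, hyP⟩
    exact ⟨x, (congrArg Subtype.val hx).symm⟩
  have hle₁ : ∀ x, emb h (phiT _ x) ∈ L₁.map H.subtype := fun x => ⟨F (phiT _ x), hL.le₁ ⟨x, rfl⟩, rfl⟩
  have hle₂ : ∀ x, emb h (psiT _ x) ∈ L₂.map H.subtype := fun x => ⟨F (psiT _ x), hL.le₂ ⟨x, rfl⟩, rfl⟩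
  refine ⟨V, L₁.map H.subtype, L₂.map H.subtype, ?_⟩
  refine
  { V_iff := hV
    V_L₁ := ?_
    V_L₂ := ?_
    norm₁ := norm L₁
    norm₂ := norm L₂
    swap₁ := swap L₁ L₂ hL12
    swap₂ := swap L₂ L₁ hL21
    comm := hcomm
    comm_le := ?_
    le₁ := hle₁
    le₂ := hle₂
    inf₁ := hinf₁
    inf₂ := hinf₂
    iso := ?_
    cent := ?_ }
  · rintro _ ⟨x, -, rfl⟩
    exact hHV x
  · rintro _ ⟨x, -, rfl⟩
    exact hHV x
  · intro g g' hg hg'
    rw [← Subgroup.map_sup, hL.sup]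
    have h1 := Subgroup.commutator_mem_commutator (Subgroup.mem_top (⟨g, hg⟩ : H)) (Subgroup.mem_top (⟨g', hg'⟩ : H))
    rw [commutatorElement_def] at h1
    exact ⟨_, h1, rfl⟩
  · obtain ⟨K, i1, i2, hodd, ⟨e⟩⟩ := hL.iso₁
    refine ⟨K, i1, i2, hodd, ?_, ?_⟩
    · exact ⟨(L₁.equivMapOfInjective _ H.subtype_injective).symm.trans e⟩
    · have e2 : L₁ ≃* L₂ := (L₁.equivMapOfInjective α.toMonoidHom α.injective).trans (MulEquiv.subgroupCongr hL12)
      exact ⟨(L₂.equivMapOfInjective _ H.subtype_injective).symm.trans (e2.symm.trans e)⟩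
  · intro g hg₁ hg₂
    let C : Subgroup X := Subgroup.centralizer (L₁.map H.subtype : Set X) ⊓ Subgroup.centralizer (L₂.map H.subtype : Set X)
    have hCm : ∀ y, y ∈ C ↔ (∀ a ∈ L₁.map H.subtype, y * a = a * y) ∧ (∀ b ∈ L₂.map H.subtype, y * b = b * y) := by
      intro y
      change (y ∈ Subgroup.centralizer _ ∧ y ∈ Subgroup.centralizer _) ↔ _
      rw [Subgroup.mem_centralizer_iff, Subgroup.mem_centralizer_iff]
      constructor
      · rintro ⟨h1, h2⟩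
        exact ⟨fun a ha => (h1 a ha).symm, fun a ha => (h2 a ha).symm⟩
      · rintro ⟨h1, h2⟩
        exact ⟨fun a ha => (h1 a ha).symm, fun a ha => (h2 a ha).symm⟩
    have hconj : ∀ y ∈ C, ∀ g, ∀ a, (g⁻¹ * a * g ∈ L₁.map H.subtype ∨ g⁻¹ * a * g ∈ L₂.map H.subtype) →
        g * y * g⁻¹ * a = a * (g * y * g⁻¹) := by
      intro y hy g a ha
      have h1 : y * (g⁻¹ * a * g) = g⁻¹ * a * g * y := by
        rcases ha with ha | ha
        · exact ((hCm y).1 hy).1 _ ha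
        · exact ((hCm y).1 hy).2 _ ha
      calc g * y * g⁻¹ * a = g * (y * (g⁻¹ * a * g)) * g⁻¹ := by group
        _ = g * (g⁻¹ * a * g * y) * g⁻¹ := by rw [h1]
        _ = a * (g * y * g⁻¹) := by group
    have hCn : C.Normal := by
      refine ⟨fun y hy g => ?_⟩
      rw [hCm]
      have hinv : g⁻¹⁻¹ = g := inv_inv g
      by_cases hg : V g⁻¹ = 1
      · refine ⟨fun a ha => hconj y hy g a (Or.inl ?_), fun a ha => hconj y hy g a (Or.inr ?_)⟩
        · have := norm L₁ g⁻¹ hg a ha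
          rwa [hinv] at this
        · have := norm L₂ g⁻¹ hg a ha
          rwa [hinv] at this
      · refine ⟨fun a ha => hconj y hy g a (Or.inr ?_), fun a ha => hconj y hy g a (Or.inl ?_)⟩
        · have := swap L₁ L₂ hL12 g⁻¹ hg a ha
          rwa [hinv] at this
        · have := swap L₂ L₁ hL21 g⁻¹ hg a ha
          rwa [hinv] at this
    have hkey : ∀ y ∈ C, y ∈ (P : Subgroup X) → y = 1 ∨ y = f (c k) (c k) := by
      intro y hy hyP
      have hyV : V y = 1 := by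
        by_contra hyV
        have h1 := swap L₁ L₂ hL12 y hyV _ (hle₁ (.xa 0))
        rw [((hCm y).1 hy).1 _ (hle₁ (.xa 0)), mul_inv_cancel_right] at h1
        obtain ⟨x, hx⟩ := hinf₂ _ (emb_mem h _) h1
        rcases (eq_one_or (emb_inj h hx)).1 with h2 | h2
        · rw [QuaternionGroup.one_def] at h2
          cases h2
        · cases h2
      rcases GTwoConfBasic.eq_of_comm hconf ⟨y, hyV⟩ hyP
        (fun x => Subtype.ext (((hCm y).1 hy).1 _ (hle₁ x))) (fun x => Subtype.ext (((hCm y).1 hy).2 _ (hle₂ x)))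
        with h1 | h1
      · left
        exact congrArg Subtype.val h1
      · right
        rw [← emb_z h]
        exact congrArg Subtype.val h1
    have hCP : C ≤ P := by
      apply le_of_central hO P C
      intro y hy hyP g _
      rcases hkey y hy hyP with h1 | h1
      · rw [h1, mul_one, one_mul]
      · rw [h1, hT.central]
    have hgC : g ∈ C := (hCm g).2 ⟨hg₁, hg₂⟩
    exact hkey g hgC (hCP hgC)

end

end Cfsg.Agent.LFourA.CzMain
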