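import Mathlib
import Cfsg.Agent.LFourA.CzMain
import Cfsg.Agent.LFourA.CzCt

/-!
# The structure of `C(z)` modulo its odd core, case I
-/

set_option autoImplicit false

namespace Cfsg.Agent.LFourA.CzFinal

open DihedralGroup Cfsg.Agent.LFourA.Model Cfsg.Agent.LFourA.Base Cfsg.Agent.LFourA.Defs
open Cfsg.Agent.LFourA.CzData Cfsg.Agent.LFourA.CzEmb Cfsg.Agent.LFourA.CzMain Cfsg.Agent.LFourA.Quot
open Cfsg.Agent.ClassificationK.GTwoModelConf Cfsg.Agent.LFourA.CzCt Subgroup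

universe u

/-- membership in the core of the centraliser -/
theorem mem_core {G : Type*} [Group G] {z : G} (x : centralizer ({z} : Set G)) :
    (x : G) ∈ Cfsg.centralizerPPrimeCore 2 z ↔ x ∈ Cfsg.oddCore (centralizer ({z} : Set G)) := by
  constructor
  · rintro ⟨y, hy, hyx⟩
    have h1 : y = x := Subtype.ext hyx
    rwa [← h1]
  · intro hx
    exact ⟨x, hx, rfl⟩

theorem main
    (hC1 : ∀ (G : Type u) [Group G] [Finite G] (P : Sylow 2 G) (A B : Subgroup G), A ⊓ B = ⊥ →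
      Cfsg.IsStronglyClosed A (P : Subgroup G) → Cfsg.IsStronglyClosed B (P : Subgroup G) →
      ⁅Subgroup.normalClosure (A : Set G), Subgroup.normalClosure (B : Set G)⁆ ≤ Cfsg.oddCore G)
    (hGW : ∀ (X : Type u) [Group X] [Finite X] [Group.IsPerfect X]
      (S : Sylow 2 X) (n : ℕ), 2 ≤ n → Nonempty ((S : Subgroup X) ≃* DihedralGroup n) →
      (∃ (F : Type) (_ : Field F) (_ : Fintype F), Odd (Fintype.card F) ∧ 3 < Fintype.card F ∧
        Nonempty (X ⧸ Cfsg.oddCore X ≃* Matrix.ProjectiveSpecialLinearGroup (Fin 2) F)) ∨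
      Nonempty (X ⧸ Cfsg.oddCore X ≃* alternatingGroup (Fin 7)))
    {G : Type u} [Group G] [Finite G] {P : Sylow 2 G} {k : ℕ} {f : D k → D k → G} {w : G}
    (h : DWr (P : Subgroup G) k f w) (hI : CaseI f w) :
    ∃ (X : Type u) (_ : Group X) (_ : Finite X) (p : centralizer ({f (c k) (c k)} : Set G) →* X) (K₁ K₂ : Subgroup X)
      (F : Type) (_ : Field F) (_ : Fintype F), Odd (Fintype.card F) ∧ CZL (f (c k) (c k)) F p K₁ K₂ ∧
        ZPos f w p K₁ K₂ := by
  set C := centralizer ({f (c k) (c k)} : Set G) with hC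
  have h' := dwr_sub h (sylow_le h)
  have h'' := dwr h'
  obtain ⟨V, L₁, L₂, hL⟩ := CzMain.main hC1 hGW oddCore_quot h'' ((zdata h hI).quot h')
  obtain ⟨F, i1, i2, hodd, hF₁, hF₂⟩ := hL.iso
  have hz : pr C (self (f (c k) (c k))) ∈ L₂ := by
    have h1 := hL.le₂ (.a ((2 ^ (k + 1) : ℕ) : ZMod (2 * 2 ^ (k + 1))))
    rw [psiT_z, emb_z] at h1
    exact h1
  have hz' : pr C (self (f (c k) (c k))) ∈ L₁ := by
    have h1 := hL.le₁ (.a ((2 ^ (k + 1) : ℕ) : ZMod (2 * 2 ^ (k + 1))))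
    rw [phiT_z, emb_z] at h1
    exact h1
  refine ⟨C ⧸ Cfsg.oddCore C, inferInstance, inferInstance, pr C, L₂, L₁, F, i1, i2, hodd, ⟨⟨pr_surj, ?_, ?_, hz, hz',
    ?_, ?_, ?_⟩, hF₂, hF₁⟩, ⟨?_, ?_, ?_, ?_⟩⟩
  · intro x
    rw [mem_core, pr_eq_one]
  · intro x hx y hy
    exact (hL.comm y hy x hx).symm
  · intro x hx hx'
    refine hL.cent x ?_ ?_
    · intro a ha
      exact (hL.comm a ha x hx).symm
    · intro b hb
      exact hL.comm x hx' b hb
  · intro g
    by_cases hg : V g = 1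
    · exact Or.inl ⟨hL.norm₂ g hg, hL.norm₁ g hg⟩
    · exact Or.inr ⟨hL.swap₂ g hg, hL.swap₁ g hg⟩
  · intro g h1 h2
    exact hL.cent g h2 h1
  · intro i
    rw [mem_up]
    refine ⟨sylow_le h (f_mem h _ _), ?_⟩
    have h1 := hL.le₂ (.a ((kap k).symm i))
    rw [psiT_a, emb_mk_false, de_false, de_false, map_neg, RingEquiv.apply_symm_apply] at h1
    exact h1
  · rw [mem_up]
    refine ⟨sylow_le h (fw_mem h _ _), ?_⟩
    have h1 := hL.le₂ (.xa ((2 ^ (k + 1) : ℕ) : ZMod (2 * 2 ^ (k + 1))))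
    rw [psiT_xa, emb_mk_true, de_false, de_false, neg_add_cancel, map_zero, kap_half, ← map_mul] at h1
    exact h1
  · intro i
    rw [mem_up]
    refine ⟨sylow_le h (f_mem h _ _), ?_⟩
    have h1 := hL.le₁ (.a ((kap k).symm i))
    rw [phiT_a, emb_mk_false, de_false, RingEquiv.apply_symm_apply] at h1
    exact h1
  · rw [mem_up]
    refine ⟨sylow_le h (fw_mem h _ _), ?_⟩
    have h1 := hL.le₁ (.xa ((2 ^ (k + 1) : ℕ) : ZMod (2 * 2 ^ (k + 1))))
    rw [phiT_xa, emb_mk_true, de_true, de_true, neg_add_cancel, map_zero, map_neg, kap_half, neg_zero, neg_neg,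
      ← map_mul] at h1
    rw [sr_c, zero_add]
    exact h1

end Cfsg.Agent.LFourA.CzFinal
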