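import Mathlib
import Cfsg.Agent.StandardComponent.AltAut
import Cfsg.Agent.S0144

/-!
# Permutations of seven points

`x1 = (0 2 1 3)(4 5)`, `t0 = x1 ^ 2 = (0 1)(2 3)`.
* `exists_conj_x1` : every even permutation of order 4 is conjugate to `x1`;
* `comm_x1` : an involution commuting with `x1` is `1`, `t0`, `(4 5)` or `t0 (4 5)`;
* `exists_perfect` : `(4 5)` is centralised by an `A₅`;
* `solvable_centralizer` : the centraliser of `t0 (4 5)` is solvable.
-/

set_option autoImplicit false

namespace Cfsg.Agent.LFourA.Kl7Perm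

open Equiv Equiv.Perm Subgroup

/-- `(0 1)(2 3)` -/
def t0 : Perm (Fin 7) := swap 0 1 * swap 2 3

/-- `(0 2 1 3)(4 5)` -/
def x1 : Perm (Fin 7) := swap 0 2 * swap 2 1 * swap 1 3 * swap 4 5

/-- `(4 5)` -/
def s0 : Perm (Fin 7) := swap 4 5

theorem x1_sq : x1 * x1 = t0 := by decide +kernel

theorem cycleType_x1 : x1.cycleType = {4, 2} := by decide +kernel

theorem cycleType_ts : (t0 * s0).cycleType = {2, 2, 2} := by decide +kernel

theorem exists_conj_x1 {x : Perm (Fin 7)} (hs : Perm.sign x = 1) (h1 : x * x ≠ 1) (h2 : x * x * (x * x) = 1) :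
    ∃ σ : Perm (Fin 7), σ * x * σ⁻¹ = x1 := by
  suffices h : IsConj x x1 from isConj_iff.1 h
  rw [Perm.isConj_iff_cycleType_eq, cycleType_x1]
  have hparts : ∀ n ∈ x.cycleType, n = 4 ∨ n = 2 := by
    intro n hn
    have h4 : n ∣ orderOf x := Perm.dvd_of_mem_cycleType hn
    have h5 : n ∣ 4 := by
      refine dvd_trans h4 (orderOf_dvd_of_pow_eq_one ?_)
      rw [show (4 : ℕ) = 2 + 2 from rfl, pow_add, sq]
      exact h2
    have h6 := Perm.two_le_of_mem_cycleType hn
    have h7 : n ≤ 4 := Nat.le_of_dvd (by norm_num) h5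
    interval_cases n
    · right; rfl
    · exact absurd h5 (by decide)
    · left; rfl
  have hsum : x.cycleType.sum ≤ 7 := by
    rw [Perm.sum_cycleType]
    exact (Finset.card_le_univ _).trans (by simp)
  obtain ⟨a, ha⟩ : ∃ a, (x.cycleType.filter (fun n => n = 4)) = Multiset.replicate a 4 :=
    ⟨_, Multiset.eq_replicate_of_mem (fun n hn => (Multiset.mem_filter.1 hn).2)⟩
  obtain ⟨b, hb⟩ : ∃ b, (x.cycleType.filter (fun n => ¬ n = 4)) = Multiset.replicate b 2 :=
    ⟨_, Multiset.eq_replicate_of_mem (fun n hn => by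
      obtain ⟨h3, h4⟩ := Multiset.mem_filter.1 hn
      exact (hparts n h3).resolve_left h4)⟩
  have hdec : x.cycleType = Multiset.replicate a 4 + Multiset.replicate b 2 := by
    rw [← ha, ← hb, Multiset.filter_add_not]
  have hsign := hs
  rw [Perm.sign_of_cycleType, hdec] at hsign
  rw [hdec] at hsum
  rw [Multiset.sum_add, Multiset.sum_replicate, Multiset.sum_replicate, smul_eq_mul, smul_eq_mul] at hsum hsign
  rw [Multiset.card_add, Multiset.card_replicate, Multiset.card_replicate] at hsign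
  have ha0 : a ≠ 0 := by
    rintro rfl
    apply h1
    have h3 : ∀ n ∈ x.cycleType, n ∣ 2 := by
      intro n hn
      rw [hdec, Multiset.replicate_zero, zero_add] at hn
      rw [Multiset.eq_of_mem_replicate hn]
    have h4 : orderOf x ∣ 2 := by
      rw [← Perm.lcm_cycleType]
      exact Multiset.lcm_dvd.2 h3
    have h5 := orderOf_dvd_iff_pow_eq_one.1 h4
    rwa [sq] at h5
  have ha1 : a = 1 := by omega
  subst ha1
  have hb1 : b ≤ 1 := by omega
  rw [hdec]
  interval_cases b
  · exact absurd hsign (by decide)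
  · rfl

theorem x1_zero : x1 0 = 2 := by decide +kernel
theorem x1_two : x1 2 = 1 := by decide +kernel
theorem x1_one : x1 1 = 3 := by decide +kernel
theorem x1_three : x1 3 = 0 := by decide +kernel
theorem x1_four : x1 4 = 5 := by decide +kernel
theorem x1_five : x1 5 = 4 := by decide +kernel
theorem x1_six : x1 6 = 6 := by decide +kernel

theorem x1_fix : ∀ a : Fin 7, x1 a = a → a = 6 := by decide +kernel
theorem x1_fix2 : ∀ a : Fin 7, x1 (x1 a) = a → a = 4 ∨ a = 5 ∨ a = 6 := by decide +kernel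

theorem comm_x1 {τ : Perm (Fin 7)} (hc : τ * x1 = x1 * τ) (hτ : τ * τ = 1) :
    τ = 1 ∨ τ = t0 ∨ τ = s0 ∨ τ = t0 * s0 := by
  have hc' : ∀ a, τ (x1 a) = x1 (τ a) := fun a => DFunLike.congr_fun hc a
  have hτ' : ∀ a, τ (τ a) = a := fun a => DFunLike.congr_fun hτ a
  have h6 : τ 6 = 6 := by
    apply x1_fix
    rw [← hc', x1_six]
  have h4 : τ 4 = 4 ∨ τ 4 = 5 := by
    have h1 : x1 (x1 (τ 4)) = τ 4 := by rw [← hc', ← hc', x1_four, x1_five]
    rcases x1_fix2 _ h1 with h | h | h
    · exact Or.inl h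
    · exact Or.inr h
    · exfalso
      have h2 := τ.injective (h.trans h6.symm)
      exact absurd h2 (by decide)
  have h5 : τ 5 = x1 (τ 4) := by rw [← hc', x1_four]
  have h2 : τ 2 = x1 (τ 0) := by rw [← hc', x1_zero]
  have h1 : τ 1 = x1 (x1 (τ 0)) := by rw [← h2, ← hc', x1_two]
  have h3 : τ 3 = x1 (x1 (x1 (τ 0))) := by rw [← h1, ← hc', x1_one]
  have h0 : τ 0 = 0 ∨ τ 0 = 1 := by
    obtain ⟨a, ha⟩ : ∃ a, τ 0 = a := ⟨_, rfl⟩
    have h7 := hτ' 0
    rw [ha] at h1 h2 h3 h7 ⊢
    have h8 : a = 0 ∨ a = 1 ∨ a = 2 ∨ a = 3 ∨ a = 4 ∨ a = 5 ∨ a = 6 := by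
      have : ∀ a : Fin 7, a = 0 ∨ a = 1 ∨ a = 2 ∨ a = 3 ∨ a = 4 ∨ a = 5 ∨ a = 6 := by decide
      exact this a
    rcases h8 with rfl | rfl | rfl | rfl | rfl | rfl | rfl
    · left; rfl
    · right; rfl
    · rw [h7, x1_two] at h2
      exact absurd h2 (by decide)
    · rw [h7, x1_three, x1_zero, x1_two] at h3
      exact absurd h3 (by decide)
    · rcases h4 with h4 | h4 <;> rw [h4] at h7 <;> exact absurd h7 (by decide)
    · rcases h4 with h4 | h4 <;> rw [h5, h4] at h7
      · rw [x1_four] at h7; exact absurd h7 (by decide)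
      · rw [x1_five] at h7; exact absurd h7 (by decide)
    · rw [h6] at h7
      exact absurd h7 (by decide)
  have key : ∀ ν : Perm (Fin 7), τ 0 = ν 0 → τ 1 = ν 1 → τ 2 = ν 2 → τ 3 = ν 3 → τ 4 = ν 4 → τ 5 = ν 5 →
      τ 6 = ν 6 → τ = ν := by
    intro ν g0 g1 g2 g3 g4 g5 g6
    apply Equiv.ext
    intro a
    fin_cases a <;> assumption
  rcases h0 with h0 | h0
  · rw [h0, x1_zero] at h1 h2 h3
    rw [x1_two] at h1 h3
    rw [x1_one] at h3
    rcases h4 with h4 | h4
    · rw [h4, x1_four] at h5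
      left
      exact key 1 h0 h1 h2 h3 h4 h5 h6
    · rw [h4, x1_five] at h5
      right; right; left
      refine key s0 ?_ ?_ ?_ ?_ ?_ ?_ ?_
      · rw [h0]; decide +kernel
      · rw [h1]; decide +kernel
      · rw [h2]; decide +kernel
      · rw [h3]; decide +kernel
      · rw [h4]; decide +kernel
      · rw [h5]; decide +kernel
      · rw [h6]; decide +kernel
  · rw [h0, x1_one] at h1 h2 h3
    rw [x1_three] at h1 h3
    rw [x1_zero] at h3
    rcases h4 with h4 | h4
    · rw [h4, x1_four] at h5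
      right; left
      refine key t0 ?_ ?_ ?_ ?_ ?_ ?_ ?_
      · rw [h0]; decide +kernel
      · rw [h1]; decide +kernel
      · rw [h2]; decide +kernel
      · rw [h3]; decide +kernel
      · rw [h4]; decide +kernel
      · rw [h5]; decide +kernel
      · rw [h6]; decide +kernel
    · rw [h4, x1_five] at h5
      right; right; right
      refine key (t0 * s0) ?_ ?_ ?_ ?_ ?_ ?_ ?_
      · rw [h0]; decide +kernel
      · rw [h1]; decide +kernel
      · rw [h2]; decide +kernel
      · rw [h3]; decide +kernel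
      · rw [h4]; decide +kernel
      · rw [h5]; decide +kernel
      · rw [h6]; decide +kernel

theorem solvable_centralizer : Group.IsSolvable (centralizer ({t0 * s0} : Set (Perm (Fin 7)))) := by
  apply Cfsg.Agent.S0144.result 2 3 4 1 Nat.prime_two Nat.prime_three
  rw [Perm.nat_card_centralizer, cycleType_ts]
  decide +kernel

/-- the embedding of `S₅` on the points `0 1 2 3 6` -/
def iota : Fin 5 ↪ Fin 7 := ⟨![0, 1, 2, 3, 6], by decide +kernel⟩

theorem viaEmbedding_comm (g : Perm (Fin 5)) : viaEmbeddingHom iota g * s0 = s0 * viaEmbeddingHom iota g := by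
  have h4 : (4 : Fin 7) ∉ Set.range iota := by
    rintro ⟨a, ha⟩
    revert ha
    revert a
    decide +kernel
  have h5 : (5 : Fin 7) ∉ Set.range iota := by
    rintro ⟨a, ha⟩
    revert ha
    revert a
    decide +kernel
  have e4 : viaEmbeddingHom iota g 4 = 4 := viaEmbedding_apply_of_notMem g iota 4 h4
  have e5 : viaEmbeddingHom iota g 5 = 5 := viaEmbedding_apply_of_notMem g iota 5 h5
  have hs : ∀ a, s0 (iota a) = iota a := by decide +kernel
  have hr : ∀ a : Fin 7, a = 4 ∨ a = 5 ∨ ∃ b, a = iota b := by decide +kernel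
  have s4 : s0 4 = 5 := by decide +kernel
  have s5 : s0 5 = 4 := by decide +kernel
  apply Equiv.ext
  intro a
  rw [Perm.mul_apply, Perm.mul_apply]
  rcases hr a with rfl | rfl | ⟨b, rfl⟩
  · rw [s4, e5, e4, s4]
  · rw [s5, e4, e5, s5]
  · rw [hs, viaEmbeddingHom_apply, viaEmbedding_apply, hs]

theorem exists_perfect : ∃ B : Subgroup (alternatingGroup (Fin 7)), ⁅B, B⁆ = B ∧ Even (Nat.card B) ∧
    ∀ x ∈ B, (x : Perm (Fin 7)) * s0 = s0 * x := by
  have h5 : 5 ≤ Nat.card (Fin 5) := by simp
  let j : alternatingGroup (Fin 5) →* Perm (Fin 7) :=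
    (viaEmbeddingHom iota).comp (alternatingGroup (Fin 5)).subtype
  have hj : Function.Injective j := (viaEmbeddingHom_injective iota).comp Subtype.val_injective
  have hmem : ∀ g, j g ∈ alternatingGroup (Fin 7) := by
    intro g
    have h1 : g ∈ commutator (alternatingGroup (Fin 5)) := by
      rw [commutator_alternatingGroup_eq_top h5]; trivial
    have h2 : j g ∈ (commutator (alternatingGroup (Fin 5))).map j := mem_map_of_mem _ h1
    rw [commutator_def, map_commutator] at h2
    exact alternatingGroup.commutator_perm_le (commutator_mono le_top le_top h2)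
  let φ : alternatingGroup (Fin 5) →* alternatingGroup (Fin 7) := j.codRestrict _ hmem
  have hφ : Function.Injective φ := by
    intro a b hab
    exact hj (congrArg Subtype.val hab)
  refine ⟨φ.range, ?_, ?_, ?_⟩
  · rw [MonoidHom.range_eq_map, ← map_commutator, ← commutator_def, commutator_alternatingGroup_eq_top h5]
  · have h1 : Nat.card φ.range = Nat.card (alternatingGroup (Fin 5)) :=
      (Nat.card_congr (MonoidHom.ofInjective hφ).toEquiv).symm
    rw [h1, nat_card_alternatingGroup, Nat.card_eq_fintype_card, Fintype.card_fin]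
    decide
  · rintro _ ⟨g, rfl⟩
    exact viaEmbedding_comm g

end Cfsg.Agent.LFourA.Kl7Perm
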