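import Mathlib
import Cfsg.Agent.LFourA.Kl7Perm

/-!
# Groups with a normal subgroup `K ≃ A₇`

* `exists_hom'` : the homomorphism `Ψ : X → S₇`, `Ψ = e'` on `K`, kernel `C_X(K)`, normalised by `Ψ x = x1`;
* `exists_perfect` : `Ψ v = (4 5)` ⟹ `C_K(v)` contains an `A₅`;
* `solvable` : `Ψ v = t0 (4 5)` ⟹ `C_X(v)` is solvable.
-/

set_option autoImplicit false

namespace Cfsg.Agent.LFourA.Kl7Hom

open Equiv Equiv.Perm Subgroup Cfsg.Agent.LFourA.Kl7Perm

variable {X : Type*} [Group X] {K : Subgroup X}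

theorem exists_hom (hK : K.Normal) (e : K ≃* alternatingGroup (Fin 7)) :
    ∃ Ψ : X →* Perm (Fin 7), (∀ x : K, Ψ x = (e x : Perm (Fin 7))) ∧ ∀ x, Ψ x = 1 ↔ ∀ y ∈ K, x * y = y * x := by
  obtain ⟨ψ, hψ⟩ := Cfsg.Agent.StandardComponent.AltAut.exists_autHom 7 (le_refl _)
  have key : ∀ (x : X) (y : K), ((MulAut.congr e (MulAut.conjNormal x) (e y) : alternatingGroup (Fin 7)) :
      Perm (Fin 7)) = e ⟨x * y * x⁻¹, hK.conj_mem y y.2 x⟩ := by
    intro x y
    have h1 : MulAut.congr e (MulAut.conjNormal x) (e y) = e (MulAut.conjNormal x (e.symm (e y))) := rfl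
    rw [h1, e.symm_apply_apply]
    congr 2
  refine ⟨ψ.comp ((MulAut.congr e).toMonoidHom.comp MulAut.conjNormal), ?_, ?_⟩
  · intro x
    change ψ (MulAut.congr e (MulAut.conjNormal (x : X))) = _
    apply Cfsg.Agent.StandardComponent.AltAut.conj_unique (m := 5) (by norm_num)
    intro y
    have h1 := hψ (MulAut.congr e (MulAut.conjNormal (x : X))) y
    refine h1.symm.trans ?_
    obtain ⟨y, rfl⟩ := e.surjective y
    rw [key]
    have h2 : (⟨(x : X) * y * (x : X)⁻¹, hK.conj_mem y y.2 x⟩ : K) = x * y * x⁻¹ := rfl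
    rw [h2, map_mul, map_mul, map_inv]
    rfl
  · intro x
    change ψ (MulAut.congr e (MulAut.conjNormal (x : X))) = 1 ↔ _
    constructor
    · intro h y hy
      have h1 := hψ (MulAut.congr e (MulAut.conjNormal (x : X))) (e ⟨y, hy⟩)
      rw [h, key, one_mul, inv_one, mul_one] at h1
      have h2 : (⟨x * y * x⁻¹, hK.conj_mem y hy x⟩ : K) = ⟨y, hy⟩ := e.injective (Subtype.ext h1)
      have h3 : x * y * x⁻¹ = y := congrArg Subtype.val h2
      exact mul_inv_eq_iff_eq_mul.1 h3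
    · intro h
      apply Cfsg.Agent.StandardComponent.AltAut.eq_one_of_centralizes (m := 5) (by norm_num)
      intro y
      have h1 := hψ (MulAut.congr e (MulAut.conjNormal (x : X))) y
      refine h1.symm.trans ?_
      obtain ⟨y, rfl⟩ := e.surjective y
      rw [key]
      congr 2
      apply Subtype.ext
      change x * y * x⁻¹ = y
      rw [h y y.2, mul_inv_cancel_right]

/-- normalised form -/
theorem exists_hom' (hK : K.Normal) (e : K ≃* alternatingGroup (Fin 7)) {x : X} (hx : x ∈ K) (h1 : x * x ≠ 1)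
    (h2 : x * x * (x * x) = 1) :
    ∃ (e' : K ≃* alternatingGroup (Fin 7)) (Ψ : X →* Perm (Fin 7)), (∀ x : K, Ψ x = (e' x : Perm (Fin 7))) ∧
      (∀ x, Ψ x = 1 ↔ ∀ y ∈ K, x * y = y * x) ∧ Ψ x = x1 := by
  obtain ⟨Ψ, hΨ, hΨ1⟩ := exists_hom hK e
  have hx1 : Ψ x = (e ⟨x, hx⟩ : Perm (Fin 7)) := hΨ ⟨x, hx⟩
  obtain ⟨σ, hσ⟩ := exists_conj_x1 (x := (e ⟨x, hx⟩ : Perm (Fin 7))) (mem_alternatingGroup.1 (e ⟨x, hx⟩).2)
    (by
      intro h
      apply h1
      have h3 : e (⟨x, hx⟩ * ⟨x, hx⟩) = 1 := by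
        rw [map_mul]
        exact Subtype.ext h
      have h4 := (MulEquiv.map_eq_one_iff e).1 h3
      exact congrArg Subtype.val h4)
    (by
      have h3 : (⟨x, hx⟩ * ⟨x, hx⟩ * (⟨x, hx⟩ * ⟨x, hx⟩) : K) = 1 := Subtype.ext h2
      have h4 := congrArg e h3
      rw [map_mul, map_mul, map_one] at h4
      exact congrArg Subtype.val h4)
  refine ⟨e.trans (MulAut.conjNormal σ), (MulAut.conj σ).toMonoidHom.comp Ψ, ?_, ?_, ?_⟩
  · intro y
    change σ * Ψ y * σ⁻¹ = _
    rw [hΨ]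
    rfl
  · intro y
    rw [← hΨ1]
    change σ * Ψ y * σ⁻¹ = 1 ↔ _
    rw [conj_eq_one_iff]
  · change σ * Ψ x * σ⁻¹ = x1
    rw [hx1]
    exact hσ

variable {e' : K ≃* alternatingGroup (Fin 7)} {Ψ : X →* Perm (Fin 7)}

theorem exists_perfect (hK : K.Normal) (hΨ : ∀ x : K, Ψ x = (e' x : Perm (Fin 7))) {v : X} (hv : Ψ v = s0) :
    ∃ B : Subgroup X, ⁅B, B⁆ = B ∧ Even (Nat.card B) ∧ ∀ x ∈ B, x * v = v * x := by
  obtain ⟨B, hB, hE, hc⟩ := Kl7Perm.exists_perfect
  refine ⟨(B.map e'.symm.toMonoidHom).map K.subtype, ?_, ?_, ?_⟩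
  · rw [← map_commutator, ← map_commutator, hB]
  · rw [card_map_of_injective K.subtype_injective, card_map_of_injective e'.symm.injective]
    exact hE
  · rintro _ ⟨_, ⟨b, hb, rfl⟩, rfl⟩
    set y : K := e'.symm b with hy
    have hyb : e' y = b := e'.apply_symm_apply b
    change (y : X) * v = v * y
    have h1 : (⟨v * y * v⁻¹, hK.conj_mem y y.2 v⟩ : K) = y := by
      apply e'.injective
      apply Subtype.ext
      rw [← hΨ, hyb]
      change Ψ (v * y * v⁻¹) = b
      rw [map_mul, map_mul, map_inv, hv, hΨ, hyb, ← hc b hb, mul_inv_cancel_right]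
    have h2 : v * y * v⁻¹ = y := congrArg Subtype.val h1
    exact (mul_inv_eq_iff_eq_mul.1 h2).symm

theorem solvable (hΨ1 : ∀ x, Ψ x = 1 ↔ ∀ y ∈ K, x * y = y * x) {d : X}
    (hC : ∀ x, (∀ y ∈ K, x * y = y * x) → x ∈ zpowers d) {v : X} (hv : Ψ v = t0 * s0) :
    Group.IsSolvable (centralizer ({v} : Set X)) := by
  have hm : ∀ x : centralizer ({v} : Set X), Ψ x ∈ centralizer ({t0 * s0} : Set (Perm (Fin 7))) := by
    intro x
    rw [mem_centralizer_singleton_iff, ← hv, ← map_mul, ← map_mul, mem_centralizer_singleton_iff.1 x.2]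
  let φ : centralizer ({v} : Set X) →* centralizer ({t0 * s0} : Set (Perm (Fin 7))) :=
    (Ψ.comp (centralizer ({v} : Set X)).subtype).codRestrict _ hm
  have := solvable_centralizer
  have h1 : Group.IsSolvable φ.ker := by
    have hmem : ∀ x : φ.ker, ((x : centralizer ({v} : Set X)) : X) ∈ zpowers d := by
      intro x
      apply hC
      apply (hΨ1 _).1
      exact congrArg Subtype.val x.2
    let ι : φ.ker →* zpowers d :=
      ((centralizer ({v} : Set X)).subtype.comp φ.ker.subtype).codRestrict _ hmem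
    have hι : Function.Injective ι := by
      intro a b hab
      have h2 : (((a : centralizer ({v} : Set X)) : X)) = ((b : centralizer ({v} : Set X)) : X) :=
        congrArg (fun u : zpowers d => (u : X)) hab
      exact Subtype.ext (Subtype.ext h2)
    have hz : Group.IsSolvable (zpowers d) := by
      apply Group.isSolvable_of_comm
      rintro ⟨_, m, rfl⟩ ⟨_, n, rfl⟩
      apply Subtype.ext
      change d ^ m * d ^ n = d ^ n * d ^ m
      rw [← zpow_add, ← zpow_add, add_comm]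
    exact Group.isSolvable_of_isSolvable_injective hι
  exact Group.isSolvable_of_ker_le_range φ.ker.subtype φ (by rw [range_subtype])

end Cfsg.Agent.LFourA.Kl7Hom
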