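import Mathlib
import Cfsg.Agent.Lib.PSL2Torus
import Cfsg.Agent.SylowSp4.SLGen
import Cfsg.Agent.S0144
import Cfsg.Agent.S0243

/-!
# Comparing the nonsolvable sections of a group seen through two homomorphisms with odd kernel

`Res p A`: the image under `p` of all far terms of the derived series is `A`.
`card_eq`: `p₁ : Y → X₁`, `p₂ : Y → X₂` with kernels of odd order, `φᵢ : SL(2,Eᵢ) → Xᵢ` with kernel `±1`, the image of
`φᵢ` being all of the residual up to solvable factors. Then `|E₁| = |E₂|`.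
-/

set_option autoImplicit false

namespace Cfsg.Agent.LFourA.KlOAbs

open Subgroup

section res

variable {Y X : Type*} [Group Y] [Group X]

/-- The image of the far terms of the derived series is `A`. -/
def Res (p : Y →* X) (A : Subgroup X) : Prop := ∃ N, ∀ n, N ≤ n → (derivedSeries Y n).map p = A

theorem le_map_derived (p : Y →* X) {A : Subgroup X} (hA : ⁅A, A⁆ = A) (hle : A ≤ p.range) (n : ℕ) :
    A ≤ (derivedSeries Y n).map p := by
  induction n with
  | zero => rwa [derivedSeries_zero, ← MonoidHom.range_eq_map]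
  | succ n ih =>
    rw [derivedSeries_succ, map_commutator]
    calc A = ⁅A, A⁆ := hA.symm
      _ ≤ _ := commutator_mono ih ih

theorem anti (p : Y →* X) {m n : ℕ} (h : m ≤ n) : (derivedSeries Y n).map p ≤ (derivedSeries Y m).map p :=
  map_mono (derivedSeries_antitone Y h)

theorem res_of (p : Y →* X) {A P : Subgroup X} (hA : ⁅A, A⁆ = A) (hle : A ≤ p.range) {m : ℕ}
    (hm : (derivedSeries Y m).map p ≤ P) (hP : ⁅P, P⁆ ≤ A) : Res p A := by
  refine ⟨m + 1, fun n hn => le_antisymm ((anti p hn).trans ?_) (le_map_derived p hA hle n)⟩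
  rw [derivedSeries_succ, map_commutator]
  exact (commutator_mono hm hm).trans hP

theorem res_bot (p : Y →* X) {A P : Subgroup X} (hs : Group.IsSolvable A) {m : ℕ}
    (hm : (derivedSeries Y m).map p ≤ P) (hP : ⁅P, P⁆ ≤ A) : Res p ⊥ := by
  obtain ⟨k, hk⟩ := hs.solvable
  have key : ∀ j, (derivedSeries Y (m + 1 + j)).map p ≤ (derivedSeries A j).map A.subtype := by
    intro j
    induction j with
    | zero =>
      rw [derivedSeries_zero, ← MonoidHom.range_eq_map, range_subtype, add_zero, derivedSeries_succ, map_commutator]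
      exact (commutator_mono hm hm).trans hP
    | succ j ih =>
      rw [derivedSeries_succ, map_commutator, ← add_assoc, derivedSeries_succ, map_commutator]
      exact commutator_mono ih ih
  refine ⟨m + 1 + k, fun n hn => ?_⟩
  rw [eq_bot_iff]
  refine (anti p hn).trans ((key k).trans ?_)
  rw [hk, Subgroup.map_bot]

/-- no nontrivial normal subgroup of odd order -/
def NoOdd (A : Subgroup X) : Prop :=
  ∀ N : Subgroup X, N ≤ A → (∀ a ∈ A, ∀ x ∈ N, a * x * a⁻¹ ∈ N) → Odd (Nat.card N) → N = ⊥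

theorem noOdd_bot : NoOdd (⊥ : Subgroup X) := fun _ hN _ _ => le_bot_iff.1 hN

theorem odd_of_dvd {a b : ℕ} (h : a ∣ b) (hb : Odd b) : Odd a := by
  rcases Nat.even_or_odd a with ha | ha
  · exfalso
    obtain ⟨c, hc⟩ := even_iff_two_dvd.1 ha
    obtain ⟨d, hd⟩ := h
    rw [hd, hc, mul_assoc] at hb
    exact (Nat.not_even_iff_odd.2 hb) (even_two_mul _)
  · exact ha

/-- One half of the comparison of kernels. -/
theorem ker_le {X' : Type*} [Group X'] [Finite Y] (p : Y →* X) (p' : Y →* X') (hk : Odd (Nat.card p.ker))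
    (D : Subgroup Y) [D.Normal] {A' : Subgroup X'} (hD : D.map p' = A') (hA' : NoOdd A') {x : Y} (hx : x ∈ D)
    (hpx : p x = 1) : p' x = 1 := by
  have h1 : (p.ker ⊓ D).map p' = ⊥ := by
    apply hA'
    · rw [← hD]; exact map_mono inf_le_right
    · rintro a ha _ ⟨y, hy, rfl⟩
      rw [← hD] at ha
      obtain ⟨d, -, rfl⟩ := ha
      refine ⟨d * y * d⁻¹, ⟨?_, ?_⟩, by rw [map_mul, map_mul, map_inv]⟩
      · have := (MonoidHom.normal_ker p).conj_mem y hy.1 d
        exact this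
      · exact ‹D.Normal›.conj_mem y hy.2 d
    · have h2 : Nat.card ((p.ker ⊓ D).map p') ∣ Nat.card (p.ker ⊓ D : Subgroup Y) := card_map_dvd _ _
      exact odd_of_dvd (h2.trans (card_dvd_of_le inf_le_left)) hk
  have h2 : p' x ∈ (p.ker ⊓ D).map p' := ⟨x, ⟨hpx, hx⟩, rfl⟩
  rw [h1, mem_bot] at h2
  exact h2

theorem card_eq_of_res {X' : Type*} [Group X'] [Finite Y] {p : Y →* X} {p' : Y →* X'}
    (hk : Odd (Nat.card p.ker)) (hk' : Odd (Nat.card p'.ker)) {A : Subgroup X} {A' : Subgroup X'}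
    (h : Res p A) (h' : Res p' A') (hA : NoOdd A) (hA' : NoOdd A') : Nat.card A = Nat.card A' := by
  obtain ⟨n, hn⟩ := h
  obtain ⟨n', hn'⟩ := h'
  have h1 := hn (max n n') (le_max_left _ _)
  have h2 := hn' (max n n') (le_max_right _ _)
  set D := derivedSeries Y (max n n') with hDdef
  have hDn : D.Normal := by rw [hDdef]; infer_instance
  have r1 : (p.comp D.subtype).range = A := by
    rw [MonoidHom.range_comp, range_subtype]; exact h1
  have r2 : (p'.comp D.subtype).range = A' := by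
    rw [MonoidHom.range_comp, range_subtype]; exact h2
  have hker : (p.comp D.subtype).ker = (p'.comp D.subtype).ker := by
    ext ⟨x, hx⟩
    rw [MonoidHom.mem_ker, MonoidHom.mem_ker]
    exact ⟨fun e => ker_le p p' hk D h2 hA' hx e, fun e => ker_le p' p hk' D h1 hA hx e⟩
  rw [← r1, ← r2, ← Subgroup.index_ker, ← Subgroup.index_ker, hker]

end res

section sl

open Cfsg.Agent.SylowSp4.SLGen

local notation "SL2" => Matrix.SpecialLinearGroup (Fin 2)

variable {E : Type*} [Field E] [Finite E] {X : Type*} [Group X]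

omit [Finite E] in
theorem neg_one_ne_one (h2 : (2 : E) ≠ 0) : (-1 : SL2 E) ≠ 1 := by
  intro h
  have h1 := congrArg (fun x : SL2 E => x.1 0 0) h
  change -(1 : E) = 1 at h1
  apply h2
  linear_combination -h1

omit [Finite E] in
theorem mem_center_neg {x : SL2 E} (hx : x = 1 ∨ x = -1) : x ∈ Subgroup.center (SL2 E) := by
  rcases hx with rfl | rfl
  · exact one_mem _
  · rw [Subgroup.mem_center_iff]
    intro y
    rw [mul_neg, neg_mul, mul_one, one_mul]

theorem range_perfect (h3 : 3 < Nat.card E) (φ : SL2 E →* X) : ⁅φ.range, φ.range⁆ = φ.range := by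
  have := Fintype.ofFinite E
  rw [MonoidHom.range_eq_map, ← map_commutator, ← commutator_def,
    Cfsg.Agent.TwoFusion.SLTwoFacts.commutator_eq_top (by rwa [← Nat.card_eq_fintype_card])]

omit [Finite E] in
/-- the kernel has order two -/
theorem card_range (h2 : (2 : E) ≠ 0) (φ : SL2 E →* X) (hφ : ∀ x, φ x = 1 ↔ x = 1 ∨ x = -1) :
    2 * Nat.card φ.range = Nat.card (SL2 E) := by
  rw [← Subgroup.index_ker, ← Subgroup.card_mul_index φ.ker]
  congr 1
  have h1 : φ.ker = zpowers (-1 : SL2 E) := by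
    ext x
    rw [MonoidHom.mem_ker, hφ, mem_zpowers_iff]
    constructor
    · rintro (rfl | rfl)
      · exact ⟨0, zpow_zero _⟩
      · exact ⟨1, zpow_one _⟩
    · rintro ⟨k, rfl⟩
      rcases Int.even_or_odd k with hk | hk
      · left; exact hk.neg_one_zpow
      · right; exact hk.neg_one_zpow
  rw [h1, Nat.card_zpowers]
  exact (orderOf_eq_prime (by rw [sq, neg_mul_neg, mul_one]) (neg_one_ne_one h2)).symm

theorem card_sl : Nat.card (SL2 E) = Nat.card E * (Nat.card E ^ 2 - 1) := by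
  have := Fintype.ofFinite E
  rw [Cfsg.Agent.ClassicalGeometry.PSL2Basic.card_SL2, Nat.card_eq_fintype_card]

theorem even_range (h2 : (2 : E) ≠ 0) (φ : SL2 E →* X) (hφ : ∀ x, φ x = 1 ↔ x = 1 ∨ x = -1) :
    ¬ Odd (Nat.card φ.range) := by
  have h1 := card_range h2 φ hφ
  have h3 : Nat.card E % 2 = 1 := Cfsg.Agent.Lib.PSL2Torus.odd_card h2
  rw [card_sl] at h1
  rintro ⟨m, hm⟩
  rw [hm] at h1
  obtain ⟨k, hk⟩ : ∃ k, Nat.card E = 2 * k + 1 := ⟨Nat.card E / 2, by omega⟩
  rw [hk] at h1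
  have h4 : (2 * k + 1) ^ 2 - 1 = 4 * (k * (k + 1)) := by
    rw [Nat.sub_eq_iff_eq_add (Nat.one_le_pow _ _ (by omega))]
    ring
  rw [h4] at h1
  have h5 : 2 * (2 * m + 1) = 4 * ((2 * k + 1) * (k * (k + 1))) := by rw [h1]; ring
  omega

theorem noOdd_range (h2 : (2 : E) ≠ 0) (h3 : 3 < Nat.card E) (φ : SL2 E →* X)
    (hφ : ∀ x, φ x = 1 ↔ x = 1 ∨ x = -1) : NoOdd φ.range := by
  have := Fintype.ofFinite E
  intro N hN hnorm hodd
  have hc : (N.comap φ).Normal := by
    constructor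
    intro x hx g
    rw [mem_comap] at hx ⊢
    rw [map_mul, map_mul, map_inv]
    exact hnorm _ ⟨g, rfl⟩ _ hx
  have hN' : (N.comap φ).map φ = N := map_comap_eq_self hN
  rcases normal_cases (by rwa [← Nat.card_eq_fintype_card]) _ hc with h | h
  · rw [eq_bot_iff, ← hN']
    rintro _ ⟨x, hx, rfl⟩
    rw [mem_bot, hφ]
    exact Cfsg.Agent.ClassicalGeometry.PSL2Basic.mem_center_SL2_iff.1 (h hx)
  · exfalso
    rw [h, ← MonoidHom.range_eq_map] at hN'
    rw [← hN'] at hodd
    exact even_range h2 φ hφ hodd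

theorem solvable_range (h3 : Nat.card E = 3) (φ : SL2 E →* X) : Group.IsSolvable φ.range := by
  have h1 : Group.IsSolvable (SL2 E) := by
    apply Cfsg.Agent.S0144.result 2 3 3 1 Nat.prime_two Nat.prime_three
    rw [card_sl, h3]
    norm_num
  exact Group.isSolvable_of_surjective φ.rangeRestrict_surjective

theorem eq_of_cubic {a b : ℕ} (h : a * (a ^ 2 - 1) = b * (b ^ 2 - 1)) (ha1 : 1 < a) (hb1 : 1 < b) :
    a = b := by
  have key : ∀ a b : ℕ, 1 < a → a < b → a * (a ^ 2 - 1) < b * (b ^ 2 - 1) := by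
    intro a b ha hab
    have h1 : a ^ 2 - 1 < b ^ 2 - 1 := by
      have h2 : a ^ 2 < b ^ 2 := Nat.pow_lt_pow_left hab (by norm_num)
      have h3 : 1 ≤ a ^ 2 := Nat.one_le_pow _ _ (by omega)
      omega
    exact Nat.mul_lt_mul_of_lt_of_lt hab h1
  rcases lt_trichotomy a b with h1 | h1 | h1
  · exact absurd h (key a b ha1 h1).ne
  · exact h1
  · exact absurd h (key b a hb1 h1).ne'

end sl

section main

local notation "SL2" => Matrix.SpecialLinearGroup (Fin 2)

/-- the residual attached to `φ : SL(2,E) → X` -/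
theorem exists_res {Y X : Type*} [Group Y] [Group X] {E : Type*} [Field E] [Finite E] (h2 : (2 : E) ≠ 0)
    (p : Y →* X) (φ : SL2 E →* X) (hφ : ∀ x, φ x = 1 ↔ x = 1 ∨ x = -1) {P : Subgroup X} {m : ℕ}
    (hle : φ.range ≤ p.range) (hm : (derivedSeries Y m).map p ≤ P) (hP : ⁅P, P⁆ ≤ φ.range) :
    ∃ A : Subgroup X, Res p A ∧ NoOdd A ∧ ((3 < Nat.card E ∧ 2 * Nat.card A = Nat.card E * (Nat.card E ^ 2 - 1)) ∨
      (Nat.card E = 3 ∧ Nat.card A = 1)) := by
  have h3 : Nat.card E % 2 = 1 := Cfsg.Agent.Lib.PSL2Torus.odd_card h2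
  have h1 : 1 < Nat.card E := Finite.one_lt_card
  rcases Nat.lt_or_ge 3 (Nat.card E) with h4 | h4
  · refine ⟨φ.range, res_of p (range_perfect h4 φ) hle hm hP, noOdd_range h2 h4 φ hφ, Or.inl ⟨h4, ?_⟩⟩
    rw [card_range h2 φ hφ, card_sl]
  · have h5 : Nat.card E = 3 := by omega
    exact ⟨⊥, res_bot p (solvable_range h5 φ) hm hP, noOdd_bot, Or.inr ⟨h5, Subgroup.card_bot⟩⟩

/-- **Comparison**: the two fields have the same order. -/
theorem card_eq {Y X X' : Type*} [Group Y] [Group X] [Group X'] [Finite Y] {E E' : Type*} [Field E] [Finite E]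
    [Field E'] [Finite E'] (h2 : (2 : E) ≠ 0) (h2' : (2 : E') ≠ 0) {p : Y →* X} {p' : Y →* X'}
    (hk : Odd (Nat.card p.ker)) (hk' : Odd (Nat.card p'.ker))
    (φ : SL2 E →* X) (hφ : ∀ x, φ x = 1 ↔ x = 1 ∨ x = -1) {P : Subgroup X} {m : ℕ}
    (hle : φ.range ≤ p.range) (hm : (derivedSeries Y m).map p ≤ P) (hP : ⁅P, P⁆ ≤ φ.range)
    (φ' : SL2 E' →* X') (hφ' : ∀ x, φ' x = 1 ↔ x = 1 ∨ x = -1) {P' : Subgroup X'} {m' : ℕ}
    (hle' : φ'.range ≤ p'.range) (hm' : (derivedSeries Y m').map p' ≤ P') (hP' : ⁅P', P'⁆ ≤ φ'.range) :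
    Nat.card E = Nat.card E' := by
  obtain ⟨A, hA, hoA, hcA⟩ := exists_res h2 p φ hφ hle hm hP
  obtain ⟨A', hA', hoA', hcA'⟩ := exists_res h2' p' φ' hφ' hle' hm' hP'
  have h := card_eq_of_res hk hk' hA hA' hoA hoA'
  have big : ∀ {n c : ℕ}, 3 < n → 2 * c = n * (n ^ 2 - 1) → c ≠ 1 := by
    rintro n c hn h rfl
    have h1 : 1 ≤ n ^ 2 - 1 := by
      have : 4 ^ 2 ≤ n ^ 2 := Nat.pow_le_pow_left hn 2
      omega
    have h3 : n * 1 ≤ n * (n ^ 2 - 1) := Nat.mul_le_mul_left n h1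
    omega
  rcases hcA with ⟨h3, hc⟩ | ⟨h3, hc⟩ <;> rcases hcA' with ⟨h3', hc'⟩ | ⟨h3', hc'⟩
  · refine eq_of_cubic ?_ (by omega) (by omega)
    rw [← hc, ← hc', h]
  · exact absurd (h.trans hc') (big h3 hc)
  · exact absurd (h.symm.trans hc) (big h3' hc')
  · rw [h3, h3']

end main

end Cfsg.Agent.LFourA.KlOAbs
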