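import Mathlib
import Cfsg.Agent.LFourA.KlOAbs
import Cfsg.Agent.LFourA.FieldInv

/-!
# The two sides: a swap of two commuting `SL(2,F)`, a field involution of `PSL(2,F₂)`

* `swap_side`: the centralizer in `K₁ * K₂` of an involution `t` that swaps `K₁` and `K₂` is the diagonal, times `⟨v⟩`;
* `field_side`: the centralizer in `K ≅ PSL(2,F₂)` of a field involution contains `PSL(2,E)`, `|F₂| = |E|²`;
* `exists_comm_lift`: elements commuting with the image of an involution lift to elements commuting with it, for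
  kernels of odd order.
-/

set_option autoImplicit false

namespace Cfsg.Agent.LFourA.KlOSide

open Subgroup Cfsg.Agent.LFourA.KlOAbs Cfsg.Agent.Lib.SL2Mat Cfsg.Agent.Lib.PSL2Torus Cfsg.Agent.LFourA.FieldInv

open scoped commutatorElement

local notation "SL2" => Matrix.SpecialLinearGroup (Fin 2)

section comm

variable {X : Type*} [Group X]

/-- The join of two commuting subgroups is the set of products. -/
theorem mem_sup_comm {K₁ K₂ : Subgroup X} (comm : ∀ x ∈ K₁, ∀ y ∈ K₂, x * y = y * x) {g : X}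
    (hg : g ∈ K₁ ⊔ K₂) : ∃ x ∈ K₁, ∃ y ∈ K₂, g = x * y := by
  let H : Subgroup X :=
    { carrier := {g | ∃ x ∈ K₁, ∃ y ∈ K₂, g = x * y}
      one_mem' := ⟨1, one_mem _, 1, one_mem _, (one_mul 1).symm⟩
      mul_mem' := by
        rintro _ _ ⟨x, hx, y, hy, rfl⟩ ⟨x', hx', y', hy', rfl⟩
        refine ⟨x * x', mul_mem hx hx', y * y', mul_mem hy hy', ?_⟩
        rw [mul_assoc, ← mul_assoc y, ← comm x' hx' y hy, mul_assoc x' y, mul_assoc]
      inv_mem' := by
        rintro _ ⟨x, hx, y, hy, rfl⟩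
        refine ⟨x⁻¹, inv_mem hx, y⁻¹, inv_mem hy, ?_⟩
        rw [mul_inv_rev, comm x⁻¹ (inv_mem hx) y⁻¹ (inv_mem hy)] }
  have h : K₁ ⊔ K₂ ≤ H := by
    refine sup_le (fun x hx => ⟨x, hx, 1, one_mem _, (mul_one x).symm⟩) (fun y hy => ⟨1, one_mem _, y, hy, (one_mul y).symm⟩)
  exact h hg

/-- commutators of elements of `A ∪ vA`, `v` commuting with everything -/
theorem commutator_le_of_union {A P : Subgroup X} {v : X} (hP : ∀ g ∈ P, ∃ a ∈ A, g = a ∨ g = a * v)
    (hv : ∀ a ∈ A, a * v = v * a) : ⁅P, P⁆ ≤ A := by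
  rw [commutator_le]
  intro g hg h hh
  have key : ∀ x ∈ A, ∀ y ∈ A, ∀ v', (v' = 1 ∨ v' = v) → ∀ v'', (v'' = 1 ∨ v'' = v) →
      ⁅x * v', y * v''⁆ ∈ A := by
    intro x hx y hy v' hv' v'' hv''
    have c1 : ∀ a ∈ A, a * v' = v' * a := by
      rcases hv' with rfl | rfl
      · intro a _; rw [mul_one, one_mul]
      · exact hv
    have c2 : ∀ a ∈ A, a * v'' = v'' * a := by
      rcases hv'' with rfl | rfl
      · intro a _; rw [mul_one, one_mul]
      · exact hv
    have c3 : v' * v'' = v'' * v' := by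
      rcases hv' with rfl | rfl <;> rcases hv'' with rfl | rfl <;> simp
    have e : ⁅x * v', y * v''⁆ = ⁅x, y⁆ := by
      rw [commutatorElement_def, commutatorElement_def, mul_inv_rev, mul_inv_rev]
      have e1 : x * v' * (y * v'') = x * y * (v' * v'') := by
        rw [mul_assoc x v', ← mul_assoc v' y, ← c1 y hy]; group
      have e2 : v'⁻¹ * x⁻¹ * (v''⁻¹ * y⁻¹) = (v' * v'')⁻¹ * (x⁻¹ * y⁻¹) := by
        have e3 : v'⁻¹ * x⁻¹ * (v''⁻¹ * y⁻¹) = v'⁻¹ * (x⁻¹ * v''⁻¹) * y⁻¹ := by group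
        have e4 : x⁻¹ * v''⁻¹ = v''⁻¹ * x⁻¹ := by
          rw [← mul_inv_rev, ← mul_inv_rev, c2 x hx]
        rw [e3, e4, c3]; group
      calc x * v' * (y * v'') * (v'⁻¹ * x⁻¹) * (v''⁻¹ * y⁻¹)
          = (x * v' * (y * v'')) * (v'⁻¹ * x⁻¹ * (v''⁻¹ * y⁻¹)) := by group
        _ = x * y * x⁻¹ * y⁻¹ := by rw [e1, e2]; group
    rw [e, commutatorElement_def]
    exact mul_mem (mul_mem (mul_mem hx hy) (inv_mem hx)) (inv_mem hy)
  obtain ⟨a, ha, ha'⟩ := hP g hg
  obtain ⟨b, hb, hb'⟩ := hP h hh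
  rcases ha' with rfl | rfl <;> rcases hb' with rfl | rfl
  · have := key g ha h hb 1 (Or.inl rfl) 1 (Or.inl rfl)
    rwa [mul_one, mul_one] at this
  · have := key g ha b hb 1 (Or.inl rfl) v (Or.inr rfl)
    rwa [mul_one] at this
  · have := key a ha h hb v (Or.inr rfl) 1 (Or.inl rfl)
    rwa [mul_one] at this
  · exact key a ha b hb v (Or.inr rfl) v (Or.inr rfl)

end comm

section swap

variable {X : Type*} [Group X] {F : Type*} [Field F]

theorem swap_side {K₁ K₂ : Subgroup X} (e : K₁ ≃* SL2 F)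
    (comm : ∀ x ∈ K₁, ∀ y ∈ K₂, x * y = y * x) {v t : X} (hv1 : v ≠ 1) (hvv : v * v = 1)
    (vK₁ : v ∈ K₁) (vK₂ : v ∈ K₂) (inf : ∀ x, x ∈ K₁ → x ∈ K₂ → x = 1 ∨ x = v)
    (tt : t * t = 1) (tv : t * v = v * t) (sw : ∀ x ∈ K₁, t * x * t⁻¹ ∈ K₂)
    (sw' : ∀ x ∈ K₂, t * x * t⁻¹ ∈ K₁) :
    ∃ φ : SL2 F →* X, (∀ x, φ x = 1 ↔ x = 1 ∨ x = -1) ∧ (∀ x, φ x ∈ K₁ ⊔ K₂ ∧ t * φ x = φ x * t) ∧
      ⁅(K₁ ⊔ K₂) ⊓ centralizer {t}, (K₁ ⊔ K₂) ⊓ centralizer {t}⁆ ≤ φ.range := by
  have ti : t⁻¹ = t := inv_eq_of_mul_eq_one_left tt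
  -- the diagonal
  let ψ : K₁ →* X :=
    { toFun := fun x => x * (t * x * t⁻¹)
      map_one' := by simp
      map_mul' := by
        rintro ⟨x, hx⟩ ⟨y, hy⟩
        change x * y * (t * (x * y) * t⁻¹) = x * (t * x * t⁻¹) * (y * (t * y * t⁻¹))
        have h1 := comm y hy _ (sw x hx)
        calc x * y * (t * (x * y) * t⁻¹) = x * (y * (t * x * t⁻¹)) * (t * y * t⁻¹) := by group
          _ = x * ((t * x * t⁻¹) * y) * (t * y * t⁻¹) := by rw [h1]
          _ = _ := by group }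
  have hψ : ∀ x : K₁, ψ x = x * (t * x * t⁻¹) := fun _ => rfl
  have hψ1 : ∀ x : K₁, ψ x = 1 ↔ (x : X) = 1 ∨ (x : X) = v := by
    intro x
    rw [hψ]
    constructor
    · intro h
      apply inf _ x.2
      have h1 : (x : X) = (t * x * t⁻¹)⁻¹ := eq_inv_of_mul_eq_one_left h
      rw [h1]
      exact inv_mem (sw x x.2)
    · rintro (h | h)
      · rw [h]; simp
      · rw [h, tv, mul_inv_cancel_right, hvv]
  have ev : e ⟨v, vK₁⟩ = -1 := by
    have h1 : e ⟨v, vK₁⟩ ∈ Subgroup.center (SL2 F) := by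
      rw [Subgroup.mem_center_iff]
      intro y
      obtain ⟨⟨x, hx⟩, rfl⟩ := e.surjective y
      rw [← map_mul, ← map_mul]
      congr 1
      exact Subtype.ext (comm x hx v vK₂)
    rcases Cfsg.Agent.ClassicalGeometry.PSL2Basic.mem_center_SL2_iff.1 h1 with h | h
    · exfalso
      apply hv1
      have : (⟨v, vK₁⟩ : K₁) = 1 := e.injective (by rw [h, map_one])
      exact congrArg Subtype.val this
    · exact h
  refine ⟨ψ.comp e.symm.toMonoidHom, ?_, ?_, ?_⟩
  · intro x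
    change ψ (e.symm x) = 1 ↔ _
    rw [hψ1]
    have h1 : ((e.symm x : K₁) : X) = 1 ↔ x = 1 := by
      constructor
      · intro h
        have : e.symm x = 1 := Subtype.ext h
        exact e.symm.map_eq_one_iff.1 this
      · rintro rfl; simp
    have h3 : ((e.symm x : K₁) : X) = v ↔ x = -1 := by
      constructor
      · intro h
        have : e.symm x = ⟨v, vK₁⟩ := Subtype.ext h
        rw [← ev, ← this, e.apply_symm_apply]
      · rintro rfl
        rw [← ev, e.symm_apply_apply]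
    rw [h1, h3]
  · intro x
    change ψ (e.symm x) ∈ _ ∧ t * ψ (e.symm x) = ψ (e.symm x) * t
    rw [hψ]
    set y := e.symm x
    refine ⟨mul_mem (mem_sup_left y.2) (mem_sup_right (sw y y.2)), ?_⟩
    have h1 := comm y y.2 _ (sw y y.2)
    rw [h1]
    calc t * (t * y * t⁻¹ * y) = (t * t) * y * t⁻¹ * y := by group
      _ = y * t⁻¹ * y := by rw [tt, one_mul]
      _ = y * t * y := by rw [ti]
      _ = (y * t * y * t⁻¹) * t := by group
      _ = (y * (t * y * t⁻¹)) * t := by group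
      _ = _ := by rw [h1]
  · apply commutator_le_of_union (v := v)
    · rintro g ⟨hg, hgt⟩
      replace hgt := mem_centralizer_singleton_iff.1 hgt
      obtain ⟨x, hx, y, hy, rfl⟩ := mem_sup_comm comm hg
      -- `t x t⁻¹ * t y t⁻¹ = x y`
      have h1 : (t * x * t⁻¹) * (t * y * t⁻¹) = x * y := by
        calc (t * x * t⁻¹) * (t * y * t⁻¹) = t * (x * y) * t⁻¹ := by group
          _ = (x * y) * t * t⁻¹ := by rw [hgt]
          _ = x * y := by group
      have h3 : x⁻¹ * (t * y * t⁻¹) = y * (t * x * t⁻¹)⁻¹ := by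
        have h4 := comm _ (sw' y hy) _ (sw x hx)
        rw [← h4] at h1
        have h5 : t * y * t⁻¹ = x * y * (t * x * t⁻¹)⁻¹ := eq_mul_inv_of_mul_eq h1
        rw [h5]; group
      have h4 : x⁻¹ * (t * y * t⁻¹) ∈ K₁ := mul_mem (inv_mem hx) (sw' y hy)
      have h5 : x⁻¹ * (t * y * t⁻¹) ∈ K₂ := by
        rw [h3]; exact mul_mem hy (inv_mem (sw x hx))
      refine ⟨x * (t * x * t⁻¹), ⟨e ⟨x, hx⟩, ?_⟩, ?_⟩
      · change ψ (e.symm (e ⟨x, hx⟩)) = _
        rw [e.symm_apply_apply, hψ]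
      rcases inf _ h4 h5 with h6 | h6
      · left
        rw [h3, mul_inv_eq_one] at h6
        rw [← h6]
      · right
        rw [h3, mul_inv_eq_iff_eq_mul] at h6
        rw [h6, comm _ vK₁ _ (sw x hx), ← mul_assoc]
    · rintro _ ⟨x, rfl⟩
      change ψ (e.symm x) * v = v * ψ (e.symm x)
      rw [hψ]
      set y := e.symm x
      have h1 := comm y y.2 v vK₂
      have h3 := comm v vK₁ _ (sw y y.2)
      rw [mul_assoc, ← h3, ← mul_assoc, h1, mul_assoc]

end swap

section field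

variable {X : Type*} [Group X] {F : Type*} [Field F]

/-- conjugation as an automorphism of a subgroup, by an involution -/
def conjInv (K : Subgroup X) (v : X) (hvv : v * v = 1) (hn : ∀ x ∈ K, v * x * v⁻¹ ∈ K) : MulAut K where
  toFun x := ⟨v * x * v⁻¹, hn x x.2⟩
  invFun x := ⟨v * x * v⁻¹, hn x x.2⟩
  left_inv x := by
    apply Subtype.ext
    change v * (v * x * v⁻¹) * v⁻¹ = x
    have vi : v⁻¹ = v := inv_eq_of_mul_eq_one_left hvv
    calc v * (v * x * v⁻¹) * v⁻¹ = (v * v) * x * (v⁻¹ * v⁻¹) := by group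
      _ = x := by rw [vi, hvv, one_mul, mul_one]
  right_inv x := by
    apply Subtype.ext
    change v * (v * x * v⁻¹) * v⁻¹ = x
    have vi : v⁻¹ = v := inv_eq_of_mul_eq_one_left hvv
    calc v * (v * x * v⁻¹) * v⁻¹ = (v * v) * x * (v⁻¹ * v⁻¹) := by group
      _ = x := by rw [vi, hvv, one_mul, mul_one]
  map_mul' x y := by
    apply Subtype.ext
    change v * (x * y) * v⁻¹ = (v * x * v⁻¹) * (v * y * v⁻¹)
    group

theorem conjInv_val (K : Subgroup X) (v : X) (hvv : v * v = 1) (hn : ∀ x ∈ K, v * x * v⁻¹ ∈ K) (x : K) :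
    ((conjInv K v hvv hn x : K) : X) = v * x * v⁻¹ := rfl

theorem map_inj {R S : Type*} [CommRing R] [CommRing S] {f : R →+* S} (hf : Function.Injective f) {x y : SL2 R}
    (h : Matrix.SpecialLinearGroup.map f x = Matrix.SpecialLinearGroup.map f y) : x = y := by
  apply Matrix.SpecialLinearGroup.ext
  intro i j
  apply hf
  exact congrArg (fun z : SL2 S => z.1 i j) h

/-- A matrix with all entries in a subfield. -/
theorem exists_map {E : Subfield F} {x : SL2 F} (h : ∀ i j, ent x i j ∈ E) :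
    ∃ y : SL2 E, Matrix.SpecialLinearGroup.map E.subtype y = x := by
  refine ⟨mk ⟨ent x 0 0, h 0 0⟩ ⟨ent x 0 1, h 0 1⟩ ⟨ent x 1 0, h 1 0⟩ ⟨ent x 1 1, h 1 1⟩ ?_, ?_⟩
  · apply Subtype.ext
    exact det_eq x
  · apply ext_ent <;> rfl

theorem field_side [Finite F] (h2 : (2 : F) ≠ 0) {K : Subgroup X}
    (e : K ≃* Matrix.ProjectiveSpecialLinearGroup (Fin 2) F) {v : X} (hvv : v * v = 1)
    (hn : ∀ x ∈ K, v * x * v⁻¹ ∈ K) {t u : X} (tK : t ∈ K) (uK : u ∈ K) (ht1 : t ≠ 1) (ht : t * t = 1)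
    (hu1 : u ≠ 1) (hu : u * u = 1) (hut : u ≠ t) (hc : u * t = t * u) (vt : v * t = t * v) (vu : v * u = u * v)
    (hin : ¬ ∃ z ∈ K, ∀ y ∈ K, v * y * v⁻¹ = z * y * z⁻¹) :
    ∃ (E : Subfield F) (φ : SL2 E →* X), Nat.card F = Nat.card E ^ 2 ∧ (∀ x, φ x = 1 ↔ x = 1 ∨ x = -1) ∧
      (∀ x, φ x ∈ K ∧ v * φ x = φ x * v) ∧ ⁅K ⊓ centralizer {v}, K ⊓ centralizer {v}⁆ ≤ φ.range := by
  obtain ⟨π, hπ, hk⟩ := exists_hom h2 e
  have hα : ∀ z, (conjInv K v hvv hn) ((conjInv K v hvv hn) z) = z := fun z => (conjInv K v hvv hn).left_inv z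
  obtain ⟨h, σ, E, H⟩ := exists_finv_of_four (t := ⟨t, tK⟩) (u := ⟨u, uK⟩) h2 hπ hk hα
    (fun h => ht1 (congrArg Subtype.val h)) (Subtype.ext ht) (fun h => hu1 (congrArg Subtype.val h)) (Subtype.ext hu)
    (fun h => hut (congrArg Subtype.val h)) (Subtype.ext hc)
    (Subtype.ext (by rw [conjInv_val]; exact mul_inv_eq_of_eq_mul vt))
    (Subtype.ext (by rw [conjInv_val]; exact mul_inv_eq_of_eq_mul vu)) (by
      rintro ⟨z, hz⟩
      exact hin ⟨z, z.2, fun y hy => congrArg Subtype.val (hz ⟨y, hy⟩)⟩)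
  set ρ := π.comp (Cfsg.Agent.Lib.SL2Mat.conjGL h).toMonoidHom with hρ
  have hinj : Function.Injective (E.subtype : E →+* F) := Subtype.val_injective
  have hfixmap : ∀ x : SL2 E, fieldAut σ (Matrix.SpecialLinearGroup.map E.subtype x) =
      Matrix.SpecialLinearGroup.map E.subtype x := by
    intro x
    apply Matrix.SpecialLinearGroup.ext
    intro i j
    exact (H.mem _).1 (x.1 i j).2
  have hneg : Matrix.SpecialLinearGroup.map E.subtype (-1 : SL2 E) = -1 := by
    apply Matrix.SpecialLinearGroup.ext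
    intro i j
    change E.subtype (-(1 : Matrix (Fin 2) (Fin 2) E) i j) = -(1 : Matrix (Fin 2) (Fin 2) F) i j
    fin_cases i <;> fin_cases j <;> simp
  refine ⟨E, K.subtype.comp (ρ.comp (Matrix.SpecialLinearGroup.map E.subtype)), H.card, ?_, ?_, ?_⟩
  · intro x
    change ((ρ (Matrix.SpecialLinearGroup.map E.subtype x) : K) : X) = 1 ↔ _
    rw [OneMemClass.coe_eq_one, H.ker]
    constructor
    · rintro (h3 | h3)
      · left
        apply map_inj hinj
        rw [h3, map_one]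
      · right
        apply map_inj hinj
        rw [h3, hneg]
    · rintro (rfl | rfl)
      · left; rw [map_one]
      · right; rw [hneg]
  · intro x
    change ((ρ (Matrix.SpecialLinearGroup.map E.subtype x) : K) : X) ∈ K ∧
      v * (ρ (Matrix.SpecialLinearGroup.map E.subtype x) : K) = (ρ (Matrix.SpecialLinearGroup.map E.subtype x) : K) * v
    refine ⟨(ρ _).2, ?_⟩
    have h3 := H.act (Matrix.SpecialLinearGroup.map E.subtype x)
    rw [hfixmap] at h3
    have h4 := congrArg Subtype.val h3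
    rw [conjInv_val] at h4
    exact mul_inv_eq_iff_eq_mul.1 h4
  · rw [commutator_le]
    rintro g ⟨hg, hgv⟩ g' ⟨hg', hgv'⟩
    replace hgv := mem_centralizer_singleton_iff.1 hgv
    replace hgv' := mem_centralizer_singleton_iff.1 hgv'
    have lift : ∀ g ∈ K, g * v = v * g → ∃ x : SL2 F, ((ρ x : K) : X) = g ∧ (fieldAut σ x = x ∨ fieldAut σ x = -x) := by
      intro g hg hgv
      obtain ⟨x, hx⟩ := H.surj ⟨g, hg⟩
      refine ⟨x, congrArg Subtype.val hx, ?_⟩
      have h3 := H.act x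
      rw [hx] at h3
      have h4 : conjInv K v hvv hn ⟨g, hg⟩ = ⟨g, hg⟩ := Subtype.ext (by
        rw [conjInv_val]
        exact mul_inv_eq_of_eq_mul hgv.symm)
      rw [h4, ← hx] at h3
      exact (map_eq_iff ρ H.ker).1 h3.symm
    obtain ⟨x, hx, hσx⟩ := lift g hg hgv
    obtain ⟨y, hy, hσy⟩ := lift g' hg' hgv'
    have hfix : fieldAut σ (x * y * x⁻¹ * y⁻¹) = x * y * x⁻¹ * y⁻¹ := by
      have hni : ∀ z : SL2 F, (-z)⁻¹ = -z⁻¹ := fun z => by
        rw [inv_eq_iff_mul_eq_one, neg_mul_neg, mul_inv_cancel]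
      rw [map_mul, map_mul, map_mul, map_inv, map_inv]
      rcases hσx with h3 | h3 <;> rcases hσy with h4 | h4 <;> rw [h3, h4]
      · rw [hni]; simp
      · rw [hni]; simp
      · rw [hni, hni]; simp
    obtain ⟨z, hz⟩ := exists_map (E := E) (x := x * y * x⁻¹ * y⁻¹) (by
      intro i j
      rw [H.mem]
      exact congrArg (fun w : SL2 F => ent w i j) hfix)
    refine ⟨z, ?_⟩
    change ((ρ (Matrix.SpecialLinearGroup.map E.subtype z) : K) : X) = _
    rw [hz, commutatorElement_def, ← hx, ← hy, map_mul, map_mul, map_mul, map_inv, map_inv]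
    rfl

end field

section lift

variable {C X : Type*} [Group C] [Group X]

/-- elements commuting with the image of an involution lift -/
theorem exists_comm_lift [Finite C] {p : C →* X} (hp : Function.Surjective p) (hk : Odd (Nat.card p.ker)) {t : C}
    (ht : t * t = 1) {x : X} (hx : x * p t = p t * x) : ∃ c, c * t = t * c ∧ p c = x := by
  obtain ⟨c, rfl⟩ := hp x
  -- `u = c t c⁻¹`, `r = t u`
  set r := t * (c * t * c⁻¹) with hr
  have hrk : r ∈ p.ker := by
    rw [MonoidHom.mem_ker, hr, map_mul, map_mul, map_mul, map_inv, hx, mul_inv_cancel_right, ← map_mul, ht, map_one]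
  have hodd : Odd (orderOf r) := by
    have h1 : orderOf r ∣ Nat.card p.ker := by
      have := orderOf_dvd_natCard (⟨r, hrk⟩ : p.ker)
      rwa [← orderOf_coe] at this
    exact odd_of_dvd h1 hk
  obtain ⟨k, hk'⟩ := hodd
  have hpow : r ^ (2 * k + 1) = 1 := by rw [← hk']; exact pow_orderOf_eq_one r
  have ti : t⁻¹ = t := inv_eq_of_mul_eq_one_left ht
  have huu : (c * t * c⁻¹) * (c * t * c⁻¹) = 1 := by
    calc (c * t * c⁻¹) * (c * t * c⁻¹) = c * (t * t) * c⁻¹ := by group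
      _ = 1 := by rw [ht]; group
  have hinv : t * r * t⁻¹ = r⁻¹ := by
    rw [ti, eq_inv_iff_mul_eq_one, hr]
    calc t * (t * (c * t * c⁻¹)) * t * (t * (c * t * c⁻¹))
        = (t * t) * (c * t * c⁻¹) * (t * t) * (c * t * c⁻¹) := by group
      _ = 1 := by rw [ht, one_mul, mul_one, huu]
  have hinvk : ∀ n : ℕ, t * r ^ n * t⁻¹ = (r ^ n)⁻¹ := by
    intro n
    have : t * r ^ n * t⁻¹ = (t * r * t⁻¹) ^ n := by rw [conj_pow]
    rw [this, hinv, inv_pow]
  refine ⟨r ^ (k + 1) * c, ?_, ?_⟩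
  · -- `c t = t r c`
    have h1 : c * t = t * r * c := by
      rw [hr, ← mul_assoc t t, ht, one_mul]; group
    have h3 : r ^ (k + 1) * t = t * (r ^ (k + 1))⁻¹ := by
      rw [← hinvk (k + 1), ← mul_assoc, ← mul_assoc, ht, one_mul, ti]
    calc r ^ (k + 1) * c * t = (r ^ (k + 1) * t) * r * c := by rw [mul_assoc, h1]; group
      _ = t * ((r ^ (k + 1))⁻¹ * r) * c := by rw [h3]; group
      _ = t * (r ^ (k + 1)) * c := by
        congr 2
        rw [inv_mul_eq_iff_eq_mul, ← pow_add]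
        have h4 : k + 1 + (k + 1) = (2 * k + 1) + 1 := by ring
        rw [h4, pow_succ, hpow, one_mul]
      _ = t * (r ^ (k + 1) * c) := by group
  · rw [map_mul, map_pow, MonoidHom.mem_ker.1 hrk, one_pow, one_mul]

end lift

end Cfsg.Agent.LFourA.KlOSide
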