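import Mathlib
import Cfsg.Agent.LFourA.KlOSide

/-!
# `r = s`: the orders of the fields seen from `C(v)` and from `C(t)`

`v` is an involution with `C(v)/O(C(v)) ≥ SL(2,F) ∘ SL(2,F)`, `t` an involution commuting with `v` that swaps the two factors;
`C(t)/O(C(t)) ≥ PSL(2,F₂)`, on which `v` acts as a field involution. Then `|F₂| = |F|²`.
-/

set_option autoImplicit false

namespace Cfsg.Agent.LFourA.KlO

open Subgroup Cfsg.Agent.LFourA.KlOAbs Cfsg.Agent.LFourA.KlOSide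

open scoped commutatorElement

local notation "SL2" => Matrix.SpecialLinearGroup (Fin 2)

section aux

variable {G : Type*} [Group G]

theorem ne_one_of_odd_ker [Finite G] {X : Type*} [Group X] {p : G →* X} (hk : Odd (Nat.card p.ker)) {v : G}
    (hv1 : v ≠ 1) (hvv : v * v = 1) : p v ≠ 1 := by
  intro h
  have h1 : orderOf v = 2 := orderOf_eq_prime (by rw [sq]; exact hvv) hv1
  have h3 : orderOf v ∣ Nat.card p.ker := by
    have := orderOf_dvd_natCard (⟨v, h⟩ : p.ker)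
    rwa [← orderOf_coe] at this
  rw [h1] at h3
  exact (Nat.not_even_iff_odd.2 hk) (even_iff_two_dvd.2 h3)

/-- the restriction of `p : C → X` to a subgroup of `C` -/
theorem odd_ker_inclusion [Finite G] {C Y : Subgroup G} (hY : Y ≤ C) {X : Type*} [Group X] {p : C →* X}
    (hk : Odd (Nat.card p.ker)) : Odd (Nat.card (p.comp (inclusion hY)).ker) := by
  have h1 : (p.comp (inclusion hY)).ker.map (inclusion hY) ≤ p.ker := by
    rintro _ ⟨y, hy, rfl⟩
    exact hy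
  have h2 := card_dvd_of_le h1
  rw [card_map_of_injective (inclusion_injective hY)] at h2
  exact odd_of_dvd h2 hk

end aux

section main

variable {G : Type*} [Group G] [Finite G]

omit [Finite G] in
theorem mem_cent {v : G} : v ∈ centralizer ({v} : Set G) := mem_centralizer_singleton_iff.2 rfl

omit [Finite G] in
theorem mem_cent_of {v t : G} (h : t * v = v * t) : t ∈ centralizer ({v} : Set G) :=
  mem_centralizer_singleton_iff.2 h

/-- **`r = s`**: `|F₂| = |F|²`. -/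
theorem card_sq {v t : G} (hv1 : v ≠ 1) (hvv : v * v = 1) (htt : t * t = 1) (tv : t * v = v * t)
    {F F₂ : Type*} [Field F] [Finite F] [Field F₂] [Finite F₂] (h2 : (2 : F) ≠ 0) (h2' : (2 : F₂) ≠ 0)
    -- the centralizer of `v`
    {X : Type*} [Group X] {p : centralizer ({v} : Set G) →* X} (hp : Function.Surjective p)
    (hk : Odd (Nat.card p.ker)) {K₁ K₂ : Subgroup X} (e₁ : K₁ ≃* SL2 F)
    (comm : ∀ x ∈ K₁, ∀ y ∈ K₂, x * y = y * x) (vK₁ : p ⟨v, mem_cent⟩ ∈ K₁) (vK₂ : p ⟨v, mem_cent⟩ ∈ K₂)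
    (inf : ∀ x, x ∈ K₁ → x ∈ K₂ → x = 1 ∨ x = p ⟨v, mem_cent⟩)
    (sw : ∀ x ∈ K₁, p ⟨t, mem_cent_of tv⟩ * x * (p ⟨t, mem_cent_of tv⟩)⁻¹ ∈ K₂)
    (sw' : ∀ x ∈ K₂, p ⟨t, mem_cent_of tv⟩ * x * (p ⟨t, mem_cent_of tv⟩)⁻¹ ∈ K₁)
    (solv : ∃ m, derivedSeries X m ≤ K₁ ⊔ K₂)
    -- the centralizer of `t`
    {X' : Type*} [Group X'] {p' : centralizer ({t} : Set G) →* X'} (hp' : Function.Surjective p')
    (hk' : Odd (Nat.card p'.ker)) {K : Subgroup X'} (e : K ≃* Matrix.ProjectiveSpecialLinearGroup (Fin 2) F₂)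
    (solv' : ∃ m, derivedSeries X' m ≤ K)
    (hn : ∀ x ∈ K, p' ⟨v, mem_cent_of tv.symm⟩ * x * (p' ⟨v, mem_cent_of tv.symm⟩)⁻¹ ∈ K)
    {a b : X'} (aK : a ∈ K) (bK : b ∈ K) (ha1 : a ≠ 1) (ha : a * a = 1) (hb1 : b ≠ 1) (hb : b * b = 1)
    (hba : b ≠ a) (hc : b * a = a * b)
    (va : p' ⟨v, mem_cent_of tv.symm⟩ * a = a * p' ⟨v, mem_cent_of tv.symm⟩)
    (vb : p' ⟨v, mem_cent_of tv.symm⟩ * b = b * p' ⟨v, mem_cent_of tv.symm⟩)
    (hin : ¬ ∃ z ∈ K, ∀ y ∈ K, p' ⟨v, mem_cent_of tv.symm⟩ * y * (p' ⟨v, mem_cent_of tv.symm⟩)⁻¹ = z * y * z⁻¹) :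
    Nat.card F₂ = Nat.card F ^ 2 := by
  obtain ⟨m, hm⟩ := solv
  obtain ⟨m', hm'⟩ := solv'
  have vv' : (⟨v, mem_cent⟩ : centralizer ({v} : Set G)) * ⟨v, mem_cent⟩ = 1 := Subtype.ext hvv
  have tt' : (⟨t, mem_cent_of tv⟩ : centralizer ({v} : Set G)) * ⟨t, mem_cent_of tv⟩ = 1 := Subtype.ext htt
  have vv'' : (⟨v, mem_cent_of tv.symm⟩ : centralizer ({t} : Set G)) * ⟨v, mem_cent_of tv.symm⟩ = 1 := Subtype.ext hvv
  obtain ⟨φ, hφ, hφm, hφc⟩ := swap_side (v := p ⟨v, mem_cent⟩) (t := p ⟨t, mem_cent_of tv⟩) e₁ comm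
    (ne_one_of_odd_ker hk (fun h => hv1 (congrArg Subtype.val h)) vv')
    (by rw [← map_mul, vv', map_one]) vK₁ vK₂ inf (by rw [← map_mul, tt', map_one])
    (by rw [← map_mul, ← map_mul]; congr 1; exact Subtype.ext tv) sw sw'
  obtain ⟨E, φ', hcard, hφ', hφm', hφc'⟩ := field_side (v := p' ⟨v, mem_cent_of tv.symm⟩) h2' e
    (by rw [← map_mul, vv'', map_one]) hn aK bK ha1 ha hb1 hb hba hc va vb hin
  have h2E : (2 : E) ≠ 0 := by
    intro h
    apply h2'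
    have := congrArg E.subtype h
    rwa [map_ofNat, map_zero] at this
  have hY : centralizer ({v} : Set G) ⊓ centralizer {t} ≤ centralizer {v} := inf_le_left
  have hY' : centralizer ({v} : Set G) ⊓ centralizer {t} ≤ centralizer {t} := inf_le_right
  have h1 : Nat.card F = Nat.card E := by
    refine card_eq (p := p.comp (inclusion hY)) (p' := p'.comp (inclusion hY')) h2 h2E
      (odd_ker_inclusion hY hk) (odd_ker_inclusion hY' hk') φ hφ (m := m) ?_ ?_ hφc φ' hφ' (m' := m') ?_ ?_ hφc'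
    · rintro _ ⟨x, rfl⟩
      obtain ⟨c, hc1, hc2⟩ := exists_comm_lift hp hk tt' (hφm x).2.symm
      exact ⟨⟨c, c.2, mem_centralizer_singleton_iff.2 (congrArg Subtype.val hc1)⟩, hc2⟩
    · rintro _ ⟨y, hy, rfl⟩
      refine ⟨hm (map_derivedSeries_le_derivedSeries (p.comp (inclusion hY)) m (mem_map_of_mem _ hy)), ?_⟩
      refine mem_centralizer_singleton_iff.2 ?_
      change p (inclusion hY y) * p ⟨t, mem_cent_of tv⟩ = p ⟨t, mem_cent_of tv⟩ * p (inclusion hY y)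
      rw [← map_mul, ← map_mul]
      congr 1
      exact Subtype.ext (mem_centralizer_singleton_iff.1 y.2.2)
    · rintro _ ⟨x, rfl⟩
      obtain ⟨c, hc1, hc2⟩ := exists_comm_lift hp' hk' vv'' (hφm' x).2.symm
      exact ⟨⟨c, mem_centralizer_singleton_iff.2 (congrArg Subtype.val hc1), c.2⟩, hc2⟩
    · rintro _ ⟨y, hy, rfl⟩
      refine ⟨hm' (map_derivedSeries_le_derivedSeries (p'.comp (inclusion hY')) m' (mem_map_of_mem _ hy)), ?_⟩
      refine mem_centralizer_singleton_iff.2 ?_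
      change p' (inclusion hY' y) * p' ⟨v, mem_cent_of tv.symm⟩ = p' ⟨v, mem_cent_of tv.symm⟩ * p' (inclusion hY' y)
      rw [← map_mul, ← map_mul]
      congr 1
      exact Subtype.ext (mem_centralizer_singleton_iff.1 y.2.1)
  rw [hcard, h1]

end main

end Cfsg.Agent.LFourA.KlO
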