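import Mathlib
import Cfsg.Agent.LFourA.KlOSide
import Cfsg.Agent.LFourA.CzCt
import Cfsg.Agent.Lib.AutSL2Out
import Cfsg.Agent.Lib.Cores

/-!
# The outer part is solvable

`CZL`: the second term of the derived series of `X` lies in `K₁ K₂`; `CTL`: some term of the derived series of `X` lies
in `K`. The kernels of the homomorphisms have odd order.
-/

set_option autoImplicit false

namespace Cfsg.Agent.LFourA.KlOSolv

open Subgroup Cfsg.Agent.LFourA.CzCt Cfsg.Agent.Lib.SL2Mat Cfsg.Agent.Lib.AutSL2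

open scoped commutatorElement

local notation "SL2" => Matrix.SpecialLinearGroup (Fin 2)

section inner

variable {F : Type*} [Field F] [Finite F] {L : Type*} [Group L]

/-- commutators of automorphisms of a central quotient of `SL(2,F)` are inner -/
theorem commutator_inner {π : SL2 F →* L} (hπ : Function.Surjective π)
    (hcen : π.ker ≤ Subgroup.center (SL2 F)) (α β : MulAut L) :
    ∃ s : L, ∀ y, (α * β * α⁻¹ * β⁻¹) y = s * y * s⁻¹ := by
  obtain ⟨g, σ, hα⟩ := exists_gl_ringEquiv π hπ hcen α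
  obtain ⟨h, τ, hβ⟩ := exists_gl_ringEquiv π hπ hcen β
  set a : MulAut (SL2 F) := conjGL g * fieldAut σ with ha
  set b : MulAut (SL2 F) := conjGL h * fieldAut τ with hb
  have ha' : ∀ x, α (π x) = π (a x) := hα
  have hb' : ∀ x, β (π x) = π (b x) := hβ
  have hai : ∀ x, α⁻¹ (π x) = π (a⁻¹ x) := by
    intro x
    apply α.injective
    rw [ha', MulAut.apply_inv_self, MulAut.apply_inv_self]
  have hbi : ∀ x, β⁻¹ (π x) = π (b⁻¹ x) := by
    intro x
    apply β.injective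
    rw [hb', MulAut.apply_inv_self, MulAut.apply_inv_self]
  obtain ⟨s, hs⟩ := Cfsg.Agent.Lib.AutSL2Out.commutator_inner a b
  refine ⟨π s, fun y => ?_⟩
  obtain ⟨x, rfl⟩ := hπ y
  rw [MulAut.mul_apply, MulAut.mul_apply, MulAut.mul_apply, hbi, hai, hb', ha', ← map_inv, ← map_mul, ← map_mul,
    ← hs]
  rfl

/-- commutators of elements normalising `K` act on `K` as elements of `K` -/
theorem exists_inner {X : Type*} [Group X] {K : Subgroup X} {π : SL2 F →* K} (hπ : Function.Surjective π)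
    (hcen : π.ker ≤ Subgroup.center (SL2 F)) {g h : X} (hg : g ∈ normalizer (K : Set X))
    (hh : h ∈ normalizer (K : Set X)) : ∃ s ∈ K, ∀ y ∈ K, ⁅g, h⁆ * y * ⁅g, h⁆⁻¹ = s * y * s⁻¹ := by
  obtain ⟨s, hs⟩ := commutator_inner hπ hcen (K.normalizerMonoidHom ⟨g, hg⟩) (K.normalizerMonoidHom ⟨h, hh⟩)
  refine ⟨s, s.2, fun y hy => ?_⟩
  have h1 := congrArg Subtype.val (hs ⟨y, hy⟩)
  rw [← map_inv, ← map_inv, ← map_mul, ← map_mul, ← map_mul] at h1
  exact h1

end inner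

section odd

variable {G X : Type*} [Group G] [Finite G] [Group X]

theorem odd_ker {z : G} {p : ↥(centralizer ({z} : Set G)) →* X}
    (h : ∀ x, p x = 1 ↔ (x : G) ∈ Cfsg.centralizerPPrimeCore 2 z) : Odd (Nat.card p.ker) := by
  have h1 : p.ker = Cfsg.pPrimeCore 2 ↥(centralizer ({z} : Set G)) := by
    ext x
    rw [MonoidHom.mem_ker, h]
    unfold Cfsg.centralizerPPrimeCore
    rw [mem_map]
    constructor
    · rintro ⟨y, hy, e⟩
      rwa [← Subtype.ext e]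
    · intro hx
      exact ⟨x, hx, rfl⟩
  have h3 : (Nat.card (Cfsg.pPrimeCore 2 ↥(centralizer ({z} : Set G)))).Coprime 2 :=
    Cfsg.Agent.Lib.Cores.pPrimeCore_coprime 2
  rw [h1]
  exact Nat.coprime_two_right.1 h3

end odd

section cz

variable {G X : Type*} [Group G] [Group X] {z : G} {p : ↥(centralizer ({z} : Set G)) →* X} {K₁ K₂ : Subgroup X}

/-- `g` normalises both -/
def Nrm (K₁ K₂ : Subgroup X) (g : X) : Prop := (∀ x ∈ K₁, g * x * g⁻¹ ∈ K₁) ∧ ∀ x ∈ K₂, g * x * g⁻¹ ∈ K₂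

/-- `g` swaps -/
def Swp (K₁ K₂ : Subgroup X) (g : X) : Prop := (∀ x ∈ K₁, g * x * g⁻¹ ∈ K₂) ∧ ∀ x ∈ K₂, g * x * g⁻¹ ∈ K₁

theorem conj_mul (g h x : X) : g * h * x * (g * h)⁻¹ = g * (h * x * h⁻¹) * g⁻¹ := by group

theorem Nrm.mul {g h : X} (hg : Nrm K₁ K₂ g) (hh : Nrm K₁ K₂ h) : Nrm K₁ K₂ (g * h) :=
  ⟨fun x hx => by rw [conj_mul]; exact hg.1 _ (hh.1 x hx), fun x hx => by rw [conj_mul]; exact hg.2 _ (hh.2 x hx)⟩

theorem Swp.mul {g h : X} (hg : Swp K₁ K₂ g) (hh : Swp K₁ K₂ h) : Nrm K₁ K₂ (g * h) :=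
  ⟨fun x hx => by rw [conj_mul]; exact hg.2 _ (hh.1 x hx), fun x hx => by rw [conj_mul]; exact hg.1 _ (hh.2 x hx)⟩

theorem Nrm.mul_swp {g h : X} (hg : Nrm K₁ K₂ g) (hh : Swp K₁ K₂ h) : Swp K₁ K₂ (g * h) :=
  ⟨fun x hx => by rw [conj_mul]; exact hg.2 _ (hh.1 x hx), fun x hx => by rw [conj_mul]; exact hg.1 _ (hh.2 x hx)⟩

theorem Swp.mul_nrm {g h : X} (hg : Swp K₁ K₂ g) (hh : Nrm K₁ K₂ h) : Swp K₁ K₂ (g * h) :=
  ⟨fun x hx => by rw [conj_mul]; exact hg.1 _ (hh.1 x hx), fun x hx => by rw [conj_mul]; exact hg.2 _ (hh.2 x hx)⟩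

/-- An element `x₁ ∈ K₁` different from `1` and `z`. -/
theorem excl (Z : CZ z p K₁ K₂) {x₁ : X} (h1 : x₁ ∈ K₁) (hx1 : x₁ ≠ 1) (hxz : x₁ ≠ p (self z)) {g : X} :
    ¬ (Nrm K₁ K₂ g ∧ Swp K₁ K₂ g) := by
  rintro ⟨hn, hs⟩
  rcases Z.inf _ (hn.1 x₁ h1) (hs.1 x₁ h1) with h | h
  · exact hx1 (conj_eq_one_iff.1 h)
  · -- `g x₁ g⁻¹ = z`, `z` is central
    have hz : g * p (self z) * g⁻¹ = p (self z) := by
      obtain ⟨c, rfl⟩ := Z.surj g
      rw [← map_inv, ← map_mul, ← map_mul]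
      congr 1
      apply Subtype.ext
      change (c : G) * z * (c : G)⁻¹ = z
      exact mul_inv_eq_of_eq_mul (mem_centralizer_singleton_iff.1 c.2)
    rw [← hz] at h
    exact hxz (mul_left_cancel (mul_right_cancel h))

variable {F : Type*} [Field F]

/-- an element of `K₁` different from `1` and `z` -/
theorem exists_elt (h2 : (2 : F) ≠ 0) (Z : CZL z F p K₁ K₂) : ∃ x ∈ K₁, x ≠ 1 ∧ x ≠ p (self z) := by
  obtain ⟨e⟩ := Z.e₁
  have hup : ∀ x : SL2 F, (x = 1 ∨ x = -1) → ∀ b : F, b ≠ 0 → x ≠ up b := by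
    intro x hx b hb h
    apply hb
    have h1 := congrArg (fun y => ent y 0 1) h
    rcases hx with rfl | rfl
    · exact h1.symm
    · change -(ent (1 : SL2 F) 0 1) = b at h1
      rw [ent_one_01, neg_zero] at h1
      exact h1.symm
  have hz : e ⟨p (self z), Z.z₁⟩ = 1 ∨ e ⟨p (self z), Z.z₁⟩ = -1 := by
    apply Cfsg.Agent.ClassicalGeometry.PSL2Basic.mem_center_SL2_iff.1
    rw [Subgroup.mem_center_iff]
    intro y
    obtain ⟨⟨x, hx⟩, rfl⟩ := e.surjective y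
    rw [← map_mul, ← map_mul]
    congr 1
    exact Subtype.ext (Z.comm x hx _ Z.z₂)
  refine ⟨e.symm (up 1), (e.symm (up 1)).2, ?_, ?_⟩
  · intro h
    have : e.symm (up 1) = 1 := Subtype.ext h
    rw [e.symm.map_eq_one_iff] at this
    exact hup 1 (Or.inl rfl) 1 one_ne_zero this.symm
  · intro h
    have h3 : e.symm (up 1) = ⟨p (self z), Z.z₁⟩ := Subtype.ext h
    have h4 : e ⟨p (self z), Z.z₁⟩ = up 1 := by rw [← h3, e.apply_symm_apply]
    exact hup _ hz 1 one_ne_zero h4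

/-- commutators normalise both -/
theorem nrm_commutator (h2 : (2 : F) ≠ 0) (Z : CZL z F p K₁ K₂) (g h : X) : Nrm K₁ K₂ ⁅g, h⁆ := by
  obtain ⟨x, hx, hx1, hxz⟩ := exists_elt h2 Z
  have hex : ∀ g, ¬ (Nrm K₁ K₂ g ∧ Swp K₁ K₂ g) := fun g => excl Z.toCZ hx hx1 hxz
  have h1 : Nrm K₁ K₂ (1 : X) := ⟨fun x hx => by simpa using hx, fun x hx => by simpa using hx⟩
  have inv_n : ∀ g, Nrm K₁ K₂ g → Nrm K₁ K₂ g⁻¹ := by
    intro g hg
    rcases Z.norm g⁻¹ with h | h
    · exact h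
    · exfalso
      have := hg.mul_swp h
      rw [mul_inv_cancel] at this
      exact hex 1 ⟨h1, this⟩
  have inv_s : ∀ g, Swp K₁ K₂ g → Swp K₁ K₂ g⁻¹ := by
    intro g hg
    rcases Z.norm g⁻¹ with h | h
    · exfalso
      have := hg.mul_nrm h
      rw [mul_inv_cancel] at this
      exact hex 1 ⟨h1, this⟩
    · exact h
  rw [commutatorElement_def]
  rcases Z.norm g with hg | hg <;> rcases Z.norm h with hh | hh
  · exact ((Nrm.mul hg hh).mul (inv_n g hg)).mul (inv_n h hh)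
  · exact ((Nrm.mul_swp hg hh).mul_nrm (inv_n g hg)).mul (inv_s h hh)
  · exact ((Swp.mul_nrm hg hh).mul (inv_s g hg)).mul (inv_n h hh)
  · exact (Nrm.mul_swp (Swp.mul hg hh) (inv_s g hg)).mul (inv_s h hh)

theorem mem_normalizer_of {K : Subgroup X} {g : X} (h : ∀ x ∈ K, g * x * g⁻¹ ∈ K) (h' : ∀ x ∈ K, g⁻¹ * x * g ∈ K) :
    g ∈ normalizer (K : Set X) := by
  rw [mem_normalizer_iff]
  intro x
  refine ⟨h x, fun hx => ?_⟩
  have := h' _ hx
  have e : g⁻¹ * (g * x * g⁻¹) * g = x := by group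
  rwa [e] at this

theorem derived_le [Finite F] (h2 : (2 : F) ≠ 0) (Z : CZL z F p K₁ K₂) : derivedSeries X 2 ≤ K₁ ⊔ K₂ := by
  obtain ⟨x, hx, hx1, hxz⟩ := exists_elt h2 Z
  obtain ⟨e₁⟩ := Z.e₁
  obtain ⟨e₂⟩ := Z.e₂
  -- the subgroup of the elements that normalise both
  let N : Subgroup X := normalizer (K₁ : Set X) ⊓ normalizer (K₂ : Set X)
  have hN : derivedSeries X 1 ≤ N := by
    rw [derivedSeries_one, commutator_def, commutator_le]
    intro g _ h _
    have h1 := nrm_commutator h2 Z g h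
    have h3 := nrm_commutator h2 Z h g
    have h4 : ⁅h, g⁆ = ⁅g, h⁆⁻¹ := (commutatorElement_inv g h).symm
    rw [h4] at h3
    refine ⟨mem_normalizer_of h1.1 fun x hx => ?_, mem_normalizer_of h1.2 fun x hx => ?_⟩
    · have := h3.1 x hx
      rwa [inv_inv] at this
    · have := h3.2 x hx
      rwa [inv_inv] at this
  have h3 : derivedSeries X 2 = ⁅derivedSeries X 1, derivedSeries X 1⁆ := rfl
  rw [h3, commutator_le]
  intro g hg h hh
  have cen : ∀ (K : Subgroup X) (e : K ≃* SL2 F), (e.symm.toMonoidHom : SL2 F →* K).ker ≤ Subgroup.center (SL2 F) := by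
    intro K e x hx
    rw [MonoidHom.mem_ker] at hx
    have : x = 1 := e.symm.map_eq_one_iff.1 hx
    rw [this]; exact one_mem _
  obtain ⟨s₁, hs₁, h₁⟩ := exists_inner (π := e₁.symm.toMonoidHom) e₁.symm.surjective (cen K₁ e₁) (hN hg).1 (hN hh).1
  obtain ⟨s₂, hs₂, h₂⟩ := exists_inner (π := e₂.symm.toMonoidHom) e₂.symm.surjective (cen K₂ e₂) (hN hg).2 (hN hh).2
  set c := ⁅g, h⁆ with hc
  have hcent := Z.cent ((s₁ * s₂)⁻¹ * c) ?_ ?_
  · have e : c = (s₁ * s₂) * ((s₁ * s₂)⁻¹ * c) := by group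
    rw [e]
    refine mul_mem (mul_mem (mem_sup_left hs₁) (mem_sup_right hs₂)) ?_
    rcases hcent with h | h <;> rw [h]
    · exact one_mem _
    · exact mem_sup_left Z.z₁
  · intro x hx
    have e1 : c * x = s₁ * x * s₁⁻¹ * c := by
      rw [← h₁ x hx]; group
    have e2 : s₂⁻¹ * x = x * s₂⁻¹ := (Z.comm x hx _ (inv_mem hs₂)).symm
    rw [mul_assoc, e1]
    calc (s₁ * s₂)⁻¹ * (s₁ * x * s₁⁻¹ * c) = (s₂⁻¹ * x) * s₁⁻¹ * c := by group
      _ = x * ((s₁ * s₂)⁻¹ * c) := by rw [e2]; group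
  · intro x hx
    have e1 : c * x = s₂ * x * s₂⁻¹ * c := by
      rw [← h₂ x hx]; group
    have e2 : s₁⁻¹ * x = x * s₁⁻¹ := Z.comm _ (inv_mem hs₁) x hx
    have e3 : (s₁ * s₂)⁻¹ = (s₂ * s₁)⁻¹ := by rw [Z.comm s₁ hs₁ s₂ hs₂]
    rw [e3, mul_assoc, e1]
    calc (s₂ * s₁)⁻¹ * (s₂ * x * s₂⁻¹ * c) = (s₁⁻¹ * x) * s₂⁻¹ * c := by group
      _ = x * ((s₂ * s₁)⁻¹ * c) := by rw [e2]; group

end cz

section ct

variable {G X : Type*} [Group G] [Finite G] [Group X] {t : G} {p : ↥(centralizer ({t} : Set G)) →* X} {K : Subgroup X}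
  {F : Type*} [Field F] [Finite F]

theorem exists_derived_le (h2 : (2 : F) ≠ 0) (T : CTL t F p K) : ∃ m, derivedSeries X m ≤ K := by
  obtain ⟨e⟩ := T.e
  have hK := T.normal
  have hfin : Finite X := Finite.of_surjective p T.surj
  obtain ⟨π, hπ, hk⟩ := Cfsg.Agent.Lib.PSL2Torus.exists_hom h2 e
  have hcen : π.ker ≤ Subgroup.center (SL2 F) := by
    intro x hx
    exact Cfsg.Agent.LFourA.KlOAbs.mem_center_neg ((hk x).1 hx)
  -- the centralizer of `K` is a 2-group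
  set C := centralizer (K : Set X) with hC
  have hC2 : IsPGroup 2 C := by
    rw [IsPGroup.iff_orderOf]
    rintro ⟨c, hc⟩
    have hc' : ∀ m, (c ^ m) ∈ C := fun m => pow_mem hc m
    obtain ⟨a, m, hm, hcm⟩ : ∃ a m, Odd m ∧ orderOf c = 2 ^ a * m := by
      obtain ⟨a, m, hm, h⟩ := Nat.exists_eq_two_pow_mul_odd (orderOf_pos c).ne'
      exact ⟨a, m, hm, h⟩
    refine ⟨a, ?_⟩
    rw [← orderOf_coe]
    change orderOf c = 2 ^ a
    have h3 : orderOf (c ^ 2 ^ a) = m := by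
      rw [orderOf_pow, hcm, Nat.gcd_eq_right (Dvd.intro _ rfl), Nat.mul_div_cancel_left _ (by positivity)]
    have h4 : c ^ 2 ^ a = 1 := by
      apply T.cent
      · rw [h3]; exact hm
      · intro x hx
        exact (mem_centralizer_iff.1 (hc' (2 ^ a)) x hx).symm
    rw [h4, orderOf_one] at h3
    rw [hcm, ← h3, mul_one]
  have hCs : Group.IsSolvable C := by
    have : Group.IsNilpotent C := hC2.isNilpotent
    infer_instance
  obtain ⟨j, hj⟩ := hCs.solvable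
  refine ⟨1 + j, ?_⟩
  have base : (derivedSeries X 1).map (QuotientGroup.mk' K) ≤ C.map (QuotientGroup.mk' K) := by
    rw [derivedSeries_one, commutator_def, map_commutator, commutator_le]
    rintro _ ⟨g, -, rfl⟩ _ ⟨h, -, rfl⟩
    obtain ⟨s, hs, h1⟩ := exists_inner hπ hcen (g := g) (h := h)
      (by rw [normalizer_eq_top]; trivial) (by rw [normalizer_eq_top]; trivial)
    refine ⟨s⁻¹ * ⁅g, h⁆, ?_, ?_⟩
    · rw [SetLike.mem_coe, hC, mem_centralizer_iff]
      intro y hy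
      have := h1 y hy
      calc y * (s⁻¹ * ⁅g, h⁆) = s⁻¹ * (s * y * s⁻¹) * ⁅g, h⁆ := by group
        _ = s⁻¹ * ⁅g, h⁆ * y := by rw [← this]; group
    · rw [map_mul, map_commutatorElement]
      have : QuotientGroup.mk' K s⁻¹ = 1 := (QuotientGroup.eq_one_iff _).2 (inv_mem hs)
      rw [this, one_mul]
  have key : ∀ i, (derivedSeries X (1 + i)).map (QuotientGroup.mk' K) ≤
      ((derivedSeries C i).map C.subtype).map (QuotientGroup.mk' K) := by
    intro i
    induction i with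
    | zero =>
      rw [derivedSeries_zero, ← MonoidHom.range_eq_map, range_subtype]
      exact base
    | succ i ih =>
      rw [derivedSeries_succ, map_commutator, map_commutator, ← add_assoc, derivedSeries_succ, map_commutator]
      exact commutator_mono ih ih
  have h1 := key j
  rw [hj, Subgroup.map_bot, Subgroup.map_bot, le_bot_iff, Subgroup.map_eq_bot_iff, QuotientGroup.ker_mk'] at h1
  exact h1

end ct

end Cfsg.Agent.LFourA.KlOSolv
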