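import Mathlib
import Cfsg.Agent.LFourA.KlO
import Cfsg.Agent.LFourA.KlOSolv
import Cfsg.Agent.LFourA.Facts
import Cfsg.Agent.LFourA.FThree
import Cfsg.Agent.Lib.PSL2Torus

/-!
# Positions of the elements of the Sylow 2-subgroup (type `L`, case I)

* `eq_one_of_mem` : `p : C(z) → X` is injective on the Sylow 2-subgroup;
* `swp_left`, `swp_right` : `f (sr i) e`, `f e (sr i)`, `e ∈ {1, c}`, swap `K₁` and `K₂`;
* `not_cent`, `not_inner` : `f (sr i) e`, `e ∈ {1, c}`, induces on `K` a non-inner automorphism;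
* `types` : an involution `u ∈ S` with `u ~ t`, `u z ~ z` is `f (sr i) 1` or `f 1 (sr i)`;
* `card_sq_caseI` : `|F₂| = |F|²`.
-/

set_option autoImplicit false

namespace Cfsg.Agent.LFourA.KlPos

open Subgroup DihedralGroup Cfsg.Agent.LFourA.Model Cfsg.Agent.LFourA.Base Cfsg.Agent.LFourA.Defs
  Cfsg.Agent.LFourA.CzCt Cfsg.Agent.LFourA.Facts Cfsg.Agent.LFourA.KlOSolv Cfsg.Agent.LFourA.KlO

local notation "SL2" => Matrix.SpecialLinearGroup (Fin 2)

variable {G X : Type*} [Group G] [Finite G] [Group X] {P : Sylow 2 G} {k : ℕ} {f : D k → D k → G} {w : G}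

section inj

variable {z : G} {p : ↥(centralizer ({z} : Set G)) →* X}

theorem eq_one_of_mem (hker : ∀ x, p x = 1 ↔ (x : G) ∈ Cfsg.centralizerPPrimeCore 2 z) {x : G}
    (hx : x ∈ centralizer ({z} : Set G)) (hP : x ∈ P) (h : p ⟨x, hx⟩ = 1) : x = 1 := by
  have hodd := odd_ker hker
  obtain ⟨n, hn⟩ := IsPGroup.iff_orderOf.1 P.isPGroup' ⟨x, hP⟩
  rw [← orderOf_coe] at hn
  change orderOf x = 2 ^ n at hn
  have h1 : orderOf x ∣ Nat.card p.ker := by
    have := orderOf_dvd_natCard (⟨⟨x, hx⟩, h⟩ : p.ker)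
    rwa [← orderOf_coe, ← orderOf_coe] at this
  rw [hn] at h1
  have h3 : Nat.Coprime (2 ^ n) (Nat.card p.ker) := Nat.Coprime.pow_left _ (Nat.coprime_two_left.2 hodd)
  have h4 : 2 ^ n = 1 := Nat.eq_one_of_dvd_coprimes h3 dvd_rfl h1
  rw [h4] at hn
  exact orderOf_eq_one_iff.1 hn

theorem inj_of_mem (hker : ∀ x, p x = 1 ↔ (x : G) ∈ Cfsg.centralizerPPrimeCore 2 z) {x y : G}
    (hx : x ∈ centralizer ({z} : Set G)) (hy : y ∈ centralizer ({z} : Set G)) (hxP : x ∈ P) (hyP : y ∈ P)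
    (h : p ⟨x, hx⟩ = p ⟨y, hy⟩) : x = y := by
  have h1 : p ⟨x⁻¹ * y, mul_mem (inv_mem hx) hy⟩ = 1 := by
    have : (⟨x⁻¹ * y, mul_mem (inv_mem hx) hy⟩ : ↥(centralizer ({z} : Set G))) = ⟨x, hx⟩⁻¹ * ⟨y, hy⟩ := rfl
    rw [this, map_mul, map_inv, h, inv_mul_cancel]
  exact inv_mul_eq_one.1 (eq_one_of_mem (P := P) hker _ (mul_mem (inv_mem hxP) hyP) h1)

end inj

section zside

variable (h : DWr (P : Subgroup G) k f w) {p : ↥(centralizer ({f (c k) (c k)} : Set G)) →* X} {K₁ K₂ : Subgroup X}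

include h

omit [Finite G] in
theorem mem_cz {x : G} (hx : x ∈ P) : x ∈ centralizer ({f (c k) (c k)} : Set G) :=
  mem_centralizer_singleton_iff.2 (z_comm h hx).symm

/-- an element carrying `x₀ × x₀⁻¹` to `K₂` swaps -/
theorem swp_of (Z : CZ (f (c k) (c k)) p K₁ K₂) (zp : ZPos f w p K₁ K₂) {s : G} (hs : s ∈ P)
    {y : G} (hy : s * f (x0 k) (x0 k)⁻¹ * s⁻¹ = y) (hyK : y ∈ up p K₂) :
    Swp K₁ K₂ (p ⟨s, mem_cz h hs⟩) := by
  have hx := zp.q₁x ((2 ^ k : ℕ) : ZMod (4 * 2 ^ k))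
  have e1 : f (r ((2 ^ k : ℕ) : ZMod (4 * 2 ^ k))) (r (-((2 ^ k : ℕ) : ZMod (4 * 2 ^ k)))) = f (x0 k) (x0 k)⁻¹ := by
    rw [x0, inv_r]
  rw [e1, mem_up] at hx
  obtain ⟨hx1, hx2⟩ := hx
  obtain ⟨hy1, hy2⟩ := mem_up.1 hyK
  rcases Z.norm (p ⟨s, mem_cz h hs⟩) with hn | hn
  · exfalso
    have h3 := hn.1 _ hx2
    have h4 : p ⟨s, mem_cz h hs⟩ * p ⟨f (x0 k) (x0 k)⁻¹, hx1⟩ * (p ⟨s, mem_cz h hs⟩)⁻¹ = p ⟨y, hy1⟩ := by
      rw [← map_inv, ← map_mul, ← map_mul]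
      congr 1
      exact Subtype.ext hy
    rw [h4] at h3
    have hyP : y ∈ P := by
      rw [← hy]
      exact mul_mem (mul_mem hs (f_mem h _ _)) (inv_mem hs)
    have hsq : y * y = f (c k) (c k) := by
      have e2 : f (x0 k) (x0 k)⁻¹ * f (x0 k) (x0 k)⁻¹ = f (c k) (c k) := by
        rw [h.f_mul, x0_mul_x0, ← mul_inv_rev, x0_mul_x0, c_inv]
      calc y * y = s * (f (x0 k) (x0 k)⁻¹ * f (x0 k) (x0 k)⁻¹) * s⁻¹ := by rw [← hy]; group
        _ = s * f (c k) (c k) * s⁻¹ := by rw [e2]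
        _ = _ := by rw [← z_comm h hs, mul_inv_cancel_right]
    rcases Z.inf _ h3 hy2 with h5 | h5
    · have := eq_one_of_mem (P := P) Z.ker hy1 hyP h5
      rw [this, one_mul] at hsq
      exact z_ne_one h hsq.symm
    · have := inj_of_mem (P := P) Z.ker hy1 _ hyP (f_mem h _ _) h5
      rw [this, h.f_mul, c_mul_c, f_one h] at hsq
      exact z_ne_one h hsq.symm
  · exact hn

/-- `f (sr i) e` swaps `K₁` and `K₂`. -/
theorem swp_left (Z : CZ (f (c k) (c k)) p K₁ K₂) (zp : ZPos f w p K₁ K₂) (i : ZMod (4 * 2 ^ k)) {e : D k}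
    (he : e = 1 ∨ e = c k) : Swp K₁ K₂ (p ⟨f (sr i) e, mem_cz h (f_mem h _ _)⟩) := by
  have hec : ∀ g : D k, e * g * e⁻¹ = g := by
    intro g
    rcases he with rfl | rfl
    · simp
    · rw [c_comm, mul_inv_cancel_right]
  refine swp_of h Z zp (f_mem h _ _) (y := f (x0 k)⁻¹ (x0 k)⁻¹) ?_ ?_
  · rw [f_conj h, hec]
    congr 1
    have := sr_r_sr i ((2 ^ k : ℕ) : ZMod (4 * 2 ^ k))
    exact this
  · have := zp.q₂x (-((2 ^ k : ℕ) : ZMod (4 * 2 ^ k)))
    rw [x0, inv_r]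
    exact this

/-- `f e (sr i)` swaps `K₁` and `K₂`. -/
theorem swp_right (Z : CZ (f (c k) (c k)) p K₁ K₂) (zp : ZPos f w p K₁ K₂) (i : ZMod (4 * 2 ^ k)) {e : D k}
    (he : e = 1 ∨ e = c k) : Swp K₁ K₂ (p ⟨f e (sr i), mem_cz h (f_mem h _ _)⟩) := by
  have hec : ∀ g : D k, e * g * e⁻¹ = g := by
    intro g
    rcases he with rfl | rfl
    · simp
    · rw [c_comm, mul_inv_cancel_right]
  refine swp_of h Z zp (f_mem h _ _) (y := f (x0 k) (x0 k)) ?_ ?_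
  · rw [f_conj h, hec]
    congr 1
    have h1 : (sr i : D k) * (x0 k)⁻¹ * (sr i)⁻¹ = (sr i * x0 k * (sr i)⁻¹)⁻¹ := by group
    have := sr_r_sr i ((2 ^ k : ℕ) : ZMod (4 * 2 ^ k))
    rw [h1]
    change (sr i * r ((2 ^ k : ℕ) : ZMod (4 * 2 ^ k)) * (sr i)⁻¹)⁻¹ = _
    rw [this, inv_inv]; rfl
  · exact zp.q₂x ((2 ^ k : ℕ) : ZMod (4 * 2 ^ k))

end zside

section tside

variable (h : DWr (P : Subgroup G) k f w) {p : ↥(centralizer ({f (c k) 1} : Set G)) →* X} {K : Subgroup X}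

include h

omit [Finite G] in
theorem mem_ct (a b : D k) : f a b ∈ centralizer ({f (c k) 1} : Set G) := by
  rw [mem_centralizer_singleton_iff, f_comm_iff h]
  exact ⟨(c_comm a).symm, by rw [mul_one, one_mul]⟩

omit [Finite G] in
theorem mem_of_up {b : D k} (tp : TPos f p K) : p ⟨f 1 b, mem_ct h 1 b⟩ ∈ K := by
  obtain ⟨_, h1⟩ := mem_up.1 (tp.d₂ b)
  exact h1

omit [Finite G] in
/-- The 3-element `ρ₂` of `C(t)`. -/
theorem rho_two {j : ZMod (4 * 2 ^ k)} {ρ : G} {η : D k →* D k} (hρ : Rho f j ρ η) :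
    (w * ρ * w⁻¹) * f (c k) 1 = f (c k) 1 * (w * ρ * w⁻¹) ∧
    (w * ρ * w⁻¹) * f 1 (c k) * (w * ρ * w⁻¹)⁻¹ = f 1 (sr j) ∧
    ∀ b, (w * ρ * w⁻¹) * f b (η b) = f b (η b) * (w * ρ * w⁻¹) := by
  have key : ∀ a b, (w * ρ * w⁻¹) * f a b * (w * ρ * w⁻¹)⁻¹ = w * (ρ * f b a * ρ⁻¹) * w⁻¹ := by
    intro a b
    rw [← w_conj' h a b]; group
  refine ⟨?_, ?_, ?_⟩
  · rw [← mul_inv_eq_iff_eq_mul, key, hρ.comm, mul_inv_cancel_right, w_conj h]
  · rw [key, hρ.t_s, w_conj h]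
  · intro b
    rw [← mul_inv_eq_iff_eq_mul, key, hρ.fix, mul_inv_cancel_right, w_conj h]

theorem p_comm_iff (T : CT (f (c k) 1) p K) {a b a' b' : D k} :
    p ⟨f a b, mem_ct h a b⟩ * p ⟨f a' b', mem_ct h a' b'⟩ = p ⟨f a' b', mem_ct h a' b'⟩ * p ⟨f a b, mem_ct h a b⟩ ↔
      f a b * f a' b' = f a' b' * f a b := by
  rw [← map_mul, ← map_mul]
  constructor
  · intro e
    exact inj_of_mem (P := P) T.ker _ _ (mul_mem (f_mem h _ _) (f_mem h _ _)) (mul_mem (f_mem h _ _) (f_mem h _ _)) e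
  · intro e
    congr 1
    exact Subtype.ext e

/-- `f (sr i) e` does not centralise `K`. -/
theorem not_cent (hI : CaseI f w) (T : CT (f (c k) 1) p K) (tp : TPos f p K) (i : ZMod (4 * 2 ^ k)) {e : D k}
    (he : e = 1 ∨ e = c k) :
    ¬ ∀ y ∈ K, p ⟨f (sr i) e, mem_ct h _ _⟩ * y = y * p ⟨f (sr i) e, mem_ct h _ _⟩ := by
  intro hcen
  -- choose `j` with `η_j (sr i) ≠ e`
  obtain ⟨j, hj⟩ : ∃ j : ZMod (4 * 2 ^ k), chi (1 + pa j) (pa j) (sr i : D k) = e * c k := by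
    have h0 : ∀ j : ZMod (4 * 2 ^ k), chi (1 + pa j) (pa j) (sr i : D k) = cc k (1 + pa j + pa i) := by
      intro j
      rw [chi_sr]
      congr 1
      have : ∀ u v : ZMod 2, 1 + u + (1 + u + u) * v = 1 + u + v := by decide
      exact this _ _
    have hpa : ∀ u : ZMod 2, ∃ j : ZMod (4 * 2 ^ k), pa j = u := by
      intro u
      rcases zmod2_cases u with rfl | rfl
      · exact ⟨0, map_zero _⟩
      · exact ⟨1, map_one _⟩
    rcases he with rfl | rfl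
    · obtain ⟨j, hj⟩ := hpa (pa i)
      refine ⟨j, ?_⟩
      rw [h0, hj, one_mul]
      have : ∀ u : ZMod 2, 1 + u + u = 1 := by decide
      rw [this, cc_one]
    · obtain ⟨j, hj⟩ := hpa (1 + pa i)
      refine ⟨j, ?_⟩
      rw [h0, hj, c_mul_c]
      have : ∀ u : ZMod 2, 1 + (1 + u) + u = 0 := by decide
      rw [this, cc_zero]
  obtain ⟨ρ, hρ⟩ := hI.rho j
  obtain ⟨h1, h3, h4⟩ := rho_two h hρ
  set R := w * ρ * w⁻¹ with hR
  have h5 := h4 (sr i)
  rw [hj] at h5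
  have hRt : R ∈ centralizer ({f (c k) 1} : Set G) := mem_centralizer_singleton_iff.2 h1
  -- `R v R⁻¹ = v * f 1 (c * sr j)`
  have h6 : R * f (sr i) e * R⁻¹ = f (sr i) e * f 1 (c k * sr j) := by
    have e1 : f (sr i) e = f (sr i) (e * c k) * f 1 (c k) := by
      rw [h.f_mul, mul_one, mul_assoc, c_mul_c, mul_one]
    calc R * f (sr i) e * R⁻¹ = (R * f (sr i) (e * c k)) * f 1 (c k) * R⁻¹ := by rw [e1]; group
      _ = f (sr i) (e * c k) * (R * f 1 (c k) * R⁻¹) := by rw [h5]; group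
      _ = f (sr i) e * f 1 (c k * sr j) := by
        rw [h3, h.f_mul, h.f_mul, mul_one, mul_assoc]
  -- `p (f 1 (c * sr j))` centralises `K`
  have h7 : ∀ y ∈ K, p ⟨f 1 (c k * sr j), mem_ct h _ _⟩ * y = y * p ⟨f 1 (c k * sr j), mem_ct h _ _⟩ := by
    intro y hy
    set v := p ⟨f (sr i) e, mem_ct h _ _⟩ with hv
    set q := p ⟨R, hRt⟩ with hq
    have h8 : q * v * q⁻¹ = v * p ⟨f 1 (c k * sr j), mem_ct h _ _⟩ := by
      rw [hv, hq, ← map_inv, ← map_mul, ← map_mul, ← map_mul]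
      congr 1
      exact Subtype.ext h6
    have h9 : q⁻¹ * y * q ∈ K := by
      have := T.normal.conj_mem y hy q⁻¹
      rwa [inv_inv] at this
    have h10 : (q * v * q⁻¹) * y = y * (q * v * q⁻¹) := by
      have e1 := hcen _ h9
      calc (q * v * q⁻¹) * y = q * (v * (q⁻¹ * y * q)) * q⁻¹ := by group
        _ = q * ((q⁻¹ * y * q) * v) * q⁻¹ := by rw [e1]
        _ = _ := by group
    rw [h8] at h10
    have e2 := hcen y hy
    have e3 : v * (p ⟨f 1 (c k * sr j), mem_ct h _ _⟩ * y) = v * (y * p ⟨f 1 (c k * sr j), mem_ct h _ _⟩) := by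
      rw [← mul_assoc, h10, ← mul_assoc, ← mul_assoc, e2]
    exact mul_left_cancel e3
  have h8 := h7 _ (mem_of_up h (b := x0 k) tp)
  rw [p_comm_iff h T, f_comm_iff h] at h8
  have h9 := h8.2
  -- `sr j` commutes with `x0`
  apply FOne.x0_ne_comm_sr (k := k) j
  have h10 : c k * (sr j * x0 k) = c k * (x0 k * sr j) := by
    rw [← mul_assoc, h9, ← mul_assoc, ← mul_assoc, c_comm (x0 k)]
  exact (mul_left_cancel h10).symm

variable {F : Type*} [Field F] [Finite F]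

/-- `f (sr i) e` induces a non-inner automorphism of `K`. -/
theorem not_inner (h2 : (2 : F) ≠ 0) (hI : CaseI f w) (T : CTL (f (c k) 1) F p K) (tp : TPos f p K)
    (i : ZMod (4 * 2 ^ k)) {e : D k} (he : e = 1 ∨ e = c k) :
    ¬ ∃ s ∈ K, ∀ y ∈ K, p ⟨f (sr i) e, mem_ct h _ _⟩ * y * (p ⟨f (sr i) e, mem_ct h _ _⟩)⁻¹ = s * y * s⁻¹ := by
  rintro ⟨s, hs, hsy⟩
  obtain ⟨ε⟩ := T.e
  have hec : ∀ g : D k, e * g = g * e := by
    intro g
    rcases he with rfl | rfl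
    · rw [one_mul, mul_one]
    · exact c_comm g
  -- `s` commutes with the `p (f 1 b)`
  have hcomm : ∀ b : D k, s * p ⟨f 1 b, mem_ct h 1 b⟩ = p ⟨f 1 b, mem_ct h 1 b⟩ * s := by
    intro b
    have h1 := hsy _ (mem_of_up h (b := b) tp)
    have h3 : p ⟨f (sr i) e, mem_ct h _ _⟩ * p ⟨f 1 b, mem_ct h 1 b⟩ =
        p ⟨f 1 b, mem_ct h 1 b⟩ * p ⟨f (sr i) e, mem_ct h _ _⟩ := by
      rw [p_comm_iff h T.toCT, f_comm_iff h]
      exact ⟨by rw [mul_one, one_mul], hec b⟩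
    rw [h3, mul_inv_cancel_right] at h1
    exact (eq_mul_inv_iff_mul_eq.1 h1).symm
  have hne : ∀ b : D k, b ≠ 1 → (⟨p ⟨f 1 b, mem_ct h 1 b⟩, mem_of_up h (b := b) tp⟩ : K) ≠ 1 := by
    intro b hb h1
    have h3 := eq_one_of_mem (P := P) T.ker (mem_ct h 1 b) (f_mem h _ _) (congrArg Subtype.val h1)
    exact hb ((f_eq_one_iff h).1 h3).2
  have hsq : ∀ b : D k, b * b = 1 → (⟨p ⟨f 1 b, mem_ct h 1 b⟩, mem_of_up h (b := b) tp⟩ : K) *
      ⟨p ⟨f 1 b, mem_ct h 1 b⟩, mem_of_up h (b := b) tp⟩ = 1 := by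
    intro b hb
    apply Subtype.ext
    change p ⟨f 1 b, mem_ct h 1 b⟩ * p ⟨f 1 b, mem_ct h 1 b⟩ = 1
    rw [← map_mul, ← map_one p]
    congr 1
    apply Subtype.ext
    change f 1 b * f 1 b = 1
    rw [h.f_mul, hb, mul_one, f_one h]
  obtain ⟨Tt, m, hT, -⟩ := Cfsg.Agent.Lib.PSL2Torus.exists_torus h2 ε (hne (c k) c_ne_one) (hsq (c k) c_mul_c)
  have hcomm' : ∀ b : D k, (⟨s, hs⟩ : K) * ⟨p ⟨f 1 b, mem_ct h 1 b⟩, mem_of_up h (b := b) tp⟩ =
      ⟨p ⟨f 1 b, mem_ct h 1 b⟩, mem_of_up h (b := b) tp⟩ * ⟨s, hs⟩ := fun b => Subtype.ext (hcomm b)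
  have h4 := hT.centralizer_four (u := ⟨p ⟨f 1 (sr 0), mem_ct h 1 _⟩, mem_of_up h tp⟩) (x := ⟨s, hs⟩)
    (hne _ (sr_ne_one 0)) (hsq _ (sr_mul_self 0)) (by
      intro h5
      have h6 := inj_of_mem (P := P) T.ker _ _ (f_mem h _ _) (f_mem h _ _) (congrArg Subtype.val h5)
      exact sr_ne_c 0 ((f_eq_iff h).1 h6).2)
    (by
      apply Subtype.ext
      change p _ * p _ = p _ * p _
      rw [p_comm_iff h T.toCT, f_comm_iff h]
      exact ⟨rfl, (c_comm _).symm⟩) (hcomm' _) (hcomm' _)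
  -- reduction to `not_cent`
  have key : ∀ b : D k, s = p ⟨f 1 b, mem_ct h 1 b⟩ → (b = 1 ∨ b = c k) → False := by
    intro b hb hb'
    refine not_cent h hI T.toCT tp i (e := e * b) ?_ ?_
    · rcases he with rfl | rfl <;> rcases hb' with rfl | rfl
      · left; rw [mul_one]
      · right; rw [one_mul]
      · right; rw [mul_one]
      · left; exact c_mul_c
    · intro y hy
      have h5 := hsy y hy
      rw [hb] at h5
      have e1 : p ⟨f (sr i) (e * b), mem_ct h _ _⟩ = (p ⟨f 1 b, mem_ct h 1 b⟩)⁻¹ * p ⟨f (sr i) e, mem_ct h _ _⟩ := by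
        rw [← map_inv, ← map_mul]
        congr 1
        apply Subtype.ext
        change f (sr i) (e * b) = (f 1 b)⁻¹ * f (sr i) e
        rw [f_inv h, h.f_mul, inv_one, one_mul, hec]
        congr 1
        congr 1
        rcases hb' with rfl | rfl
        · rw [inv_one]
        · rw [c_inv]
      rw [e1]
      set a := p ⟨f 1 b, mem_ct h 1 b⟩
      set v := p ⟨f (sr i) e, mem_ct h _ _⟩
      calc a⁻¹ * v * y = a⁻¹ * (v * y * v⁻¹) * v := by group
        _ = y * (a⁻¹ * v) := by rw [h5]; group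
  have hx0 : ∀ b : D k, (s = p ⟨f 1 b, mem_ct h 1 b⟩) → b * x0 k = x0 k * b := by
    intro b hb
    have h5 := hcomm (x0 k)
    rw [hb, p_comm_iff h T.toCT, f_comm_iff h] at h5
    exact h5.2
  rcases h4 with h5 | h5 | h5 | h5
  · refine key 1 ?_ (Or.inl rfl)
    have h6 : s = 1 := congrArg Subtype.val h5
    rw [h6, ← map_one p]
    congr 1
    exact Subtype.ext (f_one h).symm
  · exact key (c k) (congrArg Subtype.val h5) (Or.inr rfl)
  · exact FOne.x0_ne_comm_sr (k := k) 0 (hx0 (sr 0) (congrArg Subtype.val h5)).symm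
  · have h6 : s = p ⟨f 1 (c k * sr 0), mem_ct h 1 _⟩ := by
      have h7 := congrArg Subtype.val h5
      change s = p _ * p _ at h7
      rw [h7, ← map_mul]
      congr 1
      apply Subtype.ext
      change f 1 (c k) * f 1 (sr 0) = f 1 (c k * sr 0)
      rw [h.f_mul, mul_one]
    have h7 := hx0 _ h6
    apply FOne.x0_ne_comm_sr (k := k) 0
    have h10 : c k * (sr 0 * x0 k) = c k * (x0 k * sr 0) := by
      rw [← mul_assoc, h7, ← mul_assoc, ← mul_assoc, c_comm (x0 k)]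
    exact (mul_left_cancel h10).symm

end tside

section types

variable (h : DWr (P : Subgroup G) k f w)

include h

/-- The involutions `u` of `S` with `u ~ t`, `u z ~ z`. -/
theorem types (hI : CaseI f w) {u : G} (huP : u ∈ P) (huu : u * u = 1) (hut : IsConj u (f (c k) 1))
    (huz : IsConj (u * f (c k) (c k)) (f (c k) (c k))) : ∃ i, u = f (sr i) 1 ∨ u = f 1 (sr i) := by
  have hzt : ∀ {x : G}, IsConj x (f (c k) 1) → IsConj x (f (c k) (c k)) → False := by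
    intro x h1 h3
    exact hI.tz (h1.symm.trans h3)
  have hcz : ∀ i, IsConj (f (c k) (sr i)) (f (c k) (c k)) := fun i =>
    (FThree.swap_isConj h _ _).trans (hI.typ_z i)
  rcases mem_cases h huP with ⟨a, b, rfl⟩ | ⟨a, b, rfl⟩
  · obtain ⟨ha, hb⟩ := (f_sq_one_iff h).1 huu
    rw [h.f_mul] at huz
    rcases eq_of_sq_one ha with rfl | rfl | ⟨i, rfl⟩ <;> rcases eq_of_sq_one hb with rfl | rfl | ⟨j, rfl⟩
    · exfalso
      have h1 : f (c k) 1 = 1 := by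
        rw [f_one h] at hut
        exact isConj_one_right.1 hut
      exact t_ne_one h h1
    · exfalso
      rw [one_mul, c_mul_c] at huz
      exact hzt (IsConj.refl _) huz
    · exact ⟨j, Or.inr rfl⟩
    · exfalso
      rw [c_mul_c, one_mul] at huz
      exact hzt (FThree.t'_t h) huz
    · exact (hI.tz hut.symm).elim
    · exact (hzt hut (hcz j)).elim
    · exact ⟨i, Or.inl rfl⟩
    · exact (hzt hut (hI.typ_z i)).elim
    · exfalso
      by_cases hij : pa i = pa j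
      · obtain ⟨i', hi', hpi⟩ := FThree.pa_src i
        obtain ⟨j', hj', hpj⟩ := FThree.pa_src j
        rw [hi', hj'] at huz
        exact hzt (hI.same i' j' (by rw [hpi, hpj, hij])) huz
      · exact hzt hut (hI.diff i j hij)
  · exfalso
    have hb := (fw_sq_one_iff h).1 huu
    have h1 : ∀ a : D k, IsConj (f a a⁻¹ * w) (f (c k) 1) := by
      intro a
      rw [fw_eq_conj_w h]
      obtain ⟨g, hg, -⟩ := hI.w_t
      exact (isConj_iff.2 ⟨f a 1, rfl⟩).symm.trans (isConj_iff.2 ⟨g, hg⟩)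
    have h3 : f a b * w * f (c k) (c k) = f (a * c k) (a * c k)⁻¹ * w := by
      rw [fw_mul_f h, hb, _root_.mul_inv_rev, c_inv, c_comm a⁻¹]
    rw [h3] at huz
    exact hzt (h1 _) huz

end types

section final

variable {X' : Type*} [Group X']

/-- **`r = s` in case I.** -/
theorem card_sq_caseI (h : DWr (P : Subgroup G) k f w) (hI : CaseI f w)
    {F F₂ : Type*} [Field F] [Finite F] [Field F₂] [Finite F₂] (h2 : (2 : F) ≠ 0) (h2' : (2 : F₂) ≠ 0)
    {p : ↥(centralizer ({f (c k) (c k)} : Set G)) →* X} {K₁ K₂ : Subgroup X}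
    (Z : CZL (f (c k) (c k)) F p K₁ K₂) (zp : ZPos f w p K₁ K₂)
    {p' : ↥(centralizer ({f (c k) 1} : Set G)) →* X'} {K : Subgroup X'}
    (T : CTL (f (c k) 1) F₂ p' K) (tp : TPos f p' K) : Nat.card F₂ = Nat.card F ^ 2 := by
  -- transport of `v = f (sr 0) c` to `z`
  obtain ⟨g₀, hg₀⟩ := isConj_iff.1 (hI.typ_z 0)
  have hPz : (P : Subgroup G) ≤ centralizer ({f (c k) (c k)} : Set G) := fun x hx => mem_cz h hx
  have htv : f (c k) 1 * f (sr 0) (c k) = f (sr 0) (c k) * f (c k) 1 := by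
    rw [f_comm_iff h]
    exact ⟨c_comm _, by rw [one_mul, mul_one]⟩
  have hu₀ : (g₀ * f (c k) 1 * g₀⁻¹) ∈ centralizer ({f (c k) (c k)} : Set G) := by
    rw [mem_centralizer_singleton_iff, ← hg₀]
    calc g₀ * f (c k) 1 * g₀⁻¹ * (g₀ * f (sr 0) (c k) * g₀⁻¹) = g₀ * (f (c k) 1 * f (sr 0) (c k)) * g₀⁻¹ := by group
      _ = g₀ * f (sr 0) (c k) * g₀⁻¹ * (g₀ * f (c k) 1 * g₀⁻¹) := by rw [htv]; group
  have htt : f (c k) 1 * f (c k) 1 = 1 := by rw [h.f_mul, c_mul_c, mul_one, f_one h]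
  -- Sylow in `C(z)`
  obtain ⟨c₁, hc₁, hcu⟩ : ∃ c₁ ∈ centralizer ({f (c k) (c k)} : Set G),
      c₁ * (g₀ * f (c k) 1 * g₀⁻¹) * c₁⁻¹ ∈ (P : Subgroup G) := by
    have hpg : IsPGroup 2 (zpowers (⟨_, hu₀⟩ : ↥(centralizer ({f (c k) (c k)} : Set G)))) := by
      rw [IsPGroup.iff_card, Nat.card_zpowers]
      refine ⟨1, ?_⟩
      rw [pow_one]
      refine orderOf_eq_prime ?_ ?_
      · apply Subtype.ext
        rw [sq]
        change g₀ * f (c k) 1 * g₀⁻¹ * (g₀ * f (c k) 1 * g₀⁻¹) = 1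
        calc g₀ * f (c k) 1 * g₀⁻¹ * (g₀ * f (c k) 1 * g₀⁻¹) = g₀ * (f (c k) 1 * f (c k) 1) * g₀⁻¹ := by group
          _ = 1 := by rw [htt]; group
      · intro e
        exact t_ne_one h (conj_eq_one_iff.1 (congrArg Subtype.val e))
    obtain ⟨Q, hQ⟩ := hpg.exists_le_sylow
    obtain ⟨c₁, hc₁⟩ := MulAction.exists_smul_eq (↥(centralizer ({f (c k) (c k)} : Set G))) Q (P.subtype hPz)
    refine ⟨c₁, c₁.2, ?_⟩
    have h1 : c₁ * ⟨_, hu₀⟩ * c₁⁻¹ ∈ (P.subtype hPz : Subgroup ↥(centralizer ({f (c k) (c k)} : Set G))) := by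
      rw [← hc₁, Sylow.coe_subgroup_smul]
      exact ⟨⟨_, hu₀⟩, hQ (mem_zpowers _), rfl⟩
    exact h1
  set g := c₁ * g₀ with hg
  have hgv : g * f (sr 0) (c k) * g⁻¹ = f (c k) (c k) := by
    calc g * f (sr 0) (c k) * g⁻¹ = c₁ * (g₀ * f (sr 0) (c k) * g₀⁻¹) * c₁⁻¹ := by rw [hg]; group
      _ = c₁ * f (c k) (c k) * c₁⁻¹ := by rw [hg₀]
      _ = _ := by rw [mem_centralizer_singleton_iff.1 hc₁, mul_inv_cancel_right]
  set u := g * f (c k) 1 * g⁻¹ with hu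
  have huP : u ∈ P := by
    have e : u = c₁ * (g₀ * f (c k) 1 * g₀⁻¹) * c₁⁻¹ := by rw [hu, hg]; group
    rw [e]; exact hcu
  have huu : u * u = 1 := by
    calc u * u = g * (f (c k) 1 * f (c k) 1) * g⁻¹ := by rw [hu]; group
      _ = 1 := by rw [htt]; group
  have hut : IsConj u (f (c k) 1) := (isConj_iff.2 ⟨g, rfl⟩).symm
  have huz : IsConj (u * f (c k) (c k)) (f (c k) (c k)) := by
    obtain ⟨j, hj, -⟩ := FThree.pa_src (k := k) 0
    have e : u * f (c k) (c k) = g * f (sr j) (c k) * g⁻¹ := by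
      rw [← hgv, hu, ← hj, ← c_comm]
      calc g * f (c k) 1 * g⁻¹ * (g * f (sr 0) (c k) * g⁻¹) = g * (f (c k) 1 * f (sr 0) (c k)) * g⁻¹ := by group
        _ = _ := by rw [h.f_mul, one_mul]
    rw [e]
    exact (isConj_iff.2 ⟨g, rfl⟩).symm.trans (hI.typ_z j)
  -- `u` swaps
  have hsw : Swp K₁ K₂ (p ⟨u, mem_cz h huP⟩) := by
    obtain ⟨i, hi | hi⟩ := types h hI huP huu hut huz
    · have := swp_left h Z.toCZ zp i (e := 1) (Or.inl rfl)
      convert this using 3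
    · have := swp_right h Z.toCZ zp i (e := 1) (Or.inl rfl)
      convert this using 3
  have hzu : u * f (c k) (c k) = f (c k) (c k) * u := mem_centralizer_singleton_iff.1 (mem_cz h huP)
  -- transport of `C(t)` to `C(u)`
  have hconj : ∀ x ∈ centralizer ({u} : Set G), g⁻¹ * x * g ∈ centralizer ({f (c k) 1} : Set G) := by
    intro x hx
    rw [mem_centralizer_singleton_iff] at hx ⊢
    have e : f (c k) 1 = g⁻¹ * u * g := by rw [hu]; group
    rw [e]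
    calc g⁻¹ * x * g * (g⁻¹ * u * g) = g⁻¹ * (x * u) * g := by group
      _ = g⁻¹ * u * g * (g⁻¹ * x * g) := by rw [hx]; group
  let j : ↥(centralizer ({u} : Set G)) →* ↥(centralizer ({f (c k) 1} : Set G)) :=
    { toFun := fun x => ⟨g⁻¹ * x * g, hconj x x.2⟩
      map_one' := by apply Subtype.ext; change g⁻¹ * 1 * g = 1; group
      map_mul' := fun x y => by
        apply Subtype.ext
        change g⁻¹ * (x * y) * g = g⁻¹ * x * g * (g⁻¹ * y * g)
        group }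
  have hj : Function.Injective j := by
    intro x y hxy
    have h1 : g⁻¹ * (x : G) * g = g⁻¹ * y * g := congrArg Subtype.val hxy
    exact Subtype.ext (mul_left_cancel (mul_right_cancel h1))
  have hjs : Function.Surjective j := by
    rintro ⟨y, hy⟩
    refine ⟨⟨g * y * g⁻¹, ?_⟩, ?_⟩
    · rw [mem_centralizer_singleton_iff] at hy ⊢
      rw [hu]
      calc g * y * g⁻¹ * (g * f (c k) 1 * g⁻¹) = g * (y * f (c k) 1) * g⁻¹ := by group
        _ = g * f (c k) 1 * g⁻¹ * (g * y * g⁻¹) := by rw [hy]; group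
    · apply Subtype.ext
      change g⁻¹ * (g * y * g⁻¹) * g = y
      group
  have hkj : Odd (Nat.card (p'.comp j).ker) := by
    have h1 : (p'.comp j).ker.map j ≤ p'.ker := by
      rintro _ ⟨y, hy, rfl⟩
      exact hy
    have h3 := card_dvd_of_le h1
    rw [card_map_of_injective hj] at h3
    exact KlOAbs.odd_of_dvd h3 (odd_ker T.ker)
  obtain ⟨e₁⟩ := Z.e₁
  obtain ⟨e⟩ := T.e
  have hpz : (p'.comp j) ⟨f (c k) (c k), mem_cent_of hzu.symm⟩ = p' ⟨f (sr 0) (c k), mem_ct h _ _⟩ := by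
    change p' _ = p' _
    congr 1
    apply Subtype.ext
    change g⁻¹ * f (c k) (c k) * g = f (sr 0) (c k)
    rw [← hgv]; group
  have hzz : f (c k) (c k) * f (c k) (c k) = 1 := by rw [h.f_mul, c_mul_c, f_one h]
  have hcomm : ∀ b : D k, b * b = 1 → (c k) * b = b * c k := fun b _ => c_comm b
  refine card_sq (v := f (c k) (c k)) (t := u) (z_ne_one h) hzz huu hzu h2 h2' (p := p) Z.surj (odd_ker Z.ker) e₁
    Z.comm Z.z₁ Z.z₂ (fun x h1 h3 => Z.inf x h1 h3) hsw.1 hsw.2 ⟨2, derived_le h2 Z⟩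
    (p' := p'.comp j) (T.surj.comp hjs) hkj (K := K) e (exists_derived_le h2' T) ?_
    (a := p' ⟨f 1 (c k), mem_ct h _ _⟩) (b := p' ⟨f 1 (sr 0), mem_ct h _ _⟩) (mem_of_up h tp) (mem_of_up h tp)
    ?_ ?_ ?_ ?_ ?_ ?_ ?_ ?_ ?_
  · intro x hx
    exact T.normal.conj_mem x hx _
  · intro e
    have h3 := eq_one_of_mem (P := P) T.ker (mem_ct h 1 _) (f_mem h _ _) e
    exact c_ne_one ((f_eq_one_iff h).1 h3).2
  · rw [← map_mul, ← map_one p']
    congr 1
    apply Subtype.ext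
    change f 1 (c k) * f 1 (c k) = 1
    rw [h.f_mul, c_mul_c, mul_one, f_one h]
  · intro e
    have h3 := eq_one_of_mem (P := P) T.ker (mem_ct h 1 _) (f_mem h _ _) e
    exact sr_ne_one 0 ((f_eq_one_iff h).1 h3).2
  · rw [← map_mul, ← map_one p']
    congr 1
    apply Subtype.ext
    change f 1 (sr 0) * f 1 (sr 0) = 1
    rw [h.f_mul, sr_mul_self, mul_one, f_one h]
  · intro e
    have h3 := inj_of_mem (P := P) T.ker (mem_ct h 1 _) (mem_ct h 1 _) (f_mem h _ _) (f_mem h _ _) e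
    exact sr_ne_c 0 ((f_eq_iff h).1 h3).2
  · rw [p_comm_iff h T.toCT, f_comm_iff h]
    exact ⟨rfl, (c_comm _).symm⟩
  · rw [hpz, p_comm_iff h T.toCT, f_comm_iff h]
    exact ⟨by rw [mul_one, one_mul], rfl⟩
  · rw [hpz, p_comm_iff h T.toCT, f_comm_iff h]
    exact ⟨by rw [mul_one, one_mul], c_comm _⟩
  · rw [hpz]
    exact not_inner h h2' hI T tp 0 (e := c k) (Or.inr rfl)

end final

end Cfsg.Agent.LFourA.KlPos
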