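import Mathlib
import Cfsg.Agent.LFourA.Kl7Hom
import Cfsg.Agent.LFourA.KlPos
import Cfsg.Agent.LFourA.CtFinal
import Cfsg.Agent.LFourA.CzFinal

/-!
# Case I: `K = L(t)` is not `A₇`

`f (sr i) c`, `i = 0, 1`, are conjugate to `z`, `t` acting on `C(z) / O` as a swap of the two factors; on `A₇` they act as
`(4 5)` and `(0 1)(2 3)(4 5)` (in some order). The first one is centralised by an `A₅`, the centraliser of the second
one is solvable: both would be equivalent to `|F| = 3`.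
-/

set_option autoImplicit false

namespace Cfsg.Agent.LFourA.Kl7

open Subgroup DihedralGroup Cfsg.Agent.LFourA.Model Cfsg.Agent.LFourA.Base Cfsg.Agent.LFourA.Defs
  Cfsg.Agent.LFourA.CzCt Cfsg.Agent.LFourA.Facts Cfsg.Agent.LFourA.KlOSolv Cfsg.Agent.LFourA.KlO
  Cfsg.Agent.LFourA.KlOAbs Cfsg.Agent.LFourA.KlOSide Cfsg.Agent.LFourA.KlPos Cfsg.Agent.LFourA.CtFinal

local notation "SL2" => Matrix.SpecialLinearGroup (Fin 2)

section abs

variable {G : Type*} [Group G] [Finite G]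

/-- The residual of `C(v', t')`, where `(v', t')` is conjugate to `(v, t)`, seen from `C(v)`. -/
theorem res_of_swap {v t : G} (hv1 : v ≠ 1) (hvv : v * v = 1) (htt : t * t = 1) (tv : t * v = v * t)
    {F : Type*} [Field F] [Finite F] (h2 : (2 : F) ≠ 0)
    {X : Type*} [Group X] {p : centralizer ({v} : Set G) →* X} (hp : Function.Surjective p)
    (hk : Odd (Nat.card p.ker)) {K₁ K₂ : Subgroup X} (e₁ : K₁ ≃* SL2 F)
    (comm : ∀ x ∈ K₁, ∀ y ∈ K₂, x * y = y * x) (vK₁ : p ⟨v, mem_cent⟩ ∈ K₁) (vK₂ : p ⟨v, mem_cent⟩ ∈ K₂)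
    (inf : ∀ x, x ∈ K₁ → x ∈ K₂ → x = 1 ∨ x = p ⟨v, mem_cent⟩)
    (sw : ∀ x ∈ K₁, p ⟨t, mem_cent_of tv⟩ * x * (p ⟨t, mem_cent_of tv⟩)⁻¹ ∈ K₂)
    (sw' : ∀ x ∈ K₂, p ⟨t, mem_cent_of tv⟩ * x * (p ⟨t, mem_cent_of tv⟩)⁻¹ ∈ K₁)
    (solv : ∃ m, derivedSeries X m ≤ K₁ ⊔ K₂)
    {v' t' g : G} (hgv : g * v' * g⁻¹ = v) (hgt : g * t' * g⁻¹ = t) :
    ∃ q : ↥(centralizer ({v'} : Set G) ⊓ centralizer {t'}) →* X, Odd (Nat.card q.ker) ∧
      ∃ A : Subgroup X, Res q A ∧ NoOdd A ∧ ((3 < Nat.card F ∧ 2 * Nat.card A = Nat.card F * (Nat.card F ^ 2 - 1)) ∨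
        (Nat.card F = 3 ∧ Nat.card A = 1)) := by
  obtain ⟨m, hm⟩ := solv
  have vv' : (⟨v, mem_cent⟩ : centralizer ({v} : Set G)) * ⟨v, mem_cent⟩ = 1 := Subtype.ext hvv
  have tt' : (⟨t, mem_cent_of tv⟩ : centralizer ({v} : Set G)) * ⟨t, mem_cent_of tv⟩ = 1 := Subtype.ext htt
  obtain ⟨φ, hφ, hφm, hφc⟩ := swap_side (v := p ⟨v, mem_cent⟩) (t := p ⟨t, mem_cent_of tv⟩) e₁ comm
    (ne_one_of_odd_ker hk (fun h => hv1 (congrArg Subtype.val h)) vv')
    (by rw [← map_mul, vv', map_one]) vK₁ vK₂ inf (by rw [← map_mul, tt', map_one])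
    (by rw [← map_mul, ← map_mul]; congr 1; exact Subtype.ext tv) sw sw'
  have hmv : ∀ y, y * v' = v' * y → (g * y * g⁻¹) * v = v * (g * y * g⁻¹) := by
    intro y hy
    rw [← hgv]
    calc g * y * g⁻¹ * (g * v' * g⁻¹) = g * (y * v') * g⁻¹ := by group
      _ = g * v' * g⁻¹ * (g * y * g⁻¹) := by rw [hy]; group
  have hmt : ∀ y, y * t' = t' * y → (g * y * g⁻¹) * t = t * (g * y * g⁻¹) := by
    intro y hy
    rw [← hgt]
    calc g * y * g⁻¹ * (g * t' * g⁻¹) = g * (y * t') * g⁻¹ := by group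
      _ = g * t' * g⁻¹ * (g * y * g⁻¹) := by rw [hy]; group
  let j : ↥(centralizer ({v'} : Set G) ⊓ centralizer {t'}) →* ↥(centralizer ({v} : Set G)) :=
    { toFun := fun y => ⟨g * y * g⁻¹, mem_centralizer_singleton_iff.2 (hmv y (mem_centralizer_singleton_iff.1 y.2.1))⟩
      map_one' := by apply Subtype.ext; change g * 1 * g⁻¹ = 1; group
      map_mul' := fun x y => by
        apply Subtype.ext
        change g * (x * y) * g⁻¹ = g * x * g⁻¹ * (g * y * g⁻¹)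
        group }
  have hj : Function.Injective j := by
    intro x y hxy
    have h1 : g * (x : G) * g⁻¹ = g * y * g⁻¹ := congrArg Subtype.val hxy
    exact Subtype.ext (mul_left_cancel (mul_right_cancel h1))
  refine ⟨p.comp j, ?_, ?_⟩
  · have h1 : (p.comp j).ker.map j ≤ p.ker := by
      rintro _ ⟨y, hy, rfl⟩
      exact hy
    have h3 := card_dvd_of_le h1
    rw [card_map_of_injective hj] at h3
    exact odd_of_dvd h3 hk
  · refine exists_res h2 (p.comp j) φ hφ (P := (K₁ ⊔ K₂) ⊓ centralizer {p ⟨t, mem_cent_of tv⟩}) (m := m) ?_ ?_ hφc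
    · rintro _ ⟨x, rfl⟩
      obtain ⟨c, hc1, hc2⟩ := exists_comm_lift hp hk tt' (hφm x).2.symm
      have hc3 : (c : G) * t = t * c := congrArg Subtype.val hc1
      have hc4 : (c : G) * v = v * c := mem_centralizer_singleton_iff.1 c.2
      refine ⟨⟨g⁻¹ * c * g, mem_centralizer_singleton_iff.2 ?_, mem_centralizer_singleton_iff.2 ?_⟩, ?_⟩
      · have e : v' = g⁻¹ * v * g := by rw [← hgv]; group
        rw [e]
        calc g⁻¹ * c * g * (g⁻¹ * v * g) = g⁻¹ * (c * v) * g := by group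
          _ = g⁻¹ * v * g * (g⁻¹ * c * g) := by rw [hc4]; group
      · have e : t' = g⁻¹ * t * g := by rw [← hgt]; group
        rw [e]
        calc g⁻¹ * c * g * (g⁻¹ * t * g) = g⁻¹ * (c * t) * g := by group
          _ = g⁻¹ * t * g * (g⁻¹ * c * g) := by rw [hc3]; group
      · rw [← hc2]
        change p _ = p c
        congr 1
        apply Subtype.ext
        change g * (g⁻¹ * c * g) * g⁻¹ = c
        group
    · rintro _ ⟨y, hy, rfl⟩
      refine ⟨hm (map_derivedSeries_le_derivedSeries (p.comp j) m (mem_map_of_mem _ hy)), ?_⟩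
      refine mem_centralizer_singleton_iff.2 ?_
      change p (j y) * p ⟨t, mem_cent_of tv⟩ = p ⟨t, mem_cent_of tv⟩ * p (j y)
      rw [← map_mul, ← map_mul]
      congr 1
      exact Subtype.ext (hmt y (mem_centralizer_singleton_iff.1 y.2.2))

end abs

variable {G X : Type*} [Group G] [Finite G] [Group X] {P : Sylow 2 G} {k : ℕ} {f : D k → D k → G} {w : G}

/-- The residual of `C(f (sr i) c, t)`, seen from `C(z)`. -/
theorem z_res (h : DWr (P : Subgroup G) k f w) (hI : CaseI f w)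
    {F : Type*} [Field F] [Finite F] (h2 : (2 : F) ≠ 0)
    {p : ↥(centralizer ({f (c k) (c k)} : Set G)) →* X} {K₁ K₂ : Subgroup X}
    (Z : CZL (f (c k) (c k)) F p K₁ K₂) (zp : ZPos f w p K₁ K₂) (i : ZMod (4 * 2 ^ k)) :
    ∃ q : ↥(centralizer ({f (sr i) (c k)} : Set G) ⊓ centralizer {f (c k) 1}) →* X, Odd (Nat.card q.ker) ∧
      ∃ A : Subgroup X, Res q A ∧ NoOdd A ∧ ((3 < Nat.card F ∧ 2 * Nat.card A = Nat.card F * (Nat.card F ^ 2 - 1)) ∨
        (Nat.card F = 3 ∧ Nat.card A = 1)) := by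
  obtain ⟨g₀, hg₀⟩ := isConj_iff.1 (hI.typ_z i)
  have hPz : (P : Subgroup G) ≤ centralizer ({f (c k) (c k)} : Set G) := fun x hx => mem_cz h hx
  have htv : f (c k) 1 * f (sr i) (c k) = f (sr i) (c k) * f (c k) 1 := by
    rw [f_comm_iff h]
    exact ⟨c_comm _, by rw [one_mul, mul_one]⟩
  have hu₀ : (g₀ * f (c k) 1 * g₀⁻¹) ∈ centralizer ({f (c k) (c k)} : Set G) := by
    rw [mem_centralizer_singleton_iff, ← hg₀]
    calc g₀ * f (c k) 1 * g₀⁻¹ * (g₀ * f (sr i) (c k) * g₀⁻¹) = g₀ * (f (c k) 1 * f (sr i) (c k)) * g₀⁻¹ := by group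
      _ = g₀ * f (sr i) (c k) * g₀⁻¹ * (g₀ * f (c k) 1 * g₀⁻¹) := by rw [htv]; group
  have htt : f (c k) 1 * f (c k) 1 = 1 := by rw [h.f_mul, c_mul_c, mul_one, f_one h]
  -- Sylow in `C(z)`
  obtain ⟨c₁, hc₁, hcu⟩ : ∃ c₁ ∈ centralizer ({f (c k) (c k)} : Set G),
      c₁ * (g₀ * f (c k) 1 * g₀⁻¹) * c₁⁻¹ ∈ (P : Subgroup G) := by
    have hpg : IsPGroup 2 (zpowers (⟨_, hu₀⟩ : ↥(centralizer ({f (c k) (c k)} : Set G)))) := by
      rw [IsPGroup.iff_card, Nat.card_zpowers]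
      refine ⟨1, ?_⟩
      rw [pow_one]
      refine orderOf_eq_prime ?_ ?_
      · apply Subtype.ext
        rw [sq]
        change g₀ * f (c k) 1 * g₀⁻¹ * (g₀ * f (c k) 1 * g₀⁻¹) = 1
        calc g₀ * f (c k) 1 * g₀⁻¹ * (g₀ * f (c k) 1 * g₀⁻¹) = g₀ * (f (c k) 1 * f (c k) 1) * g₀⁻¹ := by group
          _ = 1 := by rw [htt]; group
      · intro e
        exact t_ne_one h (conj_eq_one_iff.1 (congrArg Subtype.val e))
    obtain ⟨Q, hQ⟩ := hpg.exists_le_sylow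
    obtain ⟨c₁, hc₁⟩ := MulAction.exists_smul_eq (↥(centralizer ({f (c k) (c k)} : Set G))) Q (P.subtype hPz)
    refine ⟨c₁, c₁.2, ?_⟩
    have h1 : c₁ * ⟨_, hu₀⟩ * c₁⁻¹ ∈ (P.subtype hPz : Subgroup ↥(centralizer ({f (c k) (c k)} : Set G))) := by
      rw [← hc₁, Sylow.coe_subgroup_smul]
      exact ⟨⟨_, hu₀⟩, hQ (mem_zpowers _), rfl⟩
    exact h1
  set g := c₁ * g₀ with hg
  have hgv : g * f (sr i) (c k) * g⁻¹ = f (c k) (c k) := by
    calc g * f (sr i) (c k) * g⁻¹ = c₁ * (g₀ * f (sr i) (c k) * g₀⁻¹) * c₁⁻¹ := by rw [hg]; group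
      _ = c₁ * f (c k) (c k) * c₁⁻¹ := by rw [hg₀]
      _ = _ := by rw [mem_centralizer_singleton_iff.1 hc₁, mul_inv_cancel_right]
  set u := g * f (c k) 1 * g⁻¹ with hu
  have huP : u ∈ P := by
    have e : u = c₁ * (g₀ * f (c k) 1 * g₀⁻¹) * c₁⁻¹ := by rw [hu, hg]; group
    rw [e]; exact hcu
  have huu : u * u = 1 := by
    calc u * u = g * (f (c k) 1 * f (c k) 1) * g⁻¹ := by rw [hu]; group
      _ = 1 := by rw [htt]; group
  have hut : IsConj u (f (c k) 1) := (isConj_iff.2 ⟨g, rfl⟩).symm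
  have huz : IsConj (u * f (c k) (c k)) (f (c k) (c k)) := by
    obtain ⟨j, hj, -⟩ := FThree.pa_src (k := k) i
    have e : u * f (c k) (c k) = g * f (sr j) (c k) * g⁻¹ := by
      rw [← hgv, hu, ← hj, ← c_comm]
      calc g * f (c k) 1 * g⁻¹ * (g * f (sr i) (c k) * g⁻¹) = g * (f (c k) 1 * f (sr i) (c k)) * g⁻¹ := by group
        _ = _ := by rw [h.f_mul, one_mul]
    rw [e]
    exact (isConj_iff.2 ⟨g, rfl⟩).symm.trans (hI.typ_z j)
  -- `u` swaps
  have hsw : Swp K₁ K₂ (p ⟨u, mem_cz h huP⟩) := by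
    obtain ⟨i, hi | hi⟩ := types h hI huP huu hut huz
    · have := swp_left h Z.toCZ zp i (e := 1) (Or.inl rfl)
      convert this using 3
    · have := swp_right h Z.toCZ zp i (e := 1) (Or.inl rfl)
      convert this using 3
  have hzu : u * f (c k) (c k) = f (c k) (c k) * u := mem_centralizer_singleton_iff.1 (mem_cz h huP)
  obtain ⟨e₁⟩ := Z.e₁
  have hzz : f (c k) (c k) * f (c k) (c k) = 1 := by rw [h.f_mul, c_mul_c, f_one h]
  exact res_of_swap (v := f (c k) (c k)) (t := u) (z_ne_one h) hzz huu hzu h2 (p := p) Z.surj (odd_ker Z.ker) e₁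
    Z.comm Z.z₁ Z.z₂ (fun x h1 h3 => Z.inf x h1 h3) hsw.1 hsw.2 ⟨2, derived_le h2 Z⟩ hgv rfl

open Cfsg.Agent.LFourA.Kl7Perm in
/-- **`K` is not `A₇` in case I.** -/
theorem not_alt {X' : Type*} [Group X'] [Finite X'] (h : DWr (P : Subgroup G) k f w) (hI : CaseI f w)
    {F : Type*} [Field F] [Finite F] (h2 : (2 : F) ≠ 0)
    {p : ↥(centralizer ({f (c k) (c k)} : Set G)) →* X} {K₁ K₂ : Subgroup X}
    (Z : CZL (f (c k) (c k)) F p K₁ K₂) (zp : ZPos f w p K₁ K₂)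
    {p' : ↥(centralizer ({f (c k) 1} : Set G)) →* X'} {K : Subgroup X'}
    (T : CT (f (c k) 1) p' K) (tp : TPos f p' K) (ext : CtExt f p' K (fun i => chi (1 + pa i) (pa i)))
    {d : X'} (hC : ∀ x, (∀ y ∈ K, x * y = y * x) → x ∈ zpowers d) (e : K ≃* alternatingGroup (Fin 7)) : False := by
  have hinj : ∀ {a b : D k}, p' ⟨f a b, mem_ct h a b⟩ = 1 → a = 1 ∧ b = 1 := by
    intro a b hab
    exact (f_eq_one_iff h).1 (eq_one_of_mem (P := P) T.ker _ (f_mem h _ _) hab)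
  have hmul : ∀ a b a' b' : D k, p' ⟨f a b, mem_ct h a b⟩ * p' ⟨f a' b', mem_ct h a' b'⟩ =
      p' ⟨f (a * a') (b * b'), mem_ct h _ _⟩ := by
    intro a b a' b'
    rw [← map_mul]
    congr 1
    exact Subtype.ext (h.f_mul a b a' b')
  have hone : p' ⟨f 1 1, mem_ct h 1 1⟩ = 1 := by
    rw [← map_one p']
    congr 1
    exact Subtype.ext (f_one h)
  obtain ⟨e', Ψ, hΨ, hΨ1, hx1⟩ := Kl7Hom.exists_hom' T.normal e (x := p' ⟨f 1 (x0 k), mem_ct h 1 _⟩) (mem_of_up h tp)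
    (by
      rw [hmul, x0_mul_x0]
      intro h1
      exact c_ne_one (hinj h1).2)
    (by rw [hmul, x0_mul_x0, hmul, c_mul_c, one_mul, one_mul, hone])
  have ht0 : Ψ (p' ⟨f 1 (c k), mem_ct h 1 _⟩) = t0 := by
    rw [← x1_sq, ← hx1, ← map_mul Ψ, hmul, x0_mul_x0, one_mul]
  -- the action of `f (sr i) c`
  have hτ : ∀ i : ZMod (4 * 2 ^ k), Ψ (p' ⟨f (sr i) (c k), mem_ct h _ _⟩) = s0 ∨
      Ψ (p' ⟨f (sr i) (c k), mem_ct h _ _⟩) = t0 * s0 := by
    intro i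
    have h1 : Ψ (p' ⟨f (sr i) (c k), mem_ct h _ _⟩) * x1 = x1 * Ψ (p' ⟨f (sr i) (c k), mem_ct h _ _⟩) := by
      rw [← hx1, ← map_mul Ψ, ← map_mul Ψ, hmul, hmul, mul_one, one_mul, c_comm]
    have h3 : Ψ (p' ⟨f (sr i) (c k), mem_ct h _ _⟩) * Ψ (p' ⟨f (sr i) (c k), mem_ct h _ _⟩) = 1 := by
      rw [← map_mul Ψ, hmul, sr_mul_self, c_mul_c, hone, map_one]
    rcases comm_x1 h1 h3 with h4 | h4 | h4 | h4
    · exact absurd ((hΨ1 _).1 h4) (not_cent h hI T tp i (e := c k) (Or.inr rfl))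
    · exfalso
      refine not_cent h hI T tp i (e := 1) (Or.inl rfl) ((hΨ1 _).1 ?_)
      have h5 : p' ⟨f (sr i) 1, mem_ct h _ _⟩ = p' ⟨f (sr i) (c k), mem_ct h _ _⟩ * p' ⟨f 1 (c k), mem_ct h _ _⟩ := by
        rw [hmul, mul_one, c_mul_c]
      rw [h5, map_mul, h4, ht0, ← ht0, ← map_mul Ψ, hmul, c_mul_c, one_mul, hone, map_one]
    · exact Or.inl h4
    · exact Or.inr h4
  have hne : Ψ (p' ⟨f (sr 0) (c k), mem_ct h _ _⟩) ≠ Ψ (p' ⟨f (sr 1) (c k), mem_ct h _ _⟩) := by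
    intro h1
    have h3 : Ψ (p' ⟨f (r 1) 1, mem_ct h _ _⟩) = 1 := by
      have h4 : p' ⟨f (r 1) 1, mem_ct h _ _⟩ = p' ⟨f (sr 0) (c k), mem_ct h _ _⟩ * p' ⟨f (sr 1) (c k), mem_ct h _ _⟩ := by
        rw [hmul, c_mul_c, sr_mul_sr, sub_zero]
      rw [h4, map_mul, h1, ← map_mul Ψ, hmul, sr_mul_self, c_mul_c, hone, map_one]
    have h4 := ext.cent (r 1) 1 (mem_ct h _ _) ((hΨ1 _).1 h3) 0
    rw [chi_r, map_zero, map_one, add_zero, add_zero, mul_one, cc_one] at h4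
    exact c_ne_one h4.symm
  obtain ⟨i, i', hi, hi'⟩ : ∃ i i' : ZMod (4 * 2 ^ k), Ψ (p' ⟨f (sr i) (c k), mem_ct h _ _⟩) = s0 ∧
      Ψ (p' ⟨f (sr i') (c k), mem_ct h _ _⟩) = t0 * s0 := by
    rcases hτ 0 with h0 | h0 <;> rcases hτ 1 with h1 | h1
    · exact absurd (h0.trans h1.symm) hne
    · exact ⟨0, 1, h0, h1⟩
    · exact ⟨1, 0, h1, h0⟩
    · exact absurd (h0.trans h1.symm) hne
  have hYt : ∀ i : ZMod (4 * 2 ^ k), centralizer ({f (sr i) (c k)} : Set G) ⊓ centralizer {f (c k) 1} ≤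
      centralizer {f (c k) 1} := fun i => inf_le_right
  -- `|F| = 3` from `i'`
  have hF : Nat.card F = 3 := by
    obtain ⟨q, hq, A, hA, hoA, hcA⟩ := z_res h hI h2 Z zp i'
    have hsol := Kl7Hom.solvable hΨ1 hC hi'
    obtain ⟨n, hn⟩ := hsol.solvable
    have hres : Res (p'.comp (inclusion (hYt i'))) (⊥ : Subgroup X') := by
      have hle : ∀ m, (derivedSeries _ m).map (p'.comp (inclusion (hYt i'))) ≤
          (derivedSeries (centralizer ({p' ⟨f (sr i') (c k), mem_ct h _ _⟩} : Set X')) m).map (Subgroup.subtype _) := by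
        intro m
        induction m with
        | zero =>
          rw [derivedSeries_zero, derivedSeries_zero, ← MonoidHom.range_eq_map, ← MonoidHom.range_eq_map, range_subtype]
          rintro _ ⟨y, rfl⟩
          rw [mem_centralizer_singleton_iff]
          change p' (inclusion (hYt i') y) * p' _ = p' _ * p' (inclusion (hYt i') y)
          rw [← map_mul, ← map_mul]
          congr 1
          exact Subtype.ext (mem_centralizer_singleton_iff.1 y.2.1)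
        | succ m ih =>
          rw [derivedSeries_succ, derivedSeries_succ, map_commutator, map_commutator]
          exact commutator_mono ih ih
      refine ⟨n, fun m hm => ?_⟩
      rw [eq_bot_iff]
      refine (anti _ hm).trans ((hle n).trans ?_)
      rw [hn, Subgroup.map_bot]
    have h1 := card_eq_of_res hq (odd_ker_inclusion (hYt i') (odd_ker T.ker)) hA hres hoA noOdd_bot
    rw [Subgroup.card_bot] at h1
    rcases hcA with ⟨h3, h4⟩ | ⟨h3, -⟩
    · exfalso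
      rw [h1, mul_one] at h4
      have h5 : 4 ^ 2 ≤ Nat.card F ^ 2 := Nat.pow_le_pow_left h3 2
      have h6 : 1 ≤ Nat.card F ^ 2 - 1 := by omega
      have h7 : Nat.card F * 1 ≤ Nat.card F * (Nat.card F ^ 2 - 1) := Nat.mul_le_mul_left _ h6
      omega
    · exact h3
  -- contradiction from `i`
  obtain ⟨q, hq, A, ⟨N, hN⟩, hoA, hcA⟩ := z_res h hI h2 Z zp i
  obtain ⟨B, hB, hE, hBc⟩ := Kl7Hom.exists_perfect T.normal hΨ hi
  have hA1 : A = ⊥ := by
    rcases hcA with ⟨h3, -⟩ | ⟨-, h3⟩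
    · omega
    · exact Subgroup.card_eq_one.1 h3
  have h1 := hN N le_rfl
  rw [hA1, Subgroup.map_eq_bot_iff] at h1
  have h3 : Odd (Nat.card (derivedSeries ↥(centralizer ({f (sr i) (c k)} : Set G) ⊓ centralizer {f (c k) 1}) N)) :=
    odd_of_dvd (card_dvd_of_le h1) hq
  have hBr : B ≤ (p'.comp (inclusion (hYt i))).range := by
    intro x hx
    have hvv : (⟨f (sr i) (c k), mem_ct h _ _⟩ : centralizer ({f (c k) 1} : Set G)) * ⟨f (sr i) (c k), mem_ct h _ _⟩ =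
        1 := by
      apply Subtype.ext
      change f (sr i) (c k) * f (sr i) (c k) = 1
      rw [h.f_mul, sr_mul_self, c_mul_c, f_one h]
    obtain ⟨g, hg1, hg2⟩ := exists_comm_lift T.surj (odd_ker T.ker) hvv (hBc x hx)
    exact ⟨⟨g, mem_centralizer_singleton_iff.2 (congrArg Subtype.val hg1), g.2⟩, hg2⟩
  have h4 := card_dvd_of_le (le_map_derived _ hB hBr N)
  have h5 := odd_of_dvd (h4.trans (card_map_dvd _ _)) h3
  exact (Nat.not_even_iff_odd.2 h5) hE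

end Cfsg.Agent.LFourA.Kl7
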