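import Mathlib
import Cfsg.Agent.LFourA.Kl7

/-!
# Case I: `C(z)` and `C(t)` modulo their odd cores

`ct_final` : `K = L(t) ≃ PSL(2,F₂)` with `|F₂| = |F|²`; `final` : both centralisers together.
-/

set_option autoImplicit false

namespace Cfsg.Agent.LFourA.KlFinal

open Subgroup DihedralGroup Cfsg.Agent.LFourA.Model Cfsg.Agent.LFourA.Base Cfsg.Agent.LFourA.Defs
  Cfsg.Agent.LFourA.CzCt Cfsg.Agent.LFourA.CtFinal Cfsg.Agent.LFourA.CtData

universe u

theorem two_ne {F : Type*} [Field F] [Fintype F] (h : Odd (Fintype.card F)) : (2 : F) ≠ 0 := by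
  intro h2
  have h1 : ringChar F ∣ 2 := by
    rw [← ringChar.spec]
    exact_mod_cast h2
  have h3 : ringChar F = 2 := by
    rcases (Nat.dvd_prime Nat.prime_two).1 h1 with h4 | h4
    · exact absurd h4 CharP.ringChar_ne_one
    · exact h4
  have h5 := FiniteField.even_card_of_char_two h3
  rw [Nat.odd_iff] at h
  omega

variable {G : Type u} [Group G] [Finite G] {P : Sylow 2 G} {k : ℕ} {f : D k → D k → G} {w : G}

/-- **`C(t)` in case I**: `K ≃ PSL(2,F₂)`, `|F₂| = |F|²`. -/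
theorem ct_final
    (hGW : ∀ (X : Type u) [Group X] [Finite X] [Group.IsPerfect X]
      (S : Sylow 2 X) (n : ℕ), 2 ≤ n → Nonempty ((S : Subgroup X) ≃* DihedralGroup n) →
      (∃ (F : Type) (_ : Field F) (_ : Fintype F), Odd (Fintype.card F) ∧ 3 < Fintype.card F ∧
        Nonempty (X ⧸ Cfsg.oddCore X ≃* Matrix.ProjectiveSpecialLinearGroup (Fin 2) F)) ∨
      Nonempty (X ⧸ Cfsg.oddCore X ≃* alternatingGroup (Fin 7)))
    (h : DWr (P : Subgroup G) k f w) (hI : CaseI f w)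
    {X : Type*} [Group X] {F : Type*} [Field F] [Finite F] (h2 : (2 : F) ≠ 0)
    {p : centralizer ({f (c k) (c k)} : Set G) →* X} {K₁ K₂ : Subgroup X}
    (Z : CZL (f (c k) (c k)) F p K₁ K₂) (zp : ZPos f w p K₁ K₂) :
    ∃ (X' : Type u) (_ : Group X') (_ : Finite X') (p' : centralizer ({f (c k) 1} : Set G) →* X')
      (K : Subgroup X') (F₂ : Type) (_ : Field F₂) (_ : Fintype F₂), Odd (Fintype.card F₂) ∧
        CTL (f (c k) 1) F₂ p' K ∧ TPos f p' K ∧ CtExt f p' K (fun i => chi (1 + pa i) (pa i)) ∧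
        (∀ x, (∀ y ∈ K, x * y = y * x) → x ∈ zpowers (p' ⟨f (r 1) (c k), f_mem_cent h _ _⟩)) ∧
        Nat.card F₂ = Nat.card F ^ 2 := by
  obtain ⟨X', i1, i2, p', K, T, tp, ext, hC, hiso⟩ := main_one h hGW hI
  rcases hiso with ⟨F₂, i3, i4, hodd, -, hiso⟩ | ⟨⟨e⟩⟩
  · have T' : CTL (f (c k) 1) F₂ p' K := ⟨T, hiso⟩
    exact ⟨X', i1, i2, p', K, F₂, i3, i4, hodd, T', tp, ext, hC,
      KlPos.card_sq_caseI h hI h2 (two_ne hodd) Z zp T' tp⟩
  · exact (Kl7.not_alt h hI h2 Z zp T tp ext hC e).elim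

/-- **`C(z)` and `C(t)` in case I.** -/
theorem final
    (hC1 : ∀ (G : Type u) [Group G] [Finite G] (P : Sylow 2 G) (A B : Subgroup G), A ⊓ B = ⊥ →
      Cfsg.IsStronglyClosed A (P : Subgroup G) → Cfsg.IsStronglyClosed B (P : Subgroup G) →
      ⁅Subgroup.normalClosure (A : Set G), Subgroup.normalClosure (B : Set G)⁆ ≤ Cfsg.oddCore G)
    (hGW : ∀ (X : Type u) [Group X] [Finite X] [Group.IsPerfect X]
      (S : Sylow 2 X) (n : ℕ), 2 ≤ n → Nonempty ((S : Subgroup X) ≃* DihedralGroup n) →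
      (∃ (F : Type) (_ : Field F) (_ : Fintype F), Odd (Fintype.card F) ∧ 3 < Fintype.card F ∧
        Nonempty (X ⧸ Cfsg.oddCore X ≃* Matrix.ProjectiveSpecialLinearGroup (Fin 2) F)) ∨
      Nonempty (X ⧸ Cfsg.oddCore X ≃* alternatingGroup (Fin 7)))
    (h : DWr (P : Subgroup G) k f w) (hI : CaseI f w) :
    ∃ (X : Type u) (_ : Group X) (_ : Finite X) (p : centralizer ({f (c k) (c k)} : Set G) →* X) (K₁ K₂ : Subgroup X)
      (F : Type) (_ : Field F) (_ : Fintype F) (X' : Type u) (_ : Group X') (_ : Finite X')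
      (p' : centralizer ({f (c k) 1} : Set G) →* X') (K : Subgroup X') (F₂ : Type) (_ : Field F₂) (_ : Fintype F₂),
        Odd (Fintype.card F) ∧ CZL (f (c k) (c k)) F p K₁ K₂ ∧ ZPos f w p K₁ K₂ ∧ Odd (Fintype.card F₂) ∧
        CTL (f (c k) 1) F₂ p' K ∧ TPos f p' K ∧ CtExt f p' K (fun i => chi (1 + pa i) (pa i)) ∧
        (∀ x, (∀ y ∈ K, x * y = y * x) → x ∈ zpowers (p' ⟨f (r 1) (c k), f_mem_cent h _ _⟩)) ∧
        Nat.card F₂ = Nat.card F ^ 2 := by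
  obtain ⟨X, i1, i2, p, K₁, K₂, F, i3, i4, hodd, Z, zp⟩ := CzFinal.main hC1 hGW h hI
  obtain ⟨X', i5, i6, p', K, F₂, i7, i8, h1, h3, h4, h5, h6, h7⟩ := ct_final hGW h hI (two_ne hodd) Z zp
  exact ⟨X, i1, i2, p, K₁, K₂, F, i3, i4, X', i5, i6, p', K, F₂, i7, i8, hodd, Z, zp, h1, h3, h4, h5, h6, h7⟩

end Cfsg.Agent.LFourA.KlFinal
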