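import Mathlib
import Cfsg.Agent.LFourA.KlPos
import Cfsg.Agent.LFourA.FusionMain
import Cfsg.Agent.LFourA.KlQuot

/-!
# The odd core of `C(z)` is inverted by the swaps, case I
-/

set_option autoImplicit false

namespace Cfsg.Agent.LFourA.KlCore

open Subgroup DihedralGroup Cfsg Cfsg.Agent.LFourA.Model Cfsg.Agent.LFourA.Base Cfsg.Agent.LFourA.Defs
  Cfsg.Agent.LFourA.CzCt Cfsg.Agent.LFourA.Facts Cfsg.Agent.LFourA.KlQuot

open Cfsg.Agent.StandardComponent.CentCore (core_conj_mem core_odd core_odd_order core_comm)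

/-- An involution acting without fixed points inverts. -/
theorem inv_of_fpf {G : Type*} [Group G] [Finite G] {N : Subgroup G} {s : G} (hs : s * s = 1)
    (hsN : ∀ x ∈ N, s * x * s⁻¹ ∈ N) (hfix : ∀ x ∈ N, x * s = s * x → x = 1) :
    ∀ x ∈ N, s * x * s⁻¹ = x⁻¹ := by
  intro x hx
  have hs' : s⁻¹ = s := inv_eq_of_mul_eq_one_right hs
  let φ : N →* N :=
    { toFun := fun y => ⟨s * y * s⁻¹, hsN y y.2⟩
      map_one' := Subtype.ext (by simp)
      map_mul' := fun y z => Subtype.ext (by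
        change s * ((y : G) * z) * s⁻¹ = s * y * s⁻¹ * (s * z * s⁻¹)
        group) }
  have hφ : MonoidHom.FixedPointFree φ := by
    intro y hy
    have h1 : s * (y : G) * s⁻¹ = y := congrArg Subtype.val hy
    exact Subtype.ext (hfix y y.2 ((mul_inv_eq_iff_eq_mul.mp h1).symm))
  have hφ2 : Function.Involutive φ := by
    intro y
    apply Subtype.ext
    change s * (s * (y : G) * s⁻¹) * s⁻¹ = y
    have h1 : s * (s * (y : G) * s⁻¹) * s⁻¹ = (s * s) * y * (s⁻¹ * s⁻¹) := by group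
    rw [h1, hs, hs', hs, one_mul, mul_one]
  have h1 := congrFun (hφ.coe_eq_inv_of_involutive hφ2) ⟨x, hx⟩
  exact congrArg Subtype.val h1

variable {G : Type*} [Group G] {k : ℕ}

/-- Core inclusions and the vanishing of the `Δ`, case I. -/
structure Bals (f : D k → D k → G) : Prop where
  z₁ : ∀ s e : D k, (s = sr 0 ∨ s = sr 0 * c k) → (e = 1 ∨ e = c k) →
    centralizerPPrimeCore 2 (f (c k) (c k)) ⊓ centralizer ({f s e} : Set G) ≤ centralizerPPrimeCore 2 (f s e)
  z₂ : ∀ s e : D k, (s = sr 0 ∨ s = sr 0 * c k) → (e = 1 ∨ e = c k) →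
    centralizerPPrimeCore 2 (f (c k) (c k)) ⊓ centralizer ({f e s} : Set G) ≤ centralizerPPrimeCore 2 (f e s)
  iso : centralizerPPrimeCore 2 (f (c k) (c k)) ⊓ centralizerPPrimeCore 2 (f (c k) 1) ≤
    centralizerPPrimeCore 2 (f 1 (c k))
  delta : ∀ a ∈ Cfsg.Agent.LFourA.Facts.V (0 : ZMod (4 * 2 ^ k)), ∀ b ∈ Cfsg.Agent.LFourA.Facts.V (0 : ZMod (4 * 2 ^ k)),
    f a b ≠ 1 → f a b ≠ f (c k) (c k) → ∀ x, x ∈ centralizerPPrimeCore 2 (f (c k) (c k)) →
      x ∈ centralizerPPrimeCore 2 (f a b) → x ∈ centralizerPPrimeCore 2 (f (c k * a) (c k * b)) → x = 1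

variable [Finite G] {P : Sylow 2 G} {f : D k → D k → G} {w : G}

section

variable (h : DWr (P : Subgroup G) k f w)

include h

theorem inv₁_zero (B : Bals f) {s e : D k} (hs : s = sr 0 ∨ s = sr 0 * c k) (he : e = 1 ∨ e = c k) :
    ∀ o ∈ centralizerPPrimeCore 2 (f (c k) (c k)), f s e * o * (f s e)⁻¹ = o⁻¹ := by
  have hss : s * s = 1 := by
    rcases hs with rfl | rfl
    · exact sr_mul_self _
    · rw [sr_c]; exact sr_mul_self _
  have hee : e * e = 1 := by
    rcases he with rfl | rfl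
    · exact one_mul _
    · exact c_mul_c
  refine inv_of_fpf (by rw [h.f_mul, hss, hee, f_one h]) ?_ ?_
  · intro x hx
    exact core_conj_mem (z_comm h (f_mem h _ _)).symm hx
  · intro x hx hxb
    have hxz := core_comm hx
    have hsV : s ∈ Cfsg.Agent.LFourA.Facts.V (0 : ZMod (4 * 2 ^ k)) := by
      rcases hs with rfl | rfl
      · exact sr_mem_V 0
      · exact src_mem_V 0
    have heV : e ∈ Cfsg.Agent.LFourA.Facts.V (0 : ZMod (4 * 2 ^ k)) := by
      rcases he with rfl | rfl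
      · exact one_mem _
      · exact c_mem_V 0
    have hne : ∀ d, s = d → (d = 1 ∨ d = c k) → False := by
      rintro d rfl hd
      rcases hs with rfl | rfl <;> rcases hd with hd | hd
      · exact sr_ne_one _ hd
      · exact sr_ne_c _ hd
      · exact src_ne_one _ hd
      · exact src_ne_c _ hd
    refine B.delta s hsV e heV ?_ ?_ x hx ?_ ?_
    · intro h1
      exact hne 1 ((f_eq_one_iff h).1 h1).1 (Or.inl rfl)
    · intro h1
      exact hne (c k) ((f_eq_iff h).1 h1).1 (Or.inr rfl)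
    · exact B.z₁ s e hs he (mem_inf.2 ⟨hx, mem_centralizer_singleton_iff.2 hxb⟩)
    · have h1 : c k * s = sr 0 ∨ c k * s = sr 0 * c k := by
        rcases hs with rfl | rfl
        · right; exact c_comm _
        · left; rw [c_comm, mul_assoc, c_mul_c, mul_one]
      have h2 : c k * e = 1 ∨ c k * e = c k := by
        rcases he with rfl | rfl
        · right; exact mul_one _
        · left; exact c_mul_c
      refine B.z₁ _ _ h1 h2 (mem_inf.2 ⟨hx, mem_centralizer_singleton_iff.2 ?_⟩)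
      rw [← h.f_mul, ← mul_assoc, hxz, mul_assoc, hxb, ← mul_assoc]

theorem inv₂_zero (B : Bals f) {s e : D k} (hs : s = sr 0 ∨ s = sr 0 * c k) (he : e = 1 ∨ e = c k) :
    ∀ o ∈ centralizerPPrimeCore 2 (f (c k) (c k)), f e s * o * (f e s)⁻¹ = o⁻¹ := by
  intro o ho
  have hwz : w * f (c k) (c k) = f (c k) (c k) * w := (z_comm h (w_mem h)).symm
  have h1 := core_conj_mem (y := w) hwz ho
  have h2 := inv₁_zero h B hs he _ h1
  have h3 : f e s = w⁻¹ * f s e * w := (w_conj' h s e).symm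
  calc f e s * o * (f e s)⁻¹ = w⁻¹ * (f s e * (w * o * w⁻¹) * (f s e)⁻¹) * w := by rw [h3]; group
    _ = o⁻¹ := by rw [h2]; group

theorem inv₁ (B : Bals f) (B' : Bals (fun a b => f (FusionMain.sh k a) (FusionMain.sh k b)))
    (i : ZMod (4 * 2 ^ k)) (e : D k) (he : e = 1 ∨ e = c k) :
    ∀ o ∈ centralizerPPrimeCore 2 (f (c k) (c k)), f (sr i) e * o * (f (sr i) e)⁻¹ = o⁻¹ := by
  have key : ∀ j : ZMod (4 * 2 ^ k), pa j = pa i →
      (∀ o ∈ centralizerPPrimeCore 2 (f (c k) (c k)), f (sr j) e * o * (f (sr j) e)⁻¹ = o⁻¹) →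
      ∀ o ∈ centralizerPPrimeCore 2 (f (c k) (c k)), f (sr i) e * o * (f (sr i) e)⁻¹ = o⁻¹ := by
    intro j hj hinv o ho
    obtain ⟨l, hl⟩ := Cfsg.Agent.LFourA.FThree.exists_conj_sr hj
    have h1 : f (r l) 1 * f (sr j) e * (f (r l) 1)⁻¹ = f (sr i) e := by
      rw [f_conj h, hl, one_mul, inv_one, mul_one]
    have hlz : (f (r l) 1)⁻¹ * f (c k) (c k) = f (c k) (c k) * (f (r l) 1)⁻¹ :=
      (z_comm h (inv_mem (f_mem h _ _))).symm
    have h2 := core_conj_mem (y := (f (r l) 1)⁻¹) hlz ho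
    have h3 := hinv _ h2
    calc f (sr i) e * o * (f (sr i) e)⁻¹
        = f (r l) 1 * (f (sr j) e * ((f (r l) 1)⁻¹ * o * (f (r l) 1)⁻¹⁻¹) * (f (sr j) e)⁻¹) * (f (r l) 1)⁻¹ := by
          rw [← h1]; group
      _ = o⁻¹ := by rw [h3]; group
  rcases zmod2_cases (pa i) with hi | hi
  · exact key 0 (by rw [hi, map_zero]) (inv₁_zero h B (Or.inl rfl) he)
  · refine key 1 (by rw [hi, map_one]) ?_
    have h1 := inv₁_zero (FusionMain.shift h) B' (s := sr 0) (e := e) (Or.inl rfl) he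
    have he' : FusionMain.sh k e = e := by
      rcases he with rfl | rfl <;> rfl
    have hs : FusionMain.sh k (sr 0) = sr 1 := by rw [FusionMain.sh_sr, zero_add]
    intro o ho
    have h2 := h1 o ho
    rw [he', hs] at h2
    exact h2

theorem inv₂ (B : Bals f) (B' : Bals (fun a b => f (FusionMain.sh k a) (FusionMain.sh k b)))
    (i : ZMod (4 * 2 ^ k)) (e : D k) (he : e = 1 ∨ e = c k) :
    ∀ o ∈ centralizerPPrimeCore 2 (f (c k) (c k)), f e (sr i) * o * (f e (sr i))⁻¹ = o⁻¹ := by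
  intro o ho
  have hwz : w * f (c k) (c k) = f (c k) (c k) * w := (z_comm h (w_mem h)).symm
  have h1 := core_conj_mem (y := w) hwz ho
  have h2 := inv₁ h B B' i e he _ h1
  have h3 : f e (sr i) = w⁻¹ * f (sr i) e * w := (w_conj' h _ _).symm
  calc f e (sr i) * o * (f e (sr i))⁻¹ = w⁻¹ * (f (sr i) e * (w * o * w⁻¹) * (f (sr i) e)⁻¹) * w := by rw [h3]; group
    _ = o⁻¹ := by rw [h2]; group

end

end Cfsg.Agent.LFourA.KlCore
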