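import Mathlib
import Cfsg.Agent.LFourA.ClassInv
import Cfsg.Agent.ClassificationK.SymplTransfer

/-!
# `C(T)` has a normal 2-complement, `T = ⟨t, t'⟩`
-/

set_option autoImplicit false

namespace Cfsg.Agent.LFourA.KlCT

open DihedralGroup Cfsg.Agent.LFourA.Model Cfsg.Agent.LFourA.Base Cfsg.Agent.LFourA.Facts Subgroup
open Cfsg.Agent.Lib.GoldschmidtFusion Cfsg.Agent.LFourA.FOne Cfsg.Agent.LFourA.Defs Cfsg.Agent.LFourA.FTwo
open Cfsg.Agent.TwoFusion.OddAut Cfsg.Agent.LFourA.FThree Cfsg.Agent.LFourA.Burn Cfsg.Agent.LFourA.RhoFix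
open Cfsg.Agent.LFourA.CentT Cfsg.Agent.LFourA.ClassInv

/-- The sign of an element of `D k`. -/
def sg (k : ℕ) : D k →* ℤˣ where
  toFun x := match x with
    | r _ => 1
    | sr _ => -1
  map_one' := rfl
  map_mul' := by
    rintro (i | i) (j | j)
    · rfl
    · rfl
    · rfl
    · rw [sr_mul_sr]; rfl

theorem sg_r {k : ℕ} (i : ZMod (4 * 2 ^ k)) : sg k (r i) = 1 := rfl

theorem sg_sr {k : ℕ} (i : ZMod (4 * 2 ^ k)) : sg k (sr i) = -1 := rfl

theorem mem_Rt_of_sg {k : ℕ} {a : D k} (h : sg k a = 1) : a ∈ Rt k := by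
  rcases a with i | i
  · exact ⟨i, rfl⟩
  · rw [sg_sr] at h
    exact absurd h (by decide)

variable {G : Type*} [Group G] {k : ℕ} {f : D k → D k → G} {w : G}

variable [Finite G] {P : Sylow 2 G} (h : DWr (P : Subgroup G) k f w)

/-- `C(T)`. -/
def Y (f : D k → D k → G) : Subgroup G := centralizer ({f (c k) 1} : Set G) ⊓ centralizer ({f 1 (c k)} : Set G)

omit [Finite G] in
theorem mem_Y {x : G} : x ∈ Y f ↔ x * f (c k) 1 = f (c k) 1 * x ∧ x * f 1 (c k) = f 1 (c k) * x := by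
  rw [Y, mem_inf, mem_centralizer_singleton_iff, mem_centralizer_singleton_iff]

omit [Finite G] in
include h in
theorem base_le_Y : base h ≤ Y f := by
  rintro _ ⟨a, b, rfl⟩
  exact mem_Y.2 ⟨(f_comm_center h (Or.inr rfl) (Or.inl rfl)).symm, (f_comm_center h (Or.inl rfl) (Or.inr rfl)).symm⟩

include h in
theorem not_dvd_base : ¬ 2 ∣ (base h).relIndex (Y f) := by
  intro hd
  apply not_dvd_relIndex_base h
  rw [← relIndex_mul_relIndex (base h) (Y f) (centralizer ({f (c k) 1} : Set G)) (base_le_Y h) inf_le_left]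
  exact dvd_mul_of_dvd_left hd _

/-- The homomorphisms `f a b ↦ sg a`, `f a b ↦ sg b` on the base group. -/
noncomputable def phi (ψ : D k × D k →* ℤˣ) : (base h).subgroupOf (Y f) →* ℤˣ :=
  (ψ.comp ((MonoidHom.ofInjective (F_injective h)).symm.toMonoidHom)).comp
    { toFun := fun x => ⟨x.1.1, by
        obtain ⟨a, b, e⟩ := (mem_base h).1 (mem_subgroupOf.1 x.2)
        exact ⟨(a, b), e.symm⟩⟩
      map_one' := rfl
      map_mul' := fun _ _ => rfl }

omit [Finite G] in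
theorem phi_apply (ψ : D k × D k →* ℤˣ) {x : (base h).subgroupOf (Y f)} {a b : D k} (hx : (x.1.1 : G) = f a b) :
    phi h ψ x = ψ (a, b) := by
  have h1 : (MonoidHom.ofInjective (F_injective h)).symm ⟨x.1.1, ⟨(a, b), hx.symm⟩⟩ = (a, b) := by
    rw [MulEquiv.symm_apply_eq]
    exact Subtype.ext hx
  change ψ ((MonoidHom.ofInjective (F_injective h)).symm ⟨x.1.1, _⟩) = _
  rw [h1]

include h in
theorem index_odd : Odd ((base h).subgroupOf (Y f)).index := by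
  have h1 := not_dvd_base h
  rw [relIndex] at h1
  exact Nat.not_even_iff_odd.1 (fun h2 => h1 h2.two_dvd)

include h in
/-- The two homomorphisms `C(T) → {± 1}`. -/
theorem exists_hom (ht : Typ f) (ψ : D k × D k →* ℤˣ) (c₁ c₂ : ℤˣ) (h1 : ∀ i, ψ (sr i, 1) = c₁)
    (h2 : ∀ i, ψ (1, sr i) = c₂) :
    ∃ V : Y f →* ℤˣ, (∀ i (hi : f (sr i) 1 ∈ Y f), V ⟨_, hi⟩ = c₁) ∧ ∀ i (hi : f 1 (sr i) ∈ Y f), V ⟨_, hi⟩ = c₂ := by
  classical
  have hu2 : ∀ u : ℤˣ, u ^ 2 = 1 := by decide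
  refine ⟨MonoidHom.transfer (phi h ψ), ?_, ?_⟩
  · intro i hi
    have hsq : f (sr i) 1 ^ 2 = 1 := by rw [pow_two, h.f_mul, sr_mul_self, one_mul, f_one h]
    refine Cfsg.Agent.ClassificationK.SymplTransfer.transfer_eq (phi h ψ) (index_odd h) (u := ⟨_, hi⟩) ?_ (hu2 c₁) ?_ ?_
    · apply Subtype.ext
      change f (sr i) 1 ^ 4 = 1
      have e4 : ∀ y : G, y ^ 2 = 1 → y ^ 4 = 1 := fun y hy => by
        rw [show (4 : ℕ) = 2 * 2 from rfl, pow_mul, hy, one_pow]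
      exact e4 _ hsq
    · intro g hg
      obtain ⟨hg1, hg2⟩ := mem_Y.1 (inv_mem g.2)
      have hb : (g : G)⁻¹ * f (sr i) 1 * ((g : G)⁻¹)⁻¹ ∈ base h := by
        rw [inv_inv]
        exact mem_subgroupOf.1 hg
      obtain ⟨j, hj⟩ := conj_sr_mem h ht hg1 hg2 hb
      rw [inv_inv] at hj
      rw [phi_apply h ψ (a := sr j) (b := 1) hj, h1]
    · intro g hg
      have e : (g⁻¹ * (⟨f (sr i) 1, hi⟩ : Y f) ^ 2 * g) = 1 := by
        have e1 : (⟨f (sr i) 1, hi⟩ : Y f) ^ 2 = 1 := Subtype.ext hsq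
        rw [e1, mul_one, inv_mul_cancel]
      have e2 : (⟨g⁻¹ * (⟨f (sr i) 1, hi⟩ : Y f) ^ 2 * g, hg⟩ : (base h).subgroupOf (Y f)) = 1 := Subtype.ext e
      rw [e2, map_one]
  · intro i hi
    have hsq : f 1 (sr i) ^ 2 = 1 := by rw [pow_two, h.f_mul, sr_mul_self, one_mul, f_one h]
    refine Cfsg.Agent.ClassificationK.SymplTransfer.transfer_eq (phi h ψ) (index_odd h) (u := ⟨_, hi⟩) ?_ (hu2 c₂) ?_ ?_
    · apply Subtype.ext
      change f 1 (sr i) ^ 4 = 1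
      have e4 : ∀ y : G, y ^ 2 = 1 → y ^ 4 = 1 := fun y hy => by
        rw [show (4 : ℕ) = 2 * 2 from rfl, pow_mul, hy, one_pow]
      exact e4 _ hsq
    · intro g hg
      obtain ⟨hg1, hg2⟩ := mem_Y.1 (inv_mem g.2)
      have hb : (g : G)⁻¹ * f 1 (sr i) * ((g : G)⁻¹)⁻¹ ∈ base h := by
        rw [inv_inv]
        exact mem_subgroupOf.1 hg
      obtain ⟨j, hj⟩ := conj_one_sr_mem h ht hg1 hg2 hb
      rw [inv_inv] at hj
      rw [phi_apply h ψ (a := 1) (b := sr j) hj, h2]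
    · intro g hg
      have e : (g⁻¹ * (⟨f 1 (sr i), hi⟩ : Y f) ^ 2 * g) = 1 := by
        have e1 : (⟨f 1 (sr i), hi⟩ : Y f) ^ 2 = 1 := Subtype.ext hsq
        rw [e1, mul_one, inv_mul_cancel]
      have e2 : (⟨g⁻¹ * (⟨f 1 (sr i), hi⟩ : Y f) ^ 2 * g, hg⟩ : (base h).subgroupOf (Y f)) = 1 := Subtype.ext e
      rw [e2, map_one]

omit [Finite G] in
include h in
/-- The value on the base group. -/
theorem val_base {V : Y f →* ℤˣ} {c₁ c₂ : ℤˣ} (h1 : ∀ i (hi : f (sr i) 1 ∈ Y f), V ⟨_, hi⟩ = c₁)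
    (h2 : ∀ i (hi : f 1 (sr i) ∈ Y f), V ⟨_, hi⟩ = c₂) (hc₁ : c₁ * c₁ = 1) (hc₂ : c₂ * c₂ = 1)
    (a b : D k) (hab : f a b ∈ Y f) : V ⟨_, hab⟩ = (if sg k a = 1 then 1 else c₁) * (if sg k b = 1 then 1 else c₂) := by
  have hYa : ∀ a b : D k, f a b ∈ Y f := fun a b => base_le_Y h (f_mem_base h a b)
  have hmul : ∀ (a b a' b' : D k), V ⟨f (a * a') (b * b'), hYa _ _⟩ = V ⟨f a b, hYa _ _⟩ * V ⟨f a' b', hYa _ _⟩ := by
    intro a b a' b'
    rw [← map_mul]
    congr 1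
    exact Subtype.ext (h.f_mul a b a' b').symm
  have ha : ∀ a : D k, V ⟨f a 1, hYa _ _⟩ = if sg k a = 1 then 1 else c₁ := by
    intro a
    rcases a with i | i
    · rw [sg_r, if_pos rfl]
      have h3 := hmul (sr 0) 1 (sr i) 1
      rw [h1, h1, hc₁] at h3
      rw [← h3]
      congr 1
      apply Subtype.ext
      change f (r i) 1 = f (sr 0 * sr i) (1 * 1)
      rw [sr_mul_sr, sub_zero, one_mul]
    · rw [h1, if_neg]
      rw [sg_sr]; decide
  have hb : ∀ b : D k, V ⟨f 1 b, hYa _ _⟩ = if sg k b = 1 then 1 else c₂ := by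
    intro b
    rcases b with i | i
    · rw [sg_r, if_pos rfl]
      have h3 := hmul 1 (sr 0) 1 (sr i)
      rw [h2, h2, hc₂] at h3
      rw [← h3]
      congr 1
      apply Subtype.ext
      change f 1 (r i) = f (1 * 1) (sr 0 * sr i)
      rw [sr_mul_sr, sub_zero, one_mul]
    · rw [h2, if_neg]
      rw [sg_sr]; decide
  have h3 := hmul a 1 1 b
  rw [ha, hb] at h3
  rw [← h3]
  congr 1
  apply Subtype.ext
  change f a b = f (a * 1) (1 * b)
  rw [mul_one, one_mul]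

/-- A normal 2-complement of `C(T)`. -/
structure Compl (h : DWr (P : Subgroup G) k f w) (K : Subgroup G) : Prop where
  le : K ≤ Y f
  odd : ¬ 2 ∣ Nat.card K
  norm : ∀ x ∈ Y f, ∀ y ∈ K, x * y * x⁻¹ ∈ K
  decomp : ∀ x ∈ Y f, ∃ o ∈ K, ∃ b ∈ base h, x = o * b

theorem exists_compl (ht : Typ f) : ∃ K : Subgroup G, Compl h K := by
  classical
  obtain ⟨V₁, h11, h12⟩ := exists_hom h ht ((sg k).comp (MonoidHom.fst _ _)) (-1) 1 (fun i => sg_sr i) (fun i => rfl)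
  obtain ⟨V₂, h21, h22⟩ := exists_hom h ht ((sg k).comp (MonoidHom.snd _ _)) 1 (-1) (fun i => rfl) (fun i => sg_sr i)
  have hv1 := fun a b hab => val_base h h11 h12 (by decide) (by decide) a b hab
  have hv2 := fun a b hab => val_base h h21 h22 (by decide) (by decide) a b hab
  have hYab : ∀ a b : D k, f a b ∈ Y f := fun a b => base_le_Y h (f_mem_base h a b)
  -- the kernel
  set Y0 : Subgroup G := (V₁.ker ⊓ V₂.ker).map (Y f).subtype with hY0
  have hmemY0 : ∀ x, x ∈ Y0 ↔ ∃ hx : x ∈ Y f, V₁ ⟨x, hx⟩ = 1 ∧ V₂ ⟨x, hx⟩ = 1 := by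
    intro x
    constructor
    · rintro ⟨y, ⟨h1, h2⟩, rfl⟩
      exact ⟨y.2, h1, h2⟩
    · rintro ⟨hx, h1, h2⟩
      exact ⟨⟨x, hx⟩, ⟨h1, h2⟩, rfl⟩
  have hY0Y : Y0 ≤ Y f := fun x hx => ((hmemY0 x).1 hx).1
  have hY0n : ∀ x ∈ Y f, ∀ y ∈ Y0, x * y * x⁻¹ ∈ Y0 := by
    intro x hx y hy
    obtain ⟨hyY, h1, h2⟩ := (hmemY0 y).1 hy
    refine (hmemY0 _).2 ⟨mul_mem (mul_mem hx hyY) (inv_mem hx), ?_, ?_⟩
    · have e : V₁ (⟨x, hx⟩ * ⟨y, hyY⟩ * ⟨x, hx⟩⁻¹) = 1 := by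
        rw [map_mul, map_mul, h1, map_inv, mul_one, mul_inv_cancel]
      exact e
    · have e : V₂ (⟨x, hx⟩ * ⟨y, hyY⟩ * ⟨x, hx⟩⁻¹) = 1 := by
        rw [map_mul, map_mul, h2, map_inv, mul_one, mul_inv_cancel]
      exact e
  have hbase0 : ∀ a b : D k, f a b ∈ Y0 → f a b ∈ A h := by
    intro a b hab
    obtain ⟨hx, h1, h2⟩ := (hmemY0 _).1 hab
    rw [hv1] at h1
    rw [hv2] at h2
    have ha : sg k a = 1 := by
      by_contra hne
      rw [if_neg hne] at h1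
      split_ifs at h1 <;> exact absurd h1 (by decide)
    have hb : sg k b = 1 := by
      by_contra hne
      rw [if_neg hne] at h2
      split_ifs at h2 <;> exact absurd h2 (by decide)
    exact (mem_A h).2 ⟨a, mem_Rt_of_sg ha, b, mem_Rt_of_sg hb, rfl⟩
  have hA0 : A h ≤ Y0 := by
    intro x hx
    obtain ⟨_, ⟨i, rfl⟩, _, ⟨j, rfl⟩, rfl⟩ := (mem_A h).1 hx
    refine (hmemY0 _).2 ⟨hYab _ _, ?_, ?_⟩
    · rw [hv1, sg_r, sg_r, if_pos rfl, if_pos rfl, one_mul]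
    · rw [hv2, sg_r, sg_r, if_pos rfl, if_pos rfl, one_mul]
  -- `A` is a maximal 2-subgroup of `Y0`
  have hmax : ∀ R : Subgroup G, A h ≤ R → IsPGroup 2 R → R ≤ Y0 → R = A h := by
    intro R hAR hR hRY
    obtain ⟨g, hg, hgR⟩ := exists_conj_le_in (P.isPGroup'.to_le (base_le h)) (not_dvd_base h) (hRY.trans hY0Y) hR
    have hle : R.map (MulAut.conj g).toMonoidHom ≤ A h := by
      rintro _ ⟨x, hx, rfl⟩
      obtain ⟨a, b, hab⟩ := (mem_base h).1 (hgR ⟨x, hx, rfl⟩)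
      have h1 : (MulAut.conj g).toMonoidHom x ∈ Y0 := hY0n g hg x (hRY hx)
      rw [hab] at h1 ⊢
      exact hbase0 a b h1
    symm
    apply Subgroup.eq_of_le_of_card_ge hAR
    rw [← card_map_conj R g]
    exact Subgroup.card_le_of_le hle
  have hnd : ¬ 2 ∣ (A h).relIndex Y0 := by
    obtain ⟨R, hAR, hRY, hR, hRi⟩ := exists_sylow_in (p := 2) hA0 (A_isPGroup h)
    rwa [hmax R hAR hR hRY] at hRi
  -- elements of `Y0` normalising `A` centralise it
  have hN : ∀ x ∈ Y0, (∀ a ∈ A h, x * a * x⁻¹ ∈ A h) → ∀ a ∈ A h, x * a = a * x := by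
    intro x hx hxA
    obtain ⟨a, n, hn, hKo⟩ := Nat.exists_eq_two_pow_mul_odd (orderOf_pos x).ne'
    have hK'2 : IsPGroup 2 (zpowers (x ^ n)) := by
      rintro ⟨y, hy⟩
      obtain ⟨z, rfl⟩ := mem_zpowers_iff.1 hy
      refine ⟨a, Subtype.ext ?_⟩
      change ((x ^ n) ^ z) ^ 2 ^ a = 1
      have e1 : (x ^ n) ^ 2 ^ a = 1 := by
        rw [← pow_mul, mul_comm, ← hKo, pow_orderOf_eq_one]
      rw [← zpow_natCast, ← zpow_mul, mul_comm, zpow_mul, zpow_natCast, e1, one_zpow]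
    have hnA : ∀ n : ℕ, ∀ a ∈ A h, x ^ n * a * (x ^ n)⁻¹ ∈ A h := by
      intro n
      induction n with
      | zero => intro a ha; simpa using ha
      | succ n ih =>
        intro a ha
        have e : x ^ (n + 1) * a * (x ^ (n + 1))⁻¹ = x * (x ^ n * a * (x ^ n)⁻¹) * x⁻¹ := by rw [pow_succ']; group
        rw [e]
        exact hxA _ (ih a ha)
    have hnorm : zpowers (x ^ n) ≤ normalizer (A h : Set G) := by
      rw [zpowers_le, mem_normalizer_iff_map_conj]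
      apply map_conj_le_of_le_normalizer
      rintro _ ⟨y, hy, rfl⟩
      exact hnA n y hy
    have hsup : IsPGroup 2 (zpowers (x ^ n) ⊔ A h : Subgroup G) :=
      IsPGroup.to_sup_of_normal_right' hK'2 (A_isPGroup h) hnorm
    have hxY : zpowers (x ^ n) ⊔ A h ≤ Y0 := by
      rw [sup_le_iff, zpowers_le]
      exact ⟨Subgroup.pow_mem _ hx n, hA0⟩
    have heq := hmax _ le_sup_right hsup hxY
    have hxn : x ^ n ∈ A h := by
      rw [← heq]
      exact mem_sup_left (mem_zpowers _)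
    have hodd : IsOddAut (A h) (fun y => x * y * x⁻¹) := by
      refine ⟨hxA, ?_, n, hn, ?_⟩
      · intro y _ z _
        group
      · intro y hy
        have e : ∀ m : ℕ, (fun y => x * y * x⁻¹)^[m] y = x ^ m * y * (x ^ m)⁻¹ := by
          intro m
          induction m with
          | zero => simp
          | succ m ih =>
            rw [Function.iterate_succ_apply', ih, pow_succ']
            group
        rw [e, A_comm h hxn hy, mul_inv_cancel_right]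
    have hT := mem_Y.1 (hY0Y hx)
    intro y hy
    have h1 := odd_aut_abelian hodd (fun _ hx _ hy => A_comm h hx hy) (by
      intro y hy hy2
      obtain ⟨_, ⟨i, rfl⟩, _, ⟨j, rfl⟩, rfl⟩ := (mem_A h).1 hy
      rw [f_sq_one_iff h] at hy2
      change x * f (r i) (r j) * x⁻¹ = f (r i) (r j)
      rcases T_cases h (rot_sq_one hy2.1) (rot_sq_one hy2.2) with h3 | h3 | h3 | h3
      · rw [h3]; group
      · rw [h3, hT.1, mul_inv_cancel_right]
      · rw [h3, hT.2, mul_inv_cancel_right]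
      · rw [h3, ← t_mul_t' h, ← mul_assoc, hT.1, mul_assoc _ x, hT.2, ← mul_assoc, mul_inv_cancel_right]) (k + 2) y hy (by
      obtain ⟨_, ⟨i, rfl⟩, _, ⟨j, rfl⟩, rfl⟩ := (mem_A h).1 hy
      have e1 : 2 ^ (k + 2) = 4 * 2 ^ k := by rw [pow_add]; ring
      have e2 : ∀ i : ZMod (4 * 2 ^ k), (r i : D k) ^ (4 * 2 ^ k) = 1 := by
        intro i
        rw [r_eq_pow, pow_right_comm, r_one_pow_n, one_pow]
      rw [f_pow h, e1, e2, e2, f_one h])
    change x * y * x⁻¹ = y at h1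
    rw [mul_inv_eq_iff_eq_mul] at h1
    exact h1
  obtain ⟨K, hKY, hK2, hKA, hKo, hKn⟩ := burnside_in (A_isPGroup h) hA0 hnd hN
  refine ⟨K, hKY.trans hY0Y, hK2, ?_, ?_⟩
  · intro x hx y hy
    apply hKo _ (hY0n x hx y (hKY hy))
    have h7 : orderOf (x * y * x⁻¹) = orderOf y := by
      have h8 := orderOf_injective (MulAut.conj x).toMonoidHom (MulAut.conj x).injective y
      simpa using h8
    rw [h7]
    intro h8
    apply hK2
    have h9 : orderOf (⟨y, hy⟩ : K) ∣ Nat.card K := orderOf_dvd_natCard _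
    rw [Subgroup.orderOf_mk] at h9
    exact h8.trans h9
  · intro x hx
    -- an element of the base group with the same signs
    obtain ⟨a, b, ha, hb⟩ : ∃ a b : D k, V₁ ⟨x, hx⟩ = sg k a ∧ V₂ ⟨x, hx⟩ = sg k b := by
      have hs : ∀ u : ℤˣ, ∃ a : D k, u = sg k a := by
        intro u
        rcases Int.units_eq_one_or u with hu | hu
        · exact ⟨1, by rw [hu, map_one]⟩
        · exact ⟨sr 0, by rw [hu, sg_sr]⟩
      obtain ⟨a, ha⟩ := hs (V₁ ⟨x, hx⟩)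
      obtain ⟨b, hb⟩ := hs (V₂ ⟨x, hx⟩)
      exact ⟨a, b, ha, hb⟩
    have hsg : ∀ a : D k, (if sg k a = 1 then (1 : ℤˣ) else -1) = sg k a := by
      intro a
      rcases Int.units_eq_one_or (sg k a) with hu | hu
      · rw [hu, if_pos rfl]
      · rw [hu]; decide
    have hone : ∀ a : D k, (if sg k a = 1 then (1 : ℤˣ) else 1) = 1 := fun a => by split_ifs <;> rfl
    have hx0 : x * (f a b)⁻¹ ∈ Y0 := by
      refine (hmemY0 _).2 ⟨mul_mem hx (inv_mem (hYab a b)), ?_, ?_⟩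
      · have e : V₁ (⟨x, hx⟩ * ⟨f a b, hYab a b⟩⁻¹) = 1 := by
          rw [map_mul, map_inv, ha, hv1, hsg, hone, mul_one, mul_inv_cancel]
        exact e
      · have e : V₂ (⟨x, hx⟩ * ⟨f a b, hYab a b⟩⁻¹) = 1 := by
          rw [map_mul, map_inv, hb, hv2, hsg, hone, one_mul, mul_inv_cancel]
        exact e
    obtain ⟨o, ho, y, hy, he⟩ := hKA _ hx0
    obtain ⟨p, -, q, -, rfl⟩ := (mem_A h).1 hy
    refine ⟨o, ho, f p q * f a b, (base h).mul_mem (f_mem_base h _ _) (f_mem_base h _ _), ?_⟩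
    rw [← mul_assoc, ← he, inv_mul_cancel_right]

end Cfsg.Agent.LFourA.KlCT
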