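import Mathlib
import Cfsg.Agent.Lib.PSL2Torus
import Cfsg.Agent.TwoFusion.SLTwoFacts
import Cfsg.Agent.SmallSimple.PSLTwoPart

/-!
# Generation of `PSL(2,9)` by the centralisers of the involutions of two four-groups
-/

set_option autoImplicit false

namespace Cfsg.Agent.LFourA.KlNine

open Subgroup

variable {L : Type*} [Group L] [Finite L]

/-- A proper subgroup of a finite simple group of order 360 has index at least six. -/
theorem eq_top_of_index [IsSimpleGroup L] (hcard : Nat.card L = 360) {A : Subgroup L} (hA : A.index ≤ 5) : A = ⊤ := by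
  by_contra hne
  have h1 : A.normalCore = ⊥ := by
    rcases (normalCore_normal A).eq_bot_or_eq_top with h | h
    · exact h
    · exact absurd (top_le_iff.1 (h ▸ normalCore_le A)) hne
  have h2 : (A.normalCore).index ∣ Nat.factorial A.index := by
    have hk : (MulAction.toPermHom L (L ⧸ A)).ker = A.normalCore := (normalCore_eq_ker A).symm
    have h3 : (MulAction.toPermHom L (L ⧸ A)).ker.index = Nat.card (MulAction.toPermHom L (L ⧸ A)).range := by
      rw [Subgroup.index_ker]
    rw [← hk, h3]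
    have h4 := card_subgroup_dvd_card (MulAction.toPermHom L (L ⧸ A)).range
    rwa [Nat.card_perm] at h4
  rw [h1, index_bot, hcard] at h2
  have h3 : A.index ≠ 0 := index_ne_zero_of_finite
  have h4 : Nat.factorial A.index ≤ 120 := (Nat.factorial_le hA).trans (by decide)
  have h5 := Nat.le_of_dvd (Nat.factorial_pos _) h2
  omega

omit [Finite L] in
/-- `V = {1, a, b, a b}` is normal in `C(v)`, `v ∈ V`: elements of `C(v)` permute `V`. -/
theorem norm_of_cent {v w : L} (hv1 : v ≠ 1) (hw1 : w ≠ 1) (hvw : v ≠ w) (hv : v * v = 1) (hw : w * w = 1) (hc : v * w = w * v)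
    (hcard : Nat.card (centralizer ({v} : Set L)) = 8)
    (hself : ∀ x, x * v = v * x → x * w = w * x → x = 1 ∨ x = v ∨ x = w ∨ x = v * w)
    {g : L} (hg : g * v = v * g) : g * w * g⁻¹ = w ∨ g * w * g⁻¹ = v * w := by
  classical
  -- the four-group in `C(v)` has index two
  let V : Subgroup L := centralizer ({v} : Set L) ⊓ centralizer ({w} : Set L)
  have hVmem : ∀ x, x ∈ V ↔ x = 1 ∨ x = v ∨ x = w ∨ x = v * w := by
    intro x
    constructor
    · rintro ⟨h1, h2⟩
      exact hself x (mem_centralizer_singleton_iff.1 h1) (mem_centralizer_singleton_iff.1 h2)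
    · have hvV : v ∈ V := ⟨mem_centralizer_singleton_iff.2 rfl, mem_centralizer_singleton_iff.2 hc⟩
      have hwV : w ∈ V := ⟨mem_centralizer_singleton_iff.2 hc.symm, mem_centralizer_singleton_iff.2 rfl⟩
      rintro (rfl | rfl | rfl | rfl)
      · exact V.one_mem
      · exact hvV
      · exact hwV
      · exact V.mul_mem hvV hwV
  have hVcard : Nat.card V = 4 := by
    have h1 : (V : Set L) = ({1, v, w, v * w} : Finset L) := by
      ext x
      simp only [SetLike.mem_coe, hVmem, Finset.coe_insert, Finset.coe_singleton, Set.mem_insert_iff,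
        Set.mem_singleton_iff]
    have h2 : Nat.card V = (({1, v, w, v * w} : Finset L)).card := by
      have h3 : Nat.card V = Nat.card (V : Set L) := rfl
      rw [h3, h1, Nat.card_coe_set_eq, Set.ncard_coe_finset]
    rw [h2]
    have hvw1 : v * w ≠ 1 := by
      intro h
      apply hvw
      rw [← mul_one v, ← hw, ← mul_assoc, h, one_mul]
    rw [Finset.card_insert_of_notMem, Finset.card_insert_of_notMem, Finset.card_insert_of_notMem, Finset.card_singleton]
    · rw [Finset.mem_singleton]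
      intro h
      exact hv1 (right_eq_mul.1 h)
    · simp only [Finset.mem_insert, Finset.mem_singleton, not_or]
      exact ⟨hvw, fun h => hw1 (left_eq_mul.1 h)⟩
    · simp only [Finset.mem_insert, Finset.mem_singleton, not_or]
      exact ⟨hv1.symm, hw1.symm, hvw1.symm⟩
  have hVle : V ≤ centralizer ({v} : Set L) := inf_le_left
  have hidx : V.relIndex (centralizer ({v} : Set L)) = 2 := by
    have h1 := Subgroup.card_mul_index (V.subgroupOf (centralizer ({v} : Set L)))
    have h2 : Nat.card (V.subgroupOf (centralizer ({v} : Set L))) = 4 := by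
      rw [← hVcard]
      exact Nat.card_congr (subgroupOfEquivOfLe hVle).toEquiv
    rw [h2, hcard] at h1
    rw [relIndex]
    omega
  have hn : (V.subgroupOf (centralizer ({v} : Set L))).Normal := normal_of_index_eq_two hidx
  have hgC : g ∈ centralizer ({v} : Set L) := mem_centralizer_singleton_iff.2 hg
  have hwV : w ∈ V := (hVmem w).2 (by simp)
  have h1 := hn.conj_mem ⟨w, hVle hwV⟩ (mem_subgroupOf.2 hwV) ⟨g, hgC⟩
  have h2 : g * w * g⁻¹ ∈ V := mem_subgroupOf.1 h1
  rcases (hVmem _).1 h2 with h3 | h3 | h3 | h3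
  · exfalso
    rw [mul_inv_eq_one] at h3
    exact hw1 (mul_eq_left.1 h3)
  · exfalso
    apply hvw
    have h4 : w = g⁻¹ * v * g := by rw [← h3]; group
    rw [h4, mul_assoc, ← hg, inv_mul_cancel_left]
  · exact Or.inl h3
  · exact Or.inr h3

omit [Finite L] in
/-- Some element of `C(v)` maps `w` to `v w`. -/
theorem exists_move {v w : L} (hv1 : v ≠ 1) (hw1 : w ≠ 1) (hvw : v ≠ w) (hv : v * v = 1) (hw : w * w = 1) (hc : v * w = w * v)
    (hcard : Nat.card (centralizer ({v} : Set L)) = 8)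
    (hself : ∀ x, x * v = v * x → x * w = w * x → x = 1 ∨ x = v ∨ x = w ∨ x = v * w) :
    ∃ g, g * v = v * g ∧ g * w * g⁻¹ = v * w := by
  classical
  by_contra hcon
  push Not at hcon
  have h1 : ∀ g ∈ centralizer ({v} : Set L), g = 1 ∨ g = v ∨ g = w ∨ g = v * w := by
    intro g hg
    have hg' := mem_centralizer_singleton_iff.1 hg
    rcases norm_of_cent hv1 hw1 hvw hv hw hc hcard hself hg' with h2 | h2
    · exact hself g hg' (mul_inv_eq_iff_eq_mul.1 h2)
    · exact absurd h2 (hcon g hg')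
  have h2 : ((centralizer ({v} : Set L) : Subgroup L) : Set L) ⊆ (({1, v, w, v * w} : Finset L) : Set L) := by
    intro x hx
    simp only [Finset.coe_insert, Finset.coe_singleton, Set.mem_insert_iff, Set.mem_singleton_iff]
    exact h1 x hx
  have h3 : Nat.card (centralizer ({v} : Set L)) ≤ 4 := by
    calc Nat.card (centralizer ({v} : Set L)) = Nat.card ((centralizer ({v} : Set L) : Subgroup L) : Set L) := rfl
      _ ≤ Nat.card (({1, v, w, v * w} : Finset L) : Set L) := Nat.card_mono (Finset.finite_toSet _) h2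
      _ = ({1, v, w, v * w} : Finset L).card := by rw [Nat.card_coe_set_eq, Set.ncard_coe_finset]
      _ ≤ 4 := Finset.card_le_four
  omega

omit [Finite L] in
theorem comm_mul_of {v w g : L} (h1 : g * v = v * g) (h2 : g * w = w * g) : g * (v * w) = v * w * g := by
  rw [← mul_assoc, h1, mul_assoc, h2, mul_assoc]

/-- A subgroup containing `C(v)` for the three involutions `v` of `V` contains a subgroup of order 24 normalising `V`;
here: `24 ∣ |N_A(V)|`. -/
theorem dvd_card {a b : L} (ha1 : a ≠ 1) (hb1 : b ≠ 1) (hne : a ≠ b) (ha : a * a = 1) (hb : b * b = 1) (hc : a * b = b * a)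
    (h8 : ∀ v : L, v ≠ 1 → v * v = 1 → Nat.card (centralizer ({v} : Set L)) = 8)
    (hself : ∀ v w : L, v ≠ 1 → v * v = 1 → w ≠ 1 → w * w = 1 → w ≠ v → w * v = v * w → ∀ x, x * v = v * x → x * w = w * x →
      x = 1 ∨ x = v ∨ x = w ∨ x = v * w)
    {A : Subgroup L} (hA : ∀ x, x * a = a * x → x ∈ A) (hB : ∀ x, x * b = b * x → x ∈ A) :
    ∃ N : Subgroup L, N ≤ A ∧ 24 ∣ Nat.card N ∧ (∀ x ∈ N, ∀ v, (v = a ∨ v = b ∨ v = a * b) →
      (x * v * x⁻¹ = a ∨ x * v * x⁻¹ = b ∨ x * v * x⁻¹ = a * b)) ∧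
      (∃ y ∈ N, y * a * y⁻¹ = b) := by
  classical
  have hab1 : a * b ≠ 1 := by
    intro h
    apply hne
    rw [← mul_one a, ← hb, ← mul_assoc, h, one_mul]
  have hs1 := hself a b ha1 ha hb1 hb hne.symm hc.symm
  have hs2 := hself b a hb1 hb ha1 ha hne hc
  obtain ⟨g, hg1, hg2⟩ := exists_move ha1 hb1 hne ha hb hc (h8 a ha1 ha) hs1
  obtain ⟨g', hg1', hg2'⟩ := exists_move hb1 ha1 hne.symm hb ha hc.symm (h8 b hb1 hb) hs2
  -- `N` : elements of `A` permuting `V`
  have hcl : ∀ {x v : L}, (x * a * x⁻¹ = a ∨ x * a * x⁻¹ = b ∨ x * a * x⁻¹ = a * b) → True := fun _ => trivial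
  let Vs : Set L := {v | v = a ∨ v = b ∨ v = a * b}
  have hVfin : Vs.Finite := Set.toFinite _
  let N : Subgroup L :=
    { carrier := {x | x ∈ A ∧ ∀ v ∈ Vs, x * v * x⁻¹ ∈ Vs}
      mul_mem' := by
        rintro x y ⟨hx, hx'⟩ ⟨hy, hy'⟩
        refine ⟨A.mul_mem hx hy, fun v hv => ?_⟩
        have h1 := hx' _ (hy' v hv)
        have e : x * y * v * (x * y)⁻¹ = x * (y * v * y⁻¹) * x⁻¹ := by group
        rw [e]; exact h1
      one_mem' := ⟨A.one_mem, fun v hv => by simpa using hv⟩
      inv_mem' := by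
        rintro x ⟨hx, hx'⟩
        refine ⟨A.inv_mem hx, fun v hv => ?_⟩
        -- conjugation by `x` is a permutation of the finite set `Vs`
        have hinj : Set.InjOn (fun v => x * v * x⁻¹) Vs := by
          intro u _ w _ h
          have h' : x * u * x⁻¹ = x * w * x⁻¹ := h
          exact mul_left_cancel (mul_right_cancel h')
        have hsurj : Set.SurjOn (fun v => x * v * x⁻¹) Vs Vs :=
          (Set.Finite.injOn_iff_bijOn_of_mapsTo hVfin (fun u hu => hx' u hu)).1 hinj |>.surjOn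
        obtain ⟨u, hu, huv⟩ := hsurj hv
        have huv' : x * u * x⁻¹ = v := huv
        have e : x⁻¹ * v * x⁻¹⁻¹ = u := by rw [← huv']; group
        rw [e]; exact hu }
  have hNmem : ∀ x, x ∈ N ↔ x ∈ A ∧ ∀ v ∈ Vs, x * v * x⁻¹ ∈ Vs := fun x => Iff.rfl
  have haN : ∀ x, x * a = a * x → x ∈ N := by
    intro x hx
    have hxa : x * a * x⁻¹ = a := by rw [hx, mul_inv_cancel_right]
    refine ⟨hA x hx, ?_⟩
    rintro v (rfl | rfl | rfl)
    · exact Or.inl hxa
    · rcases norm_of_cent ha1 hb1 hne ha hb hc (h8 a ha1 ha) hs1 hx with h | h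
      · exact Or.inr (Or.inl h)
      · exact Or.inr (Or.inr h)
    · have e : x * (a * b) * x⁻¹ = (x * a * x⁻¹) * (x * b * x⁻¹) := by group
      rw [e, hxa]
      rcases norm_of_cent ha1 hb1 hne ha hb hc (h8 a ha1 ha) hs1 hx with h | h
      · rw [h]; exact Or.inr (Or.inr rfl)
      · rw [h, ← mul_assoc, ha, one_mul]; exact Or.inr (Or.inl rfl)
  have hbN : ∀ x, x * b = b * x → x ∈ N := by
    intro x hx
    have hxb : x * b * x⁻¹ = b := by rw [hx, mul_inv_cancel_right]
    refine ⟨hB x hx, ?_⟩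
    rintro v (rfl | rfl | rfl)
    · rcases norm_of_cent hb1 ha1 hne.symm hb ha hc.symm (h8 b hb1 hb) hs2 hx with h | h
      · exact Or.inl h
      · rw [← hc] at h; exact Or.inr (Or.inr h)
    · exact Or.inr (Or.inl hxb)
    · have e : x * (a * b) * x⁻¹ = (x * a * x⁻¹) * (x * b * x⁻¹) := by group
      rw [e, hxb]
      rcases norm_of_cent hb1 ha1 hne.symm hb ha hc.symm (h8 b hb1 hb) hs2 hx with h | h
      · rw [h]; exact Or.inr (Or.inr rfl)
      · rw [h, ← hc, mul_assoc, hb, mul_one]; exact Or.inl rfl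
  -- the element `g' * g` permutes `V#` transitively: `a → a → a b`...
  have hgN := haN g hg1
  have hgN' := hbN g' hg1'
  have hga : g * a * g⁻¹ = a := by rw [hg1, mul_inv_cancel_right]
  have hgb' : g' * b * g'⁻¹ = b := by rw [hg1', mul_inv_cancel_right]
  have hyab : g' * a * g'⁻¹ = a * b := by rw [hg2', hc]
  -- `y = g g'` maps `a` to `g (a b) g⁻¹ = a (a b) = b`
  have hy : (g * g') * a * (g * g')⁻¹ = b := by
    have e : (g * g') * a * (g * g')⁻¹ = g * (g' * a * g'⁻¹) * g⁻¹ := by group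
    have e2 : g * (a * b) * g⁻¹ = (g * a * g⁻¹) * (g * b * g⁻¹) := by group
    rw [e, hyab, e2, hga, hg2, ← mul_assoc, ha, one_mul]
  refine ⟨N, fun x hx => hx.1, ?_, fun x hx v hv => hx.2 v hv, g * g', N.mul_mem hgN hgN', hy⟩
  have hd8 : 8 ∣ Nat.card N := by
    have h1 : centralizer ({a} : Set L) ≤ N := fun x hx => haN x (mem_centralizer_singleton_iff.1 hx)
    have h2 := card_dvd_of_le h1
    rwa [h8 a ha1 ha] at h2
  have hd3 : 3 ∣ Nat.card N := by
    -- the cube of `y = g g'` centralises `V`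
    have hyN := N.mul_mem hgN hgN'
    set y := g * g' with hydef
    have hyb : y * b * y⁻¹ = a * b := by
      have e : y * b * y⁻¹ = g * (g' * b * g'⁻¹) * g⁻¹ := by rw [hydef]; group
      rw [e, hgb', hg2]
    have hyab' : y * (a * b) * y⁻¹ = a := by
      have e : y * (a * b) * y⁻¹ = (y * a * y⁻¹) * (y * b * y⁻¹) := by group
      rw [e, hy, hyb, hc, ← mul_assoc, hb, one_mul]
    have hy3 : (y ^ 3) ^ 2 = 1 := by
      have h1 : y ^ 3 * a * (y ^ 3)⁻¹ = a := by
        calc y ^ 3 * a * (y ^ 3)⁻¹ = y * (y * (y * a * y⁻¹) * y⁻¹) * y⁻¹ := by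
              rw [pow_succ, pow_two]; group
          _ = a := by rw [hy, hyb, hyab']
      have h2 : y ^ 3 * b * (y ^ 3)⁻¹ = b := by
        calc y ^ 3 * b * (y ^ 3)⁻¹ = y * (y * (y * b * y⁻¹) * y⁻¹) * y⁻¹ := by
              rw [pow_succ, pow_two]; group
          _ = b := by rw [hyb, hyab', hy]
      rcases hs1 (y ^ 3) (mul_inv_eq_iff_eq_mul.1 h1) (mul_inv_eq_iff_eq_mul.1 h2) with h | h | h | h
      · rw [h, one_pow]
      · rw [h, pow_two, ha]
      · rw [h, pow_two, hb]
      · rw [h, pow_two]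
        calc a * b * (a * b) = a * (b * a) * b := by group
          _ = a * (a * b) * b := by rw [hc]
          _ = (a * a) * (b * b) := by group
          _ = 1 := by rw [ha, hb, one_mul]
    -- `y ^ 2` has order three
    have hz3 : (y ^ 2) ^ 3 = 1 := by
      have e : (y ^ 2) ^ 3 = (y ^ 3) ^ 2 := by rw [← pow_mul, ← pow_mul]
      rw [e, hy3]
    have hz1 : y ^ 2 ≠ 1 := by
      intro h1
      have h2 : y ^ 2 * a * (y ^ 2)⁻¹ = a * b := by
        calc y ^ 2 * a * (y ^ 2)⁻¹ = y * (y * a * y⁻¹) * y⁻¹ := by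
              rw [pow_two]; group
          _ = a * b := by rw [hy, hyb]
      rw [h1, one_mul, inv_one, mul_one] at h2
      exact hb1 (left_eq_mul.1 h2)
    have ho : orderOf (y ^ 2) = 3 := orderOf_eq_prime hz3 hz1
    have h4 : orderOf (⟨y ^ 2, N.pow_mem hyN 2⟩ : N) ∣ Nat.card N := orderOf_dvd_natCard _
    rwa [Subgroup.orderOf_mk, ho] at h4
  have : Nat.Coprime 8 3 := by decide
  exact Nat.Coprime.mul_dvd_of_dvd_of_dvd this hd8 hd3

/-- A subgroup of a simple group of order 360 (with involution centralisers of order eight, self-centralising four-groups)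
containing the centralisers of `a`, `b`, `c`, where `⟨a,b⟩ ≠ ⟨a,c⟩` are four-groups. -/
theorem eq_top [IsSimpleGroup L] (hcard : Nat.card L = 360) {a b c : L} (ha1 : a ≠ 1) (ha : a * a = 1)
    (hb1 : b ≠ 1) (hb : b * b = 1) (hab : a * b = b * a) (hne : a ≠ b)
    (hc1 : c ≠ 1) (hc : c * c = 1) (hac : a * c = c * a) (hnec : a ≠ c) (hcb : c ≠ b) (hcab : c ≠ a * b)
    (h8 : ∀ v : L, v ≠ 1 → v * v = 1 → Nat.card (centralizer ({v} : Set L)) = 8)
    (hself : ∀ v w : L, v ≠ 1 → v * v = 1 → w ≠ 1 → w * w = 1 → w ≠ v → w * v = v * w → ∀ x, x * v = v * x → x * w = w * x →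
      x = 1 ∨ x = v ∨ x = w ∨ x = v * w)
    {A : Subgroup L} (hA : ∀ x, x * a = a * x → x ∈ A) (hB : ∀ x, x * b = b * x → x ∈ A)
    (hC : ∀ x, x * c = c * x → x ∈ A) : A = ⊤ := by
  obtain ⟨N, hN1, hN2, hN3, y, hy, hyab⟩ := dvd_card ha1 hb1 hne ha hb hab h8 hself hA hB
  obtain ⟨N', hN1', hN2', hN3', -⟩ := dvd_card ha1 hc1 hnec ha hc hac h8 hself hA hC
  have hdA : 24 ∣ Nat.card A := hN2.trans (card_dvd_of_le hN1)
  have hdA' : Nat.card A ∣ 360 := hcard ▸ card_subgroup_dvd_card A
  obtain ⟨m, hm⟩ := hdA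
  have hm15 : m ∣ 15 := by
    rw [hm] at hdA'
    have : 24 * m ∣ 24 * 15 := hdA'
    exact Nat.dvd_of_mul_dvd_mul_left (by norm_num) this
  apply eq_top_of_index hcard
  have hidx : Nat.card A * A.index = 360 := by rw [card_mul_index, hcard]
  rw [hm] at hidx
  have hmne : m ≠ 1 := by
    rintro rfl
    rw [mul_one] at hm
    have h1 : N = A := by
      apply eq_of_le_of_card_ge hN1
      rw [hm]
      exact Nat.le_of_dvd Nat.card_pos hN2
    have h2 : N' = A := by
      apply eq_of_le_of_card_ge hN1'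
      rw [hm]
      exact Nat.le_of_dvd Nat.card_pos hN2'
    have hyN' : y ∈ N' := by rw [h2]; exact hN1 hy
    rcases hN3' y hyN' a (Or.inl rfl) with h3 | h3 | h3
    · exact hne (h3.symm.trans hyab)
    · exact hcb (h3.symm.trans hyab)
    · apply hcab
      rw [← hyab, h3, ← mul_assoc, ha, one_mul]
  have h15 : m ≤ 15 := Nat.le_of_dvd (by norm_num) hm15
  have hm3 : 3 ≤ m := by
    rcases Nat.eq_zero_or_pos m with h | h
    · rw [h] at hm15; norm_num at hm15
    · interval_cases m <;> revert hm15 hmne <;> decide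
  nlinarith

/-! ### Application to `PSL(2,9)` -/

section psl

open Cfsg.Agent.Lib.PSL2Torus

variable {F : Type*} [Field F] [Fintype F]

omit [Finite L] in
theorem card_centralizer (h2 : (2 : F) ≠ 0) (h9 : Fintype.card F = 9)
    (e : L ≃* Matrix.ProjectiveSpecialLinearGroup (Fin 2) F) {t : L} (ht1 : t ≠ 1) (ht : t * t = 1) :
    Nat.card (centralizer ({t} : Set L)) = 8 := by
  obtain ⟨T, m, hT, hm⟩ := exists_torus h2 e ht1 ht
  rw [Nat.card_eq_fintype_card, h9] at hm
  have hm4 : m = 4 := by omega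
  obtain ⟨u, hu, huT⟩ := hT.ex
  have hle : T ≤ centralizer ({t} : Set L) := fun x hx => mem_centralizer_singleton_iff.2 (hT.comm x hx)
  have hidx : T.relIndex (centralizer ({t} : Set L)) = 2 := by
    rw [relIndex, index_eq_two_iff]
    refine ⟨⟨u, mem_centralizer_singleton_iff.2 hu⟩, ?_⟩
    rintro ⟨x, hx⟩
    have hx' := mem_centralizer_singleton_iff.1 hx
    by_cases hxT : x ∈ T
    · refine Or.inr ⟨?_, ?_⟩
      · exact mem_subgroupOf.2 hxT
      · intro h
        have h1 : x * u ∈ T := mem_subgroupOf.1 h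
        exact huT ((T.mul_mem_cancel_left hxT).1 h1)
    · refine Or.inl ⟨?_, ?_⟩
      · exact mem_subgroupOf.2 (hT.mul x u hx' hxT hu huT)
      · intro h
        exact hxT (mem_subgroupOf.1 h)
  have h1 := Subgroup.card_mul_index (T.subgroupOf (centralizer ({t} : Set L)))
  have h3 : Nat.card (T.subgroupOf (centralizer ({t} : Set L))) = 4 := by
    rw [Nat.card_congr (subgroupOfEquivOfLe hle).toEquiv, hT.card, hm4]
  have h4 : (T.subgroupOf (centralizer ({t} : Set L))).index = 2 := hidx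
  rw [h3, h4] at h1
  exact h1.symm

omit [Finite L] in
theorem card_psl_nine (h9 : Fintype.card F = 9)
    (e : L ≃* Matrix.ProjectiveSpecialLinearGroup (Fin 2) F) : Nat.card L = 360 := by
  have h1 := Cfsg.Agent.SmallSimple.PSLTwoPart.card_psl_two_odd (F := F) (by rw [h9]; decide)
  rw [← Nat.card_congr e.toEquiv, h9] at h1
  omega

/-- `C(a)`, `C(b)`, `C(c)` generate `PSL(2,9)` if `⟨a,b⟩`, `⟨a,c⟩` are different four-groups. -/
theorem psl_eq_top (h2 : (2 : F) ≠ 0) (h9 : Fintype.card F = 9)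
    (e : L ≃* Matrix.ProjectiveSpecialLinearGroup (Fin 2) F) {a b c : L} (ha1 : a ≠ 1) (ha : a * a = 1)
    (hb1 : b ≠ 1) (hb : b * b = 1) (hab : a * b = b * a) (hne : a ≠ b)
    (hc1 : c ≠ 1) (hc : c * c = 1) (hac : a * c = c * a) (hnec : a ≠ c) (hcb : c ≠ b) (hcab : c ≠ a * b)
    {A : Subgroup L} (hA : ∀ x, x * a = a * x → x ∈ A) (hB : ∀ x, x * b = b * x → x ∈ A)
    (hC : ∀ x, x * c = c * x → x ∈ A) : A = ⊤ := by
  have hs : IsSimpleGroup (Matrix.ProjectiveSpecialLinearGroup (Fin 2) F) :=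
    Cfsg.Agent.TwoFusion.SLTwoFacts.isSimpleGroup_psl (by rw [h9]; norm_num)
  have hs' : IsSimpleGroup L := e.isSimpleGroup
  refine eq_top (card_psl_nine h9 e) ha1 ha hb1 hb hab hne hc1 hc hac hnec hcb hcab
    (fun v hv1 hv => card_centralizer h2 h9 e hv1 hv) ?_ hA hB hC
  intro v w hv1 hv hw1 hw hwv hc x hxv hxw
  obtain ⟨T, m, hT, -⟩ := exists_torus h2 e hv1 hv
  exact hT.centralizer_four hw1 hw hwv hc hxv hxw

end psl

end Cfsg.Agent.LFourA.KlNine
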