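import Mathlib
import Cfsg.Agent.LFourA.KlQuot
import Cfsg.Agent.SylowSp4.SLGen
import Cfsg.Agent.Lib.PSL2Torus
import Cfsg.Agent.LFourA.KlNine

/-!
# The centralizer of `t` in case I is contained in `M`

If `M` contains `O(C(t))`, `C(t) ∩ C(t')` and elements of `C(t)` moving `t'` to commuting
involutions `v`, `v'`, then `C(t) ≤ M` (`|F| ≠ 3, 5, 7`; only `v` is needed if `|F| ≠ 9`).
-/

set_option autoImplicit false

namespace Cfsg.Agent.LFourA.KlT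

open Subgroup Cfsg Cfsg.Agent.LFourA.CzCt Cfsg.Agent.LFourA.KlQuot
open Cfsg.Agent.Lib.SL2Mat Cfsg.Agent.Lib.PSL2Torus

local notation "SL2" => Matrix.SpecialLinearGroup (Fin 2)
local notation "PSL2" => Matrix.ProjectiveSpecialLinearGroup (Fin 2)

section

variable {F : Type*} [Field F] [Fintype F] {L : Type*} [Group L]

/-- `C(a)` and `C(b)` generate `PSL(2,F)` for commuting involutions `a ≠ b`, `|F| ≠ 3, 5, 7, 9`. -/
theorem eq_top_of_centralizers (hodd : Odd (Fintype.card F)) (h3 : Fintype.card F ≠ 3)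
    (h5 : Fintype.card F ≠ 5) (h7 : Fintype.card F ≠ 7) (h9 : Fintype.card F ≠ 9)
    (e : L ≃* PSL2 F) {a b : L} (ha1 : a ≠ 1) (ha : a * a = 1) (hb1 : b ≠ 1) (hb : b * b = 1) (hab : a * b = b * a)
    (hne : a ≠ b) {A : Subgroup L} (hA : ∀ x, x * a = a * x → x ∈ A) (hB : ∀ x, x * b = b * x → x ∈ A) : A = ⊤ := by
  have h2 : (2 : F) ≠ 0 := Cfsg.Agent.ClassicalGeometry.SLTwoFour.two_ne_zero_of_odd hodd
  obtain ⟨π, hπ, hk⟩ := exists_hom h2 e
  obtain ⟨i, rfl, hi, hi'⟩ := exists_lift_inv π h2 hπ hk ha1 ha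
  obtain ⟨j, rfl, hj, hj'⟩ := exists_lift_inv π h2 hπ hk hb1 hb
  have h4 : i * j = j * i ∨ i * j = -(j * i) := by
    rw [← map_mul, ← map_mul] at hab
    exact (map_eq_iff π hk).1 hab
  have hji : j⁻¹ = -j := Cfsg.Agent.SylowSp4.SLFacts.inv_eq_neg hj
  have hii : i⁻¹ = -i := Cfsg.Agent.SylowSp4.SLFacts.inv_eq_neg hi
  have h4' : i * j = -(j * i) := by
    rcases h4 with h4 | h4
    · exfalso
      have h6 : (i * j) * (i * j) = 1 := by
        calc (i * j) * (i * j) = i * (j * i) * j := by group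
          _ = i * (i * j) * j := by rw [h4]
          _ = (i * i) * (j * j) := by group
          _ = 1 := by rw [hi, hj, neg_mul_neg, one_mul]
      have h7 := Cfsg.Agent.Lib.PSL2Inv.sq_eq_one h2 h6
      apply hne
      rw [map_eq_iff π hk]
      rcases h7 with h7 | h7
      · right
        rw [← hji]
        exact eq_inv_of_mul_eq_one_left h7
      · left
        have h8 : i = (-1) * j⁻¹ := by rw [← h7]; group
        rw [h8, hji, neg_mul_neg, one_mul]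
    · exact h4
  have hinv : j * i * j⁻¹ = i⁻¹ := by
    have h5 : j * i = -(i * j) := by rw [h4', neg_neg]
    rw [h5, neg_mul, mul_inv_cancel_right, hii]
  have htop := Cfsg.Agent.SylowSp4.SLGen.closure_centralizers hodd h3 h5 h7 h9 hi hinv
  rw [eq_top_iff]
  intro g _
  obtain ⟨s, rfl⟩ := hπ g
  have hle : Subgroup.closure ({g : SL2 F | g * i = i * g} ∪ {g : SL2 F | g * j = j * g}) ≤ A.comap π := by
    rw [Subgroup.closure_le]
    rintro x (hx | hx)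
    · refine hA _ ?_
      have hx' : x * i = i * x := hx
      rw [← map_mul, hx', map_mul]
    · refine hB _ ?_
      have hx' : x * j = j * x := hx
      rw [← map_mul, hx', map_mul]
  rw [htop] at hle
  exact hle trivial

end

section conj

variable {G X : Type*} [Group G] [Group X] [Finite G] {t : G} {p : ↥(centralizer ({t} : Set G)) →* X}

/-- An element `v = m t' m⁻¹` with `m ∈ M ∩ C(t)`, and its image. -/
structure Mv (p : ↥(centralizer ({t} : Set G)) →* X) (K : Subgroup X) (M : Subgroup G) (t' v : G) : Prop where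
  vt : v ∈ centralizer ({t} : Set G)
  vK : p ⟨v, vt⟩ ∈ K
  vv : v * v = 1
  v1 : v ≠ 1
  p1 : p ⟨v, vt⟩ ≠ 1
  psq : p ⟨v, vt⟩ * p ⟨v, vt⟩ = 1
  dn : ∀ y, y * p ⟨v, vt⟩ = p ⟨v, vt⟩ * y → y ∈ dn p M

omit [Finite G] in
theorem p_sq {v : G} (hv : v ∈ centralizer ({t} : Set G)) (hvv : v * v = 1) : p ⟨v, hv⟩ * p ⟨v, hv⟩ = 1 := by
  rw [← map_mul, ← map_one p]
  congr 1
  exact Subtype.ext hvv

omit [Finite G] in
theorem p_comm {u v : G} (hu : u ∈ centralizer ({t} : Set G)) (hv : v ∈ centralizer ({t} : Set G)) (huv : u * v = v * u) :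
    p ⟨u, hu⟩ * p ⟨v, hv⟩ = p ⟨v, hv⟩ * p ⟨u, hu⟩ := by
  rw [← map_mul, ← map_mul]
  congr 1
  exact Subtype.ext huv

/-- Images of different commuting involutions are different. -/
theorem p_ne (hq : Quo t p) {u v : G} (hu : u ∈ centralizer ({t} : Set G)) (hv : v ∈ centralizer ({t} : Set G))
    (hu2 : u * u = 1) (hv2 : v * v = 1) (huv : u * v = v * u) (hne : u ≠ v) : p ⟨u, hu⟩ ≠ p ⟨v, hv⟩ := by
  intro h6
  have h8 : p ⟨v * u, mul_mem hv hu⟩ = 1 := by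
    have h10 : p ⟨v * u, mul_mem hv hu⟩ = p ⟨v, hv⟩ * p ⟨u, hu⟩ := by
      rw [← map_mul]; rfl
    rw [h10, ← h6, p_sq hu hu2]
  refine ne_one_of_inv hq (mul_mem hv hu) ?_ ?_ h8
  · calc v * u * (v * u) = v * (u * v) * u := by group
      _ = v * (v * u) * u := by rw [huv]
      _ = (v * v) * (u * u) := by group
      _ = 1 := by rw [hv2, hu2, mul_one]
  · intro h12
    apply hne
    have h14 : v = u⁻¹ := eq_inv_of_mul_eq_one_left h12
    rw [h14]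
    exact (inv_eq_of_mul_eq_one_left hu2).symm

theorem mv_of_conj (hq : Quo t p) {K : Subgroup X} (hK : K.Normal) {t' v : G} (ht'K : t' ∈ up p K) (ht' : t' * t' = 1)
    (ht'1 : t' ≠ 1) {M : Subgroup G} (hM : ∀ x, x * t = t * x → x * t' = t' * x → x ∈ M)
    {m : G} (hm : m ∈ M) (hmt : m * t = t * m) (hmv : m * t' * m⁻¹ = v) : Mv p K M t' v := by
  obtain ⟨ht't, htK⟩ := mem_up.1 ht'K
  have hmt' : m ∈ centralizer ({t} : Set G) := mem_cent.2 hmt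
  have hvt : v ∈ centralizer ({t} : Set G) := by
    rw [← hmv]
    exact mul_mem (mul_mem hmt' ht't) (inv_mem hmt')
  have hpv : p ⟨v, hvt⟩ = p ⟨m, hmt'⟩ * p ⟨t', ht't⟩ * (p ⟨m, hmt'⟩)⁻¹ := by
    rw [← map_inv, ← map_mul, ← map_mul]
    congr 1
    exact Subtype.ext hmv.symm
  have hvv : v * v = 1 := by
    rw [← hmv]
    calc _ = m * (t' * t') * m⁻¹ := by group
      _ = 1 := by rw [ht', mul_one, mul_inv_cancel]
  have hv1 : v ≠ 1 := by
    rintro rfl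
    apply ht'1
    rw [mul_inv_eq_one] at hmv
    exact mul_eq_left.1 hmv
  refine ⟨hvt, ?_, hvv, hv1, ne_one_of_inv hq hvt hvv hv1, p_sq hvt hvv, ?_⟩
  · rw [hpv]
    exact hK.conj_mem _ htK _
  · intro x hxv
    refine mem_dn_of_comm hq hvt hvv ?_ hxv
    intro y hyt hyv
    have h6 : (m⁻¹ * y * m) ∈ M := by
      apply hM
      · have hm' : t * m⁻¹ = m⁻¹ * t := by
          rw [eq_inv_mul_iff_mul_eq, ← mul_assoc, hmt, mul_inv_cancel_right]
        calc m⁻¹ * y * m * t = m⁻¹ * y * (m * t) := by group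
          _ = m⁻¹ * (y * t) * m := by rw [hmt]; group
          _ = (m⁻¹ * t) * y * m := by rw [hyt]; group
          _ = t * (m⁻¹ * y * m) := by rw [← hm']; group
      · have h8 : m⁻¹ * v * m = t' := by rw [← hmv]; group
        rw [← h8]
        calc m⁻¹ * y * m * (m⁻¹ * v * m) = m⁻¹ * (y * v) * m := by group
          _ = m⁻¹ * v * m * (m⁻¹ * y * m) := by rw [hyv]; group
    have h8 : y = m * (m⁻¹ * y * m) * m⁻¹ := by group
    rw [h8]
    exact mul_mem (mul_mem hm h6) (inv_mem hm)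

end conj

section

variable {F : Type*} [Field F] [Fintype F] {G X : Type*} [Group G] [Group X] [Finite G] {t : G}
  {p : ↥(centralizer ({t} : Set G)) →* X} {K : Subgroup X}

/-- If `M` contains `O(C(t))`, `C(t) ∩ C(t')` and the preimage of `K`, then it contains `C(t)`. -/
theorem le_of_up (h2 : (2 : F) ≠ 0) (h : CTL t F p K) {t' : G} (ht'K : t' ∈ up p K) (ht' : t' * t' = 1) (ht'1 : t' ≠ 1)
    {M : Subgroup G} (hM : ∀ x, x * t = t * x → x * t' = t' * x → x ∈ M)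
    (hK : up p K ≤ M) : centralizer ({t} : Set G) ≤ M := by
  obtain ⟨e⟩ := h.e
  obtain ⟨ht't, htK⟩ := mem_up.1 ht'K
  have hq := h.toCT.quo
  have hne := ne_one_of_inv hq ht't ht' ht'1
  have hsq : p ⟨t', ht't⟩ * p ⟨t', ht't⟩ = 1 := by
    rw [← map_mul, ← map_one p]
    congr 1
    exact Subtype.ext ht'
  intro x hx
  -- `x t' x⁻¹` is a `K`-conjugate of `t'`
  have hx1 : p ⟨x, hx⟩ * p ⟨t', ht't⟩ * (p ⟨x, hx⟩)⁻¹ ∈ K := h.normal.conj_mem _ htK _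
  obtain ⟨⟨g, hg⟩, hgx⟩ := conj_inv h2 e (t := ⟨p ⟨t', ht't⟩, htK⟩) (u := ⟨_, hx1⟩)
    (fun h1 => hne (congrArg Subtype.val h1)) (Subtype.ext hsq)
    (fun h1 => by
      have h3 := congrArg Subtype.val h1
      change p ⟨x, hx⟩ * p ⟨t', ht't⟩ * (p ⟨x, hx⟩)⁻¹ = 1 at h3
      rw [mul_inv_eq_one] at h3
      exact hne (mul_eq_left.1 h3))
    (Subtype.ext (by
      change (p ⟨x, hx⟩ * p ⟨t', ht't⟩ * (p ⟨x, hx⟩)⁻¹) * (p ⟨x, hx⟩ * p ⟨t', ht't⟩ * (p ⟨x, hx⟩)⁻¹) = 1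
      calc _ = p ⟨x, hx⟩ * (p ⟨t', ht't⟩ * p ⟨t', ht't⟩) * (p ⟨x, hx⟩)⁻¹ := by group
        _ = 1 := by rw [hsq, mul_one, mul_inv_cancel]))
  have hgx' : g * p ⟨t', ht't⟩ * g⁻¹ = p ⟨x, hx⟩ * p ⟨t', ht't⟩ * (p ⟨x, hx⟩)⁻¹ := congrArg Subtype.val hgx
  have hcomm : (g⁻¹ * p ⟨x, hx⟩) * p ⟨t', ht't⟩ = p ⟨t', ht't⟩ * (g⁻¹ * p ⟨x, hx⟩) := by
    calc (g⁻¹ * p ⟨x, hx⟩) * p ⟨t', ht't⟩ = g⁻¹ * (p ⟨x, hx⟩ * p ⟨t', ht't⟩ * (p ⟨x, hx⟩)⁻¹) * p ⟨x, hx⟩ := by group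
      _ = g⁻¹ * (g * p ⟨t', ht't⟩ * g⁻¹) * p ⟨x, hx⟩ := by rw [hgx']
      _ = _ := by group
  have hd1 := mem_dn_of_comm hq ht't ht' hM hcomm
  have hd2 : g ∈ dn p M := by
    obtain ⟨y, rfl⟩ := h.surj g
    exact mem_dn.2 ⟨y, y.2, hK (mem_up.2 ⟨y.2, hg⟩), rfl⟩
  have hd3 : p ⟨x, hx⟩ ∈ dn p M := by
    have h1 : p ⟨x, hx⟩ = g * (g⁻¹ * p ⟨x, hx⟩) := by group
    rw [h1]
    exact mul_mem hd2 hd1
  exact mem_of_mem_dn hq ((le_up hq K).trans hK) hx hd3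

/-- **Closing for `C(t)`**, `|F| ≠ 3, 5, 7`. -/
theorem centralizer_le (hodd : Odd (Fintype.card F)) (h3 : Fintype.card F ≠ 3)
    (h5 : Fintype.card F ≠ 5) (h7 : Fintype.card F ≠ 7)
    (h : CTL t F p K) {t' v : G} (ht'K : t' ∈ up p K) (ht' : t' * t' = 1) (ht'1 : t' ≠ 1)
    {M : Subgroup G} (hO : centralizerPPrimeCore 2 t ≤ M)
    (hM : ∀ x, x * t = t * x → x * t' = t' * x → x ∈ M)
    (hmv : ∃ m ∈ M, m * t = t * m ∧ m * t' * m⁻¹ = v) (hv : v * t' = t' * v) (hne : v ≠ t')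
    (hmv' : Fintype.card F = 9 → ∃ v', (∃ m ∈ M, m * t = t * m ∧ m * t' * m⁻¹ = v') ∧ v' * t' = t' * v' ∧ v' ≠ t' ∧
      v' * v ≠ 1 ∧ v' * v ≠ t' ∧ ∃ n : ℕ, (v' * v) ^ 2 ^ n = 1) :
    centralizer ({t} : Set G) ≤ M := by
  have h2 : (2 : F) ≠ 0 := Cfsg.Agent.ClassicalGeometry.SLTwoFour.two_ne_zero_of_odd hodd
  have hq := h.toCT.quo
  refine le_of_up h2 h ht'K ht' ht'1 hM (up_le_of_dn hq hO ?_)
  obtain ⟨e⟩ := h.e
  obtain ⟨ht't, htK⟩ := mem_up.1 ht'K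
  obtain ⟨m, hm, hmt, hmv⟩ := hmv
  have mv := mv_of_conj hq h.normal ht'K ht' ht'1 hM hm hmt hmv
  obtain ⟨hvt, hvK, hvv, hv1, hpv1, hpvv, hdn⟩ := mv
  have hnet : p ⟨t', ht't⟩ ≠ 1 := ne_one_of_inv hq ht't ht' ht'1
  have hpne := p_ne hq ht't hvt ht' hvv hv.symm (Ne.symm hne)
  have hpc := p_comm (p := p) ht't hvt hv.symm
  have hA : ∀ x : K, x * ⟨p ⟨t', ht't⟩, htK⟩ = ⟨p ⟨t', ht't⟩, htK⟩ * x → x ∈ (dn p M).subgroupOf K := by
    rintro ⟨x, hx⟩ hxt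
    exact mem_subgroupOf.2 (mem_dn_of_comm hq ht't ht' hM (congrArg Subtype.val hxt))
  have hB : ∀ x : K, x * ⟨p ⟨v, hvt⟩, hvK⟩ = ⟨p ⟨v, hvt⟩, hvK⟩ * x → x ∈ (dn p M).subgroupOf K := by
    rintro ⟨x, hx⟩ hxv
    exact mem_subgroupOf.2 (hdn x (congrArg Subtype.val hxv))
  have hfin : Finite K := Finite.of_equiv _ e.symm.toEquiv
  have htop : (dn p M).subgroupOf K = ⊤ := by
    by_cases h9 : Fintype.card F = 9
    · obtain ⟨v', ⟨m', hm', hmt', hmv'⟩, hv't', hv'ne, hv'v1, hv'vt, n, hn⟩ := hmv' h9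
      have mv' := mv_of_conj hq h.normal ht'K ht' ht'1 hM hm' hmt' hmv'
      obtain ⟨hv't, hv'K, hv'v', hv'1, hpv'1, hpv'v', hdn'⟩ := mv'
      have hp1 : p ⟨v', hv't⟩ ≠ p ⟨v, hvt⟩ := by
        intro h10
        have h11 : p ⟨v' * v, mul_mem hv't hvt⟩ = 1 := by
          have h12 : p ⟨v' * v, mul_mem hv't hvt⟩ = p ⟨v', hv't⟩ * p ⟨v, hvt⟩ := by rw [← map_mul]; rfl
          rw [h12, h10, hpvv]
        exact hv'v1 (eq_one_of_two hq _ h11 hn)
      have hp2 : p ⟨v', hv't⟩ ≠ p ⟨t', ht't⟩ * p ⟨v, hvt⟩ := by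
        intro h10
        have h11 : p ⟨v' * v * t', mul_mem (mul_mem hv't hvt) ht't⟩ = 1 := by
          have h12 : p ⟨v' * v * t', mul_mem (mul_mem hv't hvt) ht't⟩ =
              p ⟨v', hv't⟩ * p ⟨v, hvt⟩ * p ⟨t', ht't⟩ := by rw [← map_mul, ← map_mul]; rfl
          rw [h12, h10, mul_assoc (p ⟨t', ht't⟩), hpvv, mul_one, p_sq ht't ht']
        have hcomm : Commute (v' * v) t' := by
          change v' * v * t' = t' * (v' * v)
          rw [mul_assoc, hv, ← mul_assoc, hv't', mul_assoc]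
        have h12 : (v' * v * t') ^ 2 ^ (n + 1) = 1 := by
          rw [hcomm.mul_pow, pow_succ, pow_mul, hn, one_pow, one_mul, pow_mul']
          rw [pow_two, ht', one_pow]
        have h13 := eq_one_of_two hq _ h11 h12
        apply hv'vt
        rw [← mul_one (v' * v), ← ht', ← mul_assoc, h13, one_mul]
      refine Cfsg.Agent.LFourA.KlNine.psl_eq_top h2 h9 e (a := ⟨p ⟨t', ht't⟩, htK⟩) (b := ⟨p ⟨v, hvt⟩, hvK⟩)
        (c := ⟨p ⟨v', hv't⟩, hv'K⟩)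
        (fun h6 => hnet (congrArg Subtype.val h6)) (Subtype.ext (p_sq ht't ht')) (fun h6 => hpv1 (congrArg Subtype.val h6))
        (Subtype.ext hpvv) (Subtype.ext hpc) (fun h6 => hpne (congrArg Subtype.val h6))
        (fun h6 => hpv'1 (congrArg Subtype.val h6)) (Subtype.ext hpv'v')
        (Subtype.ext (p_comm ht't hv't hv't'.symm))
        (fun h6 => p_ne hq ht't hv't ht' hv'v' hv't'.symm (Ne.symm hv'ne) (congrArg Subtype.val h6))
        (fun h6 => hp1 (congrArg Subtype.val h6)) (fun h6 => hp2 (congrArg Subtype.val h6)) hA hB ?_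
      rintro ⟨x, hx⟩ hxv
      exact mem_subgroupOf.2 (hdn' x (congrArg Subtype.val hxv))
    · exact eq_top_of_centralizers hodd h3 h5 h7 h9 e (a := ⟨p ⟨t', ht't⟩, htK⟩) (b := ⟨p ⟨v, hvt⟩, hvK⟩)
        (fun h6 => hnet (congrArg Subtype.val h6)) (Subtype.ext (p_sq ht't ht')) (fun h6 => hpv1 (congrArg Subtype.val h6))
        (Subtype.ext hpvv) (Subtype.ext hpc) (fun h6 => hpne (congrArg Subtype.val h6)) hA hB
  exact subgroupOf_eq_top.1 htop

end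

end Cfsg.Agent.LFourA.KlT
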