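import Mathlib
import Cfsg.Agent.LFourA.KlQuot
import Cfsg.Agent.LFourA.KlSl
import Cfsg.Agent.LFourA.KlPos

/-!
# Closing for `C(z)`, case I

If `M` contains `O(C(z))`, `C(z) ∩ C(t)` and the `C(z) ∩ C(f 1 (sr i))`, `i = 0, -1`, then it contains `C(z)`.
-/

set_option autoImplicit false

namespace Cfsg.Agent.LFourA.KlZ

open Subgroup DihedralGroup Cfsg Cfsg.Agent.LFourA.Model Cfsg.Agent.LFourA.Base Cfsg.Agent.LFourA.Defs
  Cfsg.Agent.LFourA.CzCt Cfsg.Agent.LFourA.Facts Cfsg.Agent.LFourA.KlOSolv Cfsg.Agent.LFourA.KlQuot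
  Cfsg.Agent.LFourA.KlPos Cfsg.Agent.LFourA.KlSl

section abs

variable {X : Type*} [Group X] {K₁ K₂ : Subgroup X}

/-- `m⁻¹ g m g⁻¹ ∈ D` for `g = b a`, `a`, `b` involutions swapping `K₁`, `K₂`. -/
theorem comm_mem (comm : ∀ x ∈ K₁, ∀ y ∈ K₂, x * y = y * x) {a b : X} (ha : a * a = 1) (hb : b * b = 1)
    (sa : Swp K₁ K₂ a) (sb : Swp K₁ K₂ b) {D : Subgroup X} (hDa : ∀ y, y * a = a * y → y ∈ D)
    (hDb : ∀ y, y * b = b * y → y ∈ D) {m : X} (hm : m ∈ K₂) : m⁻¹ * (b * a * m * (b * a)⁻¹) ∈ D := by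
  have hai : a⁻¹ = a := inv_eq_of_mul_eq_one_left ha
  have hbi : b⁻¹ = b := inv_eq_of_mul_eq_one_left hb
  set l := a * m * a⁻¹ with hl
  have hlK : l ∈ K₁ := sa.2 m hm
  have hbl : b * l * b⁻¹ ∈ K₂ := sb.1 l hlK
  have h1 : l * m ∈ D := by
    apply hDa
    have e1 : a * (l * m) * a⁻¹ = l * m := by
      have e2 : a * l * a⁻¹ = m := by
        rw [hl, hai]
        calc a * (a * m * a) * a = (a * a) * m * (a * a) := by group
          _ = m := by rw [ha, one_mul, mul_one]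
      calc a * (l * m) * a⁻¹ = (a * l * a⁻¹) * (a * m * a⁻¹) := by group
        _ = m * l := by rw [e2, ← hl]
        _ = l * m := (comm l hlK m hm).symm
    exact (mul_inv_eq_iff_eq_mul.1 e1).symm
  have h2 : l * (b * l * b⁻¹) ∈ D := by
    apply hDb
    have e1 : b * (l * (b * l * b⁻¹)) * b⁻¹ = l * (b * l * b⁻¹) := by
      have e2 : b * (b * l * b⁻¹) * b⁻¹ = l := by
        rw [hbi]
        calc b * (b * l * b) * b = (b * b) * l * (b * b) := by group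
          _ = l := by rw [hb, one_mul, mul_one]
      calc b * (l * (b * l * b⁻¹)) * b⁻¹ = (b * l * b⁻¹) * (b * (b * l * b⁻¹) * b⁻¹) := by group
        _ = (b * l * b⁻¹) * l := by rw [e2]
        _ = l * (b * l * b⁻¹) := (comm l hlK _ hbl).symm
    exact (mul_inv_eq_iff_eq_mul.1 e1).symm
  have e3 : m⁻¹ * (b * a * m * (b * a)⁻¹) = (l * m)⁻¹ * (l * (b * l * b⁻¹)) := by
    rw [hl]; group
  rw [e3]
  exact mul_mem (inv_mem h1) h2

end abs

section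

variable {G X : Type*} [Group G] [Finite G] [Group X] {P : Sylow 2 G} {k : ℕ} {f : D k → D k → G} {w : G}
  {F : Type*} [Field F] [Fintype F]
variable (h : DWr (P : Subgroup G) k f w) {p : ↥(centralizer ({f (c k) (c k)} : Set G)) →* X} {K₁ K₂ : Subgroup X}

include h

omit [Finite G] [Fintype F] in
theorem r_half_ne {i : ZMod (4 * 2 ^ k)} (hi : f (r i) (r i) = f (c k) (c k)) : (r i : D k) = c k :=
  ((f_eq_iff h).1 hi).1

omit [Finite G] in
/-- `k = 0` if `|F| = 3`. -/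
theorem k_zero (h2 : (2 : F) ≠ 0) (h3 : Fintype.card F = 3) {z : G} {p : ↥(centralizer ({z} : Set G)) →* X}
    (hz : z = f (c k) (c k)) (zz : p (self z) ≠ 1)
    {K₂ : Subgroup X} (e : K₂ ≃* Matrix.SpecialLinearGroup (Fin 2) F) (hq : ∀ i, f (r i) (r i) ∈ up p K₂) : k = 0 := by
  by_contra hk
  obtain ⟨n, rfl⟩ := Nat.exists_eq_succ_of_ne_zero hk
  subst hz
  set i : ZMod (4 * 2 ^ (n + 1)) := ((2 ^ n : ℕ) : ZMod (4 * 2 ^ (n + 1))) with hi
  obtain ⟨h4, h5⟩ := mem_up.1 (hq i)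
  set Y : K₂ := ⟨_, h5⟩ with hY
  have hYY : (Y * Y) * (Y * Y) = ⟨p (self (f (c (n+1)) (c (n+1)))), by
      obtain ⟨h6, h7⟩ := mem_up.1 (hq ((2 * 2 ^ (n + 1) : ℕ) : ZMod (4 * 2 ^ (n + 1))))
      exact h7⟩ := by
    apply Subtype.ext
    change (p ⟨_, h4⟩ * p ⟨_, h4⟩) * (p ⟨_, h4⟩ * p ⟨_, h4⟩) = p (self _)
    rw [← map_mul, ← map_mul]
    congr 1
    apply Subtype.ext
    change (f (r i) (r i) * f (r i) (r i)) * (f (r i) (r i) * f (r i) (r i)) = f (c (n+1)) (c (n+1))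
    rw [h.f_mul, h.f_mul, r_mul_r, r_mul_r]
    have e1 : i + i + (i + i) = ((2 * 2 ^ (n + 1) : ℕ) : ZMod (4 * 2 ^ (n + 1))) := by
      rw [hi]
      push_cast
      ring
    rw [e1]; rfl
  have hcc : (⟨p (self (f (c (n+1)) (c (n+1)))), by
      obtain ⟨h6, h7⟩ := mem_up.1 (hq ((2 * 2 ^ (n + 1) : ℕ) : ZMod (4 * 2 ^ (n + 1))))
      exact h7⟩ : K₂) * ⟨p (self (f (c (n+1)) (c (n+1)))), by
      obtain ⟨h6, h7⟩ := mem_up.1 (hq ((2 * 2 ^ (n + 1) : ℕ) : ZMod (4 * 2 ^ (n + 1))))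
      exact h7⟩ = 1 := by
    apply Subtype.ext
    change p (self _) * p (self _) = 1
    rw [← map_mul, ← map_one p]
    congr 1
    apply Subtype.ext
    change f (c (n+1)) (c (n+1)) * f (c (n+1)) (c (n+1)) = 1
    rw [h.f_mul, c_mul_c, f_one h]
  have hez := e_zeta e hcc (fun h8 => zz (congrArg Subtype.val h8)) h2
  have h6 : (e Y * e Y) * (e Y * e Y) = -1 := by
    rw [← map_mul, ← map_mul, hYY, hez]
  have h7 := Cfsg.Agent.Lib.PSL2Inv.tr_of_sq h2 h6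
  rw [Cfsg.Agent.Lib.SL2Mat.ent_mul, Cfsg.Agent.Lib.SL2Mat.ent_mul] at h7
  have hdet := Cfsg.Agent.Lib.SL2Mat.det_eq (e Y)
  set a := Cfsg.Agent.Lib.SL2Mat.ent (e Y) 0 0
  set b := Cfsg.Agent.Lib.SL2Mat.ent (e Y) 0 1
  set c' := Cfsg.Agent.Lib.SL2Mat.ent (e Y) 1 0
  set d := Cfsg.Agent.Lib.SL2Mat.ent (e Y) 1 1
  have h8 : (a + d) ^ 2 = 2 := by linear_combination h7 + 2 * hdet
  have h9 : (a + d) ^ 3 = a + d := by rw [← h3]; exact FiniteField.pow_card _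
  have h10 : (3 : F) = 0 := by
    have := Nat.cast_card_eq_zero F
    rw [h3] at this
    exact_mod_cast this
  have h11 : a + d = 0 := by
    have h12 : (a + d) * 2 = a + d := by
      rw [← h8]
      linear_combination h9
    linear_combination h12
  rw [h11] at h8
  exact h2 (by linear_combination -h8)

/-- `p` is injective on the elements of `P`, version for `f a b`, `f a b * w`. -/
theorem p_ne_z (Z : CZ (f (c k) (c k)) p K₁ K₂) {x y : G} (hx : x ∈ P) (hy : y ∈ P) (hxy : x ≠ y) :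
    p ⟨x, mem_cz h hx⟩ ≠ p ⟨y, mem_cz h hy⟩ :=
  fun h1 => hxy (inj_of_mem (P := P) Z.ker _ _ hx hy h1)

/-- The elements `m⁻¹ α(m)` generate `K₂`, `α` = conjugation by `f 1 (r 1)`. -/
theorem K₂_le (h2 : (2 : F) ≠ 0) (Z : CZL (f (c k) (c k)) F p K₁ K₂) (zp : ZPos f w p K₁ K₂) {E : Subgroup X}
    (hD0 : ∀ y, y * p ⟨f 1 (sr 0), mem_cz h (f_mem h _ _)⟩ = p ⟨f 1 (sr 0), mem_cz h (f_mem h _ _)⟩ * y → y ∈ E)
    (hD1 : ∀ y, y * p ⟨f 1 (sr (-1)), mem_cz h (f_mem h _ _)⟩ = p ⟨f 1 (sr (-1)), mem_cz h (f_mem h _ _)⟩ * y → y ∈ E) :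
    K₂ ≤ E := by
  obtain ⟨e⟩ := Z.e₂
  set a := p ⟨f 1 (sr 0), mem_cz h (f_mem h _ _)⟩ with ha
  set b := p ⟨f 1 (sr (-1)), mem_cz h (f_mem h _ _)⟩ with hb
  have haa : a * a = 1 := by
    rw [ha, ← map_mul, ← map_one p]
    congr 1
    apply Subtype.ext
    change f 1 (sr 0) * f 1 (sr 0) = 1
    rw [h.f_mul, sr_mul_self, one_mul, f_one h]
  have hbb : b * b = 1 := by
    rw [hb, ← map_mul, ← map_one p]
    congr 1
    apply Subtype.ext
    change f 1 (sr (-1)) * f 1 (sr (-1)) = 1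
    rw [h.f_mul, sr_mul_self, one_mul, f_one h]
  have sa : Swp K₁ K₂ a := swp_right h Z.toCZ zp 0 (Or.inl rfl)
  have sb : Swp K₁ K₂ b := swp_right h Z.toCZ zp (-1) (Or.inl rfl)
  have hba : b * a = p ⟨f 1 (r 1), mem_cz h (f_mem h _ _)⟩ := by
    rw [ha, hb, ← map_mul]
    congr 1
    apply Subtype.ext
    change f 1 (sr (-1)) * f 1 (sr 0) = f 1 (r 1)
    rw [h.f_mul, sr_mul_sr, one_mul, zero_sub, neg_neg]
  have hn : Nrm K₁ K₂ (b * a) := sb.mul sa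
  have hn' : Nrm K₁ K₂ (b * a)⁻¹ := by
    have e1 : (b * a)⁻¹ = a * b := by
      rw [mul_inv_rev, inv_eq_of_mul_eq_one_left haa, inv_eq_of_mul_eq_one_left hbb]
    rw [e1]
    exact sa.mul sb
  let α : MulAut K₂ :=
    { toFun := fun x => ⟨(b * a) * x * (b * a)⁻¹, hn.2 x x.2⟩
      invFun := fun x => ⟨(b * a)⁻¹ * x * (b * a), by
        have := hn'.2 x x.2
        rwa [inv_inv] at this⟩
      left_inv := fun x => Subtype.ext (by
        change (b * a)⁻¹ * ((b * a) * x * (b * a)⁻¹) * (b * a) = x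
        group)
      right_inv := fun x => Subtype.ext (by
        change (b * a) * ((b * a)⁻¹ * x * (b * a)) * (b * a)⁻¹ = x
        group)
      map_mul' := fun x y => Subtype.ext (by
        change (b * a) * (x * y) * (b * a)⁻¹ = (b * a) * x * (b * a)⁻¹ * ((b * a) * y * (b * a)⁻¹)
        group) }
  have hle : del α ≤ E.subgroupOf K₂ := by
    rw [del, closure_le]
    rintro _ ⟨m, rfl⟩
    have := comm_mem Z.comm haa hbb sa sb hD0 hD1 m.2
    exact this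
  -- the witness
  obtain ⟨hX0, hXK⟩ := mem_up.1 (zp.q₂x 1)
  obtain ⟨hj0, hjK⟩ := mem_up.1 zp.q₂w
  set Xe : K₂ := ⟨_, hXK⟩ with hXe
  set j : K₂ := ⟨_, hjK⟩ with hj
  have hζζ : (⟨p (self (f (c k) (c k))), Z.z₂⟩ : K₂) * ⟨p (self (f (c k) (c k))), Z.z₂⟩ = 1 := by
    apply Subtype.ext
    change p (self _) * p (self _) = 1
    rw [← map_mul, ← map_one p]
    congr 1
    apply Subtype.ext
    change f (c k) (c k) * f (c k) (c k) = 1
    rw [h.f_mul, c_mul_c, f_one h]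
  have hz1 : p (self (f (c k) (c k))) ≠ 1 := by
    intro h1
    refine z_ne_one h (eq_one_of_mem (P := P) Z.ker _ (f_mem h _ _) (x := f (c k) (c k)) h1)
  have hζ1 : (⟨p (self (f (c k) (c k))), Z.z₂⟩ : K₂) ≠ 1 := fun h1 => hz1 (congrArg Subtype.val h1)
  have hαj : α j = Xe * j := by
    apply Subtype.ext
    change (b * a) * p ⟨_, hj0⟩ * (b * a)⁻¹ = p ⟨_, hX0⟩ * p ⟨_, hj0⟩
    rw [hba, ← map_inv, ← map_mul, ← map_mul, ← map_mul]
    congr 1
    apply Subtype.ext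
    change f 1 (r 1) * (f (sr 0) (sr 0 * c k) * w) * (f 1 (r 1))⁻¹ = f (r 1) (r 1) * (f (sr 0) (sr 0 * c k) * w)
    rw [f_inv h, f_mul_fw h, fw_mul_f h, f_mul_fw h]
    have e1 : (1 : D k) * sr 0 * (r 1)⁻¹ = r 1 * sr 0 := by
      rw [one_mul, inv_r, sr_mul_r, r_mul_sr, zero_add, zero_sub]
    have e2 : (r 1 * (sr 0 * c k) * (1 : D k)⁻¹ : D k) = r 1 * (sr 0 * c k) := by
      rw [inv_one, mul_one]
    rw [e1, e2]
  have hjX : j * Xe * j⁻¹ = Xe⁻¹ := by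
    apply Subtype.ext
    change p ⟨_, hj0⟩ * p ⟨_, hX0⟩ * (p ⟨_, hj0⟩)⁻¹ = (p ⟨_, hX0⟩)⁻¹
    rw [← map_inv, ← map_inv, ← map_mul, ← map_mul]
    congr 1
    apply Subtype.ext
    change f (sr 0) (sr 0 * c k) * w * f (r 1) (r 1) * (f (sr 0) (sr 0 * c k) * w)⁻¹ = (f (r 1) (r 1))⁻¹
    rw [fw_conj_f h, f_inv h]
    have e1 : (sr 0 * r 1 * (sr 0)⁻¹ : D k) = (r 1)⁻¹ := sr_r_sr 0 1
    have e2 : (sr 0 * c k * r 1 * (sr 0 * c k)⁻¹ : D k) = (r 1)⁻¹ := by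
      rw [sr_c]
      exact sr_r_sr _ 1
    rw [e1, e2]
  have hjj : j * j = ⟨p (self (f (c k) (c k))), Z.z₂⟩ := by
    apply Subtype.ext
    change p ⟨_, hj0⟩ * p ⟨_, hj0⟩ = p (self _)
    rw [← map_mul]
    congr 1
    apply Subtype.ext
    change f (sr 0) (sr 0 * c k) * w * (f (sr 0) (sr 0 * c k) * w) = f (c k) (c k)
    rw [fw_mul_fw h]
    congr 1
    · rw [← mul_assoc, sr_mul_self, one_mul]
    · rw [mul_assoc, c_comm, ← mul_assoc, sr_mul_self, one_mul]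
  have htop : del α = ⊤ := by
    by_cases h3 : Fintype.card F = 3
    · have hk := k_zero h h2 h3 rfl hz1 e zp.q₂x
      subst hk
      refine del_eq_top_three e hζζ hζ1 h2 h3 α ?_ hjj hjX ?_ hαj
      · apply Subtype.ext
        change p ⟨_, hX0⟩ * p ⟨_, hX0⟩ = p (self _)
        rw [← map_mul]
        congr 1
        apply Subtype.ext
        change f (r 1) (r 1) * f (r 1) (r 1) = f (c 0) (c 0)
        rw [h.f_mul, r_mul_r]
        rfl
      · apply Subtype.ext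
        change (b * a) * p ⟨_, hX0⟩ * (b * a)⁻¹ = p ⟨_, hX0⟩
        rw [hba, ← map_inv, ← map_mul, ← map_mul]
        congr 1
        apply Subtype.ext
        change f 1 (r 1) * f (r 1) (r 1) * (f 1 (r 1))⁻¹ = f (r 1) (r 1)
        rw [f_conj h, mul_inv_cancel_right, one_mul, inv_one, mul_one]
    · have h3' : 3 < Fintype.card F := by
        have h4 : 1 < Fintype.card F := Fintype.one_lt_card
        have h5 : Fintype.card F ≠ 2 := by
          intro h5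
          apply h2
          have := Nat.cast_card_eq_zero F
          rw [h5] at this
          exact_mod_cast this
        omega
      have hx : Xe⁻¹ ∈ del α := by
        have h4 := mem_del α j
        rw [hαj] at h4
        have h5 : j⁻¹ * (Xe * j) = Xe⁻¹ := by
          have h6 : j⁻¹ * (j * Xe * j⁻¹) * j = j⁻¹ * Xe⁻¹ * j := by rw [hjX]
          have h7 : Xe = j⁻¹ * Xe⁻¹ * j := by rw [← h6]; group
          calc j⁻¹ * (Xe * j) = (j⁻¹ * Xe⁻¹ * j)⁻¹ := by group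
            _ = Xe⁻¹ := by rw [← h7]
        rwa [h5] at h4
      refine eq_top_of_notMem e hζζ hζ1 h2 h3' (del_normal α) (inv_mem_iff.1 hx) ?_ ?_
      · intro h4
        have h5 : p ⟨_, hX0⟩ = 1 := congrArg Subtype.val h4
        have h6 := eq_one_of_mem (P := P) Z.ker _ (f_mem h _ _) h5
        rw [f_eq_one_iff h] at h6
        have h7 : (1 : ZMod (4 * 2 ^ k)) = 0 := by
          have := h6.1
          rw [one_def, r.injEq] at this
          exact this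
        have : Fact (1 < 4 * 2 ^ k) := ⟨by have := Nat.one_le_two_pow (n := k); omega⟩
        exact one_ne_zero h7
      · intro h4
        have h5 : p ⟨_, hX0⟩ = p (self (f (c k) (c k))) := congrArg Subtype.val h4
        have h6 := inj_of_mem (P := P) Z.ker _ _ (f_mem h _ _) (f_mem h _ _) h5
        rw [f_eq_iff h] at h6
        have h7 := h6.1
        rw [c, r.injEq] at h7
        have h8 : ((1 : ℕ) : ZMod (4 * 2 ^ k)) = ((2 * 2 ^ k : ℕ) : ZMod (4 * 2 ^ k)) := by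
          rw [Nat.cast_one]; exact h7
        have h9 := (ZMod.natCast_eq_natCast_iff' _ _ _).1 h8
        have := Nat.one_le_two_pow (n := k)
        rw [Nat.mod_eq_of_lt (by omega), Nat.mod_eq_of_lt (by omega)] at h9
        omega
  rw [htop] at hle
  exact subgroupOf_eq_top.1 (top_le_iff.1 hle)

/-- **Closing for `C(z)`**. -/
theorem centralizer_le (h2 : (2 : F) ≠ 0) (Z : CZL (f (c k) (c k)) F p K₁ K₂) (zp : ZPos f w p K₁ K₂) {M : Subgroup G}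
    (hO : centralizerPPrimeCore 2 (f (c k) (c k)) ≤ M)
    (h0 : ∀ x, x * f (c k) (c k) = f (c k) (c k) * x → x * f 1 (sr 0) = f 1 (sr 0) * x → x ∈ M)
    (h1 : ∀ x, x * f (c k) (c k) = f (c k) (c k) * x → x * f 1 (sr (-1)) = f 1 (sr (-1)) * x → x ∈ M)
    (ht : ∀ x, x * f (c k) (c k) = f (c k) (c k) * x → x * f (c k) 1 = f (c k) 1 * x → x ∈ M) :
    centralizer ({f (c k) (c k)} : Set G) ≤ M := by
  have hq := Z.toCZ.quo
  have hs : ∀ i : ZMod (4 * 2 ^ k), f 1 (sr i) * f 1 (sr i) = 1 := by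
    intro i
    rw [h.f_mul, sr_mul_self, one_mul, f_one h]
  have hD0 : ∀ y, y * p ⟨f 1 (sr 0), mem_cz h (f_mem h _ _)⟩ = p ⟨f 1 (sr 0), mem_cz h (f_mem h _ _)⟩ * y → y ∈ dn p M :=
    fun y hy => mem_dn_of_comm hq _ (hs 0) h0 hy
  have hD1 : ∀ y, y * p ⟨f 1 (sr (-1)), mem_cz h (f_mem h _ _)⟩ = p ⟨f 1 (sr (-1)), mem_cz h (f_mem h _ _)⟩ * y →
      y ∈ dn p M := fun y hy => mem_dn_of_comm hq _ (hs (-1)) h1 hy
  have hK2 := K₂_le h h2 Z zp hD0 hD1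
  set a := p ⟨f 1 (sr 0), mem_cz h (f_mem h _ _)⟩ with ha
  have haD : a ∈ dn p M := hD0 a rfl
  have sa : Swp K₁ K₂ a := swp_right h Z.toCZ zp 0 (Or.inl rfl)
  have hK1 : K₁ ≤ dn p M := by
    intro x hx
    have h3 := hK2 (sa.1 x hx)
    have h4 : x = a⁻¹ * (a * x * a⁻¹) * a := by group
    rw [h4]
    exact mul_mem (mul_mem (inv_mem haD) h3) haD
  apply le_of_dn hq hO
  rw [eq_top_iff]
  -- elements normalising `K₁`, `K₂`
  obtain ⟨hX1', hX1K⟩ := mem_up.1 (zp.q₁x ((2 ^ k : ℕ) : ZMod (4 * 2 ^ k)))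
  obtain ⟨hX2', hX2K⟩ := mem_up.1 (zp.q₂x ((2 ^ k : ℕ) : ZMod (4 * 2 ^ k)))
  set X₁ := p ⟨_, hX1'⟩ with hX₁
  set X₂ := p ⟨_, hX2'⟩ with hX₂
  have hx0 : ((2 ^ k : ℕ) : ZMod (4 * 2 ^ k)) + ((2 ^ k : ℕ) : ZMod (4 * 2 ^ k)) = ((2 * 2 ^ k : ℕ) : ZMod (4 * 2 ^ k)) :=
    quarter_add_quarter
  have hsq1 : X₁ * X₁ = p (self (f (c k) (c k))) := by
    rw [hX₁, ← map_mul]
    congr 1
    apply Subtype.ext
    change f (r _) (r _) * f (r _) (r _) = f (c k) (c k)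
    rw [h.f_mul, r_mul_r, r_mul_r, hx0, ← neg_add, hx0, neg_half]
    rfl
  have hsq2 : X₂ * X₂ = p (self (f (c k) (c k))) := by
    rw [hX₂, ← map_mul]
    congr 1
    apply Subtype.ext
    change f (r _) (r _) * f (r _) (r _) = f (c k) (c k)
    rw [h.f_mul, r_mul_r, hx0]
    rfl
  have hprod : X₁ * X₂ = p ⟨f (c k) 1, mem_cz h (f_mem h _ _)⟩ := by
    rw [hX₁, hX₂, ← map_mul]
    congr 1
    apply Subtype.ext
    change f (r _) (r _) * f (r _) (r _) = f (c k) 1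
    rw [h.f_mul, r_mul_r, r_mul_r, hx0, neg_add_cancel]
    rfl
  have hDt : ∀ y, y * (X₁ * X₂) = X₁ * X₂ * y → y ∈ dn p M := by
    rw [hprod]
    intro y hy
    refine mem_dn_of_comm hq _ ?_ ht hy
    rw [h.f_mul, c_mul_c, one_mul, f_one h]
  have hζc : ∀ x : X, x * p (self (f (c k) (c k))) * x⁻¹ = p (self (f (c k) (c k))) := by
    intro x
    obtain ⟨y, rfl⟩ := Z.surj x
    rw [← map_inv, ← map_mul, ← map_mul]
    congr 1
    apply Subtype.ext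
    change (y : G) * f (c k) (c k) * (y : G)⁻¹ = f (c k) (c k)
    rw [mem_cent.1 y.2, mul_inv_cancel_right]
  have hz1 : p (self (f (c k) (c k))) ≠ 1 := by
    intro h1
    refine z_ne_one h (eq_one_of_mem (P := P) Z.ker _ (f_mem h _ _) (x := f (c k) (c k)) h1)
  have hzz : p (self (f (c k) (c k))) * p (self (f (c k) (c k))) = 1 := by
    rw [← map_mul, ← map_one p]
    congr 1
    apply Subtype.ext
    change f (c k) (c k) * f (c k) (c k) = 1
    rw [h.f_mul, c_mul_c, f_one h]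
  have key : ∀ x : X, Nrm K₁ K₂ x → x ∈ dn p M := by
    intro x hx
    obtain ⟨e1⟩ := Z.e₁
    obtain ⟨e2⟩ := Z.e₂
    have hxX : ∀ Y : X, Y * Y = p (self (f (c k) (c k))) → (x * Y * x⁻¹) * (x * Y * x⁻¹) = p (self (f (c k) (c k))) := by
      intro Y hY
      calc (x * Y * x⁻¹) * (x * Y * x⁻¹) = x * (Y * Y) * x⁻¹ := by group
        _ = _ := by rw [hY, hζc]
    obtain ⟨⟨g1, hg1⟩, hg1'⟩ := exists_conj e1 (ζ := ⟨p (self (f (c k) (c k))), Z.z₁⟩) (Subtype.ext hzz)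
      (fun h3 => hz1 (congrArg Subtype.val h3)) h2 (x := ⟨_, hx.1 _ hX1K⟩) (y := ⟨X₁, hX1K⟩)
      (Subtype.ext (hxX X₁ hsq1)) (Subtype.ext hsq1)
    obtain ⟨⟨g2, hg2⟩, hg2'⟩ := exists_conj e2 (ζ := ⟨p (self (f (c k) (c k))), Z.z₂⟩) (Subtype.ext hzz)
      (fun h3 => hz1 (congrArg Subtype.val h3)) h2 (x := ⟨_, hx.2 _ hX2K⟩) (y := ⟨X₂, hX2K⟩)
      (Subtype.ext (hxX X₂ hsq2)) (Subtype.ext hsq2)
    have hg1'' : g1 * (x * X₁ * x⁻¹) * g1⁻¹ = X₁ := congrArg Subtype.val hg1'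
    have hg2'' : g2 * (x * X₂ * x⁻¹) * g2⁻¹ = X₂ := congrArg Subtype.val hg2'
    have hy : g1 * g2 * x ∈ dn p M := by
      apply hDt
      have e3 : (g1 * g2 * x) * X₁ * (g1 * g2 * x)⁻¹ = X₁ := by
        have e5 : g2 * (x * X₁ * x⁻¹) * g2⁻¹ = x * X₁ * x⁻¹ := by
          rw [← Z.comm _ (hx.1 _ hX1K) g2 hg2, mul_inv_cancel_right]
        calc (g1 * g2 * x) * X₁ * (g1 * g2 * x)⁻¹ = g1 * (g2 * (x * X₁ * x⁻¹) * g2⁻¹) * g1⁻¹ := by group
          _ = X₁ := by rw [e5, hg1'']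
      have e4 : (g1 * g2 * x) * X₂ * (g1 * g2 * x)⁻¹ = X₂ := by
        have e5 : g1 * X₂ * g1⁻¹ = X₂ := by
          rw [Z.comm g1 hg1 _ hX2K, mul_inv_cancel_right]
        calc (g1 * g2 * x) * X₂ * (g1 * g2 * x)⁻¹ = g1 * (g2 * (x * X₂ * x⁻¹) * g2⁻¹) * g1⁻¹ := by group
          _ = X₂ := by rw [hg2'', e5]
      have e5 : (g1 * g2 * x) * (X₁ * X₂) * (g1 * g2 * x)⁻¹ = X₁ * X₂ := by
        calc (g1 * g2 * x) * (X₁ * X₂) * (g1 * g2 * x)⁻¹ =
            ((g1 * g2 * x) * X₁ * (g1 * g2 * x)⁻¹) * ((g1 * g2 * x) * X₂ * (g1 * g2 * x)⁻¹) := by group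
          _ = X₁ * X₂ := by rw [e3, e4]
      exact mul_inv_eq_iff_eq_mul.1 e5
    have e6 : x = (g1 * g2)⁻¹ * (g1 * g2 * x) := by group
    rw [e6]
    exact mul_mem (inv_mem (mul_mem (hK1 hg1) (hK2 hg2))) hy
  intro x _
  rcases Z.norm x with hx | hx
  · exact key x hx
  · have h3 := key (a * x) (sa.mul hx)
    have h4 : x = a⁻¹ * (a * x) := by group
    rw [h4]
    exact mul_mem (inv_mem haD) h3

end

end Cfsg.Agent.LFourA.KlZ
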