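import Mathlib
import Cfsg.Agent.LFourA.KlT
import Cfsg.Agent.LFourA.KlZ
import Cfsg.Agent.LFourA.KlCT
import Cfsg.Agent.Lib.TwoClassEnd

/-!
# Closing in case I

A subgroup `M` that contains `P`, `O(C(z))`, `O(C(t))`, `C(T)` and the 3-element `w ρ₀ w⁻¹` (for `|F| = 3` also
`w ρ₁ w⁻¹`) contains `C(t)`, `C(z)` and is equal to `G`.
-/

set_option autoImplicit false

namespace Cfsg.Agent.LFourA.KlMain

open Subgroup DihedralGroup Cfsg Cfsg.Agent.LFourA.Model Cfsg.Agent.LFourA.Base Cfsg.Agent.LFourA.Defs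
  Cfsg.Agent.LFourA.CzCt Cfsg.Agent.LFourA.Facts Cfsg.Agent.LFourA.KlOSolv Cfsg.Agent.LFourA.KlQuot
  Cfsg.Agent.LFourA.KlPos Cfsg.Agent.LFourA.KlSl

open Cfsg.Agent.Lib.TwoClassEnd (centralizer_conj_le)

variable {G : Type*} [Group G] [Finite G] {P : Sylow 2 G} {k : ℕ} {f : D k → D k → G} {w : G}

/-- `N(P) ≤ C(z)`. -/
theorem normalizer_le (h : DWr (P : Subgroup G) k f w) :
    normalizer ((P : Subgroup G) : Set G) ≤ centralizer ({f (c k) (c k)} : Set G) := by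
  intro g hg
  have hgm : ∀ x ∈ (P : Subgroup G), g * x * g⁻¹ ∈ (P : Subgroup G) := fun x hx => (mem_normalizer_iff.1 hg x).1 hx
  have hgm' : ∀ x ∈ (P : Subgroup G), g⁻¹ * x * g ∈ (P : Subgroup G) := by
    intro x hx
    have := (mem_normalizer_iff.1 (inv_mem hg) x).1 hx
    rwa [inv_inv] at this
  have h1 := eq_of_central_S h (hgm _ (f_mem h (c k) (c k))) (by
    intro x hx
    have h2 := z_comm h (hgm' x hx)
    calc g * f (c k) (c k) * g⁻¹ * x = g * (f (c k) (c k) * (g⁻¹ * x * g)) * g⁻¹ := by group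
      _ = g * ((g⁻¹ * x * g) * f (c k) (c k)) * g⁻¹ := by rw [h2]
      _ = x * (g * f (c k) (c k) * g⁻¹) := by group)
  rcases h1 with h1 | h1
  · exfalso
    apply z_ne_one h
    have h2 : f (c k) (c k) = g⁻¹ * (g * f (c k) (c k) * g⁻¹) * g := by group
    rw [h2, h1]; group
  · exact mem_cent.2 (mul_inv_eq_iff_eq_mul.1 h1)

/-- What is known of `M`. -/
structure Clo (P : Sylow 2 G) (f : D k → D k → G) (w : G) (M : Subgroup G) (q : ℕ) : Prop where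
  P_le : (P : Subgroup G) ≤ M
  oz : centralizerPPrimeCore 2 (f (c k) (c k)) ≤ M
  ot : centralizerPPrimeCore 2 (f (c k) 1) ≤ M
  cT : ∀ x, x * f (c k) 1 = f (c k) 1 * x → x * f 1 (c k) = f 1 (c k) * x → x ∈ M
  s0 : ∃ ρ η, Rho f 0 ρ η ∧ w * ρ * w⁻¹ ∈ M
  s1 : q = 3 → ∃ ρ η, Rho f 1 ρ η ∧ w * ρ * w⁻¹ ∈ M

variable {X Y : Type*} [Group X] [Group Y] {F F₂ : Type*} [Field F] [Fintype F] [Field F₂] [Fintype F₂]
  {p : ↥(centralizer ({f (c k) (c k)} : Set G)) →* X} {K₁ K₂ : Subgroup X}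
  {p' : ↥(centralizer ({f (c k) 1} : Set G)) →* Y} {K : Subgroup Y} {M : Subgroup G}

section

variable (h : DWr (P : Subgroup G) k f w)

include h

/-- `C(t) ≤ M`. -/
theorem ct_le (h2 : (2 : F) ≠ 0) (hq : Fintype.card F₂ = Fintype.card F ^ 2)
    (T : CTL (f (c k) 1) F₂ p' K) (tp : TPos f p' K) (cl : Clo P f w M (Fintype.card F)) :
    centralizer ({f (c k) 1} : Set G) ≤ M := by
  have hodd : Odd (Fintype.card F) := by
    have := Cfsg.Agent.Lib.PSL2Torus.odd_card h2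
    rw [Nat.card_eq_fintype_card] at this
    exact Nat.odd_iff.2 this
  have hF1 : 1 < Fintype.card F := Fintype.one_lt_card
  have hodd2 : Odd (Fintype.card F₂) := by rw [hq]; exact hodd.pow
  have hF3 : 3 ≤ Fintype.card F := by
    rcases hodd with ⟨m, hm⟩
    omega
  have hF9 : 9 ≤ Fintype.card F₂ := by rw [hq]; nlinarith
  obtain ⟨ρ₀, η₀, hρ₀, hm₀⟩ := cl.s0
  obtain ⟨h01, h02, -⟩ := rho_two h hρ₀
  have hcomm : ∀ i : ZMod (4 * 2 ^ k), f 1 (sr i) * f 1 (c k) = f 1 (c k) * f 1 (sr i) :=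
    fun i => (f_comm_iff h).2 ⟨rfl, (c_comm _).symm⟩
  have hne : ∀ i : ZMod (4 * 2 ^ k), f 1 (sr i) ≠ f 1 (c k) := fun i hi => sr_ne_c i ((f_eq_iff h).1 hi).2
  refine Cfsg.Agent.LFourA.KlT.centralizer_le hodd2 (by omega) (by omega) (by omega) T (tp.d₂ (c k)) (t' := f 1 (c k))
    (v := f 1 (sr 0)) (by rw [h.f_mul, c_mul_c, one_mul, f_one h]) (t'_ne_one h) cl.ot cl.cT
    ⟨_, hm₀, h01, h02⟩ (hcomm 0) (hne 0) ?_
  intro h9
  have h3 : Fintype.card F = 3 := by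
    rw [hq] at h9
    nlinarith
  obtain ⟨ρ₁, η₁, hρ₁, hm₁⟩ := cl.s1 h3
  obtain ⟨h11, h12, -⟩ := rho_two h hρ₁
  have hprod : f 1 (sr 1) * f 1 (sr 0) = f 1 (r (-1)) := by
    rw [h.f_mul, sr_mul_sr, one_mul, zero_sub]
  refine ⟨f 1 (sr 1), ⟨_, hm₁, h11, h12⟩, hcomm 1, hne 1, ?_, ?_, k + 2, ?_⟩
  · rw [hprod]
    intro h4
    have h5 := ((f_eq_one_iff h).1 h4).2
    rw [one_def, r.injEq, neg_eq_zero] at h5
    have : Fact (1 < 4 * 2 ^ k) := ⟨by have := Nat.one_le_two_pow (n := k); omega⟩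
    exact one_ne_zero h5
  · rw [hprod]
    intro h4
    have h5 := ((f_eq_iff h).1 h4).2
    rw [c, r.injEq] at h5
    have h6 : (1 : ZMod (4 * 2 ^ k)) = ((2 * 2 ^ k : ℕ) : ZMod (4 * 2 ^ k)) := by
      rw [← neg_half, ← h5, neg_neg]
    have h8 : ((1 : ℕ) : ZMod (4 * 2 ^ k)) = ((2 * 2 ^ k : ℕ) : ZMod (4 * 2 ^ k)) := by
      rw [Nat.cast_one]; exact h6
    have h9 := (ZMod.natCast_eq_natCast_iff' _ _ _).1 h8
    have := Nat.one_le_two_pow (n := k)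
    rw [Nat.mod_eq_of_lt (by omega), Nat.mod_eq_of_lt (by omega)] at h9
    omega
  · have e1 : 2 ^ (k + 2) = 4 * 2 ^ k := by rw [pow_add]; ring
    have e2 : ∀ i : ZMod (4 * 2 ^ k), (r i : D k) ^ (4 * 2 ^ k) = 1 := by
      intro i
      rw [r_pow]
      have : i * ((4 * 2 ^ k : ℕ) : ZMod (4 * 2 ^ k)) = 0 := by rw [ZMod.natCast_self, mul_zero]
      rw [this]; rfl
    rw [hprod, Cfsg.Agent.LFourA.ClassInv.f_pow h, e1, e2, one_pow, f_one h]

/-- `C(t') ≤ M`. -/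
theorem ct'_le (hP : (P : Subgroup G) ≤ M) (ht : centralizer ({f (c k) 1} : Set G) ≤ M) :
    centralizer ({f 1 (c k)} : Set G) ≤ M := by
  rw [← w_conj h (c k) 1]
  exact centralizer_conj_le (hP (w_mem h)) ht

/-- The `ρ` are in `M`. -/
theorem rho_mem (hP : (P : Subgroup G) ≤ M) (ht : centralizer ({f (c k) 1} : Set G) ≤ M) {i : ZMod (4 * 2 ^ k)}
    {ρ : G} {η : D k →* D k} (hρ : Rho f i ρ η) : ρ ∈ M :=
  ct'_le h hP ht (mem_cent.2 hρ.comm)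

/-- The centralisers of the `f (sr i) 1` are in `M`. -/
theorem cs_le (hP : (P : Subgroup G) ≤ M) (ht : centralizer ({f (c k) 1} : Set G) ≤ M) {i : ZMod (4 * 2 ^ k)}
    {ρ : G} {η : D k →* D k} (hρ : Rho f i ρ η) : centralizer ({f (sr i) 1} : Set G) ≤ M := by
  rw [← hρ.t_s]
  exact centralizer_conj_le (rho_mem h hP ht hρ) ht

theorem cs'_le (hP : (P : Subgroup G) ≤ M) (ht : centralizer ({f (c k) 1} : Set G) ≤ M) {i : ZMod (4 * 2 ^ k)}
    {ρ : G} {η : D k →* D k} (hρ : Rho f i ρ η) : centralizer ({f 1 (sr i)} : Set G) ≤ M := by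
  rw [← w_conj h (sr i) 1]
  exact centralizer_conj_le (hP (w_mem h)) (cs_le h hP ht hρ)

/-- `C(z) ≤ M`. -/
theorem cz_le (hI : CaseI f w) (h2 : (2 : F) ≠ 0) (Z : CZL (f (c k) (c k)) F p K₁ K₂) (zp : ZPos f w p K₁ K₂)
    (hP : (P : Subgroup G) ≤ M) (hOz : centralizerPPrimeCore 2 (f (c k) (c k)) ≤ M)
    (ht : centralizer ({f (c k) 1} : Set G) ≤ M) :
    centralizer ({f (c k) (c k)} : Set G) ≤ M := by
  obtain ⟨ρ₀, hρ₀⟩ := hI.rho 0
  obtain ⟨ρ₁, hρ₁⟩ := hI.rho (-1)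
  exact Cfsg.Agent.LFourA.KlZ.centralizer_le h h2 Z zp hOz
    (fun x _ hx => cs'_le h hP ht hρ₀ (mem_cent.2 hx)) (fun x _ hx => cs'_le h hP ht hρ₁ (mem_cent.2 hx))
    (fun x _ hx => ht (mem_cent.2 hx))

/-- Every involution of `P` is `M`-conjugate to `t` or `z`. -/
theorem fusion (hI : CaseI f w) (hP : (P : Subgroup G) ≤ M) (ht : centralizer ({f (c k) 1} : Set G) ≤ M)
    (hz : centralizer ({f (c k) (c k)} : Set G) ≤ M) {v : G} (hv : v ∈ (P : Subgroup G)) (hv2 : orderOf v = 2) :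
    ∃ z ∈ ({f (c k) 1, f (c k) (c k)} : Set G), ∃ m ∈ M, m * z * m⁻¹ = v := by
  -- a transitive symmetric formulation
  let R : G → Prop := fun v => ∃ z ∈ ({f (c k) 1, f (c k) (c k)} : Set G), ∃ m ∈ M, m * z * m⁻¹ = v
  have hR : ∀ {u v m : G}, R u → m ∈ M → m * u * m⁻¹ = v → R v := by
    rintro u v m ⟨z, hz, n, hn, rfl⟩ hm rfl
    exact ⟨z, hz, m * n, mul_mem hm hn, by group⟩
  have hR' : ∀ {u v m : G}, R v → m ∈ M → m * u * m⁻¹ = v → R u := by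
    rintro u v m hv hm rfl
    exact hR hv (inv_mem hm) (by group)
  have ht0 : R (f (c k) 1) := ⟨_, Or.inl rfl, 1, one_mem _, by simp⟩
  have hz0 : R (f (c k) (c k)) := ⟨_, Or.inr rfl, 1, one_mem _, by simp⟩
  have hw : ∀ {a b : D k}, R (f a b) → R (f b a) := fun hab => hR hab (hP (w_mem h)) (w_conj h _ _)
  have h1 : ∀ i, R (f (sr i) 1) := by
    intro i
    obtain ⟨ρ, hρ⟩ := hI.rho i
    exact hR ht0 (rho_mem h hP ht hρ) hρ.t_s
  have h2 : ∀ i, R (f (sr i) (c k)) := by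
    intro i
    obtain ⟨ρ, hρ⟩ := hI.rho i
    refine hR hz0 (rho_mem h hP ht hρ) ?_
    have e1 : f (c k) (c k) = f (c k) 1 * f 1 (c k) := (t_mul_t' h).symm
    have e2 : f (sr i) (c k) = f (sr i) 1 * f 1 (c k) := by rw [h.f_mul, mul_one, one_mul]
    have e3 : ρ * f 1 (c k) * ρ⁻¹ = f 1 (c k) := by rw [hρ.comm, mul_inv_cancel_right]
    calc ρ * f (c k) (c k) * ρ⁻¹ = (ρ * f (c k) 1 * ρ⁻¹) * (ρ * f 1 (c k) * ρ⁻¹) := by rw [e1]; group
      _ = f (sr i) (c k) := by rw [hρ.t_s, e3, e2]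
  have h3 : ∀ i j, R (f (sr i) (sr j)) := by
    intro i j
    obtain ⟨ρ, hρ⟩ := hI.rho i
    have hfix := hρ.fix (sr j)
    rcases hρ.val (sr j) with he | he
    · rw [he] at hfix
      -- `ρ` maps `f c (sr j)` to `f (sr i) (sr j)`
      refine hR (hw (h2 j)) (rho_mem h hP ht hρ) ?_
      have e1 : f (c k) (sr j) = f (c k) 1 * f 1 (sr j) := by rw [h.f_mul, mul_one, one_mul]
      have e2 : f (sr i) (sr j) = f (sr i) 1 * f 1 (sr j) := by rw [h.f_mul, mul_one, one_mul]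
      have e3 : ρ * f 1 (sr j) * ρ⁻¹ = f 1 (sr j) := by rw [hfix, mul_inv_cancel_right]
      calc ρ * f (c k) (sr j) * ρ⁻¹ = (ρ * f (c k) 1 * ρ⁻¹) * (ρ * f 1 (sr j) * ρ⁻¹) := by rw [e1]; group
        _ = f (sr i) (sr j) := by rw [hρ.t_s, e3, e2]
    · rw [he] at hfix
      -- `ρ` maps `f (sr i) (sr j)` to `f 1 (sr j)`
      refine hR' (hw (h1 j)) (rho_mem h hP ht hρ) ?_
      have e1 : f (sr i) (sr j) = f (sr i * c k) 1 * f (c k) (sr j) := by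
        rw [h.f_mul, mul_assoc, c_mul_c, mul_one, one_mul]
      have e2 : f (c k) 1 * f (c k) (sr j) = f 1 (sr j) := by rw [h.f_mul, c_mul_c, one_mul]
      have e3 : ρ * f (c k) (sr j) * ρ⁻¹ = f (c k) (sr j) := by rw [hfix, mul_inv_cancel_right]
      calc ρ * f (sr i) (sr j) * ρ⁻¹ = (ρ * f (sr i * c k) 1 * ρ⁻¹) * (ρ * f (c k) (sr j) * ρ⁻¹) := by rw [e1]; group
        _ = f 1 (sr j) := by rw [hρ.sc_t, e3, e2]
  have hvv : v * v = 1 := by rw [← pow_two, ← hv2, pow_orderOf_eq_one]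
  rcases mem_cases h hv with ⟨a, b, rfl⟩ | ⟨a, b, rfl⟩
  · obtain ⟨ha, hb⟩ := (f_sq_one_iff h).1 hvv
    rcases eq_of_sq_one ha with rfl | rfl | ⟨i, rfl⟩ <;> rcases eq_of_sq_one hb with rfl | rfl | ⟨j, rfl⟩
    · rw [f_one h, orderOf_one] at hv2
      exact absurd hv2 (by norm_num)
    · exact hw ht0
    · exact hw (h1 j)
    · exact ht0
    · exact hz0
    · exact hw (h2 j)
    · exact h1 i
    · exact h2 i
    · exact h3 i j
  · have hb := (fw_sq_one_iff h).1 hvv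
    subst hb
    obtain ⟨g, hg1, hg2⟩ := hI.w_t
    have hgM : g ∈ M := hz (mem_cent.2 (mul_inv_eq_iff_eq_mul.1 hg2))
    have hwR : R w := hR' ht0 hgM hg1
    exact hR hwR (hP (f_mem h a 1)) (fw_eq_conj_w h a).symm

/-- **Closing**: `M = G`. -/
theorem eq_top (hI : CaseI f w) (h2 : (2 : F) ≠ 0) (hq : Fintype.card F₂ = Fintype.card F ^ 2)
    (Z : CZL (f (c k) (c k)) F p K₁ K₂) (zp : ZPos f w p K₁ K₂)
    (T : CTL (f (c k) 1) F₂ p' K) (tp : TPos f p' K) (cl : Clo P f w M (Fintype.card F)) : M = ⊤ := by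
  have ht := ct_le h h2 hq T tp cl
  have hz := cz_le h hI h2 Z zp cl.P_le cl.oz ht
  have o2 : ∀ {x : G}, x * x = 1 → x ≠ 1 → orderOf x = 2 := fun h1 h2 =>
    orderOf_eq_prime (by rw [pow_two]; exact h1) h2
  refine Cfsg.Agent.Lib.TwoClassEnd.eq_top P ((normalizer_le h).trans hz) {f (c k) 1, f (c k) (c k)} ?_
    (fun v hv hv2 => fusion h hI cl.P_le ht hz hv hv2)
    (a := f (c k) 1) (b := f (c k) (c k)) (o2 ?_ (t_ne_one h)) (o2 ?_ (z_ne_one h)) hI.tz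
  · rintro z (rfl | rfl)
    · exact ht
    · exact hz
  · rw [h.f_mul, c_mul_c, one_mul, f_one h]
  · rw [h.f_mul, c_mul_c, f_one h]

/-- `W = 1`. -/
theorem eq_bot [IsSimpleGroup G] (hI : CaseI f w) (h2 : (2 : F) ≠ 0) (hq : Fintype.card F₂ = Fintype.card F ^ 2)
    (Z : CZL (f (c k) (c k)) F p K₁ K₂) (zp : ZPos f w p K₁ K₂)
    (T : CTL (f (c k) 1) F₂ p' K) (tp : TPos f p' K) {W : Subgroup G} (hW : Odd (Nat.card W))
    (cl : Clo P f w (normalizer (W : Set G)) (Fintype.card F)) : W = ⊥ := by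
  have h1 := eq_top h hI h2 hq Z zp T tp cl
  have hn : W.Normal := normalizer_eq_top_iff.1 h1
  rcases hn.eq_bot_or_eq_top with h3 | h3
  · exact h3
  · exfalso
    have h4 : orderOf (f (c k) 1) = 2 := orderOf_eq_prime (by rw [pow_two, h.f_mul, c_mul_c, one_mul, f_one h]) (t_ne_one h)
    have h5 : 2 ∣ Nat.card G := h4 ▸ orderOf_dvd_natCard _
    rw [h3, card_top] at hW
    exact (Nat.not_even_iff_odd.2 hW) (even_iff_two_dvd.2 h5)

end

end Cfsg.Agent.LFourA.KlMain
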