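import Mathlib
import Cfsg.Agent.LFourA.KlMain

/-!
# Closing in case I: the normaliser of the completion `W`
-/

set_option autoImplicit false

namespace Cfsg.Agent.LFourA.KlW

open Subgroup DihedralGroup Cfsg Cfsg.Agent.LFourA.Model Cfsg.Agent.LFourA.Base Cfsg.Agent.LFourA.Defs
  Cfsg.Agent.LFourA.CzCt Cfsg.Agent.LFourA.Facts Cfsg.Agent.LFourA.KlMain

open Cfsg.Agent.StandardComponent.CentCore (core_conj_mem core_odd)

variable {G : Type*} [Group G] {k : ℕ}

/-- Membership in `E = f(V₀ × V₀)`. -/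
def InE (f : D k → D k → G) (x : G) : Prop :=
  ∃ a ∈ Cfsg.Agent.LFourA.Facts.V (0 : ZMod (4 * 2 ^ k)), ∃ b ∈ Cfsg.Agent.LFourA.Facts.V (0 : ZMod (4 * 2 ^ k)), x = f a b

/-- The properties of the completion `W` that are used. -/
structure Cpl (f : D k → D k → G) (W : Subgroup G) (q : ℕ) : Prop where
  odd : Odd (Nat.card W)
  le : ∀ K : Subgroup G, Odd (Nat.card K) → (∀ b, InE f b → ∀ x ∈ K, b * x * b⁻¹ ∈ K) → K ≤ normalizer (W : Set G)
  norm : ∀ D : Subgroup G, (∀ x ∈ D, InE f x) → 8 ≤ Nat.card D → normalizer (D : Set G) ≤ normalizer (W : Set G)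
  norm₄ : q = 3 → ∀ D : Subgroup G, (∀ x ∈ D, InE f x) → 4 ≤ Nat.card D →
    normalizer (D : Set G) ≤ normalizer (W : Set G)

variable {f : D k → D k → G} {w : G} [Finite G] {P : Sylow 2 G}

/-- `E` as a subgroup. -/
def EE (h : DWr (P : Subgroup G) k f w) : Subgroup G where
  carrier := {x | InE f x}
  one_mem' := ⟨1, one_mem _, 1, one_mem _, (f_one h).symm⟩
  mul_mem' := by
    rintro _ _ ⟨a, ha, b, hb, rfl⟩ ⟨a', ha', b', hb', rfl⟩
    exact ⟨a * a', mul_mem ha ha', b * b', mul_mem hb hb', h.f_mul _ _ _ _⟩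
  inv_mem' := by
    rintro _ ⟨a, ha, b, hb, rfl⟩
    exact ⟨a⁻¹, inv_mem ha, b⁻¹, inv_mem hb, f_inv h a b⟩

omit [Finite G] in
theorem mem_EE (h : DWr (P : Subgroup G) k f w) {x : G} : x ∈ EE h ↔ InE f x := Iff.rfl

/-- A lower bound for the number of elements of `E` commuting with `g`. -/
theorem card_cent_ge (h : DWr (P : Subgroup G) k f w) {g : G} {ι : Type} (φ : ι → G) (hφ : Function.Injective φ)
    (hE : ∀ i, InE f (φ i)) (hg : ∀ i, g * φ i = φ i * g) :
    Nat.card ι ≤ Nat.card (EE h ⊓ centralizer ({g} : Set G) : Subgroup G) := by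
  let ψ : ι → (EE h ⊓ centralizer ({g} : Set G) : Subgroup G) :=
    fun i => ⟨φ i, hE i, mem_centralizer_singleton_iff.2 (hg i).symm⟩
  have hψ : Function.Injective ψ := fun i j hij => hφ (congrArg Subtype.val hij)
  exact Nat.card_le_card_of_injective ψ hψ

omit [Finite G] in
theorem mem_normalizer_inf (E : Subgroup G) (g : G) :
    g ∈ normalizer ((E ⊓ centralizer ({g} : Set G) : Subgroup G) : Set G) := by
  apply centralizer_le_normalizer
  rw [mem_centralizer_iff]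
  intro x hx
  exact mem_centralizer_singleton_iff.1 hx.2

/-- The hypotheses on `M = N(W)`. -/
theorem clo (h : DWr (P : Subgroup G) k f w) (hI : CaseI f w) {W : Subgroup G} {q : ℕ} (hW : Cpl f W q) :
    Clo P f w (normalizer (W : Set G)) q := by
  have hcen : ∀ g : G, 8 ≤ Nat.card (EE h ⊓ centralizer ({g} : Set G) : Subgroup G) → g ∈ normalizer (W : Set G) :=
    fun g hg => hW.norm (EE h ⊓ centralizer ({g} : Set G)) (fun x hx => hx.1) hg (mem_normalizer_inf (EE h) g)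
  have hcV : Nat.card (Cfsg.Agent.LFourA.Facts.V (0 : ZMod (4 * 2 ^ k))) = 4 := card_V 0
  have hcx : ∀ x : Bool, (if x then c k else 1) ∈ Cfsg.Agent.LFourA.Facts.V (0 : ZMod (4 * 2 ^ k)) := by
    intro x
    cases x
    · exact one_mem _
    · exact c_mem_V 0
  have hcinj : ∀ x y : Bool, (if x then c k else 1 : D k) = (if y then c k else 1) → x = y := by
    intro x y hxy
    cases x <;> cases y
    · rfl
    · exact absurd hxy.symm c_ne_one
    · exact absurd hxy c_ne_one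
    · rfl
  have hcard8 : ∀ g : G, (∀ (x : Bool) (b : D k), b ∈ Cfsg.Agent.LFourA.Facts.V (0 : ZMod (4 * 2 ^ k)) →
      g * f (if x then c k else 1) b = f (if x then c k else 1) b * g) →
      8 ≤ Nat.card (EE h ⊓ centralizer ({g} : Set G) : Subgroup G) := by
    intro g hg
    have h1 := card_cent_ge h (g := g) (ι := Bool × Cfsg.Agent.LFourA.Facts.V (0 : ZMod (4 * 2 ^ k)))
      (fun i => f (if i.1 then c k else 1) i.2) (by
        rintro ⟨x, b⟩ ⟨y, b'⟩ hxy
        obtain ⟨h2, h3⟩ := (f_eq_iff h).1 hxy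
        exact Prod.ext (hcinj _ _ h2) (Subtype.ext h3)) (fun i => ⟨_, hcx _, _, i.2.2, rfl⟩)
      (fun i => hg _ _ i.2.2)
    rw [Nat.card_prod, hcV, Nat.card_eq_fintype_card, Fintype.card_bool] at h1
    exact h1
  have hNE : normalizer (EE h : Set G) ≤ normalizer (W : Set G) := by
    refine hW.norm (EE h) (fun x hx => hx) ?_
    refine (hcard8 1 (fun x b _ => by rw [one_mul, mul_one])).trans ?_
    exact Nat.le_of_dvd Nat.card_pos (card_dvd_of_le inf_le_left)
  have hf1 : ∀ a : D k, f a 1 ∈ normalizer (W : Set G) := by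
    intro a
    apply hcen
    apply hcard8
    intro x b _
    rw [f_comm_iff h]
    refine ⟨?_, by rw [one_mul, mul_one]⟩
    cases x
    · simp
    · exact (c_comm a).symm
  have hwE : w ∈ normalizer (W : Set G) := by
    apply hNE
    have hw : ∀ x ∈ EE h, w * x * w⁻¹ ∈ EE h := by
      rintro _ ⟨a, ha, b, hb, rfl⟩
      rw [w_conj h]
      exact ⟨b, hb, a, ha, rfl⟩
    exact mem_normalizer_fintype hw
  have hf2 : ∀ b : D k, f 1 b ∈ normalizer (W : Set G) := by
    intro b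
    rw [← w_conj h b 1]
    exact mul_mem (mul_mem hwE (hf1 b)) (inv_mem hwE)
  have hP : (P : Subgroup G) ≤ normalizer (W : Set G) := by
    intro g hg
    rcases mem_cases h hg with ⟨a, b, rfl⟩ | ⟨a, b, rfl⟩
    · have e : f a b = f a 1 * f 1 b := by rw [h.f_mul, mul_one, one_mul]
      rw [e]
      exact mul_mem (hf1 a) (hf2 b)
    · have e : f a b = f a 1 * f 1 b := by rw [h.f_mul, mul_one, one_mul]
      rw [e]
      exact mul_mem (mul_mem (hf1 a) (hf2 b)) hwE
  have hcore : ∀ u, (u = 1 ∨ u = c k) → ∀ v, (v = 1 ∨ v = c k) →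
      centralizerPPrimeCore 2 (f u v) ≤ normalizer (W : Set G) := by
    intro u hu v hv
    refine hW.le _ (core_odd _) ?_
    rintro _ ⟨a, _, b, _, rfl⟩ x hx
    exact core_conj_mem (f_comm_center h hu hv).symm hx
  refine ⟨hP, hcore _ (Or.inr rfl) _ (Or.inr rfl), hcore _ (Or.inr rfl) _ (Or.inl rfl), ?_, ?_, ?_⟩
  · intro x hx1 hx2
    obtain ⟨K, hK⟩ := Cfsg.Agent.LFourA.KlCT.exists_compl h ⟨hI.typ_t, hI.typ_z⟩
    obtain ⟨o, ho, b, hb, rfl⟩ := hK.decomp x (Cfsg.Agent.LFourA.KlCT.mem_Y.2 ⟨hx1, hx2⟩)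
    have hKW : K ≤ normalizer (W : Set G) := by
      refine hW.le K (Nat.odd_iff.2 (by have := hK.odd; omega)) ?_
      rintro _ ⟨a, _, b, _, rfl⟩ x hx
      exact hK.norm _ (Cfsg.Agent.LFourA.KlCT.base_le_Y h (f_mem_base h _ _)) _ hx
    exact mul_mem (hKW ho) (hP (base_le h hb))
  · obtain ⟨ρ, hρ⟩ := hI.rho 0
    refine ⟨ρ, _, hρ, mul_mem (mul_mem hwE ?_) (inv_mem hwE)⟩
    apply hNE
    have hw : ∀ x ∈ EE h, ρ * x * ρ⁻¹ ∈ EE h := by
      rintro _ ⟨a, ha, b, hb, rfl⟩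
      set η := chi (k := k) (1 + pa (0 : ZMod (4 * 2 ^ k))) (pa (0 : ZMod (4 * 2 ^ k))) with hη
      have hval := hρ.val b
      have hηV : η b ∈ Cfsg.Agent.LFourA.Facts.V (0 : ZMod (4 * 2 ^ k)) := by
        rcases hval with h1 | h1
        · rw [h1]; exact one_mem _
        · rw [h1]; exact c_mem_V 0
      have hηη : η b * η b = 1 := by
        rcases hval with h1 | h1
        · rw [h1, one_mul]
        · rw [h1, c_mul_c]
      have e1 : f a b = f (a * η b) 1 * f (η b) b := by rw [h.f_mul, mul_assoc, hηη, mul_one, one_mul]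
      have e2 : ρ * f (η b) b * ρ⁻¹ = f (η b) b := by rw [hρ.fix, mul_inv_cancel_right]
      have e3 : ∃ a' ∈ Cfsg.Agent.LFourA.Facts.V (0 : ZMod (4 * 2 ^ k)), ρ * f (a * η b) 1 * ρ⁻¹ = f a' 1 := by
        rcases mem_V.1 (mul_mem ha hηV) with h1 | h1 | h1 | h1
        · rw [h1, f_one h, mul_one, mul_inv_cancel]
          exact ⟨1, one_mem _, (f_one h).symm⟩
        · rw [h1]; exact ⟨_, sr_mem_V 0, hρ.t_s⟩
        · rw [h1]; exact ⟨_, src_mem_V 0, hρ.s_sc⟩
        · rw [h1]; exact ⟨_, c_mem_V 0, hρ.sc_t⟩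
      obtain ⟨a', ha', e3⟩ := e3
      have e4 : ρ * f a b * ρ⁻¹ = f (a' * η b) b := by
        calc ρ * f a b * ρ⁻¹ = (ρ * f (a * η b) 1 * ρ⁻¹) * (ρ * f (η b) b * ρ⁻¹) := by rw [e1]; group
          _ = f (a' * η b) b := by rw [e2, e3, h.f_mul, one_mul]
      rw [e4]
      exact ⟨_, mul_mem ha' hηV, b, hb, rfl⟩
    exact mem_normalizer_fintype hw
  · intro hq
    obtain ⟨ρ, hρ⟩ := hI.rho 1
    refine ⟨ρ, _, hρ, mul_mem (mul_mem hwE ?_) (inv_mem hwE)⟩
    refine hW.norm₄ hq (EE h ⊓ centralizer ({ρ} : Set G)) (fun x hx => hx.1) ?_ (mem_normalizer_inf (EE h) ρ)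
    have h4 := card_cent_ge h (g := ρ) (ι := Cfsg.Agent.LFourA.Facts.V (0 : ZMod (4 * 2 ^ k)))
      (fun i => f (chi (1 + pa (1 : ZMod (4 * 2 ^ k))) (pa (1 : ZMod (4 * 2 ^ k))) (i : D k)) i) (by
        rintro b b' hbb
        exact Subtype.ext ((f_eq_iff h).1 hbb).2) (fun i => ⟨_, by
          rcases hρ.val i with h1 | h1
          · rw [h1]; exact one_mem _
          · rw [h1]; exact c_mem_V 0, _, i.2, rfl⟩) (fun i => hρ.fix _)
    rwa [hcV] at h4

end Cfsg.Agent.LFourA.KlW
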