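import Mathlib
import Cfsg.Agent.Lib.SymParam
import Cfsg.Agent.LFourA.Defs

/-!
# Case I: the elementary abelian group `E = f(V₀ × V₀)` of order 16 with its symplectic form

Coordinates `(a₁, a₂, b₁, b₂) ↦ f (c ^ a₁ s ^ a₂) (c ^ b₁ s ^ b₂)`, `s = sr 0`.  Words in `w` and `ρ` act on the
coordinates; every isotropic flag is moved to a standard one.
-/

set_option autoImplicit false

namespace Cfsg.Agent.LFourA.SymCoord

open Subgroup Cfsg DihedralGroup Cfsg.Agent.LFourA.Model Cfsg.Agent.LFourA.Base Cfsg.Agent.LFourA.Defs
open Cfsg.Agent.Lib.SymParam Cfsg.Agent.Lib.SymFrame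

/-- coordinates -/
abbrev V : Type := Bool × Bool × Bool × Bool

/-- addition -/
def op (u v : V) : V := (xor u.1 v.1, xor u.2.1 v.2.1, xor u.2.2.1 v.2.2.1, xor u.2.2.2 v.2.2.2)

/-- zero -/
def o : V := (false, false, false, false)

/-- coordinates of `z` -/
def vz : V := (true, false, true, false)

/-- coordinates of `t` -/
def vt : V := (true, false, false, false)

/-- coordinates of `t'` -/
def vt' : V := (false, false, true, false)

/-- the form -/
def bet (u v : V) : Bool :=
  xor (xor (xor (u.1 && v.2.1) (u.2.1 && v.1)) (xor (u.2.2.1 && v.2.2.2) (u.2.2.2 && v.2.2.1)))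
    (xor (u.2.1 && v.2.2.2) (u.2.2.2 && v.2.1))

/-- action of `w` -/
def Wm (v : V) : V := (v.2.2.1, v.2.2.2, v.1, v.2.1)

/-- action of `ρ` -/
def Rm (v : V) : V := (xor v.2.1 v.2.2.2, xor (xor v.1 v.2.1) v.2.2.2, v.2.2.1, v.2.2.2)

/-- action of a word -/
def act : List Bool → V → V
  | [], v => v
  | true :: l, v => Wm (act l v)
  | false :: l, v => Rm (act l v)

theorem bet_op : ∀ u v w : V, bet (op u v) w = xor (bet u w) (bet v w) := by decide +kernel

theorem bet_symm : ∀ u v : V, bet u v = bet v u := by decide +kernel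

theorem op_comm : ∀ u v : V, op u v = op v u := by decide +kernel

/-- hypotheses of `bet_iso` -/
def Hyp (u v w : V) : Prop := (u ≠ o ∧ v ≠ o ∧ w ≠ o) ∧ u ≠ v ∧ bet u v = false ∧ bet u w = false ∧ bet v w = false

instance (u v w : V) : Decidable (Hyp u v w) := by unfold Hyp; infer_instance

theorem bet_iso' : ∀ u v w : V, Hyp u v w → (w = u ∨ w = v ∨ w = op u v) := by decide +kernel

theorem bet_iso (u v w : V) (h1 : u ≠ o) (h2 : v ≠ o) (h3 : w ≠ o) (h4 : u ≠ v) (h5 : bet u v = false)
    (h6 : bet u w = false) (h7 : bet v w = false) : w = u ∨ w = v ∨ w = op u v :=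
  bet_iso' u v w ⟨⟨h1, h2, h3⟩, h4, h5, h6, h7⟩

theorem bet_W : ∀ u v : V, bet (Wm u) (Wm v) = bet u v := by decide +kernel

theorem bet_R : ∀ u v : V, bet (Rm u) (Rm v) = bet u v := by decide +kernel

theorem bet_act (l : List Bool) (u v : V) : bet (act l u) (act l v) = bet u v := by
  induction l with
  | nil => rfl
  | cons x l ih =>
    cases x
    · exact (bet_R _ _).trans ih
    · exact (bet_W _ _).trans ih

/-- words -/
def words : List (List Bool) :=
  [[], [false], [true], [false, false], [false, true], [true, false], [false, false, true],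
    [false, true, false], [true, false, false], [true, false, true], [false, false, true, false],
    [false, true, false, false], [false, true, false, true], [true, false, false, true],
    [true, false, true, false], [false, false, true, false, false], [false, false, true, false, true],
    [false, true, false, false, true], [false, true, false, true, false],
    [true, false, false, true, false], [true, false, true, false, false],
    [true, false, true, false, true], [false, false, true, false, false, true],
    [false, false, true, false, true, false], [false, true, false, true, false, false],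
    [false, true, false, true, false, true], [true, false, false, true, false, true],
    [true, false, true, false, false, true], [false, false, true, false, false, true, false],
    [false, false, true, false, true, false, true]]

theorem exists_single : ∀ v : V, v ≠ o → ∃ l ∈ words, act l v = vz ∨ act l v = vt := by decide +kernel

/-- the standard flags -/
def Std (u v : V) : Prop := (u = vz ∧ v = vt) ∨ (u = vz ∧ v = vt') ∨ (u = vt ∧ v = vt') ∨ (u = vt ∧ v = vz)

instance (u v : V) : Decidable (Std u v) := by unfold Std; infer_instance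

theorem exists_flag' : ∀ u v : V, (u ≠ o ∧ v ≠ o ∧ u ≠ v ∧ bet u v = false) →
    ∃ l ∈ words, Std (act l u) (act l v) := by decide +kernel

theorem exists_flag (u v : V) (h1 : u ≠ o) (h2 : v ≠ o) (h3 : u ≠ v) (h4 : bet u v = false) :
    ∃ l ∈ words, Std (act l u) (act l v) := exists_flag' u v ⟨h1, h2, h3, h4⟩

section

variable {k : ℕ}

/-- `c ^ a s ^ b` -/
def el (k : ℕ) (a b : Bool) : D k := (if a then c k else 1) * (if b then sr 0 else 1)

theorem el_mul (a b a' b' : Bool) : el k (xor a a') (xor b b') = el k a b * el k a' b' := by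
  have h1 : c k * c k = 1 := c_mul_c
  have h2 : (sr 0 : D k) * sr 0 = 1 := by rw [sr_mul_sr, sub_self, ← one_def]
  have h3 : (sr 0 : D k) * c k = c k * sr 0 := (c_comm _).symm
  have h4 : ∀ x : D k, c k * (c k * x) = x := fun x => by rw [← mul_assoc, h1, one_mul]
  have h5 : ∀ x : D k, (sr 0 : D k) * (c k * x) = c k * (sr 0 * x) := fun x => by
    rw [← mul_assoc, h3, mul_assoc]
  cases a <;> cases b <;> cases a' <;> cases b' <;> simp [el, h1, h2, h3, h4, h5, mul_assoc]

theorem el_sq (a b : Bool) : el k a b * el k a b = 1 := by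
  rw [← el_mul, Bool.xor_self, Bool.xor_self]
  simp [el]

theorem el_inj {a b a' b' : Bool} (h : el k a b = el k a' b') : a = a' ∧ b = b' := by
  have key : ∀ a b : Bool, el k a b = 1 → a = false ∧ b = false := by
    intro a b h
    cases a <;> cases b
    · exact ⟨rfl, rfl⟩
    · simp only [el, if_true, one_mul, Bool.false_eq_true, if_false] at h
      exact absurd h (sr_ne_one _)
    · simp only [el, if_true, mul_one, Bool.false_eq_true, if_false] at h
      exact absurd h c_ne_one
    · simp only [el, if_true] at h
      rw [c_comm, mul_eq_one_iff_eq_inv, c_inv] at h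
      exact absurd h (sr_ne_c _)
  have h1 := key (xor a a') (xor b b') (by rw [el_mul, h, el_sq])
  exact ⟨by simpa using h1.1, by simpa using h1.2⟩

end

section

variable {G : Type*} [Group G] {S : Subgroup G} {k : ℕ} {f : D k → D k → G} {w : G}

/-- the parametrisation of `E` -/
def ev (f : D k → D k → G) (v : V) : G := f (el k v.1 v.2.1) (el k v.2.2.1 v.2.2.2)

variable (h : DWr S k f w)

include h

theorem ev_op (u v : V) : ev f (op u v) = ev f u * ev f v := by
  rw [ev, ev, ev, h.f_mul, ← el_mul, ← el_mul]
  rfl

theorem ev_o : ev f o = 1 := by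
  have h1 : el k false false = 1 := by simp [el]
  change f (el k false false) (el k false false) = 1
  rw [h1, f_one h]

theorem ev_inj : Function.Injective (ev f) := by
  intro u v huv
  obtain ⟨h1, h2⟩ := (f_eq_iff h).1 huv
  obtain ⟨h3, h4⟩ := el_inj h1
  obtain ⟨h5, h6⟩ := el_inj h2
  exact Prod.ext h3 (Prod.ext h4 (Prod.ext h5 h6))

theorem ev_sq (u : V) : ev f u * ev f u = 1 := by
  rw [ev, h.f_mul, el_sq, el_sq, f_one h]

theorem ev_W (v : V) : w * ev f v * w⁻¹ = ev f (Wm v) := by
  rw [ev, w_conj h]
  rfl

omit h in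
/-- two homomorphisms which agree on a basis are equal -/
theorem hom_ext {φ ψ : V → G} (hφ : ∀ u v, φ (op u v) = φ u * φ v) (hψ : ∀ u v, ψ (op u v) = ψ u * ψ v)
    (h1 : φ (true, false, false, false) = ψ (true, false, false, false))
    (h2 : φ (false, true, false, false) = ψ (false, true, false, false))
    (h3 : φ (false, false, true, false) = ψ (false, false, true, false))
    (h4 : φ (false, false, false, true) = ψ (false, false, false, true)) (v : V) : φ v = ψ v := by
  have hφo : φ o = 1 := by
    have := hφ o o
    exact mul_eq_left.1 this.symm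
  have hψo : ψ o = 1 := by
    have := hψ o o
    exact mul_eq_left.1 this.symm
  obtain ⟨a, b, c, d⟩ := v
  have key : (a, b, c, d) = op (op (op (if a then (true, false, false, false) else o)
      (if b then (false, true, false, false) else o)) (if c then (false, false, true, false) else o))
      (if d then (false, false, false, true) else o) := by
    revert a b c d
    decide
  rw [key, hφ, hφ, hφ, hψ, hψ, hψ]
  congr 1
  · congr 1
    · congr 1
      · cases a
        · exact hφo.trans hψo.symm
        · exact h1
      · cases b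
        · exact hφo.trans hψo.symm
        · exact h2
    · cases c
      · exact hφo.trans hψo.symm
      · exact h3
  · cases d
    · exact hφo.trans hψo.symm
    · exact h4

theorem ev_R {ρ : G} (hρ : Rho f 0 ρ (chi 1 0)) (v : V) : ρ * ev f v * ρ⁻¹ = ev f (Rm v) := by
  have hc : el k true false = c k := by simp [el]
  have hs : el k false true = sr 0 := by simp [el]
  have h1 : el k false false = 1 := by simp [el]
  have hcs : el k true true = sr 0 * c k := by simp [el, c_comm]
  refine hom_ext (φ := fun v => ρ * ev f v * ρ⁻¹) (ψ := fun v => ev f (Rm v)) ?_ ?_ ?_ ?_ ?_ ?_ v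
  · intro u v
    rw [ev_op h]; group
  · intro u v
    have : ∀ u v : V, Rm (op u v) = op (Rm u) (Rm v) := by decide +kernel
    rw [this, ev_op h]
  · change ρ * f (el k true false) (el k false false) * ρ⁻¹ = f (el k false true) (el k false false)
    rw [hc, h1, hs]
    exact hρ.t_s
  · change ρ * f (el k false true) (el k false false) * ρ⁻¹ = f (el k true true) (el k false false)
    rw [hcs, h1, hs]
    exact hρ.s_sc
  · change ρ * f (el k false false) (el k true false) * ρ⁻¹ = f (el k false false) (el k true false)
    rw [hc, h1, hρ.comm, mul_inv_cancel_right]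
  · change ρ * f (el k false false) (el k false true) * ρ⁻¹ = f (el k true true) (el k false true)
    rw [hcs, h1, hs]
    have h2 := hρ.fix (sr 0)
    rw [chi_sr_even _ _ (map_zero pa), cc_one] at h2
    have h3 : f 1 (sr 0) = f (c k) 1 * f (c k) (sr 0) := by
      rw [h.f_mul, c_mul_c, one_mul]
    calc ρ * f 1 (sr 0) * ρ⁻¹ = (ρ * f (c k) 1 * ρ⁻¹) * (ρ * f (c k) (sr 0) * ρ⁻¹) := by rw [h3]; group
      _ = f (sr 0) 1 * f (c k) (sr 0) := by rw [hρ.t_s, h2, mul_inv_cancel_right]
      _ = f (sr 0 * c k) (sr 0) := by rw [h.f_mul, one_mul]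

/-- every word is induced by conjugation -/
theorem exists_conj (hI : CaseI f w) (l : List Bool) : ∃ g : G, ∀ v, g * ev f v * g⁻¹ = ev f (act l v) := by
  obtain ⟨ρ, hρ⟩ := hI.rho 0
  rw [map_zero, add_zero] at hρ
  induction l with
  | nil => exact ⟨1, fun v => by rw [one_mul, inv_one, mul_one]; rfl⟩
  | cons x l ih =>
    obtain ⟨g, hg⟩ := ih
    cases x
    · refine ⟨ρ * g, fun v => ?_⟩
      have h2 : ρ * g * ev f v * (ρ * g)⁻¹ = ρ * (g * ev f v * g⁻¹) * ρ⁻¹ := by group
      rw [h2, hg, ev_R h hρ]
      rfl
    · refine ⟨w * g, fun v => ?_⟩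
      have h2 : w * g * ev f v * (w * g)⁻¹ = w * (g * ev f v * g⁻¹) * w⁻¹ := by group
      rw [h2, hg, ev_W h]
      rfl

variable [Finite G]

theorem bal_all (hI : CaseI f w) (balz : ∀ u, bet u vz = true → Bal (ev f u) (ev f vz))
    (balt : ∀ u, bet u vt = true → Bal (ev f u) (ev f vt)) (u v : V) (huv : bet u v = true) :
    Bal (ev f u) (ev f v) := by
  have hv : v ≠ o := by
    rintro rfl
    have : ∀ u, bet u o = false := by decide
    rw [this] at huv
    exact Bool.false_ne_true huv
  obtain ⟨l, -, hl⟩ := exists_single v hv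
  obtain ⟨g, hg⟩ := exists_conj h hI l
  apply Bal.of_conj (g := g)
  rw [hg, hg]
  have h1 := bet_act l u v
  rw [huv] at h1
  rcases hl with hl | hl
  · rw [hl] at h1 ⊢
    exact balz _ h1
  · rw [hl] at h1 ⊢
    exact balt _ h1

/-- The frame of case I from the core inclusions at `z` and `t`. -/
theorem exists_frame_of (hI : CaseI f w) (bal : ∀ u v, bet u v = true → Bal (ev f u) (ev f v))
    (isoz : Iso (ev f vz) (ev f vt)) (isot : Iso (ev f vt) (ev f vt')) :
    ∃ (E : Subgroup G) (B : G → G → ZMod 2), Frame E B ∧ ∀ g, g ∈ E ↔ ∃ u, ev f u = g := by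
  refine exists_frame op o (ev f) bet (ev_op h) (ev_inj h) (ev_o h) (ev_sq h) op_comm ?_ bet_op bet_symm bet_iso
    (fun u v _ _ huv => bal u v huv) ?_
  · rw [Nat.card_eq_fintype_card]
    rfl
  · intro u v hu hv hne huv
    obtain ⟨l, -, hl⟩ := exists_flag u v hu hv hne huv
    obtain ⟨g, hg⟩ := exists_conj h hI l
    apply Iso.of_conj (g := g)
    rw [hg, hg]
    rcases hl with ⟨h1, h2⟩ | ⟨h1, h2⟩ | ⟨h1, h2⟩ | ⟨h1, h2⟩
    · rw [h1, h2]; exact isoz
    · rw [h1, h2]
      apply Iso.swap (ev_sq h _)
      rw [← ev_op h]
      exact isoz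
    · rw [h1, h2]; exact isot
    · rw [h1, h2]
      apply Iso.swap (ev_sq h _)
      rw [← ev_op h]
      exact isot

end

end Cfsg.Agent.LFourA.SymCoord
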