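import Mathlib
import Cfsg.Agent.Lib.SymBal
import Cfsg.Agent.LFourA.SymCoord
import Cfsg.Agent.LFourA.CzCt

/-!
# Case I: the symplectic frame

From the structure of `C(z)` and `C(t)` modulo their odd cores: the core inclusions for the elements of
`E = f(V₀ × V₀)`, hence the completion `W`.
-/

set_option autoImplicit false

namespace Cfsg.Agent.LFourA.SymCaseI

open Subgroup Cfsg DihedralGroup Cfsg.Agent.LFourA.Model Cfsg.Agent.LFourA.Base Cfsg.Agent.LFourA.Defs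
open Cfsg.Agent.Lib.SymParam Cfsg.Agent.Lib.SymFrame Cfsg.Agent.Lib.SymLocal Cfsg.Agent.Lib.SymSL
open Cfsg.Agent.Lib.SymBal Cfsg.Agent.LFourA.CzCt Cfsg.Agent.LFourA.SymCoord
open Cfsg.Agent.Lib.SL2Mat Cfsg.Agent.Lib.PSL2Inv Cfsg.Agent.Lib.PSL2Torus

section general

variable {G X : Type*} [Group G] [Finite G] [Group X]

omit [Finite G] in
theorem ker_eq {z : G} {p : ↥(centralizer ({z} : Set G)) →* X}
    (hk : ∀ x, p x = 1 ↔ (x : G) ∈ centralizerPPrimeCore 2 z) : p.ker = oddCore ↥(centralizer ({z} : Set G)) := by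
  ext x
  rw [MonoidHom.mem_ker, hk]
  constructor
  · rintro ⟨y, hy, hyx⟩
    rwa [← Subtype.ext hyx]
  · intro hx
    exact ⟨x, hx, rfl⟩

/-- `p` is injective on 2-elements. -/
theorem eq_one_of_p {z : G} {p : ↥(centralizer ({z} : Set G)) →* X}
    (hk : ∀ x, p x = 1 ↔ (x : G) ∈ centralizerPPrimeCore 2 z) {x : ↥(centralizer ({z} : Set G))} {n : ℕ}
    (hx : (x : G) ^ 2 ^ n = 1) (h1 : p x = 1) : (x : G) = 1 := by
  rw [hk] at h1
  have h2 := Cfsg.Agent.StandardComponent.CentCore.core_odd_order h1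
  have h3 : orderOf (x : G) ∣ 2 ^ n := orderOf_dvd_of_pow_eq_one hx
  have h4 : Nat.Coprime (orderOf (x : G)) (2 ^ n) := (Nat.coprime_two_right.mpr h2).pow_right n
  exact orderOf_eq_one_iff.mp (Nat.eq_one_of_dvd_coprimes h4 dvd_rfl h3)

variable {z : G} {p : ↥(centralizer ({z} : Set G)) →* X} {K₁ K₂ : Subgroup X}

omit [Finite G] in
theorem CZ.self_central (h : CZ z p K₁ K₂) (g : X) : g * p (self z) = p (self z) * g := by
  obtain ⟨g, rfl⟩ := h.surj g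
  rw [← map_mul, ← map_mul]
  congr 1
  exact Subtype.ext (mem_centralizer_singleton_iff.1 g.2)

omit [Finite G] in
/-- an element moving some element of `K₁` outside `⟨z⟩` into `K₂` swaps -/
theorem CZ.swap_of (h : CZ z p K₁ K₂) {g x : X} (hx : x ∈ K₁) (hx1 : x ≠ 1) (hxz : x ≠ p (self z))
    (hgx : g * x * g⁻¹ ∈ K₂) : (∀ x ∈ K₁, g * x * g⁻¹ ∈ K₂) ∧ ∀ x ∈ K₂, g * x * g⁻¹ ∈ K₁ := by
  rcases h.norm g with h1 | h1
  · exfalso
    rcases h.inf _ (h1.1 x hx) hgx with h2 | h2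
    · apply hx1
      have : x = g⁻¹ * (g * x * g⁻¹) * g := by group
      rw [this, h2]; group
    · apply hxz
      have : x = g⁻¹ * (g * x * g⁻¹) * g := by group
      rw [this, h2, CZ.self_central h, mul_assoc, inv_mul_cancel, mul_one]
  · exact h1

omit [Finite G] in
theorem CZ.norm_of (h : CZ z p K₁ K₂) {g x : X} (hx : x ∈ K₁) (hx1 : x ≠ 1) (hxz : x ≠ p (self z))
    (hgx : g * x * g⁻¹ ∈ K₁) : (∀ x ∈ K₁, g * x * g⁻¹ ∈ K₁) ∧ ∀ x ∈ K₂, g * x * g⁻¹ ∈ K₂ := by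
  rcases h.norm g with h1 | h1
  · exact h1
  · exfalso
    rcases h.inf _ hgx (h1.1 x hx) with h2 | h2
    · apply hx1
      have : x = g⁻¹ * (g * x * g⁻¹) * g := by group
      rw [this, h2]; group
    · apply hxz
      have : x = g⁻¹ * (g * x * g⁻¹) * g := by group
      rw [this, h2, CZ.self_central h, mul_assoc, inv_mul_cancel, mul_one]

omit [Finite G] in
/-- elements of odd order normalise `K₁` and `K₂` -/
theorem CZ.odd_norm [Finite X] (h : CZ z p K₁ K₂) {x : X} (hx : x ∈ K₁) (hx1 : x ≠ 1) (hxz : x ≠ p (self z))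
    {g : X} (hg : Odd (orderOf g)) : (∀ x ∈ K₁, g * x * g⁻¹ ∈ K₁) ∧ ∀ x ∈ K₂, g * x * g⁻¹ ∈ K₂ := by
  rcases h.norm g with h1 | h1
  · exact h1
  · exfalso
    -- even powers normalise, odd powers swap
    have key : ∀ n : ℕ, (∀ x ∈ K₁, g ^ (2 * n) * x * (g ^ (2 * n))⁻¹ ∈ K₁) := by
      intro n
      induction n with
      | zero => intro x hx; simpa using hx
      | succ n ih =>
        intro x hx
        have h2 : g ^ (2 * (n + 1)) * x * (g ^ (2 * (n + 1)))⁻¹ =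
            g * (g * (g ^ (2 * n) * x * (g ^ (2 * n))⁻¹) * g⁻¹) * g⁻¹ := by
          rw [mul_add, mul_one, pow_add, pow_two]
          have h3 : g ^ (2 * n) * (g * g) = g * g * g ^ (2 * n) := by
            have : Commute (g ^ (2 * n)) (g * g) :=
              ((Commute.refl g).pow_left _).mul_right ((Commute.refl g).pow_left _)
            exact this
          rw [h3]; group
        rw [h2]
        exact h1.2 _ (h1.1 _ (ih x hx))
    obtain ⟨m, hm⟩ := hg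
    have h2 := h1.1 _ (key m x hx)
    have h3 : g * (g ^ (2 * m) * x * (g ^ (2 * m))⁻¹) * g⁻¹ = g ^ (2 * m + 1) * x * (g ^ (2 * m + 1))⁻¹ := by
      rw [pow_succ' g (2 * m)]; group
    rw [h3, ← hm, pow_orderOf_eq_one, one_mul, inv_one, mul_one] at h2
    rcases h.inf x hx h2 with h4 | h4
    · exact hx1 h4
    · exact hxz h4

end general

/-- in `SL(2,F)` an element inverting an element of order 4 inverts its centraliser -/
theorem sl_inverts {X : Type*} [Group X] {F : Type*} [Field F] [Finite F] (h2 : (2 : F) ≠ 0) {K : Subgroup X}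
    (e : K ≃* Matrix.SpecialLinearGroup (Fin 2) F) {x j : X} (hx : x ∈ K) (hj : j ∈ K) (hx1 : x * x ≠ 1)
    (hx4 : (x * x) * (x * x) = 1) (hjx : j * x * j⁻¹ = x⁻¹) {y : X} (hy : y ∈ K) (hyx : y * x = x * y) :
    j * y * j⁻¹ = y⁻¹ := by
  have hi : e ⟨x, hx⟩ * e ⟨x, hx⟩ = -1 := by
    have h3 : (e ⟨x, hx⟩ * e ⟨x, hx⟩) * (e ⟨x, hx⟩ * e ⟨x, hx⟩) = 1 := by
      rw [← map_mul, ← map_mul, map_eq_one_iff e e.injective]
      exact Subtype.ext hx4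
    rcases sq_eq_one h2 h3 with h4 | h4
    · exfalso
      rw [← map_mul, map_eq_one_iff e e.injective] at h4
      exact hx1 (congrArg Subtype.val h4)
    · exact h4
  have hinv : (e ⟨x, hx⟩)⁻¹ = -(e ⟨x, hx⟩) := by
    apply inv_eq_of_mul_eq_one_right
    rw [mul_neg, hi, neg_neg]
  have hg : e ⟨j, hj⟩ * e ⟨x, hx⟩ = -(e ⟨x, hx⟩ * e ⟨j, hj⟩) := by
    rw [← neg_mul, ← hinv, ← map_inv, ← map_mul, ← map_mul]
    congr 1
    apply Subtype.ext
    exact mul_inv_eq_iff_eq_mul.mp hjx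
  have h5 := (anti h2 (tr_of_sq h2 hi) hg).2 (e ⟨y, hy⟩) (by
    rw [← map_mul, ← map_mul]
    congr 1
    exact Subtype.ext hyx)
  rw [← map_inv, ← map_inv, ← map_mul, ← map_mul] at h5
  exact congrArg Subtype.val (e.injective h5)

section

variable {G X : Type*} [Group G] [Finite G] [Group X] {S : Subgroup G} {k : ℕ} {f : D k → D k → G} {w : G}

omit [Finite G] in
theorem f_pow (h : DWr S k f w) (a b : D k) : f a b ^ 2 ^ (k + 3) = 1 := by
  have h1 : ∀ n : ℕ, f a b ^ n = f (a ^ n) (b ^ n) := by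
    intro n
    induction n with
    | zero => rw [pow_zero, pow_zero, pow_zero, f_one h]
    | succ n ih => rw [pow_succ, ih, h.f_mul, ← pow_succ, ← pow_succ]
  have h2 : ∀ a : D k, a ^ 2 ^ (k + 3) = 1 := by
    intro a
    have : Nat.card (D k) = 2 ^ (k + 3) := by rw [card_D, pow_add]; ring
    rw [← this, pow_card_eq_one']
  rw [h1, h2, h2, f_one h]

/-- `p` is injective on the `f a b`. -/
theorem p_inj (h : DWr S k f w) {z : G} {p : ↥(centralizer ({z} : Set G)) →* X}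
    (hk : ∀ x, p x = 1 ↔ (x : G) ∈ centralizerPPrimeCore 2 z) {a b a' b' : D k}
    {h1 : f a b ∈ centralizer ({z} : Set G)} {h2 : f a' b' ∈ centralizer ({z} : Set G)}
    (he : p ⟨_, h1⟩ = p ⟨_, h2⟩) : a = a' ∧ b = b' := by
  have h3 : p (⟨_, h1⟩ * ⟨_, h2⟩⁻¹) = 1 := by rw [map_mul, map_inv, he, mul_inv_cancel]
  have h4 := eq_one_of_p hk (n := k + 3) (by
    change (f a b * (f a' b')⁻¹) ^ 2 ^ (k + 3) = 1
    rw [f_inv h, h.f_mul, f_pow h]) h3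
  exact (f_eq_iff h).1 (mul_inv_eq_one.1 h4)

theorem el_conj (a b : Bool) (i : ZMod (4 * 2 ^ k)) :
    el k a b * r i * (el k a b)⁻¹ = if b then r (-i) else r i := by
  have hs : (sr 0 : D k) * r i * sr 0 = r (-i) := by
    rw [sr_mul_r, sr_mul_sr, zero_add, zero_sub]
  have hs' : (sr 0 : D k)⁻¹ = sr 0 := DihedralGroup.inv_sr 0
  have hc : ∀ x : D k, c k * x * (c k)⁻¹ = x := fun x => by rw [c_comm, mul_inv_cancel_right]
  cases a <;> cases b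
  · simp [el]
  · simp only [el, Bool.false_eq_true, if_false, if_true, one_mul]
    rw [hs', hs]
  · simp only [el, Bool.false_eq_true, if_false, if_true, mul_one]
    rw [hc]
  · simp only [el, if_true]
    have h1 : c k * sr 0 * r i * (c k * sr 0)⁻¹ = c k * (sr 0 * r i * (sr 0)⁻¹) * (c k)⁻¹ := by group
    rw [h1, hc, hs', hs]

variable (h : DWr S k f w)

include h

omit h [Finite G] [Group G] in
theorem ev_vz : ev f vz = f (c k) (c k) := by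
  have h1 : el k true false = c k := by simp [el]
  change f (el k true false) (el k true false) = _
  rw [h1]

omit h [Finite G] [Group G] in
theorem ev_vt : ev f vt = f (c k) 1 := by
  have h1 : el k true false = c k := by simp [el]
  have h2 : el k false false = 1 := by simp [el]
  change f (el k true false) (el k false false) = _
  rw [h1, h2]

omit h [Finite G] [Group G] in
theorem ev_vt' : ev f vt' = f 1 (c k) := by
  have h1 : el k true false = c k := by simp [el]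
  have h2 : el k false false = 1 := by simp [el]
  change f (el k false false) (el k true false) = _
  rw [h1, h2]

omit [Finite G] in
theorem ev_comm (u v : V) : ev f u * ev f v = ev f v * ev f u := by
  rw [← ev_op h, op_comm, ev_op h]

section z

variable {p : ↥(centralizer ({f (c k) (c k)} : Set G)) →* X} {K₁ K₂ : Subgroup X}
  (hz : CZ (f (c k) (c k)) p K₁ K₂) (hp : ZPos f w p K₁ K₂)

include hz hp

/-- the element `x₁` of order four of `K₁` -/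
theorem exists_x : ∃ (h₁ : f (x0 k) (x0 k)⁻¹ ∈ centralizer ({f (c k) (c k)} : Set G))
    (h₂ : f (x0 k) (x0 k) ∈ centralizer ({f (c k) (c k)} : Set G)), p ⟨_, h₁⟩ ∈ K₁ ∧ p ⟨_, h₂⟩ ∈ K₂ ∧
      p ⟨_, h₁⟩ ≠ 1 ∧ p ⟨_, h₁⟩ ≠ p (self _) ∧ p ⟨_, h₂⟩ ≠ 1 ∧ p ⟨_, h₂⟩ ≠ p (self _) := by
  obtain ⟨h1, h2⟩ := mem_up.1 (hp.q₁x ((2 ^ k : ℕ) : ZMod (4 * 2 ^ k)))
  obtain ⟨h3, h4⟩ := mem_up.1 (hp.q₂x ((2 ^ k : ℕ) : ZMod (4 * 2 ^ k)))
  have hxc : x0 k ≠ c k := by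
    intro he
    have h5 := x0_mul_x0 (k := k)
    rw [he, c_mul_c] at h5
    exact c_ne_one h5.symm
  have hx1 : x0 k ≠ 1 := by
    intro he
    have h5 := x0_mul_x0 (k := k)
    rw [he, one_mul] at h5
    exact c_ne_one h5.symm
  refine ⟨h1, h3, h2, h4, ?_, ?_, ?_, ?_⟩
  · intro he
    have h5 : (1 : ↥(centralizer ({f (c k) (c k)} : Set G))) = ⟨f 1 1, by rw [f_one h]; exact one_mem _⟩ :=
      Subtype.ext (f_one h).symm
    rw [← map_one p, h5] at he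
    exact hx1 (p_inj h hz.ker he).1
  · intro he
    exact hxc (p_inj h hz.ker he).1
  · intro he
    have h5 : (1 : ↥(centralizer ({f (c k) (c k)} : Set G))) = ⟨f 1 1, by rw [f_one h]; exact one_mem _⟩ :=
      Subtype.ext (f_one h).symm
    rw [← map_one p, h5] at he
    exact hx1 (p_inj h hz.ker he).1
  · intro he
    exact hxc (p_inj h hz.ker he).1

/-- the elements not perpendicular to `z` swap `K₁` and `K₂` -/
theorem swap_u {u : V} (hu : bet u vz = true) (huz : ev f u ∈ centralizer ({f (c k) (c k)} : Set G)) :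
    (∀ x ∈ K₁, p ⟨_, huz⟩ * x * (p ⟨_, huz⟩)⁻¹ ∈ K₂) ∧ ∀ x ∈ K₂, p ⟨_, huz⟩ * x * (p ⟨_, huz⟩)⁻¹ ∈ K₁ := by
  obtain ⟨h1, h2, h3, -, h5, h6, -, -⟩ := exists_x h hz hp
  refine CZ.swap_of hz h3 h5 h6 ?_
  rw [← map_inv, ← map_mul, ← map_mul]
  have hx : (x0 k)⁻¹ = r (-((2 ^ k : ℕ) : ZMod (4 * 2 ^ k))) := rfl
  have key : ∃ i, ev f u * f (x0 k) (x0 k)⁻¹ * (ev f u)⁻¹ = f (r i) (r i) := by
    rw [ev, f_conj h, hx, x0, el_conj, el_conj]
    obtain ⟨a, b, c, d⟩ := u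
    cases b <;> cases d
    · exfalso
      cases a <;> cases c <;> exact absurd hu (by decide)
    · exact ⟨((2 ^ k : ℕ) : ZMod (4 * 2 ^ k)), by simp⟩
    · exact ⟨-((2 ^ k : ℕ) : ZMod (4 * 2 ^ k)), by simp⟩
    · exfalso
      cases a <;> cases c <;> exact absurd hu (by decide)
  obtain ⟨i, hi⟩ := key
  obtain ⟨h7, h8⟩ := mem_up.1 (hp.q₂x i)
  have h9 : (⟨ev f u, huz⟩ * ⟨f (x0 k) (x0 k)⁻¹, h1⟩ * (⟨ev f u, huz⟩)⁻¹ :
      ↥(centralizer ({f (c k) (c k)} : Set G))) = ⟨_, h7⟩ := Subtype.ext hi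
  rw [h9]
  exact h8

theorem bal_z {F : Type*} [Field F] [Finite F] (h2 : (2 : F) ≠ 0) (e₁ : K₁ ≃* Matrix.SpecialLinearGroup (Fin 2) F)
    (u : V) (hu : bet u vz = true) : Bal (ev f u) (ev f vz) := by
  have : Finite X := Finite.of_surjective p hz.surj
  have huz : ev f u ∈ centralizer ({f (c k) (c k)} : Set G) := by
    rw [mem_centralizer_singleton_iff, ← ev_vz (f := f)]
    exact ev_comm h u vz
  obtain ⟨hs1, hs2⟩ := swap_u h hz hp hu huz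
  obtain ⟨x1, -, hx1, -, hx2, hx3, -, -⟩ := exists_x h hz hp
  have hzz : p (self (f (c k) (c k))) * p (self (f (c k) (c k))) = 1 := by
    rw [← map_mul, ← map_one p]
    congr 1
    apply Subtype.ext
    change f (c k) (c k) * f (c k) (c k) = 1
    rw [h.f_mul, c_mul_c, f_one h]
  have hf : p ⟨_, huz⟩ * p ⟨_, huz⟩ = 1 := by
    rw [← map_mul, ← map_one p]
    congr 1
    exact Subtype.ext (ev_sq h u)
  rw [ev_vz]
  refine inf_le_of_locBal p hz.surj (ker_eq hz.ker) (ev_sq h u) huz ?_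
  refine locBal_swap h2 e₁ hf ?_ ?_ ?_
  · intro x hx y hy
    exact hz.comm x hx _ (hs1 y hy)
  · intro r hr
    exact (CZ.odd_norm hz hx1 hx2 hx3 hr).1
  · intro r hr hr1 hr2
    have h3 : ∀ x ∈ K₂, r * x = x * r := by
      intro x hx
      have h4 := hr2 _ (hs2 x hx)
      have hf' : (p ⟨_, huz⟩)⁻¹ = p ⟨_, huz⟩ := inv_eq_of_mul_eq_one_right hf
      have h5 : p ⟨_, huz⟩ * (p ⟨_, huz⟩ * x * (p ⟨_, huz⟩)⁻¹) * (p ⟨_, huz⟩)⁻¹ = x := by
        calc p ⟨_, huz⟩ * (p ⟨_, huz⟩ * x * (p ⟨_, huz⟩)⁻¹) * (p ⟨_, huz⟩)⁻¹ =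
            (p ⟨_, huz⟩ * p ⟨_, huz⟩) * x * ((p ⟨_, huz⟩)⁻¹ * (p ⟨_, huz⟩)⁻¹) := by group
          _ = x := by rw [hf', hf, one_mul, mul_one]
      rwa [h5] at h4
    rcases hz.cent r hr1 h3 with h4 | h4
    · exact h4
    · rw [h4] at hr ⊢
      obtain ⟨m, hm⟩ := hr
      have h5 := pow_orderOf_eq_one (p (self (f (c k) (c k))))
      rw [hm, pow_succ, pow_mul, pow_two, hzz, one_pow, one_mul] at h5
      exact h5

theorem iso_z {F : Type*} [Field F] [Finite F] (h2 : (2 : F) ≠ 0) (e₁ : K₁ ≃* Matrix.SpecialLinearGroup (Fin 2) F)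
    (e₂ : K₂ ≃* Matrix.SpecialLinearGroup (Fin 2) F)
    (bal : ∀ u v, bet u v = true → Bal (ev f u) (ev f v)) : Iso (ev f vz) (ev f vt) := by
  have : Finite X := Finite.of_surjective p hz.surj
  obtain ⟨hx, hx', hx1, hx2, hx3, hx4, hx5, hx6⟩ := exists_x h hz hp
  obtain ⟨hj, hj1⟩ := mem_up.1 hp.q₁w
  obtain ⟨hj', hj2⟩ := mem_up.1 hp.q₂w
  -- `b = f (c s) (c s)`, `c' = f 1 s`
  obtain ⟨vb, hvb⟩ : ∃ v : V, v = (true, true, true, true) := ⟨_, rfl⟩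
  obtain ⟨vc, hvc⟩ : ∃ v : V, v = (false, false, false, true) := ⟨_, rfl⟩
  have hb : ev f vb = f (sr 0 * c k) (c k * sr 0) := by
    have h3 : el k true true = c k * sr 0 := by simp [el]
    rw [hvb]
    change f (el k true true) (el k true true) = _
    rw [h3, c_comm (sr 0)]
  have k1 : Bal (f (c k) (c k) * f (c k) 1) (ev f vc) := by
    have h3 := bal (op vz vt) vc (by rw [hvc]; rfl)
    rwa [ev_op h, ev_vz, ev_vt] at h3
  have k2 : Bal (ev f vc) (f (c k) (c k)) := by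
    have h3 := bal vc vz (by rw [hvc]; rfl)
    rwa [ev_vz] at h3
  have k3 : Bal (f (c k) 1) (ev f vb * ev f vc) := by
    have h3 := bal vt (op vb vc) (by rw [hvc, hvb]; rfl)
    rwa [ev_op h, ev_vt] at h3
  have k4 : Bal (ev f vb * ev f vc) (f (c k) (c k)) := by
    have h3 := bal (op vb vc) vz (by rw [hvc, hvb]; rfl)
    rwa [ev_op h, ev_vz] at h3
  have hs1 : f (c k) (c k) * f (c k) (c k) = 1 := by rw [← ev_vz (f := f)]; exact ev_sq h _
  have hs2 : f (c k) 1 * f (c k) 1 = 1 := by rw [← ev_vt (f := f)]; exact ev_sq h _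
  have hc1 : f (c k) 1 * f (c k) (c k) = f (c k) (c k) * f (c k) 1 := by
    rw [← ev_vz (f := f), ← ev_vt (f := f)]; exact ev_comm h _ _
  have hc2 : ∀ v, ev f v * f (c k) (c k) = f (c k) (c k) * ev f v := by
    intro v; rw [← ev_vz (f := f)]; exact ev_comm h _ _
  have hc3 : ∀ v, ev f v * f (c k) 1 = f (c k) 1 * ev f v := by
    intro v; rw [← ev_vt (f := f)]; exact ev_comm h _ _
  rw [ev_vz, ev_vt]
  refine inf_le_of_locIso (b := ev f vb) (c := ev f vc) hs1 hs2 (ev_sq h _) (ev_sq h _) hc1 (hc2 _) (hc3 _)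
    (hc2 _) (hc3 _) (ev_comm h _ _) p hz.surj (ker_eq hz.ker) k1 k2 k3 k4 ?_
  have hxx : (x0 k)⁻¹ * (x0 k)⁻¹ = c k := by rw [← mul_inv_rev, x0_mul_x0, c_inv]
  have hx12 : p ⟨f (c k) 1, mem_centralizer_singleton_iff.mpr hc1⟩ =
      p ⟨f (x0 k) (x0 k)⁻¹, hx⟩ * p ⟨f (x0 k) (x0 k), hx'⟩ := by
    rw [← map_mul]
    congr 1
    apply Subtype.ext
    change f (c k) 1 = f (x0 k) (x0 k)⁻¹ * f (x0 k) (x0 k)
    rw [h.f_mul, x0_mul_x0, inv_mul_cancel]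
  have hzne : p (self (f (c k) (c k))) ≠ 1 := by
    intro he
    have h5 : (1 : ↥(centralizer ({f (c k) (c k)} : Set G))) = ⟨f 1 1, by rw [f_one h]; exact one_mem _⟩ :=
      Subtype.ext (f_one h).symm
    rw [← map_one p, h5] at he
    exact c_ne_one (p_inj h hz.ker he).1
  have hzz : p (self (f (c k) (c k))) * p (self (f (c k) (c k))) = 1 := by
    rw [← map_mul, ← map_one p]
    congr 1
    exact Subtype.ext hs1
  have hsq1 : p ⟨f (x0 k) (x0 k)⁻¹, hx⟩ * p ⟨f (x0 k) (x0 k)⁻¹, hx⟩ = p (self (f (c k) (c k))) := by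
    rw [← map_mul]
    congr 1
    apply Subtype.ext
    change f (x0 k) (x0 k)⁻¹ * f (x0 k) (x0 k)⁻¹ = f (c k) (c k)
    rw [h.f_mul, x0_mul_x0, hxx]
  have hsq2 : p ⟨f (x0 k) (x0 k), hx'⟩ * p ⟨f (x0 k) (x0 k), hx'⟩ = p (self (f (c k) (c k))) := by
    rw [← map_mul]
    congr 1
    apply Subtype.ext
    change f (x0 k) (x0 k) * f (x0 k) (x0 k) = f (c k) (c k)
    rw [h.f_mul, x0_mul_x0]
  -- the product decomposition of `b`
  have hbj : p ⟨ev f vb, mem_centralizer_singleton_iff.mpr (hc2 vb)⟩ = p ⟨_, hj⟩ * p ⟨_, hj'⟩ := by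
    rw [← map_mul]
    congr 1
    apply Subtype.ext
    change ev f vb = f 1 (c k) * w * (f (sr 0) (sr 0 * c k) * w)
    rw [fw_mul_fw h, one_mul, hb]
  have hji : p ⟨_, hj⟩ * p ⟨f (x0 k) (x0 k)⁻¹, hx⟩ * (p ⟨_, hj⟩)⁻¹ = (p ⟨f (x0 k) (x0 k)⁻¹, hx⟩)⁻¹ := by
    rw [← map_inv, ← map_inv, ← map_mul, ← map_mul]
    congr 1
    apply Subtype.ext
    change f 1 (c k) * w * f (x0 k) (x0 k)⁻¹ * (f 1 (c k) * w)⁻¹ = (f (x0 k) (x0 k)⁻¹)⁻¹
    rw [fw_conj_f h, f_inv h, one_mul, inv_one, mul_one, c_comm, mul_inv_cancel_right, inv_inv]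
  have hji' : p ⟨_, hj'⟩ * p ⟨f (x0 k) (x0 k), hx'⟩ * (p ⟨_, hj'⟩)⁻¹ = (p ⟨f (x0 k) (x0 k), hx'⟩)⁻¹ := by
    rw [← map_inv, ← map_inv, ← map_mul, ← map_mul]
    congr 1
    apply Subtype.ext
    change f (sr 0) (sr 0 * c k) * w * f (x0 k) (x0 k) * (f (sr 0) (sr 0 * c k) * w)⁻¹ = (f (x0 k) (x0 k))⁻¹
    have h3 : (sr 0 : D k) * x0 k * (sr 0)⁻¹ = (x0 k)⁻¹ := by
      have h4 := el_conj (k := k) false true ((2 ^ k : ℕ) : ZMod (4 * 2 ^ k))
      have h5 : el k false true = sr 0 := by simp [el]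
      rw [h5] at h4
      exact h4
    have h6 : (sr 0 : D k) * c k * x0 k * (sr 0 * c k)⁻¹ = (x0 k)⁻¹ := by
      have h7 : (sr 0 : D k) * c k * x0 k * (sr 0 * c k)⁻¹ = sr 0 * (c k * x0 k * (c k)⁻¹) * (sr 0)⁻¹ := by group
      rw [h7, c_comm, mul_inv_cancel_right, h3]
    rw [fw_conj_f h, f_inv h, h3, h6]
  have hconj1 : ∀ y ∈ K₁, p ⟨_, hj⟩ * p ⟨_, hj'⟩ * y * (p ⟨_, hj⟩ * p ⟨_, hj'⟩)⁻¹ =
      p ⟨_, hj⟩ * y * (p ⟨_, hj⟩)⁻¹ := by
    intro y hy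
    have h3 := hz.comm y hy _ hj2
    calc p ⟨_, hj⟩ * p ⟨_, hj'⟩ * y * (p ⟨_, hj⟩ * p ⟨_, hj'⟩)⁻¹ =
        p ⟨_, hj⟩ * (p ⟨_, hj'⟩ * y) * (p ⟨_, hj'⟩)⁻¹ * (p ⟨_, hj⟩)⁻¹ := by group
      _ = p ⟨_, hj⟩ * (y * p ⟨_, hj'⟩) * (p ⟨_, hj'⟩)⁻¹ * (p ⟨_, hj⟩)⁻¹ := by rw [h3]
      _ = _ := by group
  have hconj2 : ∀ y ∈ K₂, p ⟨_, hj⟩ * p ⟨_, hj'⟩ * y * (p ⟨_, hj⟩ * p ⟨_, hj'⟩)⁻¹ =
      p ⟨_, hj'⟩ * y * (p ⟨_, hj'⟩)⁻¹ := by
    intro y hy
    have h3 := hz.comm _ hj1 _ (mul_mem (mul_mem hj2 hy) (inv_mem hj2))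
    calc p ⟨_, hj⟩ * p ⟨_, hj'⟩ * y * (p ⟨_, hj⟩ * p ⟨_, hj'⟩)⁻¹ =
        (p ⟨_, hj⟩ * (p ⟨_, hj'⟩ * y * (p ⟨_, hj'⟩)⁻¹)) * (p ⟨_, hj⟩)⁻¹ := by group
      _ = ((p ⟨_, hj'⟩ * y * (p ⟨_, hj'⟩)⁻¹) * p ⟨_, hj⟩) * (p ⟨_, hj⟩)⁻¹ := by rw [h3]
      _ = _ := by group
  rw [hx12, hbj]
  refine locIso_sl h2 e₁ e₂ hz.comm ?_ ?_ ?_ hx1 hx2 ?_ ?_ ?_ ?_ ?_ ?_ ?_ ?_
  · intro g hg
    exact mem_normalizer_fintype (CZ.odd_norm hz hx1 hx3 hx4 hg).1
  · intro g hg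
    exact mem_normalizer_fintype (CZ.odd_norm hz hx1 hx3 hx4 hg).2
  · intro g hg hg1 hg2
    rcases hz.cent g hg1 hg2 with h4 | h4
    · exact h4
    · rw [h4] at hg ⊢
      obtain ⟨m, hm⟩ := hg
      have h5 := pow_orderOf_eq_one (p (self (f (c k) (c k))))
      rw [hm, pow_succ, pow_mul, pow_two, hzz, one_pow, one_mul] at h5
      exact h5
  · rw [hsq1]; exact hzne
  · rw [hsq1]; exact hzz
  · rw [hsq2]; exact hzne
  · rw [hsq2]; exact hzz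
  · refine mem_normalizer_fintype fun y hy => ?_
    rw [hconj1 y hy]
    exact mul_mem (mul_mem hj1 hy) (inv_mem hj1)
  · refine mem_normalizer_fintype fun y hy => ?_
    rw [hconj2 y hy]
    exact mul_mem (mul_mem hj2 hy) (inv_mem hj2)
  · intro y hy hyx _
    rw [hconj1 y hy]
    exact sl_inverts h2 e₁ hx1 hj1 (by rw [hsq1]; exact hzne) (by rw [hsq1]; exact hzz) hji hy hyx
  · intro y hy hyx _
    rw [hconj2 y hy]
    exact sl_inverts h2 e₂ hx2 hj2 (by rw [hsq2]; exact hzne) (by rw [hsq2]; exact hzz) hji' hy hyx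

end z

omit h in
theorem sr_x0 (i : ZMod (4 * 2 ^ k)) : (sr i : D k) * x0 k ≠ x0 k * sr i := by
  intro he
  have h1 := x0_sr (k := k) i
  rw [← he, mul_inv_cancel_right] at h1
  exact c_ne_one (mul_eq_left.1 h1.symm)

section t

variable {q : ↥(centralizer ({f (c k) 1} : Set G)) →* X} {K : Subgroup X}
  (ht : CT (f (c k) 1) q K) (tp : TPos f q K)

omit [Finite G] in
theorem one_mem_t (b : D k) : f 1 b ∈ centralizer ({f (c k) 1} : Set G) := by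
  rw [mem_centralizer_singleton_iff, f_comm_iff h, one_mul, mul_one, one_mul, mul_one]
  exact ⟨rfl, rfl⟩

omit [Finite G] in
theorem mem_t (a b : D k) : f a b ∈ centralizer ({f (c k) 1} : Set G) := by
  rw [mem_centralizer_singleton_iff, f_comm_iff h, mul_one, one_mul]
  exact ⟨(c_comm a).symm, rfl⟩

include ht tp

/-- If `f y d` centralises `K` and `η y * c = d` for some `ρ`, contradiction. -/
theorem outer_aux {i : ZMod (4 * 2 ^ k)} {ρ : G} {η : D k →* D k} (hρ : Rho f i ρ η) {y d : D k}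
    (hd : η y * c k = d) (hy : ∀ x ∈ K, q ⟨f y d, mem_t h _ _⟩ * x = x * q ⟨f y d, mem_t h _ _⟩) : False := by
  have hKn : ∀ (g : X), ∀ x ∈ K, g * x * g⁻¹ ∈ K := fun g x hx => ht.normal.conj_mem x hx g
  have hD : ∀ b : D k, q ⟨f 1 b, mem_t h _ _⟩ ∈ K := fun b => (mem_up.1 (tp.d₂ b)).2
  have hmul : ∀ a b a' b' : D k, q ⟨f a b, mem_t h _ _⟩ * q ⟨f a' b', mem_t h _ _⟩ =
      q ⟨f (a * a') (b * b'), mem_t h _ _⟩ := by
    intro a b a' b'
    rw [← map_mul]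
    congr 1
    exact Subtype.ext (h.f_mul _ _ _ _)
  have e1 : w * ρ * w⁻¹ * f (c k) 1 = f (c k) 1 * (w * ρ * w⁻¹) := by
    calc w * ρ * w⁻¹ * f (c k) 1 = w * (ρ * (w⁻¹ * f (c k) 1 * w)) * w⁻¹ := by group
      _ = w * (f 1 (c k) * ρ) * w⁻¹ := by rw [w_conj' h, hρ.comm]
      _ = (w * f 1 (c k) * w⁻¹) * (w * ρ * w⁻¹) := by group
      _ = _ := by rw [w_conj h]
  have e2 : w * ρ * w⁻¹ * f 1 (c k) * (w * ρ * w⁻¹)⁻¹ = f 1 (sr i) := by
    calc w * ρ * w⁻¹ * f 1 (c k) * (w * ρ * w⁻¹)⁻¹ = w * (ρ * (w⁻¹ * f 1 (c k) * w) * ρ⁻¹) * w⁻¹ := by group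
      _ = _ := by rw [w_conj' h, hρ.t_s, w_conj h]
  have e3 : w * ρ * w⁻¹ * f y (η y) * (w * ρ * w⁻¹)⁻¹ = f y (η y) := by
    calc w * ρ * w⁻¹ * f y (η y) * (w * ρ * w⁻¹)⁻¹ = w * (ρ * (w⁻¹ * f y (η y) * w) * ρ⁻¹) * w⁻¹ := by group
      _ = _ := by rw [w_conj' h, hρ.fix, mul_inv_cancel_right, w_conj h]
  have hρC : w * ρ * w⁻¹ ∈ centralizer ({f (c k) 1} : Set G) := mem_centralizer_singleton_iff.2 e1
  have hfy : f y d = f y (η y) * f 1 (c k) := by rw [h.f_mul, mul_one, hd]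
  have e4 : w * ρ * w⁻¹ * f y d * (w * ρ * w⁻¹)⁻¹ = f y (η y * sr i) := by
    calc w * ρ * w⁻¹ * f y d * (w * ρ * w⁻¹)⁻¹ = (w * ρ * w⁻¹ * f y (η y) * (w * ρ * w⁻¹)⁻¹) *
        (w * ρ * w⁻¹ * f 1 (c k) * (w * ρ * w⁻¹)⁻¹) := by rw [hfy]; group
      _ = f y (η y * sr i) := by rw [e2, e3, h.f_mul, mul_one]
  -- `f y (η y * sr i)` centralises `K`
  have h1 : ∀ x ∈ K, q ⟨f y (η y * sr i), mem_t h _ _⟩ * x = x * q ⟨f y (η y * sr i), mem_t h _ _⟩ := by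
    intro x hx
    have h2 : q ⟨f y (η y * sr i), mem_t h _ _⟩ = q ⟨_, hρC⟩ * q ⟨f y d, mem_t h _ _⟩ * (q ⟨_, hρC⟩)⁻¹ := by
      rw [← map_inv, ← map_mul, ← map_mul]
      congr 1
      exact Subtype.ext e4.symm
    have h3 := hy _ (hKn (q ⟨_, hρC⟩)⁻¹ x hx)
    rw [inv_inv] at h3
    rw [h2]
    calc q ⟨_, hρC⟩ * q ⟨f y d, mem_t h _ _⟩ * (q ⟨_, hρC⟩)⁻¹ * x =
        q ⟨_, hρC⟩ * (q ⟨f y d, mem_t h _ _⟩ * ((q ⟨_, hρC⟩)⁻¹ * x * q ⟨_, hρC⟩)) * (q ⟨_, hρC⟩)⁻¹ := by group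
      _ = q ⟨_, hρC⟩ * (((q ⟨_, hρC⟩)⁻¹ * x * q ⟨_, hρC⟩) * q ⟨f y d, mem_t h _ _⟩) * (q ⟨_, hρC⟩)⁻¹ := by rw [h3]
      _ = _ := by group
  have h2 := hy _ (hD (x0 k))
  have h3 := h1 _ (hD (x0 k))
  rw [hmul, hmul] at h2 h3
  have h4 := (p_inj h ht.ker h2).2
  have h5 := (p_inj h ht.ker h3).2
  -- `d` and `η y * sr i` commute with `x₀`, hence `sr i` does
  have h6 : η y = d * c k := by rw [← hd, mul_assoc, c_mul_c, mul_one]
  have h7 : sr i * x0 k = x0 k * sr i := by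
    have h8 : d * (c k * sr i * x0 k) = d * (x0 k * (c k * sr i)) := by
      calc d * (c k * sr i * x0 k) = d * c k * sr i * x0 k := by group
        _ = x0 k * (d * c k * sr i) := by rw [← h6, h5]
        _ = (x0 k * d) * (c k * sr i) := by group
        _ = (d * x0 k) * (c k * sr i) := by rw [h4]
        _ = _ := by group
    have h9 := mul_left_cancel h8
    have h10 : c k * (sr i * x0 k) = c k * (x0 k * sr i) := by
      calc c k * (sr i * x0 k) = c k * sr i * x0 k := by group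
        _ = x0 k * (c k * sr i) := h9
        _ = (x0 k * c k) * sr i := by group
        _ = (c k * x0 k) * sr i := by rw [c_comm]
        _ = _ := by group
    exact mul_left_cancel h10
  exact sr_x0 i h7

/-- an element `f a b`, `a` a reflection of parity 0, acts as an outer automorphism on `K` -/
theorem outer (hI : CaseI f w) {F : Type*} [Field F] [Finite F] (h2 : (2 : F) ≠ 0)
    (e : K ≃* Matrix.ProjectiveSpecialLinearGroup (Fin 2) F) (a b : Bool) (b' : Bool) :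
    ¬ ∃ m ∈ K, ∀ x ∈ K, q ⟨f (el k b' true) (el k a b), mem_t h _ _⟩ * x *
      (q ⟨f (el k b' true) (el k a b), mem_t h _ _⟩)⁻¹ = m * x * m⁻¹ := by
  have hKn : ∀ (g : X), ∀ x ∈ K, g * x * g⁻¹ ∈ K := fun g x hx => ht.normal.conj_mem x hx g
  have hD : ∀ b : D k, q ⟨f 1 b, mem_t h _ _⟩ ∈ K := fun b => (mem_up.1 (tp.d₂ b)).2
  have hmul : ∀ a b a' b' : D k, q ⟨f a b, mem_t h _ _⟩ * q ⟨f a' b', mem_t h _ _⟩ =
      q ⟨f (a * a') (b * b'), mem_t h _ _⟩ := by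
    intro a b a' b'
    rw [← map_mul]
    congr 1
    exact Subtype.ext (h.f_mul _ _ _ _)
  have hq1 : q ⟨f 1 1, mem_t h _ _⟩ = 1 := by
    rw [← map_one q]
    congr 1
    exact Subtype.ext (f_one h)
  have hinj : ∀ {a b a' b' : D k}, q ⟨f a b, mem_t h _ _⟩ = q ⟨f a' b', mem_t h _ _⟩ → a = a' ∧ b = b' :=
    fun he => p_inj h ht.ker he
  -- no `f 1 r`, `r` a reflection, centralises `K`
  have hno : ∀ i : ZMod (4 * 2 ^ k), ¬ ∀ x ∈ K, q ⟨f 1 (sr i), mem_t h _ _⟩ * x = x * q ⟨f 1 (sr i), mem_t h _ _⟩ := by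
    intro i hi
    have h3 := hi _ (hD (x0 k))
    rw [hmul, hmul] at h3
    exact sr_x0 i (hinj h3).2
  rintro ⟨m, hm, hmx⟩
  obtain ⟨y, hy⟩ : ∃ y, y = el k b' true := ⟨_, rfl⟩
  obtain ⟨d, hd⟩ : ∃ d, d = el k a b := ⟨_, rfl⟩
  rw [← hy, ← hd] at hmx
  have hdd : d * d = 1 := by rw [hd]; exact el_sq a b
  -- `f y 1` acts as `m * f 1 d`
  have hact : ∀ x ∈ K, q ⟨f y 1, mem_t h _ _⟩ * x * (q ⟨f y 1, mem_t h _ _⟩)⁻¹ =
      (m * q ⟨f 1 d, mem_t h _ _⟩) * x * (m * q ⟨f 1 d, mem_t h _ _⟩)⁻¹ := by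
    intro x hx
    have h3 := hmx _ (hKn (q ⟨f 1 d, mem_t h _ _⟩) x hx)
    have h4 : q ⟨f y 1, mem_t h _ _⟩ = q ⟨f y d, mem_t h _ _⟩ * q ⟨f 1 d, mem_t h _ _⟩ := by
      rw [hmul]
      congr 1
      apply Subtype.ext
      change f y 1 = f (y * 1) (d * d)
      rw [mul_one, hdd]
    rw [h4]
    calc q ⟨f y d, mem_t h _ _⟩ * q ⟨f 1 d, mem_t h _ _⟩ * x * (q ⟨f y d, mem_t h _ _⟩ * q ⟨f 1 d, mem_t h _ _⟩)⁻¹ =
        q ⟨f y d, mem_t h _ _⟩ * (q ⟨f 1 d, mem_t h _ _⟩ * x * (q ⟨f 1 d, mem_t h _ _⟩)⁻¹) *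
          (q ⟨f y d, mem_t h _ _⟩)⁻¹ := by group
      _ = m * (q ⟨f 1 d, mem_t h _ _⟩ * x * (q ⟨f 1 d, mem_t h _ _⟩)⁻¹) * m⁻¹ := h3
      _ = _ := by group
  obtain ⟨m', hm'⟩ : ∃ m', m' = m * q ⟨f 1 d, mem_t h _ _⟩ := ⟨_, rfl⟩
  rw [← hm'] at hact
  have hm'K : m' ∈ K := by rw [hm']; exact mul_mem hm (hD d)
  have hcomm : ∀ b : D k, m' * q ⟨f 1 b, mem_t h _ _⟩ = q ⟨f 1 b, mem_t h _ _⟩ * m' := by
    intro b
    have h3 := hact _ (hD b)
    have h4 : q ⟨f y 1, mem_t h _ _⟩ * q ⟨f 1 b, mem_t h _ _⟩ * (q ⟨f y 1, mem_t h _ _⟩)⁻¹ =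
        q ⟨f 1 b, mem_t h _ _⟩ := by
      rw [mul_inv_eq_iff_eq_mul, hmul, hmul, mul_one, one_mul, mul_one, one_mul]
    rw [h4] at h3
    exact (mul_inv_eq_iff_eq_mul.1 h3.symm)
  have hss : (sr 0 : D k) * sr 0 = 1 := by rw [sr_mul_sr, sub_self, ← one_def]
  have htt : q ⟨f 1 (c k), mem_t h _ _⟩ * q ⟨f 1 (c k), mem_t h _ _⟩ = 1 := by
    rw [hmul, ← hq1]
    congr 1
    apply Subtype.ext
    change f (1 * 1) (c k * c k) = f 1 1
    rw [c_mul_c, one_mul]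
  have huu : q ⟨f 1 (sr 0), mem_t h _ _⟩ * q ⟨f 1 (sr 0), mem_t h _ _⟩ = 1 := by
    rw [hmul, ← hq1]
    congr 1
    apply Subtype.ext
    change f (1 * 1) (sr 0 * sr 0) = f 1 1
    rw [hss, one_mul]
  have ht1 : q ⟨f 1 (c k), mem_t h _ _⟩ ≠ 1 := by
    rw [← hq1]
    intro he
    exact c_ne_one (hinj he).2
  have hu1 : q ⟨f 1 (sr 0), mem_t h _ _⟩ ≠ 1 := by
    rw [← hq1]
    intro he
    exact sr_ne_one _ (hinj he).2
  have hut : q ⟨f 1 (sr 0), mem_t h _ _⟩ ≠ q ⟨f 1 (c k), mem_t h _ _⟩ := by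
    intro he
    exact sr_ne_c _ (hinj he).2
  have hc : q ⟨f 1 (sr 0), mem_t h _ _⟩ * q ⟨f 1 (c k), mem_t h _ _⟩ =
      q ⟨f 1 (c k), mem_t h _ _⟩ * q ⟨f 1 (sr 0), mem_t h _ _⟩ := by
    rw [hmul, hmul]
    congr 1
    apply Subtype.ext
    change f (1 * 1) (sr 0 * c k) = f (1 * 1) (c k * sr 0)
    rw [c_comm]
  obtain ⟨T, n, hT, -⟩ := exists_torus h2 e (t := ⟨_, hD (c k)⟩) (fun he => ht1 (congrArg Subtype.val he))
    (Subtype.ext htt)
  have h5 := hT.centralizer_four (u := ⟨_, hD (sr 0)⟩) (x := ⟨m', hm'K⟩) (fun he => hu1 (congrArg Subtype.val he))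
    (Subtype.ext huu) (fun he => hut (congrArg Subtype.val he)) (Subtype.ext hc) (Subtype.ext (hcomm _))
    (Subtype.ext (hcomm _))
  -- `m' = 1` or `m' = f 1 c`
  have h6 : m' = 1 ∨ m' = q ⟨f 1 (c k), mem_t h _ _⟩ := by
    rcases h5 with h5 | h5 | h5 | h5
    · exact Or.inl (congrArg Subtype.val h5)
    · exact Or.inr (congrArg Subtype.val h5)
    · exfalso
      have h7 : m' = q ⟨f 1 (sr 0), mem_t h _ _⟩ := congrArg Subtype.val h5
      have h8 := hcomm (x0 k)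
      rw [h7, hmul, hmul] at h8
      exact sr_x0 0 (hinj h8).2
    · exfalso
      have h7 : m' = q ⟨f 1 (c k), mem_t h _ _⟩ * q ⟨f 1 (sr 0), mem_t h _ _⟩ := congrArg Subtype.val h5
      rw [hmul] at h7
      have h8 := hcomm (x0 k)
      rw [h7, hmul, hmul] at h8
      have h9 := (hinj h8).2
      apply sr_x0 (k := k) 0
      have h10 : c k * (sr 0 * x0 k) = c k * (x0 k * sr 0) := by
        calc c k * (sr 0 * x0 k) = c k * sr 0 * x0 k := by group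
          _ = x0 k * (c k * sr 0) := h9
          _ = (x0 k * c k) * sr 0 := by group
          _ = (c k * x0 k) * sr 0 := by rw [c_comm]
          _ = _ := by group
      exact mul_left_cancel h10
  have hηy : ∀ α β : ZMod 2, chi α β y = cc k α := by
    intro α β
    rw [hy]
    have h7 : chi α β (sr 0 : D k) = cc k α := chi_sr_even _ _ (map_zero pa)
    cases b'
    · have h8 : el k false true = sr 0 := by simp [el]
      rw [h8, h7]
    · have h8 : el k true true = c k * sr 0 := by simp [el]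
      rw [h8, map_mul, chi_c, one_mul, h7]
  rcases h6 with h6 | h6
  · -- `f y 1` centralises `K`
    obtain ⟨ρ, hρ⟩ := hI.rho 0
    refine outer_aux h ht tp hρ (y := y) (d := 1) ?_ ?_
    · rw [hηy, map_zero, add_zero, cc_one, c_mul_c]
    · intro x hx
      have h7 := hact x hx
      rw [h6, one_mul, inv_one, mul_one] at h7
      exact mul_inv_eq_iff_eq_mul.1 h7
  · obtain ⟨ρ, hρ⟩ := hI.rho 1
    refine outer_aux h ht tp hρ (y := y) (d := c k) ?_ ?_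
    · have h7 : (1 : ZMod 2) + pa (k := k) 1 = 0 := by rw [map_one]; decide
      rw [hηy, h7, cc_zero, one_mul]
    · intro x hx
      have h7 := hact x hx
      have h8 : q ⟨f y (c k), mem_t h _ _⟩ = q ⟨f 1 (c k), mem_t h _ _⟩ * q ⟨f y 1, mem_t h _ _⟩ := by
        rw [hmul]
        congr 1
        apply Subtype.ext
        change f y (c k) = f (1 * y) (c k * 1)
        rw [one_mul, mul_one]
      have h9 : (q ⟨f 1 (c k), mem_t h _ _⟩)⁻¹ = q ⟨f 1 (c k), mem_t h _ _⟩ := inv_eq_of_mul_eq_one_right htt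
      have h10 : q ⟨f y (c k), mem_t h _ _⟩ * x * (q ⟨f y (c k), mem_t h _ _⟩)⁻¹ = x := by
        rw [h8]
        calc q ⟨f 1 (c k), mem_t h _ _⟩ * q ⟨f y 1, mem_t h _ _⟩ * x *
            (q ⟨f 1 (c k), mem_t h _ _⟩ * q ⟨f y 1, mem_t h _ _⟩)⁻¹ =
            q ⟨f 1 (c k), mem_t h _ _⟩ * (q ⟨f y 1, mem_t h _ _⟩ * x * (q ⟨f y 1, mem_t h _ _⟩)⁻¹) *
              (q ⟨f 1 (c k), mem_t h _ _⟩)⁻¹ := by group
          _ = (q ⟨f 1 (c k), mem_t h _ _⟩ * q ⟨f 1 (c k), mem_t h _ _⟩) * x *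
              ((q ⟨f 1 (c k), mem_t h _ _⟩)⁻¹ * (q ⟨f 1 (c k), mem_t h _ _⟩)⁻¹) := by rw [h7, h6]; group
          _ = x := by rw [h9, htt, one_mul, mul_one]
      exact mul_inv_eq_iff_eq_mul.1 h10

theorem bal_t (hI : CaseI f w) {F : Type*} [Field F] [Finite F] (h2 : (2 : F) ≠ 0)
    (e : K ≃* Matrix.ProjectiveSpecialLinearGroup (Fin 2) F) (u : V) (hu : bet u vt = true) :
    Bal (ev f u) (ev f vt) := by
  have : Finite X := Finite.of_surjective q ht.surj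
  have hKn : ∀ (g : X), ∀ x ∈ K, g * x * g⁻¹ ∈ K := fun g x hx => ht.normal.conj_mem x hx g
  have hD : ∀ b : D k, q ⟨f 1 b, mem_t h _ _⟩ ∈ K := fun b => (mem_up.1 (tp.d₂ b)).2
  have hq1 : q ⟨f 1 1, mem_t h _ _⟩ = 1 := by
    rw [← map_one q]
    congr 1
    exact Subtype.ext (f_one h)
  have hmul : ∀ a b a' b' : D k, q ⟨f a b, mem_t h _ _⟩ * q ⟨f a' b', mem_t h _ _⟩ =
      q ⟨f (a * a') (b * b'), mem_t h _ _⟩ := by
    intro a b a' b'
    rw [← map_mul]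
    congr 1
    exact Subtype.ext (h.f_mul _ _ _ _)
  have hqe : ∀ {a b a' b' : D k}, a = a' → b = b' → q ⟨f a b, mem_t h _ _⟩ = q ⟨f a' b', mem_t h _ _⟩ := by
    rintro a b a' b' rfl rfl
    rfl
  obtain ⟨b', b'', a, b⟩ := u
  have hb'' : b'' = true := by
    cases b''
    · exfalso
      cases b' <;> cases a <;> cases b <;> exact absurd hu (by decide)
    · rfl
  subst hb''
  rw [ev_vt]
  refine inf_le_of_locBal q ht.surj (ker_eq ht.ker) (ev_sq h _) (mem_t h _ _) ?_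
  change LocBal (q ⟨f (el k b' true) (el k a b), mem_t h _ _⟩)
  have hs : (sr 0 : D k) * sr 0 = 1 := by rw [sr_mul_sr, sub_self, ← one_def]
  have hel : ∀ a b : Bool, el k a b * sr 0 = sr 0 * el k a b := by
    intro a b
    have h3 : el k false true = sr 0 := by simp [el]
    rw [← h3, ← el_mul, ← el_mul, Bool.xor_comm a, Bool.xor_comm b]
  refine locBal_field h2 hKn e ?_ (hD (c k)) ?_ ?_ (hD (sr 0)) ?_ ?_ ?_ ?_ ?_ ?_ (outer h ht tp hI h2 e a b b') ht.cent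
  · rw [hmul, ← hq1]
    exact hqe (el_sq _ _) (el_sq _ _)
  · rw [← hq1]
    intro he
    exact c_ne_one (p_inj h ht.ker he).2
  · rw [hmul, ← hq1]
    exact hqe (one_mul 1) c_mul_c
  · rw [← hq1]
    intro he
    exact sr_ne_one _ (p_inj h ht.ker he).2
  · rw [hmul, ← hq1]
    exact hqe (one_mul 1) hs
  · intro he
    exact sr_ne_c _ (p_inj h ht.ker he).2
  · rw [hmul, hmul]
    exact hqe rfl (c_comm _).symm
  · rw [hmul, hmul]
    exact hqe (by rw [one_mul, mul_one]) (c_comm _).symm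
  · rw [hmul, hmul]
    exact hqe (by rw [one_mul, mul_one]) (hel a b)

theorem iso_t {F : Type*} [Field F] [Finite F] (h2 : (2 : F) ≠ 0)
    (e : K ≃* Matrix.ProjectiveSpecialLinearGroup (Fin 2) F)
    (bal : ∀ u v, bet u v = true → Bal (ev f u) (ev f v)) : Iso (ev f vt) (ev f vt') := by
  have : Finite X := Finite.of_surjective q ht.surj
  have hKn : ∀ (g : X), ∀ x ∈ K, g * x * g⁻¹ ∈ K := fun g x hx => ht.normal.conj_mem x hx g
  have hD : ∀ b : D k, q ⟨f 1 b, mem_t h _ _⟩ ∈ K := fun b => (mem_up.1 (tp.d₂ b)).2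
  have hmul : ∀ a b a' b' : D k, q ⟨f a b, mem_t h _ _⟩ * q ⟨f a' b', mem_t h _ _⟩ =
      q ⟨f (a * a') (b * b'), mem_t h _ _⟩ := by
    intro a b a' b'
    rw [← map_mul]
    congr 1
    exact Subtype.ext (h.f_mul _ _ _ _)
  have hqe : ∀ {a b a' b' : D k}, a = a' → b = b' → q ⟨f a b, mem_t h _ _⟩ = q ⟨f a' b', mem_t h _ _⟩ := by
    rintro a b a' b' rfl rfl
    rfl
  have hq1 : q ⟨f 1 1, mem_t h _ _⟩ = 1 := by
    rw [← map_one q]
    congr 1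
    exact Subtype.ext (f_one h)
  -- `b = f 1 s`, `c' = f s 1`
  obtain ⟨vb, hvb⟩ : ∃ v : V, v = (false, false, false, true) := ⟨_, rfl⟩
  obtain ⟨vc, hvc⟩ : ∃ v : V, v = (false, true, false, false) := ⟨_, rfl⟩
  have hb : ev f vb = f 1 (sr 0) := by
    have h3 : el k false true = sr 0 := by simp [el]
    have h4 : el k false false = 1 := by simp [el]
    rw [hvb]
    change f (el k false false) (el k false true) = _
    rw [h3, h4]
  have k1 : Bal (f (c k) 1 * f 1 (c k)) (ev f vc) := by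
    have h3 := bal (op vt vt') vc (by rw [hvc]; rfl)
    rwa [ev_op h, ev_vt, ev_vt'] at h3
  have k2 : Bal (ev f vc) (f (c k) 1) := by
    have h3 := bal vc vt (by rw [hvc]; rfl)
    rwa [ev_vt] at h3
  have k3 : Bal (f 1 (c k)) (ev f vb * ev f vc) := by
    have h3 := bal vt' (op vb vc) (by rw [hvc, hvb]; rfl)
    rwa [ev_op h, ev_vt'] at h3
  have k4 : Bal (ev f vb * ev f vc) (f (c k) 1) := by
    have h3 := bal (op vb vc) vt (by rw [hvc, hvb]; rfl)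
    rwa [ev_op h, ev_vt] at h3
  have hs1 : f (c k) 1 * f (c k) 1 = 1 := by rw [← ev_vt (f := f)]; exact ev_sq h _
  have hs2 : f 1 (c k) * f 1 (c k) = 1 := by rw [← ev_vt' (f := f)]; exact ev_sq h _
  have hc1 : f 1 (c k) * f (c k) 1 = f (c k) 1 * f 1 (c k) := by
    rw [← ev_vt' (f := f), ← ev_vt (f := f)]; exact ev_comm h _ _
  have hc2 : ∀ v, ev f v * f (c k) 1 = f (c k) 1 * ev f v := by
    intro v; rw [← ev_vt (f := f)]; exact ev_comm h _ _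
  have hc3 : ∀ v, ev f v * f 1 (c k) = f 1 (c k) * ev f v := by
    intro v; rw [← ev_vt' (f := f)]; exact ev_comm h _ _
  rw [ev_vt, ev_vt']
  refine inf_le_of_locIso (b := ev f vb) (c := ev f vc) hs1 hs2 (ev_sq h _) (ev_sq h _) hc1 (hc2 _) (hc3 _)
    (hc2 _) (hc3 _) (ev_comm h _ _) q ht.surj (ker_eq ht.ker) k1 k2 k3 k4 ?_
  have hbb : q ⟨ev f vb, mem_centralizer_singleton_iff.mpr (hc2 vb)⟩ = q ⟨f 1 (sr 0), mem_t h _ _⟩ := by
    congr 1
    exact Subtype.ext hb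
  rw [hbb]
  have htt : q ⟨f 1 (c k), mem_t h _ _⟩ * q ⟨f 1 (c k), mem_t h _ _⟩ = 1 := by
    rw [hmul, ← hq1]
    exact hqe (one_mul 1) c_mul_c
  have ht1 : q ⟨f 1 (c k), mem_t h _ _⟩ ≠ 1 := by
    rw [← hq1]
    intro he
    exact c_ne_one (p_inj h ht.ker he).2
  have hut : q ⟨f 1 (sr 0), mem_t h _ _⟩ ≠ q ⟨f 1 (c k), mem_t h _ _⟩ := by
    intro he
    exact sr_ne_c _ (p_inj h ht.ker he).2
  have hu1 : q ⟨f 1 (sr 0), mem_t h _ _⟩ ≠ 1 := by
    rw [← hq1]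
    intro he
    exact sr_ne_one _ (p_inj h ht.ker he).2
  have huu : q ⟨f 1 (sr 0), mem_t h _ _⟩ * q ⟨f 1 (sr 0), mem_t h _ _⟩ = 1 := by
    rw [hmul, ← hq1]
    exact hqe (one_mul 1) (by rw [sr_mul_sr, sub_self, ← one_def])
  have hc : q ⟨f 1 (sr 0), mem_t h _ _⟩ * q ⟨f 1 (c k), mem_t h _ _⟩ =
      q ⟨f 1 (c k), mem_t h _ _⟩ * q ⟨f 1 (sr 0), mem_t h _ _⟩ := by
    rw [hmul, hmul]
    exact hqe rfl (c_comm _).symm
  refine locIso_psl h2 e (fun g _ => mem_normalizer_fintype (hKn g)) ht.cent (hD (c k)) ht1 htt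
    (le_normalizer (hD (sr 0))) ?_
  obtain ⟨T, n, hT, -⟩ := exists_torus h2 e (t := ⟨_, hD (c k)⟩) (fun he => ht1 (congrArg Subtype.val he))
    (Subtype.ext htt)
  intro y hy hyt hyo
  have huT : (⟨_, hD (sr 0)⟩ : K) ∉ T := hT.not_mem (fun he => hu1 (congrArg Subtype.val he)) (Subtype.ext huu)
    (fun he => hut (congrArg Subtype.val he))
  have hyT : (⟨y, hy⟩ : K) ∈ T := by
    by_contra hn
    obtain ⟨h5, h6, -⟩ := hT.out ⟨y, hy⟩ (Subtype.ext hyt) hn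
    have h7 : y * y = 1 := congrArg Subtype.val h6
    obtain ⟨m, hm⟩ := hyo
    have h8 := pow_orderOf_eq_one y
    rw [hm, pow_succ, pow_mul, pow_two, h7, one_pow, one_mul] at h8
    exact h5 (Subtype.ext h8)
  exact congrArg Subtype.val ((hT.out _ (Subtype.ext hc) huT).2.2 _ hyT)

end t

/-- **The symplectic frame of case I.** -/
theorem exists_frame_caseI (hI : CaseI f w) {Y : Type*} [Group Y]
    {F : Type*} [Field F] [Finite F] (h2 : (2 : F) ≠ 0) {F₂ : Type*} [Field F₂] [Finite F₂] (h2' : (2 : F₂) ≠ 0)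
    {p : ↥(centralizer ({f (c k) (c k)} : Set G)) →* X} {K₁ K₂ : Subgroup X}
    (hz : CZL (f (c k) (c k)) F p K₁ K₂) (hp : ZPos f w p K₁ K₂)
    {q : ↥(centralizer ({f (c k) 1} : Set G)) →* Y} {K : Subgroup Y}
    (ht : CTL (f (c k) 1) F₂ q K) (tp : TPos f q K) :
    ∃ (E : Subgroup G) (B : G → G → ZMod 2), Frame E B ∧ ∀ g, g ∈ E ↔ ∃ u, ev f u = g := by
  obtain ⟨e₁⟩ := hz.e₁
  obtain ⟨e₂⟩ := hz.e₂
  obtain ⟨e⟩ := ht.e
  have bal := bal_all h hI (bal_z h hz.toCZ hp h2 e₁) (bal_t h ht.toCT tp hI h2' e)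
  exact exists_frame_of h hI bal (iso_z h hz.toCZ hp h2 e₁ e₂ bal) (iso_t h ht.toCT tp h2' e bal)

/-- **The completion in case I.** -/
theorem exists_completion (hI : CaseI f w) {Y : Type*} [Group Y]
    {F : Type*} [Field F] [Finite F] (h2 : (2 : F) ≠ 0) {F₂ : Type*} [Field F₂] [Finite F₂] (h2' : (2 : F₂) ≠ 0)
    {p : ↥(centralizer ({f (c k) (c k)} : Set G)) →* X} {K₁ K₂ : Subgroup X}
    (hz : CZL (f (c k) (c k)) F p K₁ K₂) (hp : ZPos f w p K₁ K₂)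
    {q : ↥(centralizer ({f (c k) 1} : Set G)) →* Y} {K : Subgroup Y}
    (ht : CTL (f (c k) 1) F₂ q K) (tp : TPos f q K) :
    ∃ E W : Subgroup G, (∀ g, g ∈ E ↔ ∃ u, ev f u = g) ∧ Completion E W := by
  obtain ⟨E, B, hE, hE'⟩ := exists_frame_caseI h hI h2 h2' hz hp ht tp
  obtain ⟨W, hW⟩ := hE.exists_completion
  exact ⟨E, W, hE', hW⟩

end

end Cfsg.Agent.LFourA.SymCaseI
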