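import Mathlib
import Cfsg.Agent.Lib.SymTwo
import Cfsg.Agent.LFourA.SymCaseI

/-!
# Case I: 1-balance, if the tori are 2-groups (`|F| = 3`, `|F₂| = 9`)
-/

set_option autoImplicit false

namespace Cfsg.Agent.LFourA.SymOne

open Subgroup Cfsg DihedralGroup Cfsg.Agent.LFourA.Model Cfsg.Agent.LFourA.Base Cfsg.Agent.LFourA.Defs
open Cfsg.Agent.Lib.SymParam Cfsg.Agent.Lib.SymFrame Cfsg.Agent.Lib.SymLocal Cfsg.Agent.Lib.SymSL
open Cfsg.Agent.Lib.SymBal Cfsg.Agent.Lib.SymTwo Cfsg.Agent.LFourA.CzCt Cfsg.Agent.LFourA.SymCoord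
open Cfsg.Agent.LFourA.SymCaseI

/-- `q - 1` (if `q = 1 mod 4`) resp. `q + 1` (if `q = 3 mod 4`) is a power of 2. -/
def TwoTorus (F : Type*) : Prop :=
  ∃ a : ℕ, (Nat.card F % 4 = 1 ∧ Nat.card F - 1 = 2 ^ a) ∨ (Nat.card F % 4 = 3 ∧ Nat.card F + 1 = 2 ^ a)

theorem twoTorus_three {F : Type*} (h : Nat.card F = 3) : TwoTorus F := ⟨2, Or.inr (by rw [h]; decide)⟩

theorem twoTorus_nine {F : Type*} (h : Nat.card F = 9) : TwoTorus F := ⟨3, Or.inl (by rw [h]; decide)⟩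

section

variable {G X : Type*} [Group G] [Finite G] [Group X] {S : Subgroup G} {k : ℕ} {f : D k → D k → G} {w : G}

variable (h : DWr S k f w)

include h

section z

variable {p : ↥(centralizer ({f (c k) (c k)} : Set G)) →* X} {K₁ K₂ : Subgroup X}
  (hz : CZ (f (c k) (c k)) p K₁ K₂) (hp : ZPos f w p K₁ K₂)

include hz hp

/-- every element of odd order of `C(z)/O` commuting with `t` is trivial -/
theorem odd_z {F : Type*} [Field F] [Finite F] (h2 : (2 : F) ≠ 0) (hF : TwoTorus F)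
    (e₁ : K₁ ≃* Matrix.SpecialLinearGroup (Fin 2) F) (e₂ : K₂ ≃* Matrix.SpecialLinearGroup (Fin 2) F)
    (htz : f (c k) 1 ∈ centralizer ({f (c k) (c k)} : Set G)) {r : X} (hr : Odd (orderOf r))
    (hrt : r * p ⟨_, htz⟩ = p ⟨_, htz⟩ * r) : r = 1 := by
  have : Finite X := Finite.of_surjective p hz.surj
  obtain ⟨hx, hx', hx1, hx2, hx3, hx4, hx5, hx6⟩ := exists_x h hz hp
  have hxx : (x0 k)⁻¹ * (x0 k)⁻¹ = c k := by rw [← mul_inv_rev, x0_mul_x0, c_inv]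
  have hx12 : p ⟨f (c k) 1, htz⟩ = p ⟨f (x0 k) (x0 k)⁻¹, hx⟩ * p ⟨f (x0 k) (x0 k), hx'⟩ := by
    rw [← map_mul]
    congr 1
    apply Subtype.ext
    change f (c k) 1 = f (x0 k) (x0 k)⁻¹ * f (x0 k) (x0 k)
    rw [h.f_mul, x0_mul_x0, inv_mul_cancel]
  have hs1 : f (c k) (c k) * f (c k) (c k) = 1 := by rw [← ev_vz (f := f)]; exact ev_sq h _
  have hzne : p (self (f (c k) (c k))) ≠ 1 := by
    intro he
    have h5 : (1 : ↥(centralizer ({f (c k) (c k)} : Set G))) = ⟨f 1 1, by rw [f_one h]; exact one_mem _⟩ :=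
      Subtype.ext (f_one h).symm
    rw [← map_one p, h5] at he
    exact c_ne_one (p_inj h hz.ker he).1
  have hzz : p (self (f (c k) (c k))) * p (self (f (c k) (c k))) = 1 := by
    rw [← map_mul, ← map_one p]
    congr 1
    exact Subtype.ext hs1
  have hsq1 : p ⟨f (x0 k) (x0 k)⁻¹, hx⟩ * p ⟨f (x0 k) (x0 k)⁻¹, hx⟩ = p (self (f (c k) (c k))) := by
    rw [← map_mul]
    congr 1
    apply Subtype.ext
    change f (x0 k) (x0 k)⁻¹ * f (x0 k) (x0 k)⁻¹ = f (c k) (c k)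
    rw [h.f_mul, x0_mul_x0, hxx]
  have hsq2 : p ⟨f (x0 k) (x0 k), hx'⟩ * p ⟨f (x0 k) (x0 k), hx'⟩ = p (self (f (c k) (c k))) := by
    rw [← map_mul]
    congr 1
    apply Subtype.ext
    change f (x0 k) (x0 k) * f (x0 k) (x0 k) = f (c k) (c k)
    rw [h.f_mul, x0_mul_x0]
  have h1a : p ⟨f (x0 k) (x0 k)⁻¹, hx⟩ * p ⟨f (x0 k) (x0 k)⁻¹, hx⟩ ≠ 1 := by rw [hsq1]; exact hzne
  have h1b : (p ⟨f (x0 k) (x0 k)⁻¹, hx⟩ * p ⟨f (x0 k) (x0 k)⁻¹, hx⟩) *
      (p ⟨f (x0 k) (x0 k)⁻¹, hx⟩ * p ⟨f (x0 k) (x0 k)⁻¹, hx⟩) = 1 := by rw [hsq1]; exact hzz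
  have h2a : p ⟨f (x0 k) (x0 k), hx'⟩ * p ⟨f (x0 k) (x0 k), hx'⟩ ≠ 1 := by rw [hsq2]; exact hzne
  have h2b : (p ⟨f (x0 k) (x0 k), hx'⟩ * p ⟨f (x0 k) (x0 k), hx'⟩) *
      (p ⟨f (x0 k) (x0 k), hx'⟩ * p ⟨f (x0 k) (x0 k), hx'⟩) = 1 := by rw [hsq2]; exact hzz
  rw [hx12] at hrt
  refine odd_eq_one_sl h2 e₁ e₂ hz.comm
    (fun g hg => mem_normalizer_fintype (CZ.odd_norm hz hx1 hx3 hx4 hg).1)
    (fun g hg => mem_normalizer_fintype (CZ.odd_norm hz hx1 hx3 hx4 hg).2) ?_ hx1 hx2 h1a h1b h2a h2b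
    (sl_no_odd h2 e₁ hF hx1 h1a h1b) (sl_no_odd h2 e₂ hF hx2 h2a h2b) hr hrt
  intro g hg hg1 hg2
  rcases hz.cent g hg1 hg2 with h4 | h4
  · exact h4
  · rw [h4] at hg ⊢
    obtain ⟨m, hm⟩ := hg
    have h5 := pow_orderOf_eq_one (p (self (f (c k) (c k))))
    rw [hm, pow_succ, pow_mul, pow_two, hzz, one_pow, one_mul] at h5
    exact h5

theorem bal_tz {F : Type*} [Field F] [Finite F] (h2 : (2 : F) ≠ 0) (hF : TwoTorus F)
    (e₁ : K₁ ≃* Matrix.SpecialLinearGroup (Fin 2) F) (e₂ : K₂ ≃* Matrix.SpecialLinearGroup (Fin 2) F) :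
    Bal (ev f vt) (ev f vz) ∧ Bal (ev f vt') (ev f vz) := by
  have hs2 : f (c k) 1 * f (c k) 1 = 1 := by rw [← ev_vt (f := f)]; exact ev_sq h _
  have hs3 : f 1 (c k) * f 1 (c k) = 1 := by rw [← ev_vt' (f := f)]; exact ev_sq h _
  have hc1 : f (c k) 1 ∈ centralizer ({f (c k) (c k)} : Set G) := by
    rw [mem_centralizer_singleton_iff, ← ev_vz (f := f), ← ev_vt (f := f)]; exact ev_comm h _ _
  have hc2 : f 1 (c k) ∈ centralizer ({f (c k) (c k)} : Set G) := by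
    rw [mem_centralizer_singleton_iff, ← ev_vz (f := f), ← ev_vt' (f := f)]; exact ev_comm h _ _
  rw [ev_vt, ev_vt', ev_vz]
  constructor
  · refine inf_le_of_locBal p hz.surj (ker_eq hz.ker) hs2 hc1 (locBal_of_odd ?_)
    intro r hr hrt
    exact odd_z h hz hp h2 hF e₁ e₂ hc1 hr hrt
  · refine inf_le_of_locBal p hz.surj (ker_eq hz.ker) hs3 hc2 (locBal_of_odd ?_)
    intro r hr hrt
    refine odd_z h hz hp h2 hF e₁ e₂ hc1 hr ?_
    have h3 : p ⟨_, hc1⟩ = p ⟨_, hc2⟩ * p (self (f (c k) (c k))) := by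
      rw [← map_mul]
      congr 1
      apply Subtype.ext
      change f (c k) 1 = f 1 (c k) * f (c k) (c k)
      rw [h.f_mul, c_mul_c, one_mul]
    rw [h3, ← mul_assoc, hrt, mul_assoc, CZ.self_central hz, mul_assoc]

end z

section t

variable {q : ↥(centralizer ({f (c k) 1} : Set G)) →* X} {K : Subgroup X}
  (ht : CT (f (c k) 1) q K) (tp : TPos f q K)

include ht tp

theorem bal_zt {F : Type*} [Field F] [Finite F] (h2 : (2 : F) ≠ 0) (hF : TwoTorus F)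
    (e : K ≃* Matrix.ProjectiveSpecialLinearGroup (Fin 2) F) :
    Bal (ev f vt') (ev f vt) ∧ Bal (ev f vz) (ev f vt) := by
  have : Finite X := Finite.of_surjective q ht.surj
  have hKn : ∀ (g : X), ∀ x ∈ K, g * x * g⁻¹ ∈ K := fun g x hx => ht.normal.conj_mem x hx g
  have hD : ∀ b : D k, q ⟨f 1 b, mem_t h _ _⟩ ∈ K := fun b => (mem_up.1 (tp.d₂ b)).2
  have hq1 : q ⟨f 1 1, mem_t h _ _⟩ = 1 := by
    rw [← map_one q]
    congr 1
    exact Subtype.ext (f_one h)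
  have ht1 : q ⟨f 1 (c k), mem_t h _ _⟩ ≠ 1 := by
    rw [← hq1]
    intro he
    exact c_ne_one (p_inj h ht.ker he).2
  have htt : q ⟨f 1 (c k), mem_t h _ _⟩ * q ⟨f 1 (c k), mem_t h _ _⟩ = 1 := by
    rw [← map_mul, ← map_one q]
    congr 1
    apply Subtype.ext
    change f 1 (c k) * f 1 (c k) = 1
    rw [h.f_mul, c_mul_c, one_mul, f_one h]
  have key : ∀ r : X, Odd (orderOf r) → r * q ⟨f 1 (c k), mem_t h _ _⟩ = q ⟨f 1 (c k), mem_t h _ _⟩ * r → r = 1 := by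
    intro r hr hrt
    apply ht.cent r hr
    exact psl_cent_two h2 e (hD (c k)) ht1 htt (mem_normalizer_fintype (hKn r)) hr hrt
      (psl_no_odd h2 e hF (hD (c k)) ht1 htt)
  have hs1 : f (c k) (c k) * f (c k) (c k) = 1 := by rw [← ev_vz (f := f)]; exact ev_sq h _
  have hs3 : f 1 (c k) * f 1 (c k) = 1 := by rw [← ev_vt' (f := f)]; exact ev_sq h _
  rw [ev_vt, ev_vt', ev_vz]
  constructor
  · exact inf_le_of_locBal q ht.surj (ker_eq ht.ker) hs3 (mem_t h _ _) (locBal_of_odd key)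
  · refine inf_le_of_locBal q ht.surj (ker_eq ht.ker) hs1 (mem_t h _ _) (locBal_of_odd ?_)
    intro r hr hrt
    apply key r hr
    have h3 : q ⟨f 1 (c k), mem_t h _ _⟩ = q ⟨f (c k) (c k), mem_t h _ _⟩ * q (self (f (c k) 1)) := by
      rw [← map_mul]
      congr 1
      apply Subtype.ext
      change f 1 (c k) = f (c k) (c k) * f (c k) 1
      rw [h.f_mul, c_mul_c, mul_one]
    have h4 : r * q (self (f (c k) 1)) = q (self (f (c k) 1)) * r := by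
      obtain ⟨g, rfl⟩ := ht.surj r
      rw [← map_mul, ← map_mul]
      congr 1
      exact Subtype.ext (mem_centralizer_singleton_iff.1 g.2)
    rw [h3, ← mul_assoc, hrt, mul_assoc, h4, mul_assoc]

end t

/-- **1-balance in case I**, if the tori are 2-groups. -/
theorem bal_all_one (hI : CaseI f w) {Y : Type*} [Group Y]
    {F : Type*} [Field F] [Finite F] (h2 : (2 : F) ≠ 0) (hF : TwoTorus F)
    {F₂ : Type*} [Field F₂] [Finite F₂] (h2' : (2 : F₂) ≠ 0) (hF₂ : TwoTorus F₂)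
    {p : ↥(centralizer ({f (c k) (c k)} : Set G)) →* X} {K₁ K₂ : Subgroup X}
    (hz : CZL (f (c k) (c k)) F p K₁ K₂) (hp : ZPos f w p K₁ K₂)
    {q : ↥(centralizer ({f (c k) 1} : Set G)) →* Y} {K : Subgroup Y}
    (ht : CTL (f (c k) 1) F₂ q K) (tp : TPos f q K) {u v : V} (hu : u ≠ o) (hv : v ≠ o) :
    Bal (ev f u) (ev f v) := by
  obtain ⟨e₁⟩ := hz.e₁
  obtain ⟨e₂⟩ := hz.e₂
  obtain ⟨e⟩ := ht.e
  obtain ⟨m1, m2⟩ := bal_tz h hz.toCZ hp h2 hF e₁ e₂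
  obtain ⟨m3, m4⟩ := bal_zt h ht.toCT tp h2' hF₂ e
  by_cases huv : u = v
  · rw [huv]
    exact inf_le_left
  by_cases hb : bet u v = true
  · exact bal_all h hI (bal_z h hz.toCZ hp h2 e₁) (bal_t h ht.toCT tp hI h2' e) u v hb
  rw [Bool.not_eq_true, bet_symm] at hb
  obtain ⟨l, -, hl⟩ := exists_flag v u hv hu (Ne.symm huv) hb
  obtain ⟨g, hg⟩ := exists_conj h hI l
  apply Bal.of_conj (g := g)
  rw [hg, hg]
  rcases hl with ⟨h1, h3⟩ | ⟨h1, h3⟩ | ⟨h1, h3⟩ | ⟨h1, h3⟩ <;> rw [h1, h3]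
  · exact m1
  · exact m2
  · exact m3
  · exact m4

/-- **The 1-completion in case I**, if the tori are 2-groups: `W ∩ C(a) = O(C(a))` for the involutions of `E`,
`N(D) ≤ N(W)` for the subgroups of order at least 4. -/
theorem exists_completion_one (hI : CaseI f w) {Y : Type*} [Group Y]
    {F : Type*} [Field F] [Finite F] (h2 : (2 : F) ≠ 0) (hF : TwoTorus F)
    {F₂ : Type*} [Field F₂] [Finite F₂] (h2' : (2 : F₂) ≠ 0) (hF₂ : TwoTorus F₂)
    {p : ↥(centralizer ({f (c k) (c k)} : Set G)) →* X} {K₁ K₂ : Subgroup X}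
    (hz : CZL (f (c k) (c k)) F p K₁ K₂) (hp : ZPos f w p K₁ K₂)
    {q : ↥(centralizer ({f (c k) 1} : Set G)) →* Y} {K : Subgroup Y}
    (ht : CTL (f (c k) 1) F₂ q K) (tp : TPos f q K) :
    ∃ E W : Subgroup G, (∀ g, g ∈ E ↔ ∃ u, ev f u = g) ∧ Nat.card E = 16 ∧ CompletionOne E W := by
  obtain ⟨E, B, hE, hE'⟩ := exists_frame_caseI h hI h2 h2' hz hp ht tp
  have h1 : OneBal E := by
    refine ⟨hE.elem, by rw [hE.card]; norm_num, ?_⟩
    intro a ha ha1 b hb hb1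
    obtain ⟨u, rfl⟩ := (hE' a).1 ha
    obtain ⟨v, rfl⟩ := (hE' b).1 hb
    refine bal_all_one h hI h2 hF h2' hF₂ hz hp ht tp ?_ ?_
    · rintro rfl
      exact ha1 (ev_o h)
    · rintro rfl
      exact hb1 (ev_o h)
  obtain ⟨W, hW⟩ := h1.exists_completion
  exact ⟨E, W, hE', hE.card, hW⟩

end

end Cfsg.Agent.LFourA.SymOne
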