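import Mathlib
import Cfsg.Agent.LFourA.SymOne
import Cfsg.Agent.LFourA.KlW
import Cfsg.Agent.LFourA.KlCore

/-!
# Case I: the completion is trivial, its consequences
-/

set_option autoImplicit false

namespace Cfsg.Agent.LFourA.KlGlue

open Subgroup DihedralGroup Cfsg Cfsg.Agent.LFourA.Model Cfsg.Agent.LFourA.Base Cfsg.Agent.LFourA.Defs
  Cfsg.Agent.LFourA.CzCt Cfsg.Agent.LFourA.Facts Cfsg.Agent.LFourA.KlMain Cfsg.Agent.LFourA.KlW
  Cfsg.Agent.LFourA.KlCore Cfsg.Agent.LFourA.SymCoord Cfsg.Agent.LFourA.SymCaseI Cfsg.Agent.Lib.SymFrame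
  Cfsg.Agent.Lib.SymParam

open Cfsg.Agent.StandardComponent.CentCore (core_conj_mem core_odd core_comm mem_core_conj)

variable {G : Type*} [Group G] [Finite G] {P : Sylow 2 G} {k : ℕ} {f : D k → D k → G} {w : G}

section shift

variable (h : DWr (P : Subgroup G) k f w)

omit [Finite G] in
theorem zpos_shift {X : Type*} [Group X] (h : DWr (P : Subgroup G) k f w) {z : G} {p : ↥(centralizer ({z} : Set G)) →* X}
    {K₁ K₂ : Subgroup X} (zp : ZPos f w p K₁ K₂) :
    ZPos (fun a b => f (FusionMain.sh k a) (FusionMain.sh k b)) w p K₁ K₂ := by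
  refine ⟨zp.q₁x, zp.q₁w, zp.q₂x, ?_⟩
  change f (FusionMain.sh k (sr 0)) (FusionMain.sh k (sr 0 * c k)) * w ∈ up p K₂
  have h1 : f (FusionMain.sh k (sr 0)) (FusionMain.sh k (sr 0 * c k)) * w =
      f (r (-1)) (r (-1)) * (f (sr 0) (sr 0 * c k) * w) := by
    rw [f_mul_fw h, map_mul, FusionMain.sh_sr, FusionMain.sh_c, ← mul_assoc, r_mul_sr, sub_neg_eq_add]
  rw [h1]
  exact mul_mem (zp.q₂x (-1)) zp.q₂w

omit [Finite G] in
theorem tpos_shift {X : Type*} [Group X] {z : G} {p : ↥(centralizer ({z} : Set G)) →* X}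
    {K : Subgroup X} (tp : TPos f p K) : TPos (fun a b => f (FusionMain.sh k a) (FusionMain.sh k b)) p K :=
  ⟨fun _ => tp.d₂ _, fun a b hab => FusionMain.sh_inj (tp.out _ _ hab)⟩

theorem caseI_shift (h : DWr (P : Subgroup G) k f w) (hG : ∀ φ : G →* ℤˣ, ∀ x, φ x = 1) (hI : CaseI f w) :
    CaseI (fun a b => f (FusionMain.sh k a) (FusionMain.sh k b)) w := by
  refine FusionMain.caseI_of (FusionMain.shift h) hG (FusionMain.shift_typ ⟨hI.typ_t, hI.typ_z⟩) ?_
  obtain ⟨g, hg, -⟩ := hI.w_t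
  exact isConj_iff.2 ⟨g, hg⟩

end shift

omit [Finite G] in
theorem inE_iff {E : Subgroup G} (hE : ∀ g, g ∈ E ↔ ∃ u, ev f u = g) {x : G} : x ∈ E ↔ InE f x := by
  have key : ∀ {a : D k}, a ∈ Cfsg.Agent.LFourA.Facts.V (0 : ZMod (4 * 2 ^ k)) ↔ ∃ x y, el k x y = a := by
    intro a
    constructor
    · intro ha
      rcases mem_V.1 ha with rfl | rfl | rfl | rfl
      · exact ⟨false, false, by simp [el]⟩
      · exact ⟨true, false, by simp [el]⟩
      · exact ⟨false, true, by simp [el]⟩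
      · exact ⟨true, true, by simp [el, c_comm]⟩
    · rintro ⟨x, y, rfl⟩
      refine mul_mem ?_ ?_
      · cases x
        · exact one_mem _
        · exact c_mem_V 0
      · cases y
        · exact one_mem _
        · exact sr_mem_V 0
  rw [hE]
  constructor
  · rintro ⟨u, rfl⟩
    exact ⟨_, key.2 ⟨_, _, rfl⟩, _, key.2 ⟨_, _, rfl⟩, rfl⟩
  · rintro ⟨a, ha, b, hb, rfl⟩
    obtain ⟨x, y, rfl⟩ := key.1 ha
    obtain ⟨x', y', rfl⟩ := key.1 hb
    exact ⟨(x, y, x', y'), rfl⟩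

theorem cpl_of {E W : Subgroup G} (hE : ∀ g, g ∈ E ↔ ∃ u, ev f u = g) (hW : Completion E W) {q : ℕ} (hq : q ≠ 3) :
    Cpl f W q := by
  refine ⟨Nat.odd_iff.2 (by have := hW.odd; omega), ?_, ?_, fun h => absurd h hq⟩
  · intro K hK hEK
    refine hW.le_normalizer K (by rw [Nat.odd_iff] at hK; omega) ?_
    intro b hb
    exact hEK b ((inE_iff hE).1 hb)
  · intro D hD h8
    exact hW.norm D (fun x hx => (inE_iff hE).2 (hD x hx)) h8

theorem cpl_of_one {E W : Subgroup G} (hE : ∀ g, g ∈ E ↔ ∃ u, ev f u = g) (hW : CompletionOne E W) (q : ℕ) :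
    Cpl f W q := by
  refine ⟨Nat.odd_iff.2 (by have := hW.odd; omega), ?_, ?_, ?_⟩
  · intro K hK hEK
    refine hW.le_normalizer K (by rw [Nat.odd_iff] at hK; omega) ?_
    intro b hb
    exact hEK b ((inE_iff hE).1 hb)
  · intro D hD h8
    exact hW.norm D (fun x hx => (inE_iff hE).2 (hD x hx)) (by omega)
  · intro _ D hD h4
    exact hW.norm D (fun x hx => (inE_iff hE).2 (hD x hx)) h4

/-- The elements of a four-group `⟨u, v⟩`. -/
def four {u v : G} (hu : u * u = 1) (hv : v * v = 1) (huv : u * v = v * u) : Subgroup G where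
  carrier := {x | x = 1 ∨ x = u ∨ x = v ∨ x = u * v}
  one_mem' := Or.inl rfl
  mul_mem' := by
    have e1 : v * (u * v) = u := by rw [← mul_assoc, ← huv, mul_assoc, hv, mul_one]
    have e2 : u * (u * v) = v := by rw [← mul_assoc, hu, one_mul]
    have e3 : u * v * u = v := by rw [huv, mul_assoc, hu, mul_one]
    have e4 : u * v * v = u := by rw [mul_assoc, hv, mul_one]
    have e5 : u * v * (u * v) = 1 := by rw [← mul_assoc, e3, hv]
    rintro x y (rfl | rfl | rfl | rfl) (rfl | rfl | rfl | rfl) <;>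
      simp [hu, hv, e1, e2, e3, e4, e5, ← huv]
  inv_mem' := by
    have hu' : u⁻¹ = u := inv_eq_of_mul_eq_one_left hu
    have hv' : v⁻¹ = v := inv_eq_of_mul_eq_one_left hv
    rintro x (rfl | rfl | rfl | rfl)
    · exact Or.inl inv_one
    · exact Or.inr (Or.inl hu')
    · exact Or.inr (Or.inr (Or.inl hv'))
    · refine Or.inr (Or.inr (Or.inr ?_))
      rw [mul_inv_rev, hu', hv', huv]

theorem four_card {u v : G} (hu : u * u = 1) (hv : v * v = 1) (huv : u * v = v * u) (hu1 : u ≠ 1) (hv1 : v ≠ 1)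
    (hne : u ≠ v) : 4 ≤ Nat.card (four hu hv huv) := by
  have huv1 : u * v ≠ 1 := by
    intro h1
    apply hne
    rw [← mul_one u, ← hv, ← mul_assoc, h1, one_mul]
  let φ : Bool × Bool → four hu hv huv := fun i =>
    ⟨(if i.1 then u else 1) * (if i.2 then v else 1), by
      rcases i with ⟨_ | _, _ | _⟩
      · exact Or.inl (mul_one _)
      · exact Or.inr (Or.inr (Or.inl (one_mul _)))
      · exact Or.inr (Or.inl (mul_one _))
      · exact Or.inr (Or.inr (Or.inr rfl))⟩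
  have hφ : Function.Injective φ := by
    rintro ⟨_ | _, _ | _⟩ ⟨_ | _, _ | _⟩ hij <;> first | rfl | (exfalso; have h1 := congrArg Subtype.val hij; simp [φ] at h1)
    · exact hv1 h1.symm
    · exact hu1 h1.symm
    · exact huv1 h1.symm
    · exact hv1 h1
    · exact hne h1.symm
    · exact hu1 h1
    · exact hu1 h1
    · exact hne h1
    · exact hv1 h1
    · exact huv1 h1
    · exact hu1 h1
    · exact hv1 h1
  have h4 := Nat.card_le_card_of_injective φ hφ
  rw [Nat.card_prod, Nat.card_eq_fintype_card, Fintype.card_bool] at h4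
  exact h4

omit [Finite G] in
theorem mem_delta {D : Subgroup G} {x : G} (hx : ∀ a ∈ D, a ≠ 1 → x ∈ centralizerPPrimeCore 2 a) :
    x ∈ signalizerDelta 2 D := by
  rw [signalizerDelta, mem_iInf]
  rintro ⟨a, ha, ha1⟩
  exact hx a ha ha1

/-- The vanishing of `W`: `Δ(D) = 1`. -/
theorem eq_one_of_delta {E : Subgroup G} (hW : Completion E (⊥ : Subgroup G)) {u v x : G} (hu : u * u = 1) (hv : v * v = 1)
    (huv : u * v = v * u) (hu1 : u ≠ 1) (hv1 : v ≠ 1) (hne : u ≠ v) (huE : u ∈ E) (hvE : v ∈ E)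
    (h1 : x ∈ centralizerPPrimeCore 2 u) (h2 : x ∈ centralizerPPrimeCore 2 v)
    (h3 : x ∈ centralizerPPrimeCore 2 (u * v)) : x = 1 := by
  have h4 := hW.inf (four hu hv huv) (by
    rintro y (rfl | rfl | rfl | rfl)
    · exact one_mem _
    · exact huE
    · exact hvE
    · exact mul_mem huE hvE) (four_card hu hv huv hu1 hv1 hne)
  rw [bot_inf_eq] at h4
  have h5 : x ∈ signalizerDelta 2 (four hu hv huv) := by
    apply mem_delta
    rintro y (rfl | rfl | rfl | rfl) hy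
    · exact absurd rfl hy
    · exact h1
    · exact h2
    · exact h3
  rw [← h4] at h5
  exact mem_bot.1 h5

theorem bals (h : DWr (P : Subgroup G) k f w) (hI : CaseI f w) {E : Subgroup G} (hE : ∀ g, g ∈ E ↔ ∃ u, ev f u = g)
    (hW : Completion E (⊥ : Subgroup G)) (bal : ∀ u v, bet u v = true → Bal (ev f u) (ev f v))
    (iso : Iso (ev f vt) (ev f vt')) : Bals f := by
  have hs : ∀ s : D k, (s = sr 0 ∨ s = sr 0 * c k) → ∃ x, el k x true = s := by
    rintro s (rfl | rfl)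
    · exact ⟨false, by simp [el]⟩
    · exact ⟨true, by simp [el, c_comm]⟩
  have he : ∀ e : D k, (e = 1 ∨ e = c k) → ∃ x, el k x false = e := by
    rintro e (rfl | rfl)
    · exact ⟨false, by simp [el]⟩
    · exact ⟨true, by simp [el]⟩
  have hbet1 : ∀ x y : Bool, bet vz (x, true, y, false) = true := by decide
  have hbet2 : ∀ x y : Bool, bet vz (y, false, x, true) = true := by decide
  refine ⟨?_, ?_, ?_, ?_⟩
  · intro s e hs' he'
    obtain ⟨x, rfl⟩ := hs s hs'
    obtain ⟨y, rfl⟩ := he e he'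
    have h1 := bal _ _ (hbet1 x y)
    rw [ev_vz] at h1
    exact h1
  · intro s e hs' he'
    obtain ⟨x, rfl⟩ := hs s hs'
    obtain ⟨y, rfl⟩ := he e he'
    have h1 := bal _ _ (hbet2 x y)
    rw [ev_vz] at h1
    exact h1
  · rw [ev_vt, ev_vt'] at iso
    rintro x ⟨hx1, hx2⟩
    have e1 : f (c k) 1 * f 1 (c k) = f (c k) (c k) := t_mul_t' h
    have hwz : w * f (c k) (c k) * w⁻¹ = f (c k) (c k) := w_conj h _ _
    have hwt : w * f (c k) 1 * w⁻¹ = f 1 (c k) := w_conj h _ _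
    have hwt' : w⁻¹ * f 1 (c k) * w⁻¹⁻¹ = f (c k) 1 := by rw [inv_inv]; exact w_conj' h _ _
    have h1 : w * x * w⁻¹ ∈ centralizerPPrimeCore 2 (f 1 (c k)) := by
      rw [← hwt, mem_core_conj]
      have h2 : w⁻¹ * (w * x * w⁻¹) * w = x := by group
      rw [h2]; exact hx2
    have h2 : w * x * w⁻¹ ∈ centralizerPPrimeCore 2 (f (c k) 1 * f 1 (c k)) := by
      rw [e1, ← hwz, mem_core_conj]
      have h2 : w⁻¹ * (w * x * w⁻¹) * w = x := by group
      rw [h2]; exact hx1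
    have h3 := iso (mem_inf.2 ⟨h1, h2⟩)
    rw [← hwt', mem_core_conj, inv_inv] at h3
    have h4 : w * (w * x * w⁻¹) * w⁻¹ = x := by
      rw [w_inv h]
      calc w * (w * x * w) * w = (w * w) * x * (w * w) := by group
        _ = x := by rw [h.w_w, one_mul, mul_one]
    rwa [h4] at h3
  · intro a ha b hb h1 h2 x hx1 hx2 hx3
    have haa := sq_of_mem_V ha
    have hbb := sq_of_mem_V hb
    have hzE : f (c k) (c k) ∈ E := (inE_iff hE).2 ⟨_, c_mem_V 0, _, c_mem_V 0, rfl⟩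
    have habE : f a b ∈ E := (inE_iff hE).2 ⟨_, ha, _, hb, rfl⟩
    refine eq_one_of_delta hW (u := f (c k) (c k)) (v := f a b) (by rw [h.f_mul, c_mul_c, f_one h])
      (by rw [h.f_mul, haa, hbb, f_one h]) (z_comm h (f_mem h _ _)) (z_ne_one h) h1 (Ne.symm h2) hzE habE hx1 hx2 ?_
    rw [h.f_mul]
    exact hx3

variable {X Y : Type*} [Group X] [Group Y] {F F₂ : Type*} [Field F] [Fintype F] [Field F₂] [Fintype F₂]
  {p : ↥(centralizer ({f (c k) (c k)} : Set G)) →* X} {K₁ K₂ : Subgroup X}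
  {p' : ↥(centralizer ({f (c k) 1} : Set G)) →* Y} {K : Subgroup Y}

/-- **The completion is trivial**, `|F| > 3`. -/
theorem exists_bals [IsSimpleGroup G] (h : DWr (P : Subgroup G) k f w) (hI : CaseI f w) (h2 : (2 : F) ≠ 0)
    (h2' : (2 : F₂) ≠ 0) (hq : Fintype.card F₂ = Fintype.card F ^ 2) (h3 : Fintype.card F ≠ 3)
    (Z : CZL (f (c k) (c k)) F p K₁ K₂) (zp : ZPos f w p K₁ K₂)
    (T : CTL (f (c k) 1) F₂ p' K) (tp : TPos f p' K) : Bals f := by
  obtain ⟨e₁⟩ := Z.e₁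
  obtain ⟨e⟩ := T.e
  have bal := bal_all h hI (bal_z h Z.toCZ zp h2 e₁) (bal_t h T.toCT tp hI h2' e)
  obtain ⟨E, W, hE, hW⟩ := exists_completion h hI h2 h2' Z zp T tp
  have hbot := eq_bot h hI h2 hq Z zp T tp (cpl_of hE hW h3).odd (clo h hI (cpl_of hE hW h3))
  rw [hbot] at hW
  exact bals h hI hE hW bal (iso_t h T.toCT tp h2' e bal)

/-- **The core of `C(z)` is trivial**, `|F| = 3`. -/
theorem core_eq_bot [IsSimpleGroup G] (h : DWr (P : Subgroup G) k f w) (hI : CaseI f w) (h2 : (2 : F) ≠ 0)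
    (h2' : (2 : F₂) ≠ 0) (hq : Fintype.card F₂ = Fintype.card F ^ 2) (h3 : Fintype.card F = 3)
    (Z : CZL (f (c k) (c k)) F p K₁ K₂) (zp : ZPos f w p K₁ K₂)
    (T : CTL (f (c k) 1) F₂ p' K) (tp : TPos f p' K) : centralizerPPrimeCore 2 (f (c k) (c k)) = ⊥ := by
  obtain ⟨E, W, hE, -, hW⟩ := SymOne.exists_completion_one h hI h2 (SymOne.twoTorus_three (by rw [Nat.card_eq_fintype_card, h3]))
    h2' (SymOne.twoTorus_nine (by rw [Nat.card_eq_fintype_card, hq, h3]; norm_num)) Z zp T tp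
  have hbot := eq_bot h hI h2 hq Z zp T tp (cpl_of_one hE hW (Fintype.card F)).odd (clo h hI (cpl_of_one hE hW _))
  rw [hbot] at hW
  have hzE : f (c k) (c k) ∈ E := (inE_iff hE).2 ⟨_, c_mem_V 0, _, c_mem_V 0, rfl⟩
  have h1 := hW.cent _ hzE (z_ne_one h)
  rw [bot_inf_eq] at h1
  exact h1.symm

end Cfsg.Agent.LFourA.KlGlue
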