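import Mathlib
import Cfsg.Prelude.Def_Local
import Cfsg.Agent.LFourA.Defs

/-!
# Case I, `|F| > 3`: the components of `C(z)` (output of the signalizer functor argument)

`LCent P f w F L₁ L₂`: `L₁`, `L₂` are commuting subgroups isomorphic to `SL(2,F)`, permuted by `C(z)`, which commute
with the odd core `O` of `C(z)`; `O` is inverted by the elements `f (sr i) e`, `f e (sr i)`, `e ∈ {1, c}`;
`C(L₁L₂) = ⟨z⟩ × O`.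
-/

set_option autoImplicit false

namespace Cfsg.Agent.LFourA.LCent

open Subgroup Cfsg DihedralGroup Cfsg.Agent.LFourA.Model

/-- The components of `C(z)` and its odd core, `z = f c c`. -/
structure LCent {G : Type*} [Group G] {k : ℕ} (f : D k → D k → G) (w : G) (F : Type*) [Field F]
    (L₁ L₂ : Subgroup G) : Prop where
  iso₁ : Nonempty (L₁ ≃* Matrix.SpecialLinearGroup (Fin 2) F)
  iso₂ : Nonempty (L₂ ≃* Matrix.SpecialLinearGroup (Fin 2) F)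
  comm : ∀ x ∈ L₁, ∀ y ∈ L₂, x * y = y * x
  inf : ∀ x ∈ L₁, x ∈ L₂ → x = 1 ∨ x = f (c k) (c k)
  q₁x : ∀ i, f (r i) (r (-i)) ∈ L₁
  q₁w : f 1 (c k) * w ∈ L₁
  q₂x : ∀ i, f (r i) (r i) ∈ L₂
  q₂w : f (sr 0) (sr 0 * c k) * w ∈ L₂
  norm : ∀ g : G, g * f (c k) (c k) = f (c k) (c k) * g →
    ((∀ x ∈ L₁, g * x * g⁻¹ ∈ L₁) ∧ ∀ x ∈ L₂, g * x * g⁻¹ ∈ L₂) ∨
    ((∀ x ∈ L₁, g * x * g⁻¹ ∈ L₂) ∧ ∀ x ∈ L₂, g * x * g⁻¹ ∈ L₁)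
  swap₁ : ∀ (i : ZMod (4 * 2 ^ k)) (e : D k), e = 1 ∨ e = c k →
    (∀ x ∈ L₁, f (sr i) e * x * (f (sr i) e)⁻¹ ∈ L₂) ∧ ∀ x ∈ L₂, f (sr i) e * x * (f (sr i) e)⁻¹ ∈ L₁
  swap₂ : ∀ (i : ZMod (4 * 2 ^ k)) (e : D k), e = 1 ∨ e = c k →
    (∀ x ∈ L₁, f e (sr i) * x * (f e (sr i))⁻¹ ∈ L₂) ∧ ∀ x ∈ L₂, f e (sr i) * x * (f e (sr i))⁻¹ ∈ L₁
  cent : ∀ g : G, (∀ x ∈ L₁, g * x = x * g) → (∀ x ∈ L₂, g * x = x * g) →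
    g ∈ centralizerPPrimeCore 2 (f (c k) (c k)) ∨ g * f (c k) (c k) ∈ centralizerPPrimeCore 2 (f (c k) (c k))
  core₁ : ∀ o ∈ centralizerPPrimeCore 2 (f (c k) (c k)), ∀ x ∈ L₁, o * x = x * o
  core₂ : ∀ o ∈ centralizerPPrimeCore 2 (f (c k) (c k)), ∀ x ∈ L₂, o * x = x * o
  inv₁ : ∀ (i : ZMod (4 * 2 ^ k)) (e : D k), e = 1 ∨ e = c k → ∀ o ∈ centralizerPPrimeCore 2 (f (c k) (c k)),
    f (sr i) e * o * (f (sr i) e)⁻¹ = o⁻¹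
  inv₂ : ∀ (i : ZMod (4 * 2 ^ k)) (e : D k), e = 1 ∨ e = c k → ∀ o ∈ centralizerPPrimeCore 2 (f (c k) (c k)),
    f e (sr i) * o * (f e (sr i))⁻¹ = o⁻¹

end Cfsg.Agent.LFourA.LCent
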