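import Mathlib
import Cfsg.Agent.LFourA.KlPos
import Cfsg.Agent.LFourA.KlQuot
import Cfsg.Agent.LFourA.KlT
import Cfsg.Agent.LFourA.LCent
import Cfsg.Agent.LFourR.LiftSL

/-!
# The components of `C(z)` in case I, `|F| > 3`
-/

set_option autoImplicit false

namespace Cfsg.Agent.LFourA.KlL

open Subgroup DihedralGroup Cfsg Cfsg.Agent.LFourA.Model Cfsg.Agent.LFourA.Base Cfsg.Agent.LFourA.Defs
  Cfsg.Agent.LFourA.CzCt Cfsg.Agent.LFourA.Facts Cfsg.Agent.LFourA.KlQuot Cfsg.Agent.LFourR.LiftSL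
  Cfsg.Agent.LFourA.KlOSolv Cfsg.Agent.LFourA.KlPos

open Cfsg.Agent.StandardComponent.CentCore (core_conj_mem core_comm)

section abs

variable {G X : Type*} [Group G] [Group X] {z : G} {p : ↥(centralizer ({z} : Set G)) →* X}

/-- An element moving `K` into `K'` moves the lift of `K` into the lift of `K'`. -/
theorem lof_conj {K K' : Subgroup X} {g : G} (hg : g ∈ centralizer ({z} : Set G))
    (h : ∀ x ∈ K, p ⟨g, hg⟩ * x * (p ⟨g, hg⟩)⁻¹ ∈ K') : ∀ x ∈ lof p K, g * x * g⁻¹ ∈ lof p K' := by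
  have hup : (up p K).map (MulAut.conj g).toMonoidHom ≤ up p K' := by
    rintro _ ⟨y, hy, rfl⟩
    obtain ⟨hy1, hy2⟩ := mem_up.1 hy
    refine mem_up.2 ⟨mul_mem (mul_mem hg hy1) (inv_mem hg), ?_⟩
    have h1 := h _ hy2
    rw [← map_inv, ← map_mul, ← map_mul] at h1
    exact h1
  intro x hx
  have h1 : g * x * g⁻¹ ∈ (lof p K).map (MulAut.conj g).toMonoidHom := ⟨x, hx, rfl⟩
  rw [lof, map_commutator] at h1
  exact commutator_mono hup hup h1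

/-- Commuting modulo a central subgroup. -/
theorem comm_of_perfect {L O : Subgroup G} (hL : ⁅L, L⁆ = L) (hO : ∀ o ∈ O, ∀ o' ∈ O, o * o' = o' * o)
    (hc : ∀ o ∈ O, ∀ l ∈ L, o * l = l * o) {y : G}
    (hy : ∀ l ∈ L, l * y * l⁻¹ * y⁻¹ ∈ O) : ∀ l ∈ L, l * y = y * l := by
  have key : L ≤ centralizer ({y} : Set G) := by
    conv_lhs => rw [← hL]
    rw [commutator_le]
    intro a ha b hb
    rw [mem_centralizer_singleton_iff, commutatorElement_def]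
    -- `a y = o y a`
    have conjL : ∀ l ∈ L, ∃ o ∈ O, l * y = o * y * l := by
      intro l hl
      exact ⟨_, hy l hl, by group⟩
    obtain ⟨o, ho, h1⟩ := conjL a ha
    obtain ⟨o', ho', h2⟩ := conjL b hb
    have h3 : a⁻¹ * y = o⁻¹ * y * a⁻¹ := by
      have h4 : y = a⁻¹ * (o * y * a) := by rw [← h1]; group
      have h5 : a⁻¹ * o = o * a⁻¹ := (hc o ho _ (inv_mem ha)).symm
      calc a⁻¹ * y = o⁻¹ * (o * a⁻¹) * y := by group
        _ = o⁻¹ * (a⁻¹ * (o * y * a)) * a⁻¹ := by rw [← h5]; group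
        _ = o⁻¹ * y * a⁻¹ := by rw [← h4]
    have h4 : b⁻¹ * y = o'⁻¹ * y * b⁻¹ := by
      have h4 : y = b⁻¹ * (o' * y * b) := by rw [← h2]; group
      have h5 : b⁻¹ * o' = o' * b⁻¹ := (hc o' ho' _ (inv_mem hb)).symm
      calc b⁻¹ * y = o'⁻¹ * (o' * b⁻¹) * y := by group
        _ = o'⁻¹ * (b⁻¹ * (o' * y * b)) * b⁻¹ := by rw [← h5]; group
        _ = o'⁻¹ * y * b⁻¹ := by rw [← h4]
    have hcc : ∀ u ∈ O, ∀ l ∈ L, l * u = u * l := fun u hu l hl => (hc u hu l hl).symm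
    calc a * b * a⁻¹ * b⁻¹ * y = a * b * a⁻¹ * (b⁻¹ * y) := by group
      _ = a * b * (a⁻¹ * o'⁻¹) * y * b⁻¹ := by rw [h4]; group
      _ = a * (b * o'⁻¹) * (a⁻¹ * y) * b⁻¹ := by rw [hcc _ (inv_mem ho') _ (inv_mem ha)]; group
      _ = (a * o'⁻¹) * (b * o⁻¹) * y * a⁻¹ * b⁻¹ := by rw [hcc _ (inv_mem ho') _ hb, h3]; group
      _ = o'⁻¹ * (a * o⁻¹) * (b * y) * a⁻¹ * b⁻¹ := by
          rw [hcc _ (inv_mem ho') _ ha, hcc _ (inv_mem ho) _ hb]; group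
      _ = o'⁻¹ * o⁻¹ * (a * o') * y * b * a⁻¹ * b⁻¹ := by rw [hcc _ (inv_mem ho) _ ha, h2]; group
      _ = o'⁻¹ * o⁻¹ * o' * (a * y) * b * a⁻¹ * b⁻¹ := by rw [hcc _ ho' _ ha]; group
      _ = (o'⁻¹ * (o⁻¹ * o')) * o * y * a * b * a⁻¹ * b⁻¹ := by rw [h1]; group
      _ = (o'⁻¹ * (o' * o⁻¹)) * o * y * a * b * a⁻¹ * b⁻¹ := by rw [hO _ (inv_mem ho) _ ho']
      _ = y * (a * b * a⁻¹ * b⁻¹) := by group
  intro l hl
  exact mem_centralizer_singleton_iff.1 (key hl)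

end abs

variable {G X : Type*} [Group G] [Finite G] [Group X] {P : Sylow 2 G} {k : ℕ} {f : D k → D k → G} {w : G}
  {F : Type*} [Field F] [Fintype F]
variable (h : DWr (P : Subgroup G) k f w) {p : ↥(centralizer ({f (c k) (c k)} : Set G)) →* X} {K₁ K₂ : Subgroup X}

include h

theorem dat (Z : CZL (f (c k) (c k)) F p K₁ K₂) (zp : ZPos f w p K₁ K₂) (hodd : Odd (Fintype.card F))
    (h3 : 3 < Fintype.card F) (h9 : Fintype.card F = 9 → ¬ 3 ∣ Nat.card (centralizerPPrimeCore 2 (f (c k) (c k))))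
    (hinv : ∀ o ∈ centralizerPPrimeCore 2 (f (c k) (c k)), f 1 (sr 0) * o * (f 1 (sr 0))⁻¹ = o⁻¹) :
    Dat F p K₁ (f 1 (sr 0)) ∧ Dat F p K₂ (f 1 (sr 0)) := by
  have hzz : f (c k) (c k) * f (c k) (c k) = 1 := by rw [h.f_mul, c_mul_c, f_one h]
  have hbz : f 1 (sr 0) * f (c k) (c k) = f (c k) (c k) * f 1 (sr 0) := (z_comm h (f_mem h _ _)).symm
  have hsw := swp_right h Z.toCZ zp 0 (Or.inl rfl)
  have key : ∀ K K' : Subgroup X, (∀ x ∈ K, ∀ y ∈ K', x * y = y * x) →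
      (∀ x ∈ K, p ⟨f 1 (sr 0), mem_cz h (f_mem h _ _)⟩ * x * (p ⟨f 1 (sr 0), mem_cz h (f_mem h _ _)⟩)⁻¹ ∈ K') →
      ∀ x ∈ up p K, ∀ y ∈ up p K, x * (f 1 (sr 0) * y * (f 1 (sr 0))⁻¹) * x⁻¹ * (f 1 (sr 0) * y * (f 1 (sr 0))⁻¹)⁻¹ ∈
        centralizerPPrimeCore 2 (f (c k) (c k)) := by
    intro K K' hc hs x hx y hy
    obtain ⟨hx1, hx2⟩ := mem_up.1 hx
    obtain ⟨hy1, hy2⟩ := mem_up.1 hy
    have h1 := hs _ hy2
    have hb := mem_cz h (f_mem h 1 (sr 0))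
    have h2 : p (⟨x, hx1⟩ * (⟨f 1 (sr 0), hb⟩ * ⟨y, hy1⟩ * (⟨f 1 (sr 0), hb⟩)⁻¹) * ⟨x, hx1⟩⁻¹ *
        (⟨f 1 (sr 0), hb⟩ * ⟨y, hy1⟩ * (⟨f 1 (sr 0), hb⟩)⁻¹)⁻¹) = 1 := by
      simp only [map_mul, map_inv]
      rw [hc _ hx2 _ h1]
      group
    exact (Z.ker _).1 h2
  constructor
  · exact { z_ne := z_ne_one h, zz := hzz, surj := Z.surj, ker := Z.ker, z₁ := Z.z₁, iso := Z.e₁, odd := hodd, three := h3,
            nine := h9, bz := hbz, inv := hinv, swap := key K₁ K₂ Z.comm hsw.1 }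
  · exact { z_ne := z_ne_one h, zz := hzz, surj := Z.surj, ker := Z.ker, z₁ := Z.z₂, iso := Z.e₂, odd := hodd, three := h3,
            nine := h9, bz := hbz, inv := hinv, swap := key K₂ K₁ (fun x hx y hy => (Z.comm y hy x hx).symm) hsw.2 }

/-- **The components of `C(z)`.** -/
theorem lcent (Z : CZL (f (c k) (c k)) F p K₁ K₂) (zp : ZPos f w p K₁ K₂) (hodd : Odd (Fintype.card F))
    (h3 : 3 < Fintype.card F) (h9 : Fintype.card F = 9 → ¬ 3 ∣ Nat.card (centralizerPPrimeCore 2 (f (c k) (c k))))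
    (inv₁ : ∀ (i : ZMod (4 * 2 ^ k)) (e : D k), e = 1 ∨ e = c k → ∀ o ∈ centralizerPPrimeCore 2 (f (c k) (c k)),
      f (sr i) e * o * (f (sr i) e)⁻¹ = o⁻¹)
    (inv₂ : ∀ (i : ZMod (4 * 2 ^ k)) (e : D k), e = 1 ∨ e = c k → ∀ o ∈ centralizerPPrimeCore 2 (f (c k) (c k)),
      f e (sr i) * o * (f e (sr i))⁻¹ = o⁻¹) : LCent.LCent f w F (lof p K₁) (lof p K₂) := by
  obtain ⟨D₁, D₂⟩ := dat h Z zp hodd h3 h9 (inv₂ 0 1 (Or.inl rfl))
  have hq := Z.toCZ.quo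
  have hpow : ∀ x ∈ (P : Subgroup G), ∃ m : ℕ, x ^ 2 ^ m = 1 := by
    intro x hx
    obtain ⟨m, hm⟩ := P.isPGroup' ⟨x, hx⟩
    exact ⟨m, congrArg Subtype.val hm⟩
  have mem₁ : ∀ x ∈ (P : Subgroup G), x ∈ up p K₁ → x ∈ lof p K₁ := by
    intro x hx hxu
    obtain ⟨m, hm⟩ := hpow x hx
    exact D₁.mem_of_pow hxu hm
  have mem₂ : ∀ x ∈ (P : Subgroup G), x ∈ up p K₂ → x ∈ lof p K₂ := by
    intro x hx hxu
    obtain ⟨m, hm⟩ := hpow x hx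
    exact D₂.mem_of_pow hxu hm
  have hcomm : ∀ x ∈ lof p K₁, ∀ y ∈ lof p K₂, x * y = y * x := by
    intro x hx y hy
    refine comm_of_perfect D₁.perfect (O := centralizerPPrimeCore 2 (f (c k) (c k)))
      (fun o ho o' ho' => D₁.core_comm ho ho') (fun o ho l hl => D₁.comm_core hl ho) ?_ x hx
    intro l hl
    obtain ⟨h1, h2⟩ := mem_up.1 (lof_le_up p K₁ hl)
    obtain ⟨h4, h5⟩ := mem_up.1 (lof_le_up p K₂ hy)
    have h6 : p (⟨l, h1⟩ * ⟨y, h4⟩ * ⟨l, h1⟩⁻¹ * ⟨y, h4⟩⁻¹) = 1 := by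
      simp only [map_mul, map_inv]
      rw [Z.comm _ h2 _ h5]
      group
    exact (Z.ker _).1 h6
  have hnorm : ∀ (K K' : Subgroup X) (g : G) (hg : g ∈ centralizer ({f (c k) (c k)} : Set G)),
      (∀ x ∈ K, p ⟨g, hg⟩ * x * (p ⟨g, hg⟩)⁻¹ ∈ K') → ∀ x ∈ lof p K, g * x * g⁻¹ ∈ lof p K' :=
    fun K K' g hg hx => lof_conj hg hx
  refine ⟨D₁.iso_lof, D₂.iso_lof, hcomm, ?_, fun i => mem₁ _ (f_mem h _ _) (zp.q₁x i),
    mem₁ _ (fw_mem h _ _) zp.q₁w, fun i => mem₂ _ (f_mem h _ _) (zp.q₂x i), mem₂ _ (fw_mem h _ _) zp.q₂w,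
    ?_, ?_, ?_, ?_, fun o ho x hx => D₁.comm_core hx ho, fun o ho x hx => D₂.comm_core hx ho, inv₁, inv₂⟩
  · intro x hx1 hx2
    obtain ⟨h1, h2⟩ := mem_up.1 (lof_le_up p K₁ hx1)
    obtain ⟨_, h4⟩ := mem_up.1 (lof_le_up p K₂ hx2)
    rcases Z.inf _ h2 h4 with h5 | h5
    · left
      exact D₁.inf_core hx1 ((Z.ker _).1 h5)
    · right
      have h6 : p (⟨x, h1⟩ * self (f (c k) (c k))) = 1 := by
        rw [map_mul, h5, ← map_mul]
        have : self (f (c k) (c k)) * self (f (c k) (c k)) = 1 := Subtype.ext D₁.zz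
        rw [this, map_one]
      have h7 : x * f (c k) (c k) ∈ centralizerPPrimeCore 2 (f (c k) (c k)) := (Z.ker _).1 h6
      have h8 := D₁.inf_core (mul_mem hx1 D₁.z_mem) h7
      calc x = x * f (c k) (c k) * f (c k) (c k) := by rw [mul_assoc, D₁.zz, mul_one]
        _ = f (c k) (c k) := by rw [h8, one_mul]
  · intro g hg
    have hgz : g ∈ centralizer ({f (c k) (c k)} : Set G) := mem_centralizer_singleton_iff.2 hg
    rcases Z.norm (p ⟨g, hgz⟩) with h1 | h1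
    · exact Or.inl ⟨hnorm _ _ g hgz h1.1, hnorm _ _ g hgz h1.2⟩
    · exact Or.inr ⟨hnorm _ _ g hgz h1.1, hnorm _ _ g hgz h1.2⟩
  · intro i e he
    have h1 := swp_left h Z.toCZ zp i he
    exact ⟨hnorm _ _ _ _ h1.1, hnorm _ _ _ _ h1.2⟩
  · intro i e he
    have h1 := swp_right h Z.toCZ zp i he
    exact ⟨hnorm _ _ _ _ h1.1, hnorm _ _ _ _ h1.2⟩
  · intro g hg1 hg2
    have hgz : g ∈ centralizer ({f (c k) (c k)} : Set G) := mem_centralizer_singleton_iff.2 (hg1 _ D₁.z_mem)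
    have hpg : ∀ (K : Subgroup X), (∀ x ∈ lof p K, g * x = x * g) →
        (∀ x ∈ K, ∃ l : G, ∃ hl : l ∈ centralizer ({f (c k) (c k)} : Set G), l ∈ lof p K ∧ p ⟨l, hl⟩ = x) →
        ∀ x ∈ K, p ⟨g, hgz⟩ * x = x * p ⟨g, hgz⟩ := by
      intro K hK hex x hx
      obtain ⟨l, hl, hlK, rfl⟩ := hex x hx
      rw [← map_mul, ← map_mul]
      congr 1
      exact Subtype.ext (hK l hlK)
    rcases Z.cent _ (hpg K₁ hg1 (fun x hx => D₁.exists_lof hx)) (hpg K₂ hg2 (fun x hx => D₂.exists_lof hx)) with h1 | h1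
    · left
      exact (Z.ker _).1 h1
    · right
      have h6 : p (⟨g, hgz⟩ * self (f (c k) (c k))) = 1 := by
        rw [map_mul, h1, ← map_mul]
        have : self (f (c k) (c k)) * self (f (c k) (c k)) = 1 := Subtype.ext D₁.zz
        rw [this, map_one]
      exact (Z.ker _).1 h6

/-- If `|F| = 9`, the order of the odd core of `C(z)` is prime to 3. -/
theorem not_three_dvd {Y : Type*} [Group Y] {F₂ : Type*} [Field F₂] [Fintype F₂] {p' : ↥(centralizer ({f (c k) 1} : Set G)) →* Y}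
    {K : Subgroup Y} (h81 : Fintype.card F₂ = 81) (T : CTL (f (c k) 1) F₂ p' K) (tp : TPos f p' K)
    (htO : ∀ o ∈ centralizerPPrimeCore 2 (f (c k) (c k)), o * f (c k) 1 = f (c k) 1 * o)
    (hinv : ∀ o ∈ centralizerPPrimeCore 2 (f (c k) (c k)), f 1 (sr 0) * o * (f 1 (sr 0))⁻¹ = o⁻¹)
    (hinf : ∀ o ∈ centralizerPPrimeCore 2 (f (c k) (c k)), o ∈ centralizerPPrimeCore 2 (f (c k) 1) → o = 1) :
    ¬ 3 ∣ Nat.card (centralizerPPrimeCore 2 (f (c k) (c k))) := by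
  intro hd
  have : Fact (Nat.Prime 3) := ⟨Nat.prime_three⟩
  obtain ⟨⟨o, ho⟩, ho3⟩ := exists_prime_orderOf_dvd_card' 3 hd
  rw [Subgroup.orderOf_mk] at ho3
  have h2 : (2 : F₂) ≠ 0 := by
    intro h2
    have h3 := Nat.cast_card_eq_zero F₂
    rw [h81] at h3
    have h4 : (1 : F₂) = 0 := by
      have h5 : ((81 : ℕ) : F₂) = 40 * 2 + 1 := by norm_num
      rw [h5, h2, mul_zero, zero_add] at h3
      exact h3
    exact one_ne_zero h4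
  have hot := htO o ho
  have hotc : o ∈ centralizer ({f (c k) 1} : Set G) := mem_cent.2 hot
  -- `o ∈ up K`
  obtain ⟨hb1, hb2⟩ := mem_up.1 (tp.d₂ (sr 0))
  have hoi := hinv o ho
  have hoo : o * o * o = 1 := by
    have := pow_orderOf_eq_one o
    rwa [ho3, pow_succ, pow_two] at this
  have hoK : p' ⟨o, hotc⟩ ∈ K := by
    -- `o = b o b⁻¹ o⁻¹` as `o⁻¹ o⁻¹ = o`
    have e1 : o = f 1 (sr 0) * (o * (f 1 (sr 0))⁻¹ * o⁻¹) := by
      calc o = o⁻¹ * o⁻¹ := by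
            have h4 : o = (o * o)⁻¹ := eq_inv_of_mul_eq_one_right hoo
            rw [mul_inv_rev] at h4
            exact h4
        _ = (f 1 (sr 0) * o * (f 1 (sr 0))⁻¹) * o⁻¹ := by rw [hoi]
        _ = _ := by group
    have e2 : (⟨o, hotc⟩ : ↥(centralizer ({f (c k) 1} : Set G))) =
        ⟨f 1 (sr 0), hb1⟩ * (⟨o, hotc⟩ * (⟨f 1 (sr 0), hb1⟩)⁻¹ * ⟨o, hotc⟩⁻¹) := Subtype.ext e1
    rw [e2, map_mul, map_mul, map_mul, map_inv, map_inv]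
    exact K.mul_mem hb2 (T.normal.conj_mem _ (K.inv_mem hb2) _)
  obtain ⟨e⟩ := T.e
  obtain ⟨hc1, hc2⟩ := mem_up.1 (tp.d₂ (c k))
  have hcc : f 1 (c k) * f 1 (c k) = 1 := by rw [h.f_mul, c_mul_c, one_mul, f_one h]
  have hq := T.toCT.quo
  have hne := ne_one_of_inv hq hc1 hcc (t'_ne_one h)
  have hsq := Cfsg.Agent.LFourA.KlT.p_sq hc1 hcc (p := p')
  obtain ⟨S, m, hS, hm⟩ := Cfsg.Agent.Lib.PSL2Torus.exists_torus h2 e (t := ⟨_, hc2⟩)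
    (fun h1 => hne (congrArg Subtype.val h1)) (Subtype.ext hsq)
  have hcomm : o * f 1 (c k) = f 1 (c k) * o := by
    have h4 : f 1 (c k) = f (c k) 1 * f (c k) (c k) := by rw [h.f_mul, c_mul_c, one_mul]
    rw [h4, ← mul_assoc, hot, mul_assoc, core_comm ho, mul_assoc]
  have hpc := Cfsg.Agent.LFourA.KlT.p_comm (p := p') hotc hc1 hcomm
  have hoK3 : (⟨p' ⟨o, hotc⟩, hoK⟩ : K) * ⟨p' ⟨o, hotc⟩, hoK⟩ * ⟨p' ⟨o, hotc⟩, hoK⟩ = 1 := by
    apply Subtype.ext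
    change p' ⟨o, hotc⟩ * p' ⟨o, hotc⟩ * p' ⟨o, hotc⟩ = 1
    rw [← map_mul, ← map_mul, ← map_one p']
    congr 1
    exact Subtype.ext hoo
  have hoS : (⟨p' ⟨o, hotc⟩, hoK⟩ : K) ∈ S := by
    by_contra hn
    obtain ⟨h5, h6, -⟩ := hS.out _ (Subtype.ext hpc) hn
    rw [h6, one_mul] at hoK3
    exact h5 hoK3
  have h81' : Nat.card F₂ = 81 := by rw [Nat.card_eq_fintype_card, h81]
  have hm40 : m = 40 := by
    rw [h81'] at hm
    omega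
  have hd2 : orderOf (⟨p' ⟨o, hotc⟩, hoK⟩ : K) ∣ 40 := by
    have h5 := orderOf_dvd_natCard (⟨_, hoS⟩ : S)
    rw [Subgroup.orderOf_mk, hS.card, hm40] at h5
    exact h5
  have hd3 : orderOf (⟨p' ⟨o, hotc⟩, hoK⟩ : K) ∣ 3 := by
    apply orderOf_dvd_of_pow_eq_one
    rw [pow_succ, pow_two]
    exact hoK3
  have h1 : orderOf (⟨p' ⟨o, hotc⟩, hoK⟩ : K) = 1 := by
    have h6 := Nat.dvd_gcd hd2 hd3
    exact Nat.dvd_one.1 h6
  have h7 : p' ⟨o, hotc⟩ = 1 := congrArg Subtype.val (orderOf_eq_one_iff.1 h1)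
  have h8 := hinf o ho ((T.ker _).1 h7)
  rw [h8, orderOf_one] at ho3
  exact absurd ho3 (by norm_num)

end Cfsg.Agent.LFourA.KlL
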