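import Cfsg.Agent.LFourA.AltFinal
import Cfsg.Agent.LFour.ConclR

/-!
# The branch A2 of statement S0510
-/

set_option autoImplicit false

namespace Cfsg.Agent.LFourA.AltBranch

universe u

/-- **Branch A2**: a simple group with Sylow 2-subgroup `D wr 2` and the fusion pattern of `A₁₀` is `A₁₀` or `A₁₁`. -/
theorem branchA2A (hFT : AltZ9.FT.{u}) (hC : AltFive.CommThm.{u}) (hGW : AltFinal.GWPerf.{u}) :
    LFour.BranchA2A.{u} := by
  intro G _ _ _ P k f w h hI
  exact AltFinal.main hFT hC hGW h hI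

/-- Branch A2 in the form of `LFour.Concl`. -/
theorem branchA2 (hFT : AltZ9.FT.{u}) (hC : AltFive.CommThm.{u}) (hGW : AltFinal.GWPerf.{u}) :
    LFour.BranchA2.{u} := (branchA2A hFT hC hGW).branch

end Cfsg.Agent.LFourA.AltBranch
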