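import Cfsg.Agent.LFourA.AltNilC

/-!
# Case II: the action of the 3-elements on `E = V_e × V_e`
-/

set_option autoImplicit false

namespace Cfsg.Agent.LFourA.AltEAct

open Cfsg.Agent.LFourA.AltModel Cfsg.Agent.LFourA.AltPat Cfsg.Agent.LFourA.AltNil Cfsg.Agent.LFourA.AltNilB
  Cfsg.Agent.LFourA.AltNilC Subgroup

/-- the 3-cycle on `V_e` -/
def kap (u : U) : U := if u = U.c then U.y else if u = U.y then U.y * U.c else if u = U.y * U.c then U.c else u

/-- the action of `ρ` on `E` -/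
def sig (x : M) : M := pr (kap (x.a * eta x.b) * eta x.b) x.b
/-- the action of `w ρ w` on `E` -/
def sig' (x : M) : M := w * sig (w * x * w⁻¹) * w⁻¹
/-- the action of a 3-element of `C(z)` on `E` -/
def sigZ (x : M) : M := sig' (sig (sig' (sig' x)))

theorem InE_sig : ∀ x : M, InE x → InE (sig x) := by decide +kernel
theorem InE_sig' : ∀ x : M, InE x → InE (sig' x) := by decide +kernel
theorem InE_sigZ : ∀ x : M, InE x → InE (sigZ x) := by decide +kernel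
theorem sig'_three : ∀ x : M, InE x → sig' (sig' (sig' x)) = x := by decide +kernel
theorem sigZ_three : ∀ x : M, InE x → sigZ (sigZ (sigZ x)) = x := by decide +kernel
theorem sigZ_z : sigZ z = z := by decide +kernel
theorem sigZ_t : sigZ t ≠ t ∧ sigZ t ≠ t' := by decide +kernel

theorem E_word : ∀ x : M, InE x → x = pr (x.a * eta x.b) 1 * pr (eta x.b) x.b := by decide +kernel
theorem E_a : ∀ x : M, InE x → x.a * eta x.b = 1 ∨ x.a * eta x.b = U.c ∨ x.a * eta x.b = U.y ∨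
    x.a * eta x.b = U.y * U.c := by decide +kernel

universe u

variable {G : Type u} [Group G] {S : Sylow 2 G} {F : M →* G}

/-- `n` acts on `F(E)` as `φ` -/
def Act (F : M →* G) (n : G) (φ : M → M) : Prop := ∀ x, InE x → InE (φ x) ∧ n * F x * n⁻¹ = F (φ x)

theorem Act.mul {n m : G} {φ ψ : M → M} (hn : Act F n φ) (hm : Act F m ψ) : Act F (n * m) (fun x => φ (ψ x)) := by
  intro x hx
  obtain ⟨h1, h2⟩ := hm x hx
  obtain ⟨h3, h4⟩ := hn _ h1
  refine ⟨h3, ?_⟩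
  rw [← h4, ← h2]; group

theorem Act.inv {n : G} {φ ψ : M → M} (hn : Act F n φ) (h : ∀ x, InE x → InE (ψ x) ∧ φ (ψ x) = x) :
    Act F n⁻¹ ψ := by
  intro x hx
  obtain ⟨h1, h2⟩ := h x hx
  refine ⟨h1, ?_⟩
  obtain ⟨-, h3⟩ := hn _ h1
  rw [h2] at h3
  rw [← h3]; group

theorem Act.ne {n : G} {φ : M → M} (hn : Act F n φ) : NE F n := fun x hx => ⟨φ x, (hn x hx).1, (hn x hx).2.symm⟩

theorem Act.congr {n : G} {φ ψ : M → M} (hn : Act F n φ) (h : ∀ x, InE x → φ x = ψ x) : Act F n ψ := by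
  intro x hx
  rw [← h x hx]
  exact hn x hx

theorem act_F (g : M) : Act F (F g) (fun x => g * x * g⁻¹) := fun x hx =>
  ⟨InE_conj g x hx, by simp only [map_mul, map_inv]⟩

theorem act_rho {ρ : G} (h : RhoE F ρ) : Act F ρ sig := by
  intro x hx
  refine ⟨InE_sig x hx, ?_⟩
  have h1 : ρ * F (pr (x.a * eta x.b) 1) * ρ⁻¹ = F (pr (kap (x.a * eta x.b)) 1) := by
    rcases E_a x hx with e | e | e | e
    · rw [e]
      have e1 : pr (kap 1) 1 = 1 := by decide
      have e2 : pr 1 1 = 1 := rfl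
      rw [e1, e2, map_one, mul_one, mul_inv_cancel]
    · rw [e]
      have e1 : kap U.c = U.y := by decide
      rw [e1]
      exact h.cyc1
    · rw [e]
      have e1 : kap U.y = U.y * U.c := by decide
      rw [e1]
      exact h.cyc2
    · rw [e]
      have e1 : kap (U.y * U.c) = U.c := by decide
      rw [e1]
      exact h.cyc3
  have h2 : ρ * F (pr (eta x.b) x.b) * ρ⁻¹ = F (pr (eta x.b) x.b) := by
    rw [h.fix, mul_inv_cancel_right]
  have h3 : sig x = pr (kap (x.a * eta x.b)) 1 * pr (eta x.b) x.b := by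
    rw [pr_mul, one_mul]; rfl
  rw [h3, map_mul, ← h1, ← h2]
  conv_lhs => rw [E_word x hx, map_mul]
  group

/-- `w ρ w⁻¹` -/
def rho' (F : M →* G) (ρ : G) : G := F w * ρ * (F w)⁻¹
/-- a 3-element of `C(z)` normalizing `F(E)` -/
def rhoZ (F : M →* G) (ρ : G) : G := rho' F ρ * ρ * (rho' F ρ)⁻¹

theorem act_rho' {ρ : G} (h : RhoE F ρ) : Act F (rho' F ρ) sig' := by
  have h1 := ((act_F (F := F) w).mul (act_rho h)).mul (act_F (F := F) w⁻¹)
  have e : rho' F ρ = F w * ρ * F w⁻¹ := by rw [map_inv]; rfl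
  rw [e]
  refine h1.congr (fun x _ => ?_)
  show w * sig (w⁻¹ * x * w⁻¹⁻¹) * w⁻¹ = sig' x
  rw [w_inv, w_inv]
  show _ = w * sig (w * x * w⁻¹) * w⁻¹
  rw [w_inv]

theorem act_rhoZ {ρ : G} (h : RhoE F ρ) : Act F (rhoZ F ρ) sigZ := by
  have h1 := act_rho' h
  have h2 : Act F (rho' F ρ)⁻¹ (fun x => sig' (sig' x)) :=
    h1.inv (fun x hx => ⟨InE_sig' _ (InE_sig' _ hx), sig'_three x hx⟩)
  exact (h1.mul (act_rho h)).mul h2

theorem rhoZ_comm_z {ρ : G} (h : RhoE F ρ) : rhoZ F ρ * F z = F z * rhoZ F ρ := by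
  have h1 := (act_rhoZ h z InE_z).2
  rw [sigZ_z] at h1
  calc rhoZ F ρ * F z = rhoZ F ρ * F z * (rhoZ F ρ)⁻¹ * rhoZ F ρ := by group
    _ = F z * rhoZ F ρ := by rw [h1]

theorem odd_rho {ρ : G} (h : RhoE F ρ) : Odd (orderOf ρ) := by
  obtain ⟨m, hm⟩ := h.ord
  exact (Odd.pow (by decide)).of_dvd_nat (orderOf_dvd_of_pow_eq_one hm)

theorem odd_rhoZ {ρ : G} (h : RhoE F ρ) : Odd (orderOf (rhoZ F ρ)) := by
  have e : rhoZ F ρ = MulAut.conj (rho' F ρ) ρ := rfl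
  rw [e, MulEquiv.orderOf_eq]
  exact odd_rho h

/-- the elements of t-type of `B₈` -/
def InB8t (x : M) : Prop := InE x ∧ TT x ∧ TT (z * x)

instance : DecidablePred InB8t := fun x => by unfold InB8t; infer_instance

theorem B8t_move : ∀ x, InB8t x → x = t ∨ x = t' ∨ sigZ x = t ∨ sigZ x = t' ∨ sigZ (sigZ x) = t ∨
    sigZ (sigZ x) = t' := by decide +kernel

/-- the normalizer of `F(E)` in `C(z)` is transitive on the elements of t-type of `B₈` -/
theorem exists_move (P : Alt S F) {x : M} (hx : InB8t x) :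
    ∃ m : G, m * F z = F z * m ∧ NE F m ∧ NE F m⁻¹ ∧ m * F x * m⁻¹ = F t := by
  obtain ⟨ρ, hρ⟩ := P.rhoE
  have hz := rhoZ_comm_z hρ
  have ha := act_rhoZ hρ
  have ha' : Act F (rhoZ F ρ)⁻¹ (fun x => sigZ (sigZ x)) :=
    ha.inv (fun x hx => ⟨InE_sigZ _ (InE_sigZ _ hx), sigZ_three x hx⟩)
  have hw : F w * F z = F z * F w := by
    rw [← map_mul, ← map_mul, show w * z = z * w by decide]
  have haw := act_F (F := F) w
  have haw' : Act F (F w)⁻¹ (fun x => w⁻¹ * x * w⁻¹⁻¹) := by rw [← map_inv]; exact act_F _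
  -- first into `{t, t'}`
  have h1 : ∃ m : G, m * F z = F z * m ∧ NE F m ∧ NE F m⁻¹ ∧ (m * F x * m⁻¹ = F t ∨ m * F x * m⁻¹ = F t') := by
    rcases B8t_move x hx with h | h | h | h | h | h
    · exact ⟨1, by group, fun x hx => ⟨x, hx, by group⟩, fun x hx => ⟨x, hx, by group⟩, Or.inl (by rw [h]; group)⟩
    · exact ⟨1, by group, fun x hx => ⟨x, hx, by group⟩, fun x hx => ⟨x, hx, by group⟩, Or.inr (by rw [h]; group)⟩
    · exact ⟨_, hz, ha.ne, ha'.ne, Or.inl (by rw [(ha x hx.1).2, h])⟩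
    · exact ⟨_, hz, ha.ne, ha'.ne, Or.inr (by rw [(ha x hx.1).2, h])⟩
    · refine ⟨rhoZ F ρ * rhoZ F ρ, ?_, (ha.mul ha).ne, ?_, Or.inl (by
        rw [((ha.mul ha) x hx.1).2]; show F (sigZ (sigZ x)) = _; rw [h])⟩
      · rw [mul_assoc, hz, ← mul_assoc, hz, mul_assoc]
      · rw [mul_inv_rev]; exact (ha'.mul ha').ne
    · refine ⟨rhoZ F ρ * rhoZ F ρ, ?_, (ha.mul ha).ne, ?_, Or.inr (by
        rw [((ha.mul ha) x hx.1).2]; show F (sigZ (sigZ x)) = _; rw [h])⟩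
      · rw [mul_assoc, hz, ← mul_assoc, hz, mul_assoc]
      · rw [mul_inv_rev]; exact (ha'.mul ha').ne
  obtain ⟨m, h2, h3, h3', h4 | h4⟩ := h1
  · exact ⟨m, h2, h3, h3', h4⟩
  · refine ⟨F w * m, ?_, ?_, ?_, ?_⟩
    · rw [mul_assoc, h2, ← mul_assoc, hw, mul_assoc]
    · intro v hv
      obtain ⟨v', hv', e⟩ := h3 v hv
      obtain ⟨h5, h6⟩ := haw v' hv'
      exact ⟨_, h5, by rw [← h6, e]; group⟩
    · intro v hv
      obtain ⟨h5, h6⟩ := haw' v hv
      obtain ⟨v', hv', e⟩ := h3' _ h5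
      exact ⟨v', hv', by rw [e, ← h6]; group⟩
    · have h5 : F w * m * F x * (F w * m)⁻¹ = F w * (m * F x * m⁻¹) * (F w)⁻¹ := by group
      rw [h5, h4, ← map_mul, ← map_inv, ← map_mul, w_t']

end Cfsg.Agent.LFourA.AltEAct
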