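import Cfsg.Agent.LFourA.AltPsi
import Cfsg.Agent.LFourA.AltEAct
import Cfsg.Agent.Lib.KleinGen
import Cfsg.Agent.Lib.CoreCent

/-!
# Case II: the cores of the centralisers of the involutions of t-type

For `ψ : C(t) → Perm (Fin n)`, `n = 6, 7`:
* `lift` : elements commuting with `ψ (F (pr y b))` lift to elements commuting with `F (pr y b)`;
* `adj` : `O(C(F (pr y y))) ∩ C(F t) ≤ O(C(F t))`;
* `disj` : `O(C(F t')) ∩ C(F t) ≤ O(C(F t))`;
* `gen` : `C(F t)` is generated by `O(C(F t))`, its intersections with `C(F (pr y y))`, `C(F (pr y 1))`, and `F (pr y' 1)`.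
-/

set_option autoImplicit false

namespace Cfsg.Agent.LFourA.AltAdj

open Equiv Equiv.Perm Subgroup Cfsg Cfsg.Agent.LFourA.AltModel Cfsg.Agent.LFourA.AltPat Cfsg.Agent.LFourA.AltNil
  Cfsg.Agent.LFourA.AltPsiStd Cfsg.Agent.LFourA.AltPsi Cfsg.Agent.LFourA.AltNilC Cfsg.Agent.LFourA.AltEAct

/-! ### permutations -/

section perm

variable (n : ℕ) [NeZero n]

/-- `(23)(45)` -/
def v1 : Perm (Fin n) := swap 2 3 * swap 4 5
/-- `(24)(35)` -/
def v2 : Perm (Fin n) := swap 2 4 * swap 3 5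

/-- facts on the symmetric groups -/
structure Fct : Prop where
  f4 : ∀ r : Perm (Fin n), r * swap 0 1 = swap 0 1 * r → r * v1 n = v1 n * r → r * r * (r * r) = 1
  fpa : ∀ r : Perm (Fin n), r * pa n = pa n * r → (r * r * (r * r)) 0 = 0 ∧ (r * r * (r * r)) 1 = 1
  e2 : swap 3 4 * v1 n * (swap 3 4)⁻¹ = v2 n
  e3 : swap 3 5 * v1 n * (swap 3 5)⁻¹ = v1 n * v2 n
  c34 : swap 3 4 * (swap 0 1 : Perm (Fin n)) = swap 0 1 * swap 3 4
  c35 : swap 3 5 * (swap 0 1 : Perm (Fin n)) = swap 0 1 * swap 3 5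
  ptd : pt n * pd n = swap 0 1
  s1 : v1 n * v1 n = 1
  s2 : v2 n * v2 n = 1
  c12 : v1 n * v2 n = v2 n * v1 n
  c1 : v1 n * (swap 0 1 : Perm (Fin n)) = swap 0 1 * v1 n
  c2 : v2 n * (swap 0 1 : Perm (Fin n)) = swap 0 1 * v2 n
  gsw : ∀ i j : Fin n, swap i j * swap 0 1 = swap 0 1 * swap i j ∨ swap i j * swap 4 5 = swap 4 5 * swap i j ∨
    (swap i 2 * swap 4 5 = swap 4 5 * swap i 2 ∧ swap 2 j * swap 0 1 = swap 0 1 * swap 2 j ∧
      swap i j = swap i 2 * swap 2 j * swap i 2) ∨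
    (swap j 2 * swap 4 5 = swap 4 5 * swap j 2 ∧ swap 2 i * swap 0 1 = swap 0 1 * swap 2 i ∧
      swap i j = swap j 2 * swap 2 i * swap j 2)

end perm

/-- table -/
def t6 (a b c : Fin 6) : Fin 6 → Fin 6 := ![a, swap 0 1 a, b, v1 6 b, c, v1 6 c]
/-- table -/
def t7 (a b c d : Fin 7) : Fin 7 → Fin 7 := ![a, swap 0 1 a, b, v1 7 b, c, v1 7 c, d]
/-- table -/
def p6 (a b : Fin 6) : Fin 6 → Fin 6 := ![a, pa 6 a, b, pa 6 b, 4, 5]
/-- table -/
def p7 (a b : Fin 7) : Fin 7 → Fin 7 := ![a, pa 7 a, b, pa 7 b, 4, 5, 6]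

set_option maxRecDepth 100000

theorem val6 : ∀ a b c : Fin 6, swap 0 1 a ≠ a → swap 0 1 b = b → swap 0 1 c = c →
    v1 6 a = a → v1 6 b ≠ b → v1 6 c ≠ c → b ≠ c → b ≠ v1 6 c →
    ∀ x, t6 a b c (t6 a b c (t6 a b c (t6 a b c x))) = x := by
  decide +kernel

theorem val7 : ∀ a b c d : Fin 7, swap 0 1 a ≠ a → swap 0 1 b = b → swap 0 1 c = c → swap 0 1 d = d →
    v1 7 a = a → v1 7 b ≠ b → v1 7 c ≠ c → v1 7 d = d → b ≠ c → b ≠ v1 7 c →
    ∀ x, t7 a b c d (t7 a b c d (t7 a b c d (t7 a b c d x))) = x := by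
  decide +kernel

theorem pal6 : ∀ a b : Fin 6, pa 6 a ≠ a → pa 6 b ≠ b → a ≠ b → a ≠ pa 6 b →
    ∀ x, pa 6 x ≠ x → pa 6 (p6 a b x) ≠ p6 a b x ∧ p6 a b (p6 a b (p6 a b (p6 a b x))) = x := by
  decide +kernel

theorem pal7 : ∀ a b : Fin 7, pa 7 a ≠ a → pa 7 b ≠ b → a ≠ b → a ≠ pa 7 b →
    ∀ x, pa 7 x ≠ x → pa 7 (p7 a b x) ≠ p7 a b x ∧ p7 a b (p7 a b (p7 a b (p7 a b x))) = x := by
  decide +kernel

theorem four6 (r : Perm (Fin 6)) (h1 : r * swap 0 1 = swap 0 1 * r) (h2 : r * v1 6 = v1 6 * r) :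
    r * r * (r * r) = 1 := by
  have e1 : ∀ x, r (swap 0 1 x) = swap 0 1 (r x) := fun x => DFunLike.congr_fun h1 x
  have e2 : ∀ x, r (v1 6 x) = v1 6 (r x) := fun x => DFunLike.congr_fun h2 x
  have hr : ∀ x, r x = t6 (r 0) (r 2) (r 4) x := by
    intro x
    fin_cases x
    · rfl
    · exact e1 0
    · rfl
    · exact e2 2
    · rfl
    · exact e2 4
  have hv := val6 (r 0) (r 2) (r 4) (by rw [← e1]; exact fun h => absurd (r.injective h) (by decide))
    (by rw [← e1]; congr 1) (by rw [← e1]; congr 1) (by rw [← e2]; congr 1)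
    (by rw [← e2]; exact fun h => absurd (r.injective h) (by decide))
    (by rw [← e2]; exact fun h => absurd (r.injective h) (by decide))
    (fun h => absurd (r.injective h) (by decide))
    (by rw [← e2]; exact fun h => absurd (r.injective h) (by decide))
  ext1 x
  change r (r (r (r x))) = x
  rw [hr (r (r (r x))), hr (r (r x)), hr (r x), hr x]
  exact hv x

theorem four7 (r : Perm (Fin 7)) (h1 : r * swap 0 1 = swap 0 1 * r) (h2 : r * v1 7 = v1 7 * r) :
    r * r * (r * r) = 1 := by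
  have e1 : ∀ x, r (swap 0 1 x) = swap 0 1 (r x) := fun x => DFunLike.congr_fun h1 x
  have e2 : ∀ x, r (v1 7 x) = v1 7 (r x) := fun x => DFunLike.congr_fun h2 x
  have hr : ∀ x, r x = t7 (r 0) (r 2) (r 4) (r 6) x := by
    intro x
    fin_cases x
    · rfl
    · exact e1 0
    · rfl
    · exact e2 2
    · rfl
    · exact e2 4
    · rfl
  have hv := val7 (r 0) (r 2) (r 4) (r 6) (by rw [← e1]; exact fun h => absurd (r.injective h) (by decide))
    (by rw [← e1]; congr 1) (by rw [← e1]; congr 1) (by rw [← e1]; congr 1) (by rw [← e2]; congr 1)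
    (by rw [← e2]; exact fun h => absurd (r.injective h) (by decide))
    (by rw [← e2]; exact fun h => absurd (r.injective h) (by decide))
    (by rw [← e2]; congr 1)
    (fun h => absurd (r.injective h) (by decide))
    (by rw [← e2]; exact fun h => absurd (r.injective h) (by decide))
  ext1 x
  change r (r (r (r x))) = x
  rw [hr (r (r (r x))), hr (r (r x)), hr (r x), hr x]
  exact hv x

theorem pf6 (r : Perm (Fin 6)) (h2 : r * pa 6 = pa 6 * r) :
    (r * r * (r * r)) 0 = 0 ∧ (r * r * (r * r)) 1 = 1 := by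
  have e2 : ∀ x, r (pa 6 x) = pa 6 (r x) := fun x => DFunLike.congr_fun h2 x
  have hr : ∀ x, pa 6 x ≠ x → r x = p6 (r 0) (r 2) x := by
    intro x hx
    fin_cases x
    · rfl
    · exact e2 0
    · rfl
    · exact e2 2
    · exact absurd (by decide) hx
    · exact absurd (by decide) hx
  have hv := pal6 (r 0) (r 2)
    (by rw [← e2]; exact fun h => absurd (r.injective h) (by decide))
    (by rw [← e2]; exact fun h => absurd (r.injective h) (by decide))
    (fun h => absurd (r.injective h) (by decide))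
    (by rw [← e2]; exact fun h => absurd (r.injective h) (by decide))
  have key : ∀ x, pa 6 x ≠ x → (r * r * (r * r)) x = x := by
    intro x hx
    have x1 := (hv x hx).1
    have x2 := (hv _ x1).1
    have x3 := (hv _ x2).1
    change r (r (r (r x))) = x
    rw [hr x hx, hr _ x1, hr _ x2, hr _ x3]
    exact (hv x hx).2
  exact ⟨key 0 (by decide), key 1 (by decide)⟩

theorem pf7 (r : Perm (Fin 7)) (h2 : r * pa 7 = pa 7 * r) :
    (r * r * (r * r)) 0 = 0 ∧ (r * r * (r * r)) 1 = 1 := by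
  have e2 : ∀ x, r (pa 7 x) = pa 7 (r x) := fun x => DFunLike.congr_fun h2 x
  have hr : ∀ x, pa 7 x ≠ x → r x = p7 (r 0) (r 2) x := by
    intro x hx
    fin_cases x
    · rfl
    · exact e2 0
    · rfl
    · exact e2 2
    · exact absurd (by decide) hx
    · exact absurd (by decide) hx
    · exact absurd (by decide) hx
  have hv := pal7 (r 0) (r 2)
    (by rw [← e2]; exact fun h => absurd (r.injective h) (by decide))
    (by rw [← e2]; exact fun h => absurd (r.injective h) (by decide))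
    (fun h => absurd (r.injective h) (by decide))
    (by rw [← e2]; exact fun h => absurd (r.injective h) (by decide))
  have key : ∀ x, pa 7 x ≠ x → (r * r * (r * r)) x = x := by
    intro x hx
    have x1 := (hv x hx).1
    have x2 := (hv _ x1).1
    have x3 := (hv _ x2).1
    change r (r (r (r x))) = x
    rw [hr x hx, hr _ x1, hr _ x2, hr _ x3]
    exact (hv x hx).2
  exact ⟨key 0 (by decide), key 1 (by decide)⟩

theorem fct6 : Fct 6 where
  f4 := four6
  fpa := pf6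
  e2 := by decide
  e3 := by decide
  c34 := by decide
  c35 := by decide
  ptd := by decide
  s1 := by decide
  s2 := by decide
  c12 := by decide
  c1 := by decide
  c2 := by decide
  gsw := by decide +kernel

theorem fct7 : Fct 7 where
  f4 := four7
  fpa := pf7
  e2 := by decide
  e3 := by decide
  c34 := by decide
  c35 := by decide
  ptd := by decide
  s1 := by decide
  s2 := by decide
  c12 := by decide
  c1 := by decide
  c2 := by decide
  gsw := by decide +kernel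

/-- elements of odd order are powers of their fourth powers -/
theorem exists_pow_four {X : Type*} [Group X] {x : X} (h : Odd (orderOf x)) : ∃ k : ℕ, (x * x * (x * x)) ^ k = x := by
  have h1 : (orderOf x).Coprime 4 := by
    rw [show (4 : ℕ) = 2 ^ 2 by norm_num]
    exact (Nat.coprime_two_right.2 h).pow_right 2
  obtain ⟨m, hm⟩ := exists_pow_eq_self_of_coprime (n := 4) (x := x) h1.symm
  refine ⟨m, ?_⟩
  have h2 : x * x * (x * x) = x ^ 4 := by rw [← pow_two, ← pow_two, ← pow_mul]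
  rw [h2, hm]

namespace Fct

variable {n : ℕ} [NeZero n] (h : Fct n)

include h

theorem eq_one {r : Perm (Fin n)} (hodd : Odd (orderOf r)) (h1 : r * swap 0 1 = swap 0 1 * r)
    (h2 : r * v1 n = v1 n * r) : r = 1 := by
  obtain ⟨k, hk⟩ := exists_pow_four hodd
  rw [h.f4 r h1 h2, one_pow] at hk
  exact hk.symm

theorem eq_one_conj {r g v : Perm (Fin n)} (hg : g * swap 0 1 = swap 0 1 * g) (hv : g * v1 n * g⁻¹ = v)
    (hodd : Odd (orderOf r)) (h1 : r * swap 0 1 = swap 0 1 * r) (h2 : r * v = v * r) : r = 1 := by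
  have h3 : g⁻¹ * r * g = 1 := by
    apply h.eq_one
    · have : orderOf (g⁻¹ * r * g) = orderOf r := by
        have h4 := (MulAut.conj g⁻¹).orderOf_eq r
        rwa [MulAut.conj_apply, inv_inv] at h4
      rw [this]; exact hodd
    · calc g⁻¹ * r * g * swap 0 1 = g⁻¹ * (r * (g * swap 0 1)) := by group
        _ = g⁻¹ * (r * swap 0 1 * g) := by rw [hg]; group
        _ = g⁻¹ * swap 0 1 * r * g := by rw [h1]; group
        _ = (g⁻¹ * (swap 0 1 * g) * g⁻¹) * r * g := by group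
        _ = swap 0 1 * (g⁻¹ * r * g) := by rw [← hg]; group
    · have h4 : g * v1 n = v * g := by rw [← hv]; group
      calc g⁻¹ * r * g * v1 n = g⁻¹ * (r * (g * v1 n)) := by group
        _ = g⁻¹ * (r * v * g) := by rw [h4]; group
        _ = g⁻¹ * v * r * g := by rw [h2]; group
        _ = (g⁻¹ * (v * g) * g⁻¹) * r * g := by group
        _ = v1 n * (g⁻¹ * r * g) := by rw [← h4]; group
  calc r = g * (g⁻¹ * r * g) * g⁻¹ := by group
    _ = 1 := by rw [h3]; group

/-- an odd group normalised by the four-group is trivial -/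
theorem eq_bot (R : Subgroup (Perm (Fin n))) (hodd : Odd (Nat.card R))
    (hc : ∀ r ∈ R, r * swap 0 1 = swap 0 1 * r) (hn1 : ∀ r ∈ R, v1 n * r * (v1 n)⁻¹ ∈ R)
    (hn2 : ∀ r ∈ R, v2 n * r * (v2 n)⁻¹ ∈ R) : R = ⊥ := by
  have ho : ∀ r ∈ R, Odd (orderOf r) := fun r hr => hodd.of_dvd_nat (Subgroup.orderOf_dvd_natCard _ hr)
  rw [eq_bot_iff]
  apply Cfsg.Agent.Lib.KleinGen.le_of_klein R ⊥ hodd (v1 n) (v2 n) h.s1 h.s2 h.c12 hn1 hn2
  · rintro r ⟨hr, hr2⟩
    have hr2' := mem_centralizer_singleton_iff.1 hr2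
    exact h.eq_one (ho r hr) (hc r hr) hr2'
  · rintro r ⟨hr, hr2⟩
    have hr2' := mem_centralizer_singleton_iff.1 hr2
    exact h.eq_one_conj h.c34 h.e2 (ho r hr) (hc r hr) hr2'
  · rintro r ⟨hr, hr2⟩
    have hr2' := mem_centralizer_singleton_iff.1 hr2
    exact h.eq_one_conj h.c35 h.e3 (ho r hr) (hc r hr) hr2'

theorem comm_swap {r : Perm (Fin n)} (hodd : Odd (orderOf r)) (h1 : r * pa n = pa n * r) :
    r * swap 0 1 = swap 0 1 * r := by
  obtain ⟨k, hk⟩ := exists_pow_four hodd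
  obtain ⟨h2, h3⟩ := h.fpa r h1
  have h4 : Commute (r * r * (r * r)) (swap 0 1) := by
    rw [commute_iff_eq, ← mul_inv_eq_iff_eq_mul, ← Equiv.swap_apply_apply, h2, h3]
  have h5 := h4.pow_left k
  rw [hk] at h5
  exact h5

theorem gen_top (N : Subgroup (Perm (Fin n))) (h1 : ∀ σ : Perm (Fin n), σ * swap 0 1 = swap 0 1 * σ → σ ∈ N)
    (h2 : ∀ σ : Perm (Fin n), σ * swap 4 5 = swap 4 5 * σ → σ ∈ N) (σ : Perm (Fin n)) : σ ∈ N := by
  induction σ using Equiv.Perm.swap_induction_on with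
  | one => exact one_mem _
  | swap_mul f x y _ ih =>
    refine mul_mem ?_ ih
    rcases h.gsw x y with h3 | h3 | ⟨h3, h4, h5⟩ | ⟨h3, h4, h5⟩
    · exact h1 _ h3
    · exact h2 _ h3
    · rw [h5]
      exact mul_mem (mul_mem (h2 _ h3) (h1 _ h4)) (h2 _ h3)
    · rw [h5]
      exact mul_mem (mul_mem (h2 _ h3) (h1 _ h4)) (h2 _ h3)

end Fct

/-! ### cores -/

section core

variable {G : Type*} [Group G] [Finite G]

theorem odd_core (z : G) : Odd (Nat.card (centralizerPPrimeCore 2 z)) :=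
  Nat.not_even_iff_odd.1 (fun h => Lib.CoreCent.core_card 2 z h.two_dvd)

theorem odd_of_core {z x : G} (hx : x ∈ centralizerPPrimeCore 2 z) : Odd (orderOf x) :=
  (odd_core z).of_dvd_nat (Subgroup.orderOf_dvd_natCard _ hx)

theorem conj_core {z x g : G} (hx : x ∈ centralizerPPrimeCore 2 z) (hg : g * z = z * g) :
    g * x * g⁻¹ ∈ centralizerPPrimeCore 2 z :=
  (Subgroup.mem_normalizer_iff.1 (Lib.CoreCent.core_normalized 2 z (mem_centralizer_singleton_iff.2 hg)) x).1 hx

/-- conjugation transports cores -/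
theorem core_transport {z x g z' : G} (hg : g * z * g⁻¹ = z') :
    g * x * g⁻¹ ∈ centralizerPPrimeCore 2 z' ↔ x ∈ centralizerPPrimeCore 2 z := by
  rw [← hg, Lib.CoreCent.core_conj]
  constructor
  · rintro ⟨y, hy, hyx⟩
    have h1 : y = x := (MulAut.conj g).injective hyx
    rwa [← h1]
  · intro hx
    exact ⟨x, hx, rfl⟩

omit [Finite G] in
/-- correcting by an element inverted by the involution `u` -/
theorem comm_of_odd {u x : G} (hu : u * u = 1) (hodd : Odd (orderOf (u * (x * u * x⁻¹)))) :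
    ∃ k : ℕ, ((u * (x * u * x⁻¹)) ^ k * x) * u = u * ((u * (x * u * x⁻¹)) ^ k * x) := by
  set r := u * (x * u * x⁻¹) with hr
  obtain ⟨k, hk'⟩ := hodd
  have hpow : r ^ (2 * k + 1) = 1 := by rw [← hk']; exact pow_orderOf_eq_one r
  have ui : u⁻¹ = u := inv_eq_of_mul_eq_one_left hu
  have huu : (x * u * x⁻¹) * (x * u * x⁻¹) = 1 := by
    calc (x * u * x⁻¹) * (x * u * x⁻¹) = x * (u * u) * x⁻¹ := by group
      _ = 1 := by rw [hu]; group
  have hinv : u * r * u⁻¹ = r⁻¹ := by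
    rw [ui, eq_inv_iff_mul_eq_one, hr]
    calc u * (u * (x * u * x⁻¹)) * u * (u * (x * u * x⁻¹))
        = (u * u) * (x * u * x⁻¹) * (u * u) * (x * u * x⁻¹) := by group
      _ = 1 := by rw [hu, one_mul, mul_one, huu]
  have hinvk : ∀ n : ℕ, u * r ^ n * u⁻¹ = (r ^ n)⁻¹ := by
    intro n
    have : u * r ^ n * u⁻¹ = (u * r * u⁻¹) ^ n := by rw [conj_pow]
    rw [this, hinv, inv_pow]
  refine ⟨k + 1, ?_⟩
  have h1 : x * u = u * r * x := by
    rw [hr, ← mul_assoc u u, hu, one_mul]; group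
  have h3 : r ^ (k + 1) * u = u * (r ^ (k + 1))⁻¹ := by
    rw [← hinvk (k + 1), ← mul_assoc, ← mul_assoc, hu, one_mul, ui]
  calc r ^ (k + 1) * x * u = (r ^ (k + 1) * u) * r * x := by rw [mul_assoc, h1]; group
    _ = u * ((r ^ (k + 1))⁻¹ * r) * x := by rw [h3]; group
    _ = u * (r ^ (k + 1)) * x := by
      congr 2
      rw [inv_mul_eq_iff_eq_mul, ← pow_add]
      have h4 : k + 1 + (k + 1) = (2 * k + 1) + 1 := by ring
      rw [h4, pow_succ, hpow, one_mul]
    _ = u * (r ^ (k + 1) * x) := by group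

end core

/-! ### the centraliser of `t` -/

universe u

variable {G : Type u} [Group G] {S : Sylow 2 G} {F : M →* G} {n : ℕ} [NeZero n]
  {ψ : centralizer ({F t} : Set G) →* Perm (Fin n)}

/-- `F (pr a b)` as an element of `C(t)` -/
def el (F : M →* G) (a b : U) : centralizer ({F t} : Set G) := ⟨F (pr a b), pr_mem F a b⟩

theorem psi_el (hψ : Psi F n ψ) (a b : U) : ψ (el F a b) = (if a.p then pt n else 1) * stdF n b := hψ.val a b _

theorem psi_core (hψ : Psi F n ψ) {x : centralizer ({F t} : Set G)} (hx : (x : G) ∈ centralizerPPrimeCore 2 (F t)) :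
    ψ x = 1 := by
  rw [hψ.ker]
  refine ⟨1, rfl, x, hx, ?_⟩
  change _ = F 1 * _
  rw [map_one, one_mul]

theorem sq_of_p : ∀ v : U, v.p = false → v * v = 1 := by decide

variable [Finite G]

/-- elements of odd order in the kernel of `ψ` lie in the core -/
theorem mem_core_of_psi (hψ : Psi F n ψ) {x : centralizer ({F t} : Set G)} (hx : ψ x = 1)
    (hodd : Odd (orderOf (x : G))) : (x : G) ∈ centralizerPPrimeCore 2 (F t) := by
  obtain ⟨v, hv, o, ho, h1⟩ := (hψ.ker x).1 hx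
  have h2 : F (pr v 1) * F (pr v 1) = 1 := by
    rw [← map_mul, ← map_one F]
    congr 1
    change pr (v * v) 1 = 1
    rw [sq_of_p v hv]; rfl
  have h3 : (x : G) * x ∈ centralizerPPrimeCore 2 (F t) := by
    have h4 : (x : G) * x = (F (pr v 1) * o * (F (pr v 1))⁻¹) * (F (pr v 1) * F (pr v 1)) * o := by
      rw [h1]; group
    rw [h4, h2, mul_one]
    exact mul_mem (conj_core ho (mem_centralizer_singleton_iff.1 (pr_mem F v 1))) ho
  obtain ⟨k, hk⟩ := exists_pow_four hodd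
  rw [← hk]
  exact pow_mem (mul_mem h3 h3) _

/-- **lifting**: elements commuting with `ψ (F (pr y b))` lift to elements commuting with `F (pr y b)` -/
theorem lift (P : Alt S F) (hψ : Psi F n ψ) {b : U} (hb : b * b = 1) {σ : Perm (Fin n)}
    (hσ : σ * ψ (el F U.y b) = ψ (el F U.y b) * σ) :
    ∃ x : centralizer ({F t} : Set G), (x : G) * F (pr U.y b) = F (pr U.y b) * x ∧ ψ x = σ := by
  have hu : F (pr U.y b) * F (pr U.y b) = 1 := by
    rw [← map_mul, ← map_one F]
    congr 1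
    change pr (U.y * U.y) (b * b) = 1
    rw [hb]; rfl
  -- first lift
  obtain ⟨x, hx, v, hv, hxv⟩ : ∃ x : centralizer ({F t} : Set G), ψ x = σ ∧ ∃ v : U, v.p = false ∧
      ∃ o ∈ centralizerPPrimeCore 2 (F t), (x : G) * F (pr U.y b) * (x : G)⁻¹ = F (pr v 1) * o * F (pr U.y b) := by
    obtain ⟨x, hx⟩ := hψ.surj σ
    refine ⟨x, hx, ?_⟩
    have h1 : ψ (x * el F U.y b * x⁻¹ * (el F U.y b)⁻¹) = 1 := by
      rw [map_mul, map_mul, map_mul, map_inv, map_inv, hx, hσ]; group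
    obtain ⟨v, hv, o, ho, h2⟩ := (hψ.ker _).1 h1
    refine ⟨v, hv, o, ho, ?_⟩
    rw [← h2]
    change _ = (x : G) * F (pr U.y b) * (x : G)⁻¹ * (F (pr U.y b))⁻¹ * F (pr U.y b)
    group
  obtain ⟨o, ho, hxv⟩ := hxv
  -- the elements `F (pr a b)` modulo the core
  set O := centralizerPPrimeCore 2 (F t) with hO
  have hcj : ∀ (a' b' : U) (o : G), o ∈ O → F (pr a' b') * o * (F (pr a' b'))⁻¹ ∈ O := fun a' b' o ho =>
    conj_core ho (mem_centralizer_singleton_iff.1 (pr_mem F a' b'))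
  have hone : ∀ a' b' : U, F (pr a' b') ∈ O → a' = 1 ∧ b' = 1 := by
    intro a' b' hm
    have h1 := odd_of_core hm
    rw [orderOf_injective F P.inj] at h1
    have h3 : orderOf (pr a' b') ∣ 128 := by
      have := orderOf_dvd_card (x := pr a' b')
      rwa [card_M] at this
    have h4 : orderOf (pr a' b') = 1 := by
      have h5 : (orderOf (pr a' b')).Coprime 128 := by
        rw [show (128 : ℕ) = 2 ^ 7 by norm_num]
        exact (Nat.coprime_two_right.2 h1).pow_right 7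
      exact Nat.eq_one_of_dvd_coprimes h5 dvd_rfl h3
    have h6 : pr a' b' = pr 1 1 := orderOf_eq_one_iff.1 h4
    exact ⟨congrArg M.a h6, congrArg M.b h6⟩
  -- `v ∈ {1, c}`
  have hvc : v * U.y * (v * U.y) = 1 := by
    have h1 : ((x : G) * F (pr U.y b) * (x : G)⁻¹) * ((x : G) * F (pr U.y b) * (x : G)⁻¹) = 1 := by
      calc _ = (x : G) * (F (pr U.y b) * F (pr U.y b)) * (x : G)⁻¹ := by group
        _ = 1 := by rw [hu]; group
    rw [hxv] at h1
    have h2 : F (pr (v * U.y * (v * U.y)) 1) ∈ O := by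
      have h3 : F (pr (v * U.y * (v * U.y)) 1) = F (pr v 1) * F (pr U.y b) * (F (pr v 1) * F (pr U.y b)) := by
        rw [← map_mul, ← map_mul]
        congr 1
        change pr (v * U.y * (v * U.y)) 1 = pr (v * U.y * (v * U.y)) (1 * b * (1 * b))
        rw [one_mul, hb]
      have h4 : F (pr v 1) * F (pr U.y b) * (F (pr v 1) * F (pr U.y b)) =
          (F (pr v 1) * o * F (pr U.y b) * (F (pr v 1) * o * F (pr U.y b))) *
          ((F (pr v 1) * o * F (pr U.y b) * F (pr v 1) * o * F (pr U.y b))⁻¹ *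
            (F (pr v 1) * F (pr U.y b) * (F (pr v 1) * F (pr U.y b)))) := by group
      have h5 : (F (pr v 1) * o * F (pr U.y b) * F (pr v 1) * o * F (pr U.y b))⁻¹ *
            (F (pr v 1) * F (pr U.y b) * (F (pr v 1) * F (pr U.y b))) =
          ((F (pr U.y b))⁻¹ * o⁻¹ * F (pr U.y b)) * ((F (pr U.y b))⁻¹ * ((F (pr v 1))⁻¹ * ((F (pr U.y b))⁻¹ *
            o⁻¹ * F (pr U.y b)) * F (pr v 1)) * F (pr U.y b)) := by group
      have h6 : ∀ (a' b' : U) (o : G), o ∈ O → (F (pr a' b'))⁻¹ * o * F (pr a' b') ∈ O := by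
        intro a' b' o ho
        have := hcj a'⁻¹ b'⁻¹ o ho
        have e : F (pr a'⁻¹ b'⁻¹) = (F (pr a' b'))⁻¹ := by rw [← map_inv]; rfl
        rwa [e, inv_inv] at this
      rw [h3, h4, h1, one_mul, h5]
      exact mul_mem (h6 _ _ _ (inv_mem ho)) (h6 _ _ _ (h6 _ _ _ (h6 _ _ _ (inv_mem ho))))
    exact (hone _ _ h2).1
  -- correct by `y'`
  obtain ⟨x, hx, o, ho, hxo⟩ : ∃ x : centralizer ({F t} : Set G), ψ x = σ ∧ ∃ o ∈ O,
      (x : G) * F (pr U.y b) * (x : G)⁻¹ = o * F (pr U.y b) := by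
    have hv2 : v = 1 ∨ v = U.c := by
      clear * - hv hvc
      revert v; decide
    rcases hv2 with rfl | rfl
    · refine ⟨x, hx, o, ho, ?_⟩
      rw [hxv]
      change F 1 * o * _ = _
      rw [map_one, one_mul]
    · refine ⟨el F U.y' 1 * x, ?_, F (pr (U.y' * U.c) 1) * o * (F (pr (U.y' * U.c) 1))⁻¹, hcj _ _ _ ho, ?_⟩
      · rw [map_mul, psi_el hψ, stdF_one, hx]
        change (if false = true then pt n else 1) * 1 * σ = σ
        simp
      · change F (pr U.y' 1) * x * F (pr U.y b) * (F (pr U.y' 1) * (x : G))⁻¹ = _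
        have h1 : F (pr U.y' 1) * x * F (pr U.y b) * (F (pr U.y' 1) * (x : G))⁻¹ =
            F (pr U.y' 1) * (x * F (pr U.y b) * (x : G)⁻¹) * (F (pr U.y' 1))⁻¹ := by group
        rw [h1, hxv]
        have h2 : F (pr (U.y' * U.c) 1) = F (pr U.y' 1) * F (pr U.c 1) := by rw [← map_mul]; rfl
        have h3 : F (pr U.y b) * (F (pr U.y' 1))⁻¹ = (F (pr (U.y' * U.c) 1))⁻¹ * F (pr U.y b) := by
          rw [← map_inv, ← map_inv, ← map_mul, ← map_mul]
          congr 1
          clear * -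
          revert b; decide
        calc F (pr U.y' 1) * (F (pr U.c 1) * o * F (pr U.y b)) * (F (pr U.y' 1))⁻¹ =
            (F (pr U.y' 1) * F (pr U.c 1)) * o * (F (pr U.y b) * (F (pr U.y' 1))⁻¹) := by group
          _ = _ := by rw [h3, ← h2]; group
  -- final correction by an element of the core
  have hr : F (pr U.y b) * ((x : G) * F (pr U.y b) * (x : G)⁻¹) ∈ O := by
    rw [hxo]
    have h1 : F (pr U.y b) * (o * F (pr U.y b)) = F (pr U.y b) * o * (F (pr U.y b))⁻¹ * (F (pr U.y b) * F (pr U.y b)) := by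
      group
    rw [h1, hu, mul_one]
    exact hcj _ _ _ ho
  obtain ⟨k, hk⟩ := comm_of_odd hu (odd_of_core hr)
  have hrC : F (pr U.y b) * ((x : G) * F (pr U.y b) * (x : G)⁻¹) ∈ centralizer ({F t} : Set G) :=
    Lib.CoreCent.core_le 2 _ hr
  refine ⟨⟨_, hrC⟩ ^ k * x, hk, ?_⟩
  rw [map_mul, map_pow, psi_core hψ hr, one_pow, one_mul, hx]

omit [Finite G] in
theorem psi_yy (hψ : Psi F n ψ) (hF : Fct n) : ψ (el F U.y U.y) = swap 0 1 := by
  rw [psi_el hψ, stdF_y, if_pos (by rfl), hF.ptd]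

omit [Finite G] in
theorem psi_y1 (hψ : Psi F n ψ) : ψ (el F U.y 1) = swap 4 5 := by
  rw [psi_el hψ, stdF_one, if_pos (by rfl), mul_one, pt]

omit [Finite G] in
theorem psi_1c (hψ : Psi F n ψ) : ψ (el F 1 U.c) = pa n := by
  rw [psi_el hψ, stdF_c, if_neg (by decide), one_mul]

/-- **adjacent pairs** -/
theorem adj (P : Alt S F) (hψ : Psi F n ψ) (hF : Fct n) {x : G}
    (hx : x ∈ centralizerPPrimeCore 2 (F (pr U.y U.y))) (hxt : x * F t = F t * x) :
    x ∈ centralizerPPrimeCore 2 (F t) := by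
  let A : Subgroup (centralizer ({F t} : Set G)) :=
    (centralizerPPrimeCore 2 (F (pr U.y U.y))).subgroupOf (centralizer ({F t} : Set G))
  have hA : Odd (Nat.card (A.map ψ)) := by
    have h1 : Nat.card A = Nat.card (A.map (centralizer ({F t} : Set G)).subtype) :=
      (card_map_of_injective (subtype_injective _)).symm
    have h2 : A.map (centralizer ({F t} : Set G)).subtype ≤ centralizerPPrimeCore 2 (F (pr U.y U.y)) := by
      rintro _ ⟨a, ha, rfl⟩
      exact ha
    have h3 : Nat.card A ∣ Nat.card (centralizerPPrimeCore 2 (F (pr U.y U.y))) := by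
      rw [h1]; exact Subgroup.card_dvd_of_le h2
    exact Odd.of_dvd_nat (odd_core (F (pr U.y U.y))) ((Subgroup.card_map_dvd A ψ).trans h3)
  have hconj : ∀ v : Perm (Fin n), v * swap 0 1 = swap 0 1 * v → ∀ r ∈ A.map ψ, v * r * v⁻¹ ∈ A.map ψ := by
    rintro v hv _ ⟨a, ha, rfl⟩
    obtain ⟨c, hc, rfl⟩ := lift P hψ (b := U.y) (by decide) (σ := v) (by rw [psi_yy hψ hF, hv])
    refine ⟨c * a * c⁻¹, ?_, by rw [map_mul, map_mul, map_inv]⟩
    exact conj_core (g := (c : G)) ha hc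
  have hR : A.map ψ = ⊥ := by
    apply hF.eq_bot _ hA
    · rintro _ ⟨a, ha, rfl⟩
      rw [← psi_yy hψ hF, ← map_mul, ← map_mul]
      congr 1
      apply Subtype.ext
      exact mem_centralizer_singleton_iff.1 (Lib.CoreCent.core_le 2 _ ha)
    · exact hconj _ hF.c1
    · exact hconj _ hF.c2
  have hxC : x ∈ centralizer ({F t} : Set G) := mem_centralizer_singleton_iff.2 hxt
  have h1 : ψ ⟨x, hxC⟩ = 1 := by
    have h2 : ψ ⟨x, hxC⟩ ∈ A.map ψ := ⟨⟨x, hxC⟩, hx, rfl⟩
    rw [hR] at h2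
    exact h2
  exact mem_core_of_psi hψ h1 (odd_of_core hx)

theorem word_t : sig' (sig' (sig t)) = pr U.y U.y := by decide
theorem word_yy : sig' (sig' (sig (pr U.y U.y))) = t' := by decide

omit [Finite G] in
/-- an element moving `t` to `(y, y)` to `t'` -/
theorem exists_word (P : Alt S F) : ∃ g : G, g * F t * g⁻¹ = F (pr U.y U.y) ∧ g * F (pr U.y U.y) * g⁻¹ = F t' := by
  obtain ⟨ρ, hρ⟩ := P.rhoE
  have h1 := act_rho' hρ
  have h2 : Act F (rho' F ρ)⁻¹ (fun x => sig' (sig' x)) :=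
    h1.inv (fun x hx => ⟨InE_sig' _ (InE_sig' _ hx), sig'_three x hx⟩)
  have h3 := h2.mul (act_rho hρ)
  refine ⟨_, (h3 t InE_t).2.trans ?_, (h3 (pr U.y U.y) (by decide)).2.trans ?_⟩
  · exact congrArg F word_t
  · exact congrArg F word_yy

theorem t'_comm : pr U.y U.y * t' = t' * pr U.y U.y := by decide

/-- **disjoint pairs** -/
theorem disj (P : Alt S F) (hψ : Psi F n ψ) (hF : Fct n) {x : G} (hx : x ∈ centralizerPPrimeCore 2 (F t'))
    (hxt : x * F t = F t * x) : x ∈ centralizerPPrimeCore 2 (F t) := by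
  set u := F (pr U.y U.y) with hu
  have huu : u * u = 1 := by
    rw [hu, ← map_mul, ← map_one F]
    congr 1
  have hui : u⁻¹ = u := inv_eq_of_mul_eq_one_left huu
  have hxC : x ∈ centralizer ({F t} : Set G) := mem_centralizer_singleton_iff.2 hxt
  have huC : u ∈ centralizer ({F t} : Set G) := pr_mem F _ _
  have hut : u * F t' = F t' * u := by rw [hu, ← map_mul, ← map_mul, t'_comm]
  have hodd := odd_of_core hx
  have h1 : ψ ⟨x, hxC⟩ * swap 0 1 = swap 0 1 * ψ ⟨x, hxC⟩ := by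
    apply hF.comm_swap
    · refine Odd.of_dvd_nat ?_ (orderOf_map_dvd ψ _)
      rw [orderOf_mk]; exact hodd
    · rw [← psi_1c hψ, ← map_mul, ← map_mul]
      congr 1
      apply Subtype.ext
      exact mem_centralizer_singleton_iff.1 (Lib.CoreCent.core_le 2 _ hx)
  have hrm : u * (x * u * x⁻¹) ∈ centralizerPPrimeCore 2 (F t') := by
    have h2 : u * (x * u * x⁻¹) = u * x * u⁻¹ * x⁻¹ := by rw [hui]; group
    rw [h2]
    exact mul_mem (conj_core hx hut) (inv_mem hx)
  have hrC : u * (x * u * x⁻¹) ∈ centralizer ({F t} : Set G) := mul_mem huC (mul_mem (mul_mem hxC huC) (inv_mem hxC))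
  have hrt : u * (x * u * x⁻¹) ∈ centralizerPPrimeCore 2 (F t) := by
    refine mem_core_of_psi (x := ⟨_, hrC⟩) hψ ?_ (odd_of_core hrm)
    have h2 : (⟨_, hrC⟩ : centralizer ({F t} : Set G)) = el F U.y U.y * (⟨x, hxC⟩ * el F U.y U.y *
      (⟨x, hxC⟩ : centralizer ({F t} : Set G))⁻¹) := rfl
    rw [h2, map_mul, map_mul, map_mul, map_inv, psi_yy hψ hF, h1, mul_inv_cancel_right, Equiv.swap_mul_self]
  obtain ⟨k, hk⟩ := comm_of_odd huu (odd_of_core hrm)
  set r := u * (x * u * x⁻¹) with hr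
  have hc : r ^ k * x ∈ centralizerPPrimeCore 2 (F t') := mul_mem (pow_mem hrm k) hx
  have hcu : r ^ k * x ∈ centralizerPPrimeCore 2 u := by
    obtain ⟨g, hg1, hg2⟩ := exists_word P
    rw [← hu] at hg1 hg2
    set c := r ^ k * x with hcd
    have h2 : g⁻¹ * c * g ∈ centralizerPPrimeCore 2 u := by
      rw [← core_transport hg2]
      have : g * (g⁻¹ * c * g) * g⁻¹ = c := by group
      rwa [this]
    have h3 : (g⁻¹ * c * g) * F t = F t * (g⁻¹ * c * g) := by
      have h4 : F t = g⁻¹ * u * g := by rw [← hg1]; group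
      calc (g⁻¹ * c * g) * F t = g⁻¹ * (c * u) * g := by rw [h4]; group
        _ = g⁻¹ * (u * c) * g := by rw [hk]
        _ = F t * (g⁻¹ * c * g) := by rw [h4]; group
    have h4 := adj P hψ hF h2 h3
    rw [← core_transport hg1] at h4
    have : g * (g⁻¹ * c * g) * g⁻¹ = c := by group
    rwa [this] at h4
  have hct : r ^ k * x ∈ centralizerPPrimeCore 2 (F t) :=
    adj P hψ hF hcu (mem_centralizer_singleton_iff.1 (mul_mem (pow_mem hrC k) hxC))
  have : x = (r ^ k)⁻¹ * (r ^ k * x) := by group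
  rw [this]
  exact mul_mem (inv_mem (pow_mem hrt k)) hct

/-- **generation** -/
theorem gen (P : Alt S F) (hψ : Psi F n ψ) (hF : Fct n) (N : Subgroup G)
    (hO : centralizerPPrimeCore 2 (F t) ≤ N)
    (h1 : centralizer ({F t} : Set G) ⊓ centralizer ({F (pr U.y U.y)} : Set G) ≤ N)
    (h2 : centralizer ({F t} : Set G) ⊓ centralizer ({F (pr U.y 1)} : Set G) ≤ N) (h3 : F (pr U.y' 1) ∈ N) :
    centralizer ({F t} : Set G) ≤ N := by
  intro x hx
  have hall : ψ ⟨x, hx⟩ ∈ (N.subgroupOf (centralizer ({F t} : Set G))).map ψ := by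
    apply hF.gen_top
    · intro σ hσ
      obtain ⟨c, hc, rfl⟩ := lift P hψ (b := U.y) (by decide) (σ := σ) (by rw [psi_yy hψ hF, hσ])
      exact ⟨c, h1 ⟨c.2, mem_centralizer_singleton_iff.2 hc⟩, rfl⟩
    · intro σ hσ
      obtain ⟨c, hc, rfl⟩ := lift P hψ (b := 1) (by decide) (σ := σ) (by rw [psi_y1 hψ, hσ])
      exact ⟨c, h2 ⟨c.2, mem_centralizer_singleton_iff.2 hc⟩, rfl⟩
  obtain ⟨m, hm, hmx⟩ := hall
  have h4 : ψ (m⁻¹ * ⟨x, hx⟩) = 1 := by rw [map_mul, map_inv, hmx, inv_mul_cancel]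
  obtain ⟨v, hv, o, ho, h5⟩ := (hψ.ker _).1 h4
  change (m : G)⁻¹ * x = F (pr v 1) * o at h5
  have h6 : x = m * (F (pr v 1) * o) := by rw [← h5]; group
  have hc : F (pr U.c 1) ∈ N := by
    apply h1
    refine ⟨pr_mem F _ _, mem_centralizer_singleton_iff.2 ?_⟩
    rw [← map_mul, ← map_mul]
    congr 1
  have hvN : F (pr v 1) ∈ N := by
    have h7 : v = 1 ∨ v = U.c ∨ v = U.y' ∨ v = U.y' * U.c := by
      clear * - hv
      revert v; decide
    rcases h7 with rfl | rfl | rfl | rfl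
    · have : F (pr 1 1) = 1 := map_one F
      rw [this]; exact one_mem _
    · exact hc
    · exact h3
    · have : F (pr (U.y' * U.c) 1) = F (pr U.y' 1) * F (pr U.c 1) := by rw [← map_mul]; rfl
      rw [this]; exact mul_mem h3 hc
  rw [h6]
  exact mul_mem hm (mul_mem hvN (hO ho))

end Cfsg.Agent.LFourA.AltAdj
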