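import Mathlib
import Cfsg.Agent.Lib.KFamily
import Cfsg.Agent.Lib.TwoClassEnd

/-!
# Case II: the cores are trivial (abstract form)

`E` is elementary abelian of order 16 with a set `T` of "t-type" elements meeting every four-group of `E`, such that
`O(C(d)) ∩ C(e) ≤ O(C(e))` for `d ∈ T`, `e ∈ E`, `e ≠ 1`. The 2-balanced functor gives `W` with `C_W(d) = O(C(d))` for
`d ∈ T`; `N(V) ≤ N(W)` for every four-group `V` with `V # ⊆ T`. `Inp` is the situation of the type `ALT`, and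
`core_eq_bot` says that `O(C(t)) = 1`.
-/

set_option autoImplicit false

namespace Cfsg.Agent.LFourA.AltFunct

open Subgroup Cfsg
open Cfsg.Agent.Lib.KFamily Cfsg.Agent.SignalizersComponents Cfsg.Agent.Dichotomy.CoreTools

variable {G : Type*} [Group G]

section first

/-- the abstract situation -/
structure TF (E : Subgroup G) (T : Set G) : Prop where
  elem : IsElementaryAbelian 2 E
  card : Nat.card E = 16
  sub : ∀ d ∈ T, d ∈ E ∧ d ≠ 1
  hit : ∀ D ≤ E, Nat.card D = 4 → ∃ d ∈ D, d ∈ T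
  bal : ∀ d ∈ T, ∀ e ∈ E, e ≠ 1 →
    centralizerPPrimeCore 2 d ⊓ centralizer ({e} : Set G) ≤ centralizerPPrimeCore 2 e
  solv : ∀ e ∈ E, e ≠ 1 → Group.IsSolvable ↥(centralizerPPrimeCore 2 e)

variable {E : Subgroup G} {T : Set G}

theorem TF.comm (h : TF E T) {a b : G} (ha : a ∈ E) (hb : b ∈ E) : a * b = b * a :=
  congrArg Subtype.val (h.elem.1.is_comm.comm (⟨a, ha⟩ : E) ⟨b, hb⟩)

theorem TF.le_centralizer (h : TF E T) {a : G} (ha : a ∈ E) : E ≤ centralizer ({a} : Set G) := fun _ hb =>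
  mem_centralizer_singleton_iff.2 (h.comm hb ha)

/-- the completion -/
def W (E : Subgroup G) : Subgroup G := WW (signalizerDelta 2) E (2 ^ 2)

variable [Finite G]

theorem TF.fam (h : TF E T) : Fam 2 2 E (centralizerPPrimeCore 2) (signalizerDelta 2) := by
  haveI : Fact (Nat.Prime 2) := ⟨Nat.prime_two⟩
  refine ofDelta (by norm_num) h.elem (by rw [h.card]; norm_num) h.solv ?_
  intro D hD hc e he he1
  obtain ⟨d, hd, hdT⟩ := h.hit D hD hc
  refine le_trans (inf_le_inf_right _ ?_) (h.bal d hdT e he he1)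
  exact Cfsg.Agent.S1299.delta_le 2 hd (h.sub d hdT).2

theorem TF.odd (h : TF E T) : ¬ 2 ∣ Nat.card (W E) := h.fam.odd

theorem TF.core_le (h : TF E T) {d : G} (hd : d ∈ T) : centralizerPPrimeCore 2 d ≤ W E := by
  haveI : Fact (Nat.Prime 2) := ⟨Nat.prime_two⟩
  refine h.fam.le_of_hyperplane (core_card 2 d) le_rfl (by rw [h.card]; norm_num)
    ((h.le_centralizer (h.sub d hd).1).trans (core_normalized 2 d)) ?_
  rintro D hD hc x ⟨hx1, hx2⟩
  refine mem_iInf.2 ?_
  rintro ⟨a, ha, ha1⟩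
  refine h.bal d hd a (hD ha) ha1 ⟨hx1, ?_⟩
  refine mem_centralizer_singleton_iff.2 ?_
  exact (mem_centralizer_iff.1 hx2 a ha).symm

theorem TF.inf_le (h : TF E T) {e : G} (he : e ∈ E) (he1 : e ≠ 1) :
    W E ⊓ centralizer ({e} : Set G) ≤ centralizerPPrimeCore 2 e := h.fam.inf_singleton_le he he1

theorem TF.normalizer_le (h : TF E T) : normalizer (E : Set G) ≤ normalizer (W E : Set G) := by
  haveI : Fact (Nat.Prime 2) := ⟨Nat.prime_two⟩
  exact h.fam.normalizer_le (delta_equi 2) le_rfl (by rw [h.card]; norm_num)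

theorem TF.E_le (h : TF E T) : E ≤ normalizer (W E : Set G) := le_normalizer.trans h.normalizer_le

/-- generation by a t-pure four-group -/
theorem TF.le_gen (h : TF E T) {V : Subgroup G} (hV : V ≤ E) (hc : Nat.card V = 4) {N : Subgroup G}
    (hN : ¬ 2 ∣ Nat.card N) (hVN : V ≤ normalizer (N : Set G)) {M : Subgroup G}
    (hM : ∀ v ∈ V, v ≠ 1 → N ⊓ centralizer ({v} : Set G) ≤ M) : N ≤ M := by
  haveI : Fact (Nat.Prime 2) := ⟨Nat.prime_two⟩
  refine (CoprimeGen.le_iSup_centralizer_ne_one (CoprimeGen.isElementaryAbelian_mono h.elem hV)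
    (by rw [hc]; norm_num) hN hVN).trans ?_
  refine iSup_le ?_
  rintro ⟨v, hv, hv1⟩
  exact hM v hv hv1

/-- `N(V) ≤ N(W)` for a t-pure four-group `V` -/
theorem TF.normalizer_four (h : TF E T) {V : Subgroup G} (hV : V ≤ E) (hc : Nat.card V = 4)
    (hT : ∀ v ∈ V, v ≠ 1 → v ∈ T) : normalizer (V : Set G) ≤ normalizer (W E : Set G) := by
  haveI : Fact (Nat.Prime 2) := ⟨Nat.prime_two⟩
  intro n hn
  have hVn : V.map (MulAut.conj n).toMonoidHom = V := mem_normalizer_iff_map_conj_eq.1 hn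
  have key : (W E).map (MulAut.conj n).toMonoidHom ≤ W E := by
    rw [map_le_iff_le_comap]
    refine h.le_gen hV hc h.odd (hV.trans h.E_le) ?_
    intro v hv hv1 x hx
    have h1 := h.inf_le (hV hv) hv1 hx
    have h2 : n * v * n⁻¹ ∈ V := by
      rw [← hVn]
      exact ⟨v, hv, rfl⟩
    have h3 : n * v * n⁻¹ ≠ 1 := by
      intro e
      exact hv1 (conj_eq_one_iff.1 e)
    apply h.core_le (hT _ h2 h3)
    rw [core_conj]
    exact ⟨x, h1, rfl⟩
  rw [mem_normalizer_iff_map_conj_eq]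
  exact eq_of_le_of_card_ge key (by rw [card_map_of_injective (MulAut.conj n).injective])

end first

/-! ### the situation of the type `ALT` -/

section second

/-- the element `t_ij` -/
def tt (u : Fin 5 → G) (i j : Fin 5) : G := u i * u j
/-- the element `z_5` -/
def zz (u : Fin 5 → G) : G := u 0 * u 1 * u 2 * u 3

/-- `u 0, u 1, u 2, u 3` generate `E`, `u 4 = 1`; `t_ij = u i * u j` -/
structure Inp (S : Sylow 2 G) (E : Subgroup G) (u : Fin 5 → G) : Prop where
  elem : IsElementaryAbelian 2 E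
  card : Nat.card E = 16
  mem : ∀ i, u i ∈ E
  four : u 4 = 1
  ne : ∀ i j, i ≠ j → tt u i j ≠ 1
  zne : zz u ≠ 1
  cover : ∀ e ∈ E, e = 1 ∨ (∃ i j, i ≠ j ∧ e = tt u i j) ∨ ∃ m, e = zz u * u m
  /-- all permutations of the five indices are induced by elements of `G` -/
  perm : ∀ σ : Equiv.Perm (Fin 5), ∃ n : G, ∀ i j, n * tt u i j * n⁻¹ = tt u (σ i) (σ j)
  adj : centralizerPPrimeCore 2 (tt u 0 2) ⊓ centralizer ({tt u 0 1} : Set G) ≤ centralizerPPrimeCore 2 (tt u 0 1)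
  disj : centralizerPPrimeCore 2 (tt u 2 3) ⊓ centralizer ({tt u 0 1} : Set G) ≤ centralizerPPrimeCore 2 (tt u 0 1)
  bz1 : centralizerPPrimeCore 2 (tt u 0 1) ⊓ centralizer ({zz u} : Set G) ≤ centralizerPPrimeCore 2 (zz u)
  bz2 : centralizerPPrimeCore 2 (tt u 0 4) ⊓ centralizer ({zz u} : Set G) ≤ centralizerPPrimeCore 2 (zz u)
  gen : ∀ M : Subgroup G, centralizerPPrimeCore 2 (tt u 0 1) ≤ M → normalizer (E : Set G) ≤ M →
    (∀ g, g * tt u 0 1 = tt u 0 1 * g → g * tt u 0 2 = tt u 0 2 * g → g ∈ M) →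
    (∀ g, g * tt u 0 1 = tt u 0 1 * g → g * tt u 0 4 = tt u 0 4 * g → g ∈ M) →
    centralizer ({tt u 0 1} : Set G) ≤ M
  cz : ∀ M : Subgroup G, centralizerPPrimeCore 2 (zz u) ≤ M → normalizer (E : Set G) ≤ M →
    centralizer ({zz u} : Set G) ≤ M
  nS : normalizer ((S : Subgroup G) : Set G) ≤ centralizer ({zz u} : Set G)
  cls : ∀ M : Subgroup G, normalizer (E : Set G) ≤ M → centralizer ({tt u 0 1} : Set G) ≤ M →
    centralizer ({zz u} : Set G) ≤ M → ∀ v ∈ (S : Subgroup G), orderOf v = 2 →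
      ∃ m ∈ M, m * tt u 0 1 * m⁻¹ = v ∨ m * zz u * m⁻¹ = v
  ntz : ¬ IsConj (tt u 0 1) (zz u)
  solv : ∀ e ∈ E, e ≠ 1 → Group.IsSolvable ↥(centralizerPPrimeCore 2 e)

variable {S : Sylow 2 G} {E : Subgroup G} {u : Fin 5 → G}

namespace Inp

variable (h : Inp S E u)

include h

theorem comm {a b : G} (ha : a ∈ E) (hb : b ∈ E) : a * b = b * a :=
  congrArg Subtype.val (h.elem.1.is_comm.comm (⟨a, ha⟩ : E) ⟨b, hb⟩)

theorem sq {a : G} (ha : a ∈ E) : a * a = 1 := by
  have := h.elem.2 a ha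
  rwa [pow_two] at this

theorem tt_mem (i j : Fin 5) : tt u i j ∈ E := mul_mem (h.mem i) (h.mem j)

theorem zz_mem : zz u ∈ E := mul_mem (mul_mem (mul_mem (h.mem 0) (h.mem 1)) (h.mem 2)) (h.mem 3)

theorem tt_symm (i j : Fin 5) : tt u i j = tt u j i := h.comm (h.mem i) (h.mem j)

/-- `z_m` as a product of two `t`s -/
theorem zz_eq (σ : Equiv.Perm (Fin 5)) : zz u * u (σ 4) = tt u (σ 0) (σ 1) * tt u (σ 2) (σ 3) := by
  have : IsMulCommutative E := h.elem.1
  letI : CommGroup E := { (inferInstance : Group E) with mul_comm := this.is_comm.comm }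
  let v : Fin 5 → E := fun i => ⟨u i, h.mem i⟩
  have h1 : ∏ i, v (σ i) = ∏ i, v i := Equiv.prod_comp σ v
  rw [Fin.prod_univ_five, Fin.prod_univ_five] at h1
  have h2 := congrArg Subtype.val h1
  have h3 : u (σ 0) * u (σ 1) * u (σ 2) * u (σ 3) * u (σ 4) = u 0 * u 1 * u 2 * u 3 * u 4 := h2
  rw [h.four, mul_one] at h3
  have h4 := h.sq (h.mem (σ 4))
  rw [zz, ← h3, mul_assoc, h4, mul_one, tt, tt, mul_assoc, mul_assoc]

/-- action on the elements of `z`-type -/
theorem conj_zz {n : G} {σ : Equiv.Perm (Fin 5)} (hn : ∀ i j, n * tt u i j * n⁻¹ = tt u (σ i) (σ j)) (m : Fin 5) :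
    n * (zz u * u m) * n⁻¹ = zz u * u (σ m) := by
  have h1 := h.zz_eq (Equiv.swap m 4)
  have h2 := h.zz_eq ((Equiv.swap m 4).trans σ)
  rw [Equiv.swap_apply_right] at h1
  rw [Equiv.trans_apply, Equiv.swap_apply_right] at h2
  rw [h1, h2]
  calc n * (tt u (Equiv.swap m 4 0) (Equiv.swap m 4 1) * tt u (Equiv.swap m 4 2) (Equiv.swap m 4 3)) * n⁻¹ =
      (n * tt u (Equiv.swap m 4 0) (Equiv.swap m 4 1) * n⁻¹) *
        (n * tt u (Equiv.swap m 4 2) (Equiv.swap m 4 3) * n⁻¹) := by group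
    _ = _ := by rw [hn, hn]; rfl

theorem conj_mem {n : G} {σ : Equiv.Perm (Fin 5)} (hn : ∀ i j, n * tt u i j * n⁻¹ = tt u (σ i) (σ j)) {e : G}
    (he : e ∈ E) : n * e * n⁻¹ ∈ E := by
  rcases h.cover e he with rfl | ⟨i, j, -, rfl⟩ | ⟨m, rfl⟩
  · rw [mul_one, mul_inv_cancel]; exact one_mem _
  · rw [hn]; exact h.tt_mem _ _
  · rw [h.conj_zz hn]; exact mul_mem h.zz_mem (h.mem _)

theorem zz_four : zz u * u 4 = zz u := by rw [h.four, mul_one]

variable [Finite G]

theorem mem_normalizer {n : G} {σ : Equiv.Perm (Fin 5)} (hn : ∀ i j, n * tt u i j * n⁻¹ = tt u (σ i) (σ j)) :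
    n ∈ normalizer (E : Set G) := by
  rw [mem_normalizer_iff_map_conj_eq]
  refine eq_of_le_of_card_ge ?_ (by rw [card_map_of_injective (MulAut.conj n).injective])
  rintro _ ⟨e, he, rfl⟩
  exact h.conj_mem hn he

/-- transport of balance -/
theorem transport {a b n : G} (hb : centralizerPPrimeCore 2 a ⊓ centralizer ({b} : Set G) ≤ centralizerPPrimeCore 2 b) :
    centralizerPPrimeCore 2 (n * a * n⁻¹) ⊓ centralizer ({n * b * n⁻¹} : Set G) ≤
      centralizerPPrimeCore 2 (n * b * n⁻¹) := by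
  rw [core_conj, core_conj, ← centralizer_conj]
  rintro x ⟨⟨y, hy, rfl⟩, ⟨y', hy', e⟩⟩
  have h1 : y' = y := (MulAut.conj n).injective e
  subst h1
  exact ⟨y', hb ⟨hy, hy'⟩, rfl⟩

end Inp

theorem perm_three : ∀ i j m : Fin 5, i ≠ j → i ≠ m → j ≠ m →
    ∃ σ : Equiv.Perm (Fin 5), σ 0 = i ∧ σ 1 = j ∧ σ 4 = m := by decide +kernel

theorem perm_two : ∀ i m : Fin 5, i ≠ m → ∃ σ : Equiv.Perm (Fin 5), σ 0 = i ∧ σ 4 = m := by decide +kernel

theorem perm_pairs : ∀ i j k l : Fin 5, i ≠ j → k ≠ l → ((i = k ∧ j = l) ∨ (i = l ∧ j = k)) ∨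
    (∃ σ : Equiv.Perm (Fin 5), ((σ 0 = i ∧ σ 2 = j) ∨ (σ 0 = j ∧ σ 2 = i)) ∧ ((σ 0 = k ∧ σ 1 = l) ∨ (σ 0 = l ∧ σ 1 = k))) ∨
    ∃ σ : Equiv.Perm (Fin 5), (σ 2 = i ∧ σ 3 = j) ∧ (σ 0 = k ∧ σ 1 = l) := by decide +kernel

/-- the four-group `{1, a, b, ab}` -/
def fourG (a b : G) (ha : a * a = 1) (hb : b * b = 1) (hab : a * b = b * a) : Subgroup G where
  carrier := {x | x = 1 ∨ x = a ∨ x = b ∨ x = a * b}
  one_mem' := Or.inl rfl
  mul_mem' {x y} hx hy := by
    have e1 : a * (a * b) = b := by rw [← mul_assoc, ha, one_mul]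
    have e2 : b * (a * b) = a := by rw [hab, ← mul_assoc, hb, one_mul]
    have e3 : a * b * a = b := by rw [hab, mul_assoc, ha, mul_one]
    have e4 : a * b * b = a := by rw [mul_assoc, hb, mul_one]
    have e5 : a * b * (a * b) = 1 := by rw [← mul_assoc, e3, hb]
    rcases hx with rfl | rfl | rfl | rfl
    · rw [one_mul]; exact hy
    · rcases hy with rfl | rfl | rfl | rfl
      · rw [mul_one]; exact Or.inr (Or.inl rfl)
      · exact Or.inl ha
      · exact Or.inr (Or.inr (Or.inr rfl))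
      · exact Or.inr (Or.inr (Or.inl e1))
    · rcases hy with rfl | rfl | rfl | rfl
      · rw [mul_one]; exact Or.inr (Or.inr (Or.inl rfl))
      · exact Or.inr (Or.inr (Or.inr hab.symm))
      · exact Or.inl hb
      · exact Or.inr (Or.inl e2)
    · rcases hy with rfl | rfl | rfl | rfl
      · rw [mul_one]; exact Or.inr (Or.inr (Or.inr rfl))
      · exact Or.inr (Or.inr (Or.inl e3))
      · exact Or.inr (Or.inl e4)
      · exact Or.inl e5
  inv_mem' {x} hx := by
    have e5 : a * b * (a * b) = 1 := by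
      calc a * b * (a * b) = a * (b * a) * b := by group
        _ = a * (a * b) * b := by rw [hab]
        _ = (a * a) * (b * b) := by group
        _ = 1 := by rw [ha, hb, one_mul]
    rcases hx with rfl | rfl | rfl | rfl
    · rw [inv_one]; exact Or.inl rfl
    · rw [inv_eq_of_mul_eq_one_left ha]; exact Or.inr (Or.inl rfl)
    · rw [inv_eq_of_mul_eq_one_left hb]; exact Or.inr (Or.inr (Or.inl rfl))
    · rw [inv_eq_of_mul_eq_one_left e5]; exact Or.inr (Or.inr (Or.inr rfl))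

theorem mem_fourG {a b : G} {ha : a * a = 1} {hb : b * b = 1} {hab : a * b = b * a} {x : G} :
    x ∈ fourG a b ha hb hab ↔ x = 1 ∨ x = a ∨ x = b ∨ x = a * b := Iff.rfl

theorem card_fourG {a b : G} {ha : a * a = 1} {hb : b * b = 1} {hab : a * b = b * a} (ha1 : a ≠ 1) (hb1 : b ≠ 1)
    (hne : a * b ≠ 1) : Nat.card (fourG a b ha hb hab) = 4 := by
  classical
  have hne' : a ≠ b := by
    rintro rfl
    exact hne ha
  have h1 : Nat.card (fourG a b ha hb hab) = Nat.card (({1, a, b, a * b} : Finset G) : Type _) := by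
    apply Nat.card_congr
    apply Equiv.subtypeEquivRight
    intro x
    rw [mem_fourG]
    simp
  rw [h1, Nat.card_eq_fintype_card, Fintype.card_coe, Finset.card_insert_of_notMem, Finset.card_insert_of_notMem,
    Finset.card_insert_of_notMem, Finset.card_singleton]
  · rw [Finset.mem_singleton]
    intro e
    exact ha1 (right_eq_mul.1 e)
  · simp only [Finset.mem_insert, Finset.mem_singleton, not_or]
    refine ⟨hne', fun e => hb1 (left_eq_mul.1 e)⟩
  · simp only [Finset.mem_insert, Finset.mem_singleton, not_or]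
    exact ⟨fun e => ha1 e.symm, fun e => hb1 e.symm, fun e => hne e.symm⟩

namespace Inp

variable [Finite G] (h : Inp S E u)

include h

theorem bal {i j : Fin 5} (hij : i ≠ j) {e : G} (he : e ∈ E) (he1 : e ≠ 1) :
    centralizerPPrimeCore 2 (tt u i j) ⊓ centralizer ({e} : Set G) ≤ centralizerPPrimeCore 2 e := by
  rcases h.cover e he with rfl | ⟨k, l, hkl, rfl⟩ | ⟨m, rfl⟩
  · exact absurd rfl he1
  · rcases perm_pairs i j k l hij hkl with (⟨rfl, rfl⟩ | ⟨rfl, rfl⟩) | ⟨σ, h1, h2⟩ | ⟨σ, ⟨rfl, rfl⟩, ⟨rfl, rfl⟩⟩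
    · exact inf_le_left
    · rw [h.tt_symm i j]
      exact inf_le_left
    · obtain ⟨n, hn⟩ := h.perm σ
      have h3 := h.transport (n := n) h.adj
      rw [hn, hn] at h3
      have e1 : tt u i j = tt u (σ 0) (σ 2) := by
        rcases h1 with ⟨rfl, rfl⟩ | ⟨rfl, rfl⟩
        · rfl
        · exact h.tt_symm _ _
      have e2 : tt u k l = tt u (σ 0) (σ 1) := by
        rcases h2 with ⟨rfl, rfl⟩ | ⟨rfl, rfl⟩
        · rfl
        · exact h.tt_symm _ _
      rw [e1, e2]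
      exact h3
    · obtain ⟨n, hn⟩ := h.perm σ
      have h3 := h.transport (n := n) h.disj
      rwa [hn, hn] at h3
  · -- `z`-type
    have key : ∀ a m : Fin 5, a ≠ m → centralizerPPrimeCore 2 (tt u a m) ⊓ centralizer ({zz u * u m} : Set G) ≤
        centralizerPPrimeCore 2 (zz u * u m) := by
      intro a m ham
      obtain ⟨σ, rfl, rfl⟩ := perm_two a m ham
      obtain ⟨n, hn⟩ := h.perm σ
      have h3 := h.transport (n := n) h.bz2
      have h4 := h.conj_zz hn 4
      rw [h.zz_four] at h4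
      rwa [hn, h4] at h3
    rcases eq_or_ne m j with rfl | hmj
    · exact key i m hij
    rcases eq_or_ne m i with rfl | hmi
    · rw [h.tt_symm]
      exact key j m hij.symm
    obtain ⟨σ, rfl, rfl, rfl⟩ := perm_three i j m hij hmi.symm hmj.symm
    obtain ⟨n, hn⟩ := h.perm σ
    have h3 := h.transport (n := n) h.bz1
    have h4 := h.conj_zz hn 4
    rw [h.zz_four] at h4
    rwa [hn, h4] at h3

theorem tf : TF E {d | ∃ i j, i ≠ j ∧ d = tt u i j} := by
  refine ⟨h.elem, h.card, ?_, ?_, ?_, h.solv⟩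
  · rintro d ⟨i, j, hij, rfl⟩
    exact ⟨h.tt_mem i j, h.ne i j hij⟩
  · intro D hD hc
    by_contra hno
    push Not at hno
    have hz : ∀ a ∈ D, a ≠ 1 → ∃ m, a = zz u * u m := by
      intro a ha ha1
      rcases h.cover a (hD ha) with h1 | h1 | h1
      · exact absurd h1 ha1
      · exact absurd h1 (hno a ha)
      · exact h1
    obtain ⟨a, ha, ha1⟩ : ∃ a ∈ D, a ≠ 1 := by
      by_contra h0
      push Not at h0
      have : D = ⊥ := (eq_bot_iff_forall D).mpr h0
      rw [this, card_bot] at hc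
      norm_num at hc
    obtain ⟨b, hb, hb1, hba⟩ : ∃ b ∈ D, b ≠ 1 ∧ b ≠ a := by
      by_contra h0
      push Not at h0
      have hle : D ≤ zpowers a := by
        intro y hy
        by_cases hy1 : y = 1
        · rw [hy1]; exact one_mem _
        · rw [h0 y hy hy1]; exact mem_zpowers a
      have h1 := card_le_of_le hle
      rw [hc, Nat.card_zpowers, orderOf_eq_prime (p := 2) (by rw [pow_two]; exact h.sq (hD ha)) ha1] at h1
      norm_num at h1
    obtain ⟨m, hm⟩ := hz a ha ha1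
    obtain ⟨m', hm'⟩ := hz b hb hb1
    have hne : m ≠ m' := by
      rintro rfl
      exact hba (hm'.trans hm.symm)
    refine hno (a * b) (mul_mem ha hb) ⟨m, m', hne, ?_⟩
    rw [hm, hm', h.comm h.zz_mem (h.mem m), mul_assoc, ← mul_assoc (zz u), h.sq h.zz_mem, one_mul, tt]
  · rintro d ⟨i, j, hij, rfl⟩ e he he1
    exact h.bal hij he he1

/-- `t_ij t_ik = t_jk` -/
theorem tt_mul (i j k : Fin 5) : tt u i j * tt u i k = tt u j k := by
  rw [tt, tt, tt, h.comm (h.mem i) (h.mem j), mul_assoc, ← mul_assoc (u i), h.sq (h.mem i), one_mul]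

/-- the four-group of `i, j, k` -/
theorem four_le {i j k : Fin 5} (hij : i ≠ j) (hik : i ≠ k) (hjk : j ≠ k) : ∃ V ≤ E, Nat.card V = 4 ∧
    (∀ v, v ∈ V ↔ v = 1 ∨ v = tt u i j ∨ v = tt u i k ∨ v = tt u j k) ∧
    normalizer (V : Set G) ≤ normalizer (W E : Set G) := by
  have hm := h.tt_mul i j k
  have hmem : ∀ v, v ∈ fourG (tt u i j) (tt u i k) (h.sq (h.tt_mem _ _)) (h.sq (h.tt_mem _ _))
      (h.comm (h.tt_mem _ _) (h.tt_mem _ _)) ↔ v = 1 ∨ v = tt u i j ∨ v = tt u i k ∨ v = tt u j k := by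
    intro v
    rw [mem_fourG, hm]
  refine ⟨fourG (tt u i j) (tt u i k) (h.sq (h.tt_mem _ _)) (h.sq (h.tt_mem _ _))
      (h.comm (h.tt_mem _ _) (h.tt_mem _ _)), ?_, ?_, hmem, ?_⟩
  · intro v hv
    rcases (hmem v).1 hv with rfl | rfl | rfl | rfl
    · exact one_mem _
    · exact h.tt_mem _ _
    · exact h.tt_mem _ _
    · exact h.tt_mem _ _
  · exact card_fourG (h.ne _ _ hij) (h.ne _ _ hik) (by rw [hm]; exact h.ne _ _ hjk)
  · refine h.tf.normalizer_four ?_ ?_ ?_
    · intro v hv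
      rcases (hmem v).1 hv with rfl | rfl | rfl | rfl
      · exact one_mem _
      · exact h.tt_mem _ _
      · exact h.tt_mem _ _
      · exact h.tt_mem _ _
    · exact card_fourG (h.ne _ _ hij) (h.ne _ _ hik) (by rw [hm]; exact h.ne _ _ hjk)
    · intro v hv hv1
      rcases (hmem v).1 hv with h1 | rfl | rfl | rfl
      · exact absurd h1 hv1
      · exact ⟨_, _, hij, rfl⟩
      · exact ⟨_, _, hik, rfl⟩
      · exact ⟨_, _, hjk, rfl⟩

/-- an element commuting with `t_ij` and `t_ik` lies in `N(W)` -/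
theorem mem_of_comm {i j k : Fin 5} (hij : i ≠ j) (hik : i ≠ k) (hjk : j ≠ k) {g : G} (h1 : g * tt u i j = tt u i j * g)
    (h2 : g * tt u i k = tt u i k * g) : g ∈ normalizer (W E : Set G) := by
  obtain ⟨V, -, -, hV, hN⟩ := h.four_le hij hik hjk
  apply hN
  apply centralizer_le_normalizer
  rw [mem_centralizer_iff]
  intro v hv
  rcases (hV v).1 hv with rfl | rfl | rfl | rfl
  · rw [one_mul, mul_one]
  · exact h1.symm
  · exact h2.symm
  · rw [← h.tt_mul i j k, mul_assoc, ← h2, ← mul_assoc, ← h1, mul_assoc]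

theorem centralizer_tt_le {i j : Fin 5} (hij : i ≠ j) : centralizer ({tt u i j} : Set G) ≤ normalizer (W E : Set G) := by
  have h01 : centralizer ({tt u 0 1} : Set G) ≤ normalizer (W E : Set G) := by
    refine h.gen _ ?_ h.tf.normalizer_le ?_ ?_
    · exact (h.tf.core_le ⟨0, 1, by decide, rfl⟩).trans le_normalizer
    · intro g h1 h2
      exact h.mem_of_comm (by decide) (by decide) (by decide) h1 h2
    · intro g h1 h2
      exact h.mem_of_comm (by decide) (by decide) (by decide) h1 h2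
  obtain ⟨m, hmi, hmj⟩ : ∃ m, i ≠ m ∧ j ≠ m := by
    have : ∀ i j : Fin 5, ∃ m, i ≠ m ∧ j ≠ m := by decide
    exact this i j
  obtain ⟨σ, rfl, rfl, -⟩ := perm_three i j m hij hmi hmj
  obtain ⟨n, hn⟩ := h.perm σ
  rw [← hn]
  exact Cfsg.Agent.Lib.TwoClassEnd.centralizer_conj_le (h.tf.normalizer_le (h.mem_normalizer hn)) h01

theorem centralizer_zz_le : centralizer ({zz u} : Set G) ≤ normalizer (W E : Set G) := by
  haveI : Fact (Nat.Prime 2) := ⟨Nat.prime_two⟩
  refine h.cz _ ?_ h.tf.normalizer_le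
  obtain ⟨V, hVE, hc, hV, -⟩ := h.four_le (i := 0) (j := 1) (k := 2) (by decide) (by decide) (by decide)
  refine h.tf.le_gen hVE hc (core_card 2 _) ((hVE.trans (h.tf.le_centralizer h.zz_mem)).trans (core_normalized 2 _)) ?_
  intro v hv hv1
  refine inf_le_right.trans ?_
  rcases (hV v).1 hv with h1 | rfl | rfl | rfl
  · exact absurd h1 hv1
  · exact h.centralizer_tt_le (by decide)
  · exact h.centralizer_tt_le (by decide)
  · exact h.centralizer_tt_le (by decide)

theorem orderOf_of {a : G} (ha : a ∈ E) (ha1 : a ≠ 1) : orderOf a = 2 :=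
  orderOf_eq_prime (by rw [pow_two]; exact h.sq ha) ha1

/-- `W = 1` -/
theorem W_eq_bot [IsSimpleGroup G] : W E = ⊥ := by
  refine Cfsg.Agent.Lib.TwoClassEnd.eq_bot S h.tf.odd (h.nS.trans h.centralizer_zz_le) {tt u 0 1, zz u} ?_ ?_
    (h.orderOf_of (h.tt_mem 0 1) (h.ne 0 1 (by decide))) (h.orderOf_of h.zz_mem h.zne) h.ntz
  · rintro x (rfl | rfl)
    · exact h.centralizer_tt_le (by decide)
    · exact h.centralizer_zz_le
  · intro v hv hv2
    obtain ⟨m, hm, h1 | h1⟩ := h.cls _ h.tf.normalizer_le (h.centralizer_tt_le (by decide)) h.centralizer_zz_le v hv hv2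
    · exact ⟨_, Or.inl rfl, m, hm, h1⟩
    · exact ⟨_, Or.inr rfl, m, hm, h1⟩

/-- **`O(C(t)) = 1`** -/
theorem core_eq_bot [IsSimpleGroup G] {i j : Fin 5} (hij : i ≠ j) : centralizerPPrimeCore 2 (tt u i j) = ⊥ := by
  rw [eq_bot_iff, ← h.W_eq_bot]
  exact h.tf.core_le ⟨i, j, hij, rfl⟩

end Inp

end second

end Cfsg.Agent.LFourA.AltFunct
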