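import Cfsg.Agent.LFourA.AltInstB
import Cfsg.Agent.LFourA.AltFunct

/-!
# Case II: the core of `C(t)` is trivial
-/

set_option autoImplicit false

namespace Cfsg.Agent.LFourA.AltCore

open Cfsg Subgroup
open Cfsg.Agent.LFourA.AltModel (U M pr t t' z)
open Cfsg.Agent.LFourA.AltPat (Alt)
open Cfsg.Agent.LFourA.AltInst (EE)
open Cfsg.Agent.LFourA.AltFive (CommThm)
open Cfsg.Agent.LFourA.AltZ9 (FT)

universe u

variable {G : Type u} [Group G] {S : Sylow 2 G} {F : M →* G}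

/-- balance between `t_02` and `t_01` -/
def Adj (F : M →* G) : Prop :=
  centralizerPPrimeCore 2 (AltInst.tt F 0 2) ⊓ centralizer ({AltInst.tt F 0 1} : Set G) ≤
    centralizerPPrimeCore 2 (AltInst.tt F 0 1)

/-- balance between `t_23` and `t_01` -/
def Disj (F : M →* G) : Prop :=
  centralizerPPrimeCore 2 (AltInst.tt F 2 3) ⊓ centralizer ({AltInst.tt F 0 1} : Set G) ≤
    centralizerPPrimeCore 2 (AltInst.tt F 0 1)

/-- generation of `C(t_01)` -/
def GenT (F : M →* G) : Prop :=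
  ∀ L : Subgroup G, centralizerPPrimeCore 2 (AltInst.tt F 0 1) ≤ L → normalizer (EE F : Set G) ≤ L →
    (∀ g, g * AltInst.tt F 0 1 = AltInst.tt F 0 1 * g → g * AltInst.tt F 0 2 = AltInst.tt F 0 2 * g → g ∈ L) →
    (∀ g, g * AltInst.tt F 0 1 = AltInst.tt F 0 1 * g → g * AltInst.tt F 0 4 = AltInst.tt F 0 4 * g → g ∈ L) →
    centralizer ({AltInst.tt F 0 1} : Set G) ≤ L

/-- the basis of `E` -/
def uu (F : M →* G) (i : Fin 5) : G := F (AltInst.zz i * AltInst.zz 4)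

theorem tt_uu (i j : Fin 5) : AltFunct.tt (uu F) i j = AltInst.tt F i j := by
  rw [AltFunct.tt, uu, uu, ← map_mul, AltInst.tt]
  congr 1
  calc AltInst.zz i * AltInst.zz 4 * (AltInst.zz j * AltInst.zz 4) =
      AltInst.zz i * (AltInst.zz 4 * (AltInst.zz j * AltInst.zz 4)) := by group
    _ = AltInst.zz i * (AltInst.zz 4 * (AltInst.zz 4 * AltInst.zz j)) := by rw [AltInst.zz_comm j 4]
    _ = AltInst.zz i * (AltInst.zz 4 * AltInst.zz 4) * AltInst.zz j := by group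
    _ = _ := by rw [AltInst.zz_sq, mul_one]

theorem zz_uu : AltFunct.zz (uu F) = F z := by
  rw [AltFunct.zz, uu, uu, uu, uu, ← map_mul, ← map_mul, ← map_mul]
  congr 1

theorem EE_elem : IsElementaryAbelian 2 (EE F) := by
  refine ⟨⟨⟨?_⟩⟩, ?_⟩
  · rintro ⟨a, ha⟩ ⟨b, hb⟩
    exact Subtype.ext (AltInstB.EE_comm ha hb)
  · intro a ha
    rw [pow_two]
    exact AltInstB.EE_sq ha

theorem tt_mem (i j : Fin 5) : AltInst.tt F i j ∈ EE F :=
  ⟨_, AltNilC.InE_mul _ _ (AltInst.zz_E _) (AltInst.zz_E _), rfl⟩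

theorem tt_ne (P : Alt S F) {i j : Fin 5} (h : i ≠ j) : AltInst.tt F i j ≠ 1 := by
  have h1 : ∀ i j : Fin 5, i ≠ j → AltInst.zz i * AltInst.zz j ≠ 1 := by decide
  intro e
  exact h1 i j h (P.inj (e.trans (map_one F).symm))

theorem F_z_ne (P : Alt S F) : F z ≠ 1 := by
  intro e
  exact absurd (P.inj (e.trans (map_one F).symm)) (by decide)

variable [Finite G]

/-- the input of `AltFunct` -/
theorem inp (hFT : FT.{u}) (hC : CommThm.{u}) (P : Alt S F) (ha : Adj F) (hd : Disj F) (hg : GenT F) :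
    AltFunct.Inp S (EE F) (uu F) where
  elem := EE_elem
  card := AltInstB.card_EE P
  mem i := ⟨_, AltNilC.InE_mul _ _ (AltInst.zz_E _) (AltInst.zz_E _), rfl⟩
  four := by rw [uu, AltInst.zz_sq, map_one]
  ne i j hij := by rw [tt_uu]; exact tt_ne P hij
  zne := by rw [zz_uu]; exact F_z_ne P
  cover e he := by
    by_cases he1 : e = 1
    · exact Or.inl he1
    refine Or.inr ?_
    rcases AltInstB.EE_cases he he1 with ⟨i, rfl⟩ | ⟨i, j, hij, rfl⟩
    · refine Or.inr ⟨i, ?_⟩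
      have h1 : ∀ i : Fin 5, AltInst.zz i = z * (AltInst.zz i * AltInst.zz 4) := by decide
      rw [zz_uu, uu, ← map_mul, ← h1 i]
    · exact Or.inl ⟨i, j, hij.ne, (tt_uu i j).symm⟩
  perm σ := by
    obtain ⟨n, -, hn⟩ := AltInstB.exists_conj_tt P σ
    refine ⟨n, fun i j => ?_⟩
    rw [tt_uu, tt_uu]
    exact hn i j
  adj := by rw [tt_uu, tt_uu]; exact ha
  disj := by rw [tt_uu, tt_uu]; exact hd
  bz1 := by
    rw [tt_uu, zz_uu, AltInst.tt_t]
    exact AltZ8.bz hC P (AltZ1.F_mem_CZ t) (by rw [← map_mul, show t * t = 1 by decide, map_one])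
  bz2 := by
    rw [tt_uu, zz_uu, AltInst.tt]
    exact AltZ8.bz hC P (AltZ1.F_mem_CZ _) (by
      rw [← map_mul, show AltInst.zz 0 * AltInst.zz 4 * (AltInst.zz 0 * AltInst.zz 4) = 1 by decide, map_one])
  gen L h1 h2 h3 h4 := by
    rw [tt_uu] at h1 h3 h4 ⊢
    rw [tt_uu] at h3 h4
    exact hg L h1 h2 h3 h4
  cz L h1 h2 := by
    rw [zz_uu] at h1 ⊢
    exact (AltInst.cz hC P).trans (sup_le h1 h2)
  nS := by rw [zz_uu]; exact AltInstB.normalizer_S_le P
  cls L h1 h2 h3 v hv hv2 := by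
    rw [tt_uu, AltInst.tt_t] at h2 ⊢
    rw [zz_uu] at h3 ⊢
    obtain ⟨x, rfl, hx1, hx2⟩ := AltInstB.exists_of_involution P hv hv2
    exact AltInst.cls P L h1 h2 h3 hx1 hx2
  ntz := by rw [tt_uu, AltInst.tt_t, zz_uu]; exact P.tz
  solv e _ _ := by
    refine hFT _ ?_
    have : Fact (Nat.Prime 2) := ⟨Nat.prime_two⟩
    have h1 := Cfsg.Agent.Dichotomy.CoreTools.core_card 2 e
    exact Nat.odd_iff.2 (Nat.two_dvd_ne_zero.1 h1)

/-- **`O(C(t)) = 1`** -/
theorem core_tt [IsSimpleGroup G] (hFT : FT.{u}) (hC : CommThm.{u}) (P : Alt S F) (ha : Adj F) (hd : Disj F)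
    (hg : GenT F) {i j : Fin 5} (hij : i ≠ j) : centralizerPPrimeCore 2 (AltInst.tt F i j) = ⊥ := by
  rw [← tt_uu]
  exact (inp hFT hC P ha hd hg).core_eq_bot hij

/-- **`O(C(t)) = 1`** -/
theorem core_t [IsSimpleGroup G] (hFT : FT.{u}) (hC : CommThm.{u}) (P : Alt S F) (ha : Adj F) (hd : Disj F)
    (hg : GenT F) : centralizerPPrimeCore 2 (F t) = ⊥ := by
  rw [← AltInst.tt_t]
  exact core_tt hFT hC P ha hd hg (by decide)

end Cfsg.Agent.LFourA.AltCore
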