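import Cfsg.Agent.LFourA.AltNilB

/-!
# Case II: the odd part of `C(t) ∩ C(t')`, the elementary abelian group `E = V_e × V_e`
-/

set_option autoImplicit false

namespace Cfsg.Agent.LFourA.AltNilC

open Cfsg.Agent.LFourA.AltModel Cfsg.Agent.LFourA.AltPat Cfsg.Agent.LFourA.AltNil Cfsg.Agent.LFourA.AltNilB Subgroup

universe u

variable {G : Type u} [Group G] {S : Sylow 2 G} {F : M →* G}

/-- `O(C(t) ∩ C(t'))` -/
def OT (F : M →* G) : Subgroup G := (Cfsg.pResidual 2 (CT F)).map (CT F).subtype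

theorem OT_le : OT F ≤ CT F := map_subtype_le _

theorem conj_OT {g o : G} (hg : g ∈ CT F) (ho : o ∈ OT F) : g * o * g⁻¹ ∈ OT F := by
  obtain ⟨o', ho', rfl⟩ := ho
  have hn := Transfer.NormalPComplement.pResidual_normal 2 (CT F)
  exact ⟨⟨g, hg⟩ * o' * ⟨g, hg⟩⁻¹, hn.conj_mem o' ho' ⟨g, hg⟩, rfl⟩

theorem mem_OT_of_odd [Finite G] {g : G} (hg : g ∈ CT F) (ho : Odd (orderOf g)) : g ∈ OT F := by
  refine ⟨⟨g, hg⟩, ?_, rfl⟩
  apply Transfer.NormalPComplement.mem_pResidual_of_coprime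
  rw [orderOf_mk]
  exact Nat.coprime_two_right.2 ho

variable [Finite G]

theorem odd_card_OT (P : Alt S F) : Odd (Nat.card (OT F)) := by
  have h2 : Fact (Nat.Prime 2) := ⟨Nat.prime_two⟩
  have h := nil P
  rw [Transfer.NormalPComplement.hasNormalPComplement_iff_coprime] at h
  rw [OT, card_map_of_injective (CT F).subtype_injective]
  exact Nat.coprime_two_right.1 h

theorem odd_orderOf (P : Alt S F) {o : G} (ho : o ∈ OT F) : Odd (orderOf o) :=
  (odd_card_OT P).of_dvd_nat (Subgroup.orderOf_dvd_natCard _ ho)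

/-- `C(t) ∩ C(t') = O F(B)` -/
theorem exists_decomp (P : Alt S F) {g : G} (hg : g ∈ CT F) :
    ∃ o ∈ OT F, ∃ b : M, b.m = false ∧ g = o * F b := by
  have h2 : Fact (Nat.Prime 2) := ⟨Nat.prime_two⟩
  obtain ⟨Q, hQ⟩ := exists_sylow P
  have h := Transfer.NormalPComplement.isComplement'_pResidual (nil P) Q
  obtain ⟨⟨a, b⟩, hab⟩ := h.existsUnique ⟨g, hg⟩ |>.exists
  have hb : (b : CT F) ∈ (Bsub.map F).subgroupOf (CT F) := by rw [← hQ]; exact b.2
  obtain ⟨x, hx, hxb⟩ := hb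
  refine ⟨a, ⟨a, a.2, rfl⟩, x, hx, ?_⟩
  have h1 := congrArg Subtype.val hab
  have h3 : ((a : CT F) : G) * ((b : CT F) : G) = g := h1
  rw [← h3]
  congr 1
  exact hxb.symm

/-- a 2-element is not of odd order -/
theorem eq_one_of_F_mem_OT (P : Alt S F) {x : M} (h : F x ∈ OT F) : x = 1 := by
  have h1 := odd_orderOf P h
  rw [orderOf_injective F P.inj] at h1
  have h3 : orderOf x ∣ 128 := by
    have := orderOf_dvd_card (x := x)
    rwa [card_M] at this
  have h4 : orderOf x = 1 := by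
    have h5 : (orderOf x).Coprime 128 := by
      rw [show (128 : ℕ) = 2 ^ 7 by norm_num]
      exact (Nat.coprime_two_right.2 h1).pow_right 7
    exact Nat.eq_one_of_dvd_coprimes h5 dvd_rfl h3
  exact orderOf_eq_one_iff.1 h4

/-- fusion in `C(t) ∩ C(t')` -/
theorem fusion_CT (P : Alt S F) {g : G} (hg : g ∈ CT F) {x x' : M} (hx : x.m = false)
    (h : g * F x * g⁻¹ = F x') : ∃ b : M, b.m = false ∧ b * x * b⁻¹ = x' := by
  obtain ⟨o, ho, b, hb, rfl⟩ := exists_decomp P hg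
  refine ⟨b, hb, ?_⟩
  have h1 : F (x' * (b * x * b⁻¹)⁻¹) = o * (F (b * x * b⁻¹) * o⁻¹ * (F (b * x * b⁻¹))⁻¹) := by
    rw [map_mul, ← h]
    simp only [map_mul, map_inv, mul_inv_rev, inv_inv]
    group
  have h2 : F (x' * (b * x * b⁻¹)⁻¹) ∈ OT F := by
    rw [h1]
    refine mul_mem ho (conj_OT ?_ (inv_mem ho))
    apply F_mem_CT
    exact Bsub.mul_mem (Bsub.mul_mem hb hx) (Bsub.inv_mem hb)
  exact (mul_inv_eq_one.1 (eq_one_of_F_mem_OT P h2)).symm

/-! ### the group `E` -/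

/-- `E = V_e × V_e` -/
def InE (x : M) : Prop := x.m = false ∧ x.a.q = false ∧ x.b.q = false

instance : DecidablePred InE := fun x => by unfold InE; infer_instance

theorem InE_mul : ∀ x y : M, InE x → InE y → InE (x * y) := by decide +kernel
theorem InE_inv : ∀ x : M, InE x → InE x⁻¹ := by decide +kernel
theorem InE_comm : ∀ x y : M, InE x → InE y → x * y = y * x := by decide +kernel
theorem InE_sq : ∀ x : M, InE x → x * x = 1 := by decide +kernel
theorem InE_m : ∀ x : M, InE x → x.m = false := fun _ h => h.1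
theorem InE_self : ∀ x : M, (∀ e, InE e → x * e = e * x) → InE x := by decide +kernel
theorem InE_conj : ∀ g x : M, InE x → InE (g * x * g⁻¹) := by decide +kernel
theorem card_E : Fintype.card {x : M // InE x} = 16 := by decide +kernel
theorem InE_t : InE t := by decide
theorem InE_t' : InE t' := by decide
theorem InE_z : InE z := by decide

/-- `E` -/
def Esub : Subgroup M where
  carrier := {x | InE x}
  mul_mem' {x y} hx hy := InE_mul x y hx hy
  one_mem' := by decide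
  inv_mem' {x} hx := InE_inv x hx

/-- `n` normalizes `F(E)` -/
def NE (F : M →* G) (n : G) : Prop := (∀ x, InE x → ∃ x', InE x' ∧ F x' = n * F x * n⁻¹)

/-- an odd element of `C(t) ∩ C(t')` normalizing `F(E)` centralizes it -/
theorem comm_of_NE (P : Alt S F) {o : G} (ho : o ∈ OT F) (hn : NE F o) (x : M) (hx : InE x) :
    o * F x = F x * o := by
  obtain ⟨x', hx', h⟩ := hn x hx
  have h1 : F (x' * x⁻¹) = o * (F x * o⁻¹ * (F x)⁻¹) := by
    rw [map_mul, h, map_inv]; group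
  have h2 : F (x' * x⁻¹) ∈ OT F := by
    rw [h1]
    exact mul_mem ho (conj_OT (F_mem_CT (InE_m x hx)) (inv_mem ho))
  have h3 := mul_inv_eq_one.1 (eq_one_of_F_mem_OT P h2)
  rw [h3] at h
  calc o * F x = o * F x * o⁻¹ * o := by group
    _ = F x * o := by rw [← h]

/-- the centralizer of `F(E)` -/
theorem exists_of_centralizes_E (P : Alt S F) {g : G} (hg : ∀ x, InE x → g * F x = F x * g) :
    ∃ o ∈ OT F, ∃ e : M, InE e ∧ g = o * F e := by
  have hgC : g ∈ CT F := mem_CT.2 ⟨hg t InE_t, hg t' InE_t'⟩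
  obtain ⟨o, ho, b, hb, rfl⟩ := exists_decomp P hgC
  refine ⟨o, ho, b, ?_, rfl⟩
  apply InE_self
  intro e he
  have h1 := hg e he
  have h2 : o * F b * F e * (o * F b)⁻¹ = F e := by rw [h1, mul_inv_cancel_right]
  obtain ⟨b', hb', hb'2⟩ : ∃ b' : M, b'.m = false ∧ b' * e * b'⁻¹ = e := fusion_CT P hgC (InE_m e he) h2
  -- compute modulo the odd part
  have h3 : F (e * (b * e * b⁻¹)⁻¹) = o * (F (b * e * b⁻¹) * o⁻¹ * (F (b * e * b⁻¹))⁻¹) := by
    rw [map_mul, ← h2]
    simp only [map_mul, map_inv, mul_inv_rev, inv_inv]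
    group
  have h4 : F (e * (b * e * b⁻¹)⁻¹) ∈ OT F := by
    rw [h3]
    refine mul_mem ho (conj_OT ?_ (inv_mem ho))
    apply F_mem_CT
    exact Bsub.mul_mem (Bsub.mul_mem hb (InE_m e he)) (Bsub.inv_mem hb)
  have h5 := mul_inv_eq_one.1 (eq_one_of_F_mem_OT P h4)
  calc b * e = b * e * b⁻¹ * b := by group
    _ = e * b := by rw [← h5]

end Cfsg.Agent.LFourA.AltNilC
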