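import Cfsg.Agent.LFourA.AltPsiMain
import Cfsg.Agent.LFourA.AltNilC
import Cfsg.Agent.LFourA.CtFinal
import Cfsg.Agent.LFourA.KlOSide
import Cfsg.Agent.LFourA.KlPos

/-!
# Case II: the homomorphism `C(t) → S₆`, `S₇`

`Psi F n ψ` : `ψ : C(t) →* Perm (Fin n)` surjective, with kernel `F(V_o × 1) O(C(t))` and given values on the Sylow
2-subgroup: `ψ (F (pr a b)) = (45)^{a.p} std b`.
-/

set_option autoImplicit false

namespace Cfsg.Agent.LFourA.AltPsi

open Equiv Equiv.Perm Subgroup Cfsg.Agent.LFourA.AltModel Cfsg.Agent.LFourA.AltPat Cfsg.Agent.LFourA.AltNil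
  Cfsg.Agent.LFourA.AltPsiStd Cfsg.Agent.LFourA.AltPsiX Cfsg.Agent.LFourA.AltPsiMain Cfsg.Agent.LFourA.CzCt

universe u

variable {G : Type u} [Group G] {S : Sylow 2 G} {F : M →* G}

/-- the homomorphism `ψ : C(t) → Perm (Fin n)` -/
structure Psi (F : M →* G) (n : ℕ) [NeZero n] (ψ : centralizer ({F t} : Set G) →* Perm (Fin n)) : Prop where
  ker : ∀ x, ψ x = 1 ↔ ∃ v : U, v.p = false ∧ ∃ o ∈ Cfsg.centralizerPPrimeCore 2 (F t), (x : G) = F (pr v 1) * o
  val : ∀ a b (hm : F (pr a b) ∈ centralizer ({F t} : Set G)),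
    ψ ⟨F (pr a b), hm⟩ = (if a.p then pt n else 1) * stdF n b
  surj : Function.Surjective ψ

theorem pr_mem (F : M →* G) (a b : U) : F (pr a b) ∈ centralizer ({F t} : Set G) := (F_mem_CT (F := F) rfl).1

theorem c_central : ∀ u : U, u * U.c = U.c * u := by decide

section

variable [Finite G]

/-- the base group is a Sylow 2-subgroup of `C(t)` -/
theorem exists_sylow_t (P : Alt S F) : ∃ Q : Sylow 2 (centralizer ({F t} : Set G)),
    (Q : Subgroup (centralizer ({F t} : Set G))) = (Bsub.map F).subgroupOf (centralizer ({F t} : Set G)) := by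
  classical
  have h2 : Fact (Nat.Prime 2) := ⟨Nat.prime_two⟩
  set C := centralizer ({F t} : Set G) with hC
  have hcard : Nat.card (Bsub.map F) = 64 := by rw [card_map_of_injective P.inj, card_Bsub]
  have hB : IsPGroup 2 (Bsub.map F) := IsPGroup.of_card (n := 6) (by rw [hcard]; norm_num)
  have hBC : Bsub.map F ≤ C := by
    rintro _ ⟨x, hx, rfl⟩
    exact (F_mem_CT hx).1
  obtain ⟨Q, hQ⟩ := (hB.comap_subtype (K := C)).exists_le_sylow
  change (Bsub.map F).subgroupOf C ≤ Q at hQ
  refine ⟨Q, ?_⟩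
  have h1 : Nat.card ((Bsub.map F).subgroupOf C) = 64 := by
    rw [Nat.card_congr (subgroupOfEquivOfLe hBC).toEquiv, hcard]
  have h3 : Nat.card (Q : Subgroup C) ≤ 64 := by
    let R := (Q : Subgroup C).map C.subtype
    have hR : IsPGroup 2 R := Q.isPGroup'.map _
    have hRC : R ≤ C := map_subtype_le _
    have ht : F t ∈ R := ⟨⟨F t, pr_mem F _ _⟩, hQ ⟨t, rfl, rfl⟩, rfl⟩
    have hRQ : Nat.card R = Nat.card (Q : Subgroup C) := card_map_of_injective C.subtype_injective
    rw [← hRQ]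
    obtain ⟨g, hg⟩ := exists_conj P hR
    choose! y hy using hg
    have hinj : Function.Injective (fun r : R => y r) := by
      intro r s h
      have h1 := hy r r.2
      have h3 := hy s s.2
      rw [show y (r : G) = y s from h, h3] at h1
      exact Subtype.ext (mul_left_cancel (mul_right_cancel h1)).symm
    by_contra hlt
    push Not at hlt
    have hc : Nat.card R = 128 := by
      have h1 : Nat.card R ≤ 128 := by
        rw [← card_M, ← Nat.card_eq_fintype_card]
        exact Nat.card_le_card_of_injective _ hinj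
      obtain ⟨k, hk⟩ := (IsPGroup.iff_card.1 hR)
      rw [hk] at h1 hlt ⊢
      have h3 : k < 8 := (Nat.pow_lt_pow_iff_right (by norm_num : 1 < 2)).1 (lt_of_le_of_lt h1 (by norm_num))
      have h4 : 6 < k := (Nat.pow_lt_pow_iff_right (by norm_num : 1 < 2)).1 (lt_of_le_of_lt (by norm_num) hlt)
      have h5 : k = 7 := by omega
      rw [h5]; norm_num
    have hsurj : Function.Surjective (fun r : R => y r) := by
      have h1 : Function.Bijective (fun r : R => y r) := by
        rw [Nat.bijective_iff_injective_and_card]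
        exact ⟨hinj, by rw [hc, Nat.card_eq_fintype_card, card_M]⟩
      exact h1.2
    have hcen : y (F t) = 1 ∨ y (F t) = z := by
      apply center_M
      intro x
      obtain ⟨r, hr⟩ := hsurj x
      change y r = x at hr
      apply P.inj
      rw [← hr, map_mul, map_mul, hy _ ht, hy r r.2]
      have hac : (r : G) * F t = F t * r := mem_centralizer_singleton_iff.1 (hRC r.2)
      calc g * r * g⁻¹ * (g * F t * g⁻¹) = g * (r * F t) * g⁻¹ := by group
        _ = g * (F t * r) * g⁻¹ := by rw [hac]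
        _ = _ := by group
    have h5 := hy _ ht
    rcases hcen with h4 | h4
    · rw [h4, map_one] at h5
      have h6 : F t = 1 := by
        have : F t = g⁻¹ * (g * F t * g⁻¹) * g := by group
        rw [this, ← h5]; group
      have h7 : t = 1 := P.inj (by rw [h6, map_one])
      exact absurd h7 (by decide)
    · rw [h4] at h5
      exact P.tz (isConj_iff.2 ⟨g, h5.symm⟩)
  exact (eq_of_le_of_card_ge hQ (by rw [h1]; exact h3)).symm

/-- **The homomorphism `ψ`.** -/
theorem exists_psi_of_ct (P : Alt S F) (hs : Group.IsSolvable (centralizer ({F z} : Set G))) {X : Type*} [Group X]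
    [Finite X] {p : centralizer ({F t} : Set G) →* X} {K : Subgroup X} (hCT : CzCt.CT (F t) p K)
    (hd : ∀ b, F (pr 1 b) ∈ up p K)
    (hiso : (∃ (E : Type) (_ : Field E) (_ : Fintype E), Odd (Fintype.card E) ∧ 3 < Fintype.card E ∧
      Nonempty (K ≃* Matrix.ProjectiveSpecialLinearGroup (Fin 2) E)) ∨ Nonempty (K ≃* alternatingGroup (Fin 7))) :
    (∃ ψ, Psi F 6 ψ) ∨ ∃ ψ, Psi F 7 ψ := by
  have h2 : Fact (Nat.Prime 2) := ⟨Nat.prime_two⟩
  have hodd := KlOSolv.odd_ker hCT.ker
  let δ : U → U → X := fun a b => p ⟨F (pr a b), pr_mem F a b⟩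
  obtain ⟨ρE, hE⟩ := P.rhoE
  obtain ⟨ρO, hO⟩ := P.rhoO
  have hmul : ∀ a b a' b', δ a b * δ a' b' = δ (a * a') (b * b') := by
    intro a b a' b'
    change p _ * p _ = p _
    rw [← map_mul]
    congr 1
    apply Subtype.ext
    change F (pr a b) * F (pr a' b') = F (pr (a * a') (b * b'))
    rw [← map_mul]; rfl
  have hw : ∀ a b : U, w * pr a b * w⁻¹ = pr b a := by decide
  have hconj : ∀ (ρ : G) (a b : U), (F w * ρ * F w⁻¹) * F (pr a b) * (F w * ρ * F w⁻¹)⁻¹ =
      F w * (ρ * F (pr b a) * ρ⁻¹) * F w⁻¹ := by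
    intro ρ a b
    have h1 : F (pr b a) = F w⁻¹ * F (pr a b) * F w := by
      rw [← map_mul, ← map_mul]
      congr 1
      revert a b; decide
    rw [h1, map_inv]; group
  have hww : ∀ a b : U, F w * F (pr a b) * F w⁻¹ = F (pr b a) := by
    intro a b
    rw [← map_mul, ← map_mul, hw]
  have hr1 : F w * ρE * F w⁻¹ ∈ centralizer ({F t} : Set G) := by
    rw [mem_centralizer_singleton_iff, ← mul_inv_eq_iff_eq_mul]
    change (F w * ρE * F w⁻¹) * F (pr U.c 1) * (F w * ρE * F w⁻¹)⁻¹ = F (pr U.c 1)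
    have h1 := hE.fix U.c
    have e : eta U.c = 1 := by decide
    rw [e] at h1
    rw [hconj, h1, mul_inv_cancel_right, hww]
  have hr2 : F w * ρO * F w⁻¹ ∈ centralizer ({F t} : Set G) := by
    rw [mem_centralizer_singleton_iff, ← mul_inv_eq_iff_eq_mul]
    change (F w * ρO * F w⁻¹) * F (pr U.c 1) * (F w * ρO * F w⁻¹)⁻¹ = F (pr U.c 1)
    have h1 := hO.fix U.c
    rw [hconj, h1, mul_inv_cancel_right, hww]
  obtain ⟨Q, hQ⟩ := exists_sylow_t P
  have hXD : XD K δ (p ⟨_, hr1⟩) (p ⟨_, hr2⟩) := by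
    refine ⟨hmul, ?_, hCT.normal, hCT.cent, ?_, ?_, ?_, ?_, ?_, ?_⟩
    · intro a b hab
      have h1 := KlPos.eq_one_of_mem (P := S) hCT.ker (pr_mem F a b) ((P.range _).2 ⟨_, rfl⟩) hab
      have h3 : pr a b = 1 := P.inj (by rw [h1, map_one])
      have h4 : pr a b = pr 1 1 := h3
      exact ⟨congrArg M.a h4, congrArg M.b h4⟩
    · intro b
      obtain ⟨hm, h1⟩ := mem_up.1 (hd b)
      exact h1
    · refine ⟨Q.mapSurjective hCT.surj, fun g => ?_⟩
      rw [Sylow.coe_mapSurjective, hQ]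
      constructor
      · rintro ⟨x, ⟨y, hy, hyx⟩, rfl⟩
        refine ⟨y.a, y.b, ?_⟩
        change p x = p _
        congr 1
        apply Subtype.ext
        change (x : G) = F (pr y.a y.b)
        have h1 : y = pr y.a y.b := by
          ext1
          · rfl
          · rfl
          · exact hy
        rw [← h1]; exact hyx.symm
      · rintro ⟨a, b, rfl⟩
        exact ⟨_, ⟨pr a b, rfl, rfl⟩, rfl⟩
    · change p _ * p _ * (p _)⁻¹ = p _
      rw [← map_inv, ← map_mul, ← map_mul]
      congr 1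
      apply Subtype.ext
      change (F w * ρE * F w⁻¹) * F (pr 1 U.c) * (F w * ρE * F w⁻¹)⁻¹ = F (pr 1 U.y)
      rw [hconj]
      have h1 := hE.cyc1
      change ρE * F (pr U.c 1) * ρE⁻¹ = _ at h1
      rw [h1, hww]
    · intro b
      change p _ * p _ = p _ * p _
      rw [← map_mul, ← map_mul]
      congr 1
      apply Subtype.ext
      change (F w * ρE * F w⁻¹) * F (pr b (eta b)) = F (pr b (eta b)) * (F w * ρE * F w⁻¹)
      rw [← mul_inv_eq_iff_eq_mul, hconj, hE.fix, mul_inv_cancel_right, hww]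
    · change p _ * p _ * (p _)⁻¹ = p _
      rw [← map_inv, ← map_mul, ← map_mul]
      congr 1
      apply Subtype.ext
      change (F w * ρO * F w⁻¹) * F (pr 1 U.c) * (F w * ρO * F w⁻¹)⁻¹ = F (pr 1 U.y')
      rw [hconj]
      have h1 := hO.cyc1
      change ρO * F (pr U.c 1) * ρO⁻¹ = _ at h1
      rw [h1, hww]
    · intro b
      change p _ * p _ = p _ * p _
      rw [← map_mul, ← map_mul]
      congr 1
      apply Subtype.ext
      change (F w * ρO * F w⁻¹) * F (pr b 1) = F (pr b 1) * (F w * ρO * F w⁻¹)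
      rw [← mul_inv_eq_iff_eq_mul, hconj, hO.fix, mul_inv_cancel_right, hww]
  -- the centraliser of `δ y c` is solvable
  have hsol : Group.IsSolvable (centralizer ({δ U.y U.c} : Set X)) := by
    obtain ⟨g, hg⟩ := isConj_iff.1 (P.zz (pr U.y U.c) (by decide))
    have h1 : Group.IsSolvable (centralizer ({F (pr U.y U.c)} : Set G)) := by
      let φ : centralizer ({F (pr U.y U.c)} : Set G) →* centralizer ({F z} : Set G) :=
        ((MulAut.conj g⁻¹).toMonoidHom.comp (centralizer ({F (pr U.y U.c)} : Set G)).subtype).codRestrict _ (by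
          intro x
          rw [mem_centralizer_singleton_iff]
          change g⁻¹ * x * g⁻¹⁻¹ * F z = F z * (g⁻¹ * x * g⁻¹⁻¹)
          have h3 : (x : G) * F (pr U.y U.c) = F (pr U.y U.c) * x := mem_centralizer_singleton_iff.1 x.2
          calc g⁻¹ * x * g⁻¹⁻¹ * F z = g⁻¹ * (x * (g * F z * g⁻¹)) * g := by group
            _ = g⁻¹ * (g * F z * g⁻¹ * x) * g := by rw [hg, h3]
            _ = _ := by group)
      refine Group.isSolvable_of_isSolvable_injective (f := φ) ?_
      intro x y hxy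
      have h3 := congrArg (fun v : centralizer ({F z} : Set G) => (v : G)) hxy
      change g⁻¹ * x * g⁻¹⁻¹ = g⁻¹ * y * g⁻¹⁻¹ at h3
      exact Subtype.ext (mul_left_cancel (mul_right_cancel h3))
    -- the part of the centraliser in `C(t)`
    let A : Subgroup (centralizer ({F t} : Set G)) :=
      (centralizer ({F (pr U.y U.c)} : Set G)).subgroupOf (centralizer ({F t} : Set G))
    have hA : Group.IsSolvable A := by
      let φ : A →* centralizer ({F (pr U.y U.c)} : Set G) :=
        ((centralizer ({F t} : Set G)).subtype.comp A.subtype).codRestrict _ (fun x => x.2)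
      refine Group.isSolvable_of_isSolvable_injective (f := φ) ?_
      intro x y hxy
      exact Subtype.ext (Subtype.ext (congrArg (fun v : centralizer ({F (pr U.y U.c)} : Set G) => (v : G)) hxy))
    have hpA : ∀ x : A, p x ∈ centralizer ({δ U.y U.c} : Set X) := by
      intro x
      rw [mem_centralizer_singleton_iff]
      change p _ * p _ = p _ * p _
      rw [← map_mul, ← map_mul]
      congr 1
      apply Subtype.ext
      exact mem_centralizer_singleton_iff.1 x.2
    refine Group.isSolvable_of_surjective (f := (p.comp A.subtype).codRestrict _ hpA) ?_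
    rintro ⟨x, hx⟩
    rw [mem_centralizer_singleton_iff] at hx
    obtain ⟨c, hc, hcx⟩ := KlOSide.exists_comm_lift hCT.surj hodd (t := ⟨F (pr U.y U.c), pr_mem F _ _⟩) (by
      apply Subtype.ext
      change F (pr U.y U.c) * F (pr U.y U.c) = 1
      rw [← map_mul, ← map_one F]
      congr 1) hx
    refine ⟨⟨c, ?_⟩, Subtype.ext hcx⟩
    change (c : G) ∈ centralizer _
    rw [mem_centralizer_singleton_iff]
    exact congrArg Subtype.val hc
  -- transfer
  have key : ∀ (n : ℕ) [NeZero n] (hF : Facts n) (ψ : X →* Perm (Fin n)), XPsi K δ n ψ → Psi F n (ψ.comp p) := by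
    intro n _ hF ψ hψ
    refine ⟨?_, ?_, ?_⟩
    · intro x
      rw [MonoidHom.comp_apply, hψ.ker]
      constructor
      · rintro ⟨v, hv, hx⟩
        refine ⟨v, hv, (F (pr v 1))⁻¹ * x, ?_, by group⟩
        have h1 : p ((⟨F (pr v 1), pr_mem F v 1⟩ : centralizer ({F t} : Set G))⁻¹ * x) = 1 := by
          rw [map_mul, map_inv, hx, inv_mul_cancel]
        exact (hCT.ker _).1 h1
      · rintro ⟨v, hv, o, ho, hx⟩
        refine ⟨v, hv, ?_⟩
        have hoC : o ∈ centralizer ({F t} : Set G) := by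
          obtain ⟨o', -, rfl⟩ := ho
          exact o'.2
        have h1 : x = ⟨F (pr v 1), pr_mem F v 1⟩ * ⟨o, hoC⟩ := Subtype.ext hx
        rw [h1, map_mul, (hCT.ker ⟨o, hoC⟩).2 ho, mul_one]
    · intro a b hm
      exact hψ.val a b
    · intro σ
      obtain ⟨τ, hτ, s, hs, hst⟩ : ∃ τ ∈ alternatingGroup (Fin n), ∃ s : Bool, True ∧ σ = (if s then pt n else 1) * τ := by
        rcases Int.units_eq_one_or (sign σ) with h3 | h3
        · exact ⟨σ, Perm.mem_alternatingGroup.2 h3, false, trivial, by simp⟩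
        · refine ⟨pt n * σ, ?_, true, trivial, ?_⟩
          · rw [Perm.mem_alternatingGroup, map_mul, hF.odd, h3]; rfl
          · rw [if_pos rfl, ← mul_assoc, hF.pt_sq, one_mul]
      obtain ⟨k, -, hk⟩ := hψ.alt τ hτ
      obtain ⟨k, rfl⟩ := hCT.surj k
      refine ⟨⟨F (pr (if s then U.y else 1) 1), pr_mem F _ _⟩ * k, ?_⟩
      rw [map_mul, MonoidHom.comp_apply, MonoidHom.comp_apply, hk, hst]
      congr 1
      refine (hψ.val _ _).trans ?_
      rw [stdF_one, mul_one]
      cases s <;> rfl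
  rcases hiso with ⟨E, i1, i2, hE1, -, ⟨e⟩⟩ | ⟨⟨e⟩⟩
  · obtain ⟨ψ, hψ⟩ := exists_psi_psl hXD hE1 e hsol
    exact Or.inl ⟨_, key 6 facts6 ψ hψ⟩
  · obtain ⟨ψ, hψ⟩ := exists_psi_seven hXD e hsol
    exact Or.inr ⟨_, key 7 facts7 ψ hψ⟩

/-- **The homomorphism `ψ : C(t) → S₆`, `S₇` in case II.** -/
theorem exists_psi {f : Model.D 0 → Model.D 0 → G} {ww : G} (h : Model.DWr (S : Subgroup G) 0 f ww)
    (hI : Defs.CaseII f ww)
    (hGW : ∀ (X : Type u) [Group X] [Finite X] [Group.IsPerfect X]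
      (S : Sylow 2 X) (n : ℕ), 2 ≤ n → Nonempty ((S : Subgroup X) ≃* DihedralGroup n) →
      (∃ (F : Type) (_ : Field F) (_ : Fintype F), Odd (Fintype.card F) ∧ 3 < Fintype.card F ∧
        Nonempty (X ⧸ Cfsg.oddCore X ≃* Matrix.ProjectiveSpecialLinearGroup (Fin 2) F)) ∨
      Nonempty (X ⧸ Cfsg.oddCore X ≃* alternatingGroup (Fin 7)))
    (hs : Group.IsSolvable (centralizer ({hom h z} : Set G))) :
    (∃ ψ, Psi (hom h) 6 ψ) ∨ ∃ ψ, Psi (hom h) 7 ψ := by
  have H : ∃ (X : Type u) (_ : Group X) (_ : Finite X) (p : centralizer ({f (Model.c 0) 1} : Set G) →* X)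
      (K : Subgroup X), CzCt.CT (f (Model.c 0) 1) p K ∧ (∀ b, hom h (pr 1 b) ∈ up p K) ∧
      ((∃ (E : Type) (_ : Field E) (_ : Fintype E), Odd (Fintype.card E) ∧ 3 < Fintype.card E ∧
        Nonempty (K ≃* Matrix.ProjectiveSpecialLinearGroup (Fin 2) E)) ∨ Nonempty (K ≃* alternatingGroup (Fin 7))) := by
    obtain ⟨X, i1, i2, p, K, h1, h2, -, -, h3⟩ := CtFinal.main_two h hGW hI
    refine ⟨X, i1, i2, p, K, h1, fun b => ?_, h3⟩
    rw [hom_pr, toD_one]
    exact h2.d₂ _
  have e : f (Model.c 0) 1 = hom h t := by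
    change _ = hom h (pr U.c 1)
    rw [hom_pr, toD_c, toD_one]
  rw [e] at H
  obtain ⟨X, i1, i2, p, K, h1, h2, h3⟩ := H
  exact exists_psi_of_ct (Alt.of_caseII S h hI) hs h1 h2 h3

end

end Cfsg.Agent.LFourA.AltPsi
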