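import Cfsg.Agent.LFourA.AltCore
import Cfsg.Agent.LFourA.AltPsi

/-!
# Case II: balance for disjoint involutions of t-type follows from balance for adjacent ones
-/

set_option autoImplicit false
set_option Elab.async false

namespace Cfsg.Agent.LFourA.AltDisj

open Equiv Equiv.Perm Subgroup Cfsg.Agent.LFourA.AltModel Cfsg.Agent.LFourA.AltPat Cfsg.Agent.LFourA.AltNil
  Cfsg.Agent.LFourA.AltInst Cfsg.Agent.LFourA.AltInstB
  Cfsg.Agent.LFourA.AltPsiStd Cfsg.Agent.LFourA.AltPsi Cfsg.Agent.LFourA.AltCore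

universe u

variable {G : Type u} [Group G]

/-- transport of balance -/
theorem transport [Finite G] {a b n : G}
    (hb : Cfsg.centralizerPPrimeCore 2 a ⊓ centralizer ({b} : Set G) ≤ Cfsg.centralizerPPrimeCore 2 b) :
    Cfsg.centralizerPPrimeCore 2 (n * a * n⁻¹) ⊓ centralizer ({n * b * n⁻¹} : Set G) ≤
      Cfsg.centralizerPPrimeCore 2 (n * b * n⁻¹) := by
  rw [Dichotomy.CoreTools.core_conj, Dichotomy.CoreTools.core_conj, ← Dichotomy.CoreTools.centralizer_conj]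
  rintro x ⟨⟨y, hy, rfl⟩, ⟨y', hy', e⟩⟩
  have h1 : y' = y := (MulAut.conj n).injective e
  subst h1
  exact ⟨y', hb ⟨hy, hy'⟩, rfl⟩

/-- the numerical facts in `S₆`, `S₇` -/
structure NF (n : ℕ) [NeZero n] : Prop where
  twelve : ∀ δ : Perm (Fin n), δ * pa n = pa n * δ → δ ^ 12 = 1
  three : ∀ δ : Perm (Fin n), δ * pa n = pa n * δ → δ ^ 3 = 1 →
    δ * (pt n * stdF n (U.y * U.c)) = pt n * stdF n (U.y * U.c) * δ

set_option maxRecDepth 100000 in
theorem nf6 : NF 6 where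
  twelve := by decide +kernel
  three := by decide +kernel

set_option maxRecDepth 100000 in
theorem nf7 : NF 7 where
  twelve := by decide +kernel
  three := by decide +kernel

/-- elements of odd order inverted up to a square root -/
theorem exists_sqrt {e : G} (h : Odd (orderOf e)) : ∃ m : ℕ, (e ^ m) * (e ^ m) = e := by
  obtain ⟨k, hk⟩ := h
  refine ⟨k + 1, ?_⟩
  have h1 : e ^ (2 * k + 1) = 1 := by rw [← hk, pow_orderOf_eq_one]
  rw [← pow_add]
  calc e ^ (k + 1 + (k + 1)) = e ^ (2 * k + 1) * e := by rw [← pow_succ]; congr 1; ring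
    _ = e := by rw [h1, one_mul]

variable {S : Sylow 2 G} {F : M →* G} [Finite G]

theorem core_odd {x d : G} (hd : d ∈ Cfsg.centralizerPPrimeCore 2 x) : Odd (orderOf d) := by
  have h2 : Fact (Nat.Prime 2) := ⟨Nat.prime_two⟩
  have h1 := Dichotomy.CoreTools.core_card (p := 2) x
  rw [← even_iff_two_dvd, Nat.not_even_iff_odd] at h1
  exact h1.of_dvd_nat (Subgroup.orderOf_dvd_natCard _ hd)

theorem core_le_centralizer {x : G} : Cfsg.centralizerPPrimeCore 2 x ≤ centralizer ({x} : Set G) := map_subtype_le _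

theorem core_conj_mem {x g d : G} (hg : g * x = x * g) (hd : d ∈ Cfsg.centralizerPPrimeCore 2 x) :
    g * d * g⁻¹ ∈ Cfsg.centralizerPPrimeCore 2 x := by
  obtain ⟨y, hy, rfl⟩ := hd
  have hgc : g ∈ centralizer ({x} : Set G) := mem_centralizer_singleton_iff.2 hg
  exact ⟨⟨g, hgc⟩ * y * ⟨g, hgc⟩⁻¹, (Cfsg.Agent.Lib.Cores.pPrimeCore_normal 2).conj_mem y hy ⟨g, hgc⟩, rfl⟩

/-- odd elements of the kernel of `ψ` -/
theorem mem_core_of_ker (P : Alt S F) {n : ℕ} [NeZero n] {ψ : centralizer ({F t} : Set G) →* Perm (Fin n)}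
    (hψ : Psi F n ψ) {x : centralizer ({F t} : Set G)} (hx : ψ x = 1) (ho : Odd (orderOf (x : G))) :
    (x : G) ∈ Cfsg.centralizerPPrimeCore 2 (F t) := by
  obtain ⟨v, hv, o, hoc, e⟩ := (hψ.ker x).1 hx
  -- powers
  have hvt : ∀ k : ℕ, F (pr v 1) ^ k * F t = F t * F (pr v 1) ^ k := by
    intro k
    have h1 : pr v 1 * t = t * pr v 1 := by
      have : ∀ v : U, pr v 1 * t = t * pr v 1 := by decide
      exact this v
    have h3 : Commute (F (pr v 1)) (F t) := by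
      show F (pr v 1) * F t = F t * F (pr v 1)
      rw [← map_mul, h1, map_mul]
    exact h3.pow_left k
  have h1 : ∀ k : ℕ, ∃ o' ∈ Cfsg.centralizerPPrimeCore 2 (F t), (x : G) ^ k = F (pr v 1) ^ k * o' := by
    intro k
    induction k with
    | zero => exact ⟨1, one_mem _, by rw [pow_zero, pow_zero, one_mul]⟩
    | succ k ih =>
      obtain ⟨o', ho', e'⟩ := ih
      have h3 : (F (pr v 1))⁻¹ * F t = F t * (F (pr v 1))⁻¹ := by
        have h4 := hvt 1
        rw [pow_one] at h4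
        rw [inv_mul_eq_iff_eq_mul, ← mul_assoc, h4, mul_inv_cancel_right]
      have h5 := core_conj_mem h3 ho'
      rw [inv_inv] at h5
      refine ⟨(F (pr v 1))⁻¹ * o' * F (pr v 1) * o, mul_mem h5 hoc, ?_⟩
      rw [pow_succ, e', e, pow_succ]; group
  obtain ⟨o', ho', e'⟩ := h1 (orderOf (x : G))
  rw [pow_orderOf_eq_one] at e'
  have h3 : F (pr v 1) ^ orderOf (x : G) ∈ Cfsg.centralizerPPrimeCore 2 (F t) := by
    have h4 : F (pr v 1) ^ orderOf (x : G) = o'⁻¹ := eq_inv_of_mul_eq_one_left e'.symm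
    rw [h4]; exact inv_mem ho'
  have h4 := core_odd h3
  rw [← map_pow] at h4
  have h5 := AltZ7.eq_one_of_F_odd P h4
  have h6 : orderOf (pr v 1) ∣ orderOf (x : G) := orderOf_dvd_of_pow_eq_one h5
  have h7 : pr v 1 = 1 := by
    apply AltZ7.eq_one_of_F_odd P
    rw [orderOf_injective F P.inj]
    exact ho.of_dvd_nat h6
  rw [e, h7, map_one, one_mul]
  exact hoc

/-- **balance for disjoint involutions** -/
theorem disj_of_adj (P : Alt S F) {n : ℕ} [NeZero n] (hn : NF n) {ψ : centralizer ({F t} : Set G) →* Perm (Fin n)}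
    (hψ : Psi F n ψ) (ha : Adj F) : Disj F := by
  intro d hd
  rw [tt_t'] at hd
  rw [tt_t] at hd ⊢
  obtain ⟨hd1, hd2⟩ := hd
  have hdo := core_odd hd1
  -- the involution `τ = t_02`
  have hτ : tt F 0 2 = F (pr (U.y * U.c) (U.y * U.c)) := by rw [tt]; congr 1
  have hτ' : tt F 0 2 * F t' = F t' * tt F 0 2 := by rw [hτ, ← map_mul, ← map_mul]; congr 1
  have hτt : tt F 0 2 * F t = F t * tt F 0 2 := by rw [hτ, ← map_mul, ← map_mul]; congr 1
  have hττ : tt F 0 2 * tt F 0 2 = 1 := tt_sq 0 2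
  have hτi : (tt F 0 2)⁻¹ = tt F 0 2 := inv_eq_of_mul_eq_one_left hττ
  -- `ψ d` commutes with `(01)(23)`
  have hdt' : d * F t' = F t' * d := mem_centralizer_singleton_iff.1 (core_le_centralizer hd1)
  have ht'c : F t' ∈ centralizer ({F t} : Set G) := pr_mem F _ _
  have h1 : ψ ⟨d, hd2⟩ * pa n = pa n * ψ ⟨d, hd2⟩ := by
    have h3 : ψ ⟨F t', ht'c⟩ = pa n := by
      have h4 := hψ.val 1 U.c ht'c
      rw [stdF_c] at h4
      rw [show (if (1 : U).p then pt n else 1) = 1 from rfl, one_mul] at h4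
      exact h4
    rw [← h3, ← map_mul, ← map_mul]
    congr 1
    exact Subtype.ext hdt'
  have h3 : ψ ⟨d, hd2⟩ ^ 3 = 1 := by
    have h4 := hn.twelve _ h1
    have h5 : orderOf (ψ ⟨d, hd2⟩) ∣ 3 := by
      have h6 : orderOf (ψ ⟨d, hd2⟩) ∣ orderOf d := by
        rw [← orderOf_mk d hd2]
        exact orderOf_map_dvd ψ _
      have h7 : Odd (orderOf (ψ ⟨d, hd2⟩)) := hdo.of_dvd_nat h6
      have h8 : orderOf (ψ ⟨d, hd2⟩) ∣ 3 * 2 ^ 2 := orderOf_dvd_of_pow_eq_one h4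
      exact (Nat.Coprime.pow_right 2 (Nat.coprime_two_right.2 h7)).dvd_of_dvd_mul_right h8
    exact orderOf_dvd_iff_pow_eq_one.1 h5
  have h4 := hn.three _ h1 h3
  -- the commutator
  have hτc : tt F 0 2 ∈ centralizer ({F t} : Set G) := mem_centralizer_singleton_iff.2 hτt
  obtain ⟨e, he⟩ : ∃ e, e = d⁻¹ * (tt F 0 2 * d * (tt F 0 2)⁻¹) := ⟨_, rfl⟩
  have heD : e ∈ Cfsg.centralizerPPrimeCore 2 (F t') := by
    rw [he]
    exact mul_mem (inv_mem hd1) (core_conj_mem hτ' hd1)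
  have heo := core_odd heD
  have hec : e ∈ centralizer ({F t} : Set G) := by
    rw [he]
    exact mul_mem (inv_mem hd2) (mul_mem (mul_mem hτc hd2) (inv_mem hτc))
  have heO : e ∈ Cfsg.centralizerPPrimeCore 2 (F t) := by
    refine mem_core_of_ker P hψ (x := ⟨e, hec⟩) ?_ heo
    have h5 : (⟨e, hec⟩ : centralizer ({F t} : Set G)) = ⟨d, hd2⟩⁻¹ * (⟨tt F 0 2, hτc⟩ * ⟨d, hd2⟩ * ⟨tt F 0 2, hτc⟩⁻¹) :=
      Subtype.ext he
    have h6 : ψ ⟨tt F 0 2, hτc⟩ = pt n * stdF n (U.y * U.c) := by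
      have h7 : (⟨tt F 0 2, hτc⟩ : centralizer ({F t} : Set G)) = ⟨F (pr (U.y * U.c) (U.y * U.c)), pr_mem F _ _⟩ :=
        Subtype.ext hτ
      rw [h7, hψ.val]
      rfl
    rw [h5, map_mul, map_mul, map_mul, map_inv, map_inv, h6, ← h4, mul_inv_cancel_right, inv_mul_cancel]
  -- the square root
  obtain ⟨m, hm⟩ := exists_sqrt heo
  have hτe : tt F 0 2 * e * (tt F 0 2)⁻¹ = e⁻¹ := by
    rw [he, hτi]
    calc tt F 0 2 * (d⁻¹ * (tt F 0 2 * d * tt F 0 2)) * tt F 0 2 =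
        tt F 0 2 * d⁻¹ * tt F 0 2 * d * (tt F 0 2 * tt F 0 2) := by group
      _ = tt F 0 2 * d⁻¹ * tt F 0 2 * d := by rw [hττ, mul_one]
      _ = (d⁻¹ * (tt F 0 2 * d * tt F 0 2))⁻¹ := by
        simp only [mul_inv_rev, inv_inv, hτi]; group
  have hτm : tt F 0 2 * e ^ m * (tt F 0 2)⁻¹ = (e ^ m)⁻¹ := by
    rw [← conj_pow, hτe, inv_pow]
  have hdm : tt F 0 2 * (d * e ^ m) * (tt F 0 2)⁻¹ = d * e ^ m := by
    have h5 : tt F 0 2 * d * (tt F 0 2)⁻¹ = d * e := by rw [he]; group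
    calc tt F 0 2 * (d * e ^ m) * (tt F 0 2)⁻¹ =
        tt F 0 2 * d * (tt F 0 2)⁻¹ * (tt F 0 2 * e ^ m * (tt F 0 2)⁻¹) := by group
      _ = d * e * (e ^ m)⁻¹ := by rw [h5, hτm]
      _ = d * (e ^ m * e ^ m) * (e ^ m)⁻¹ := by rw [hm]
      _ = d * e ^ m := by group
  -- balance twice
  have h5 : d * e ^ m ∈ Cfsg.centralizerPPrimeCore 2 (tt F 2 3) := by
    rw [tt_t']
    exact mul_mem hd1 (pow_mem heD m)
  have h6 : d * e ^ m ∈ centralizer ({tt F 0 2} : Set G) := by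
    rw [mem_centralizer_singleton_iff]
    calc d * e ^ m * tt F 0 2 = tt F 0 2 * (d * e ^ m) * (tt F 0 2)⁻¹ * tt F 0 2 := by rw [hdm]
      _ = tt F 0 2 * (d * e ^ m) := by group
  have h7 : d * e ^ m ∈ Cfsg.centralizerPPrimeCore 2 (tt F 0 2) := by
    obtain ⟨n, -, hn⟩ := exists_conj_tt P (swap 0 2 * swap 2 3 * swap 3 1)
    have h8 := transport (n := n) ha
    rw [hn, hn] at h8
    have e1 : (swap 0 2 * swap 2 3 * swap 3 1 : Perm (Fin 5)) 0 = 2 := by decide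
    have e2 : (swap 0 2 * swap 2 3 * swap 3 1 : Perm (Fin 5)) 1 = 0 := by decide
    have e3 : (swap 0 2 * swap 2 3 * swap 3 1 : Perm (Fin 5)) 2 = 3 := by decide
    rw [e1, e2, e3, tt_comm 2 0] at h8
    exact h8 ⟨h5, h6⟩
  have h8 : d * e ^ m ∈ Cfsg.centralizerPPrimeCore 2 (F t) := by
    have h9 := ha
    rw [Adj, tt_t] at h9
    exact h9 ⟨h7, mul_mem hd2 (pow_mem hec m)⟩
  have h9 := mul_mem h8 (inv_mem (pow_mem heO m))
  rwa [mul_inv_cancel_right] at h9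

end Cfsg.Agent.LFourA.AltDisj
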