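import Cfsg.Agent.LFourA.AltPsi
import Cfsg.Agent.StdAlt.Conj

/-!
# Case II: the component of `C(t)`

`V = F(V_o × 1)`, `D = C(V)`, `L = [D, D]`. If `O(C(t)) = 1` then `L ≅ A_n`, `L ∩ V = 1` and `V` is a Sylow 2-subgroup of
`C(L)`; `L` has the properties `TE` of a standard subgroup.
-/

set_option autoImplicit false

namespace Cfsg.Agent.LFourA.AltEnd

open Equiv Equiv.Perm Subgroup
open Cfsg.Agent.LFourA.AltModel Cfsg.Agent.LFourA.AltPat Cfsg.Agent.LFourA.AltPsi Cfsg.Agent.LFourA.AltPsiStd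

universe u

/-! ### permutations -/

theorem exists_notMem {n : ℕ} (s : Finset (Fin n)) (h : s.card < n) : ∃ j, j ∉ s := by
  by_contra h1
  push Not at h1
  have h2 : s = Finset.univ := Finset.eq_univ_iff_forall.2 h1
  rw [h2, Finset.card_univ, Fintype.card_fin] at h
  exact lt_irrefl _ h

/-- the centralizer of `A_n` in `S_n` is trivial -/
theorem eq_one_of_comm {n : ℕ} (hn : 4 ≤ n) {σ : Perm (Fin n)}
    (h : ∀ τ ∈ alternatingGroup (Fin n), σ * τ = τ * σ) : σ = 1 := by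
  ext i
  rw [Perm.one_apply]
  by_contra hi
  have hi' : σ i ≠ i := fun e => hi (by rw [e])
  obtain ⟨j, hj⟩ := exists_notMem {i, σ i} (lt_of_le_of_lt (Finset.card_le_two) (by omega))
  obtain ⟨k, hk⟩ := exists_notMem {i, σ i, j} (lt_of_le_of_lt (Finset.card_le_three) (by omega))
  simp only [Finset.mem_insert, Finset.mem_singleton, not_or] at hj hk
  have hmem : swap i j * swap j k ∈ alternatingGroup (Fin n) := by
    rw [mem_alternatingGroup, map_mul, sign_swap (Ne.symm hj.1), sign_swap (Ne.symm hk.2.2)]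
    rfl
  have h1 := congrArg (fun τ : Perm (Fin n) => τ i) (h _ hmem)
  simp only [Perm.mul_apply] at h1
  rw [swap_apply_of_ne_of_ne (Ne.symm hj.1) (Ne.symm hk.1), swap_apply_left,
    swap_apply_of_ne_of_ne (Ne.symm hj.2) (Ne.symm hk.2.1), swap_apply_of_ne_of_ne hi' (Ne.symm hj.2)] at h1
  exact hj.1 (σ.injective h1)

/-! ### the model -/

/-- `V_o × 1` -/
def Vo : Subgroup M where
  carrier := {x | x.m = false ∧ x.a.p = false ∧ x.b = 1}
  one_mem' := by decide
  mul_mem' {x y} := by revert x y; decide +kernel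
  inv_mem' {x} := by revert x; decide +kernel

/-- `V_o × U` -/
def Bo : Subgroup M where
  carrier := {x | x.m = false ∧ x.a.p = false}
  one_mem' := by decide
  mul_mem' {x y} := by revert x y; decide +kernel
  inv_mem' {x} := by revert x; decide +kernel

theorem mem_Vo {x : M} : x ∈ Vo ↔ x.m = false ∧ x.a.p = false ∧ x.b = 1 := Iff.rfl
theorem mem_Bo {x : M} : x ∈ Bo ↔ x.m = false ∧ x.a.p = false := Iff.rfl
theorem Vo_cases : ∀ x : M, x.m = false ∧ x.a.p = false ∧ x.b = 1 → x = 1 ∨ x = t ∨ x = pr U.y' 1 ∨ x = pr (U.y' * U.c) 1 := by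
  decide +kernel
theorem Vo_comm : ∀ x y : M, (x.m = false ∧ x.a.p = false ∧ x.b = 1) → (y.m = false ∧ y.a.p = false) → x * y = y * x := by
  decide +kernel
theorem Vo_sq : ∀ x : M, (x.m = false ∧ x.a.p = false ∧ x.b = 1) → x * x = 1 := by decide +kernel

instance : DecidablePred (· ∈ Bo) := fun x => decidable_of_iff (x.m = false ∧ x.a.p = false) Iff.rfl

theorem card_Bo : Nat.card Bo = 32 := by
  rw [Nat.card_eq_fintype_card]
  have h : Fintype.card {x : M // x.m = false ∧ x.a.p = false} = 32 := by decide +kernel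
  exact (Fintype.card_congr (Equiv.refl _)).trans h

/-- the sign of the second coordinate -/
def sq (x : M) : ℤˣ := if x.a.q then -1 else 1
/-- the sign of the third coordinate -/
def sr (x : M) : ℤˣ := if x.a.r then -1 else 1

theorem sq_mul : ∀ x y : M, (x.m = false ∧ x.a.p = false) → (y.m = false ∧ y.a.p = false) → sq (x * y) = sq x * sq y := by
  decide +kernel
theorem sr_mul : ∀ x y : M, (x.m = false ∧ x.a.p = false) → (y.m = false ∧ y.a.p = false) → sr (x * y) = sr x * sr y := by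
  decide +kernel
theorem eq_one_of_signs : ∀ x : M, (x.m = false ∧ x.a.p = false ∧ x.b = 1) → sq x = 1 → sr x = 1 → x = 1 := by
  decide +kernel

/-- `sq` as a homomorphism -/
def sqHom : Bo →* ℤˣ := MonoidHom.mk' (fun x => sq x) (fun x y => sq_mul x y x.2 y.2)
/-- `sr` as a homomorphism -/
def srHom : Bo →* ℤˣ := MonoidHom.mk' (fun x => sr x) (fun x y => sr_mul x y x.2 y.2)

/-! ### transfer of a homomorphism defined on a subgroup of odd index -/

theorem transfer_central {D : Type*} [Group D] [Finite D] {H : Subgroup D} (hodd : Odd H.index) (φ : H →* ℤˣ) {v : D}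
    (hv : ∀ d : D, v * d = d * v) (hvH : v ∈ H) (hvv : v * v = 1) : MonoidHom.transfer φ v = φ ⟨v, hvH⟩ := by
  have key : ∀ (k : ℕ) (g₀ : D), g₀⁻¹ * v ^ k * g₀ ∈ H → g₀⁻¹ * v ^ k * g₀ = v ^ k := by
    intro k g₀ _
    have h1 : Commute (v ^ k) g₀ := (Commute.pow_left (hv g₀) k)
    rw [mul_assoc, h1.eq, ← mul_assoc, inv_mul_cancel, one_mul]
  rw [MonoidHom.transfer_eq_pow φ v key]
  congr 1
  apply Subtype.ext
  obtain ⟨m, hm⟩ := hodd
  change v ^ H.index = v
  rw [hm, pow_succ, pow_mul, pow_two, hvv, one_pow, one_mul]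

theorem hom_commutator {D : Type*} [Group D] (τ : D →* ℤˣ) {v : D} (hv : v ∈ commutator D) : τ v = 1 := by
  have h := Abelianization.commutator_subset_ker τ hv
  exact h

variable {G : Type u} [Group G] {S : Sylow 2 G} {F : M →* G}

/-- `F(V_o × 1)` -/
def VO (F : M →* G) : Subgroup G := Vo.map F
/-- `C(V_o)` -/
def DD (F : M →* G) : Subgroup G := centralizer (VO F : Set G)
/-- the component of `C(t)` -/
def LL (F : M →* G) : Subgroup G := ⁅DD F, DD F⁆

theorem mem_VO {g : G} : g ∈ VO F ↔ ∃ x : M, (x.m = false ∧ x.a.p = false ∧ x.b = 1) ∧ F x = g := Iff.rfl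

theorem mem_VO' {g : G} : g ∈ VO F ↔ ∃ v : U, v.p = false ∧ g = F (pr v 1) := by
  rw [mem_VO]
  constructor
  · rintro ⟨x, ⟨h1, h2, h3⟩, rfl⟩
    refine ⟨x.a, h2, ?_⟩
    congr 1
    exact M.ext rfl h3 h1
  · rintro ⟨v, hv, rfl⟩
    exact ⟨_, ⟨rfl, hv, rfl⟩, rfl⟩

theorem VO_cases {g : G} (h : g ∈ VO F) : g = 1 ∨ g = F t ∨ g = F (pr U.y' 1) ∨ g = F (pr (U.y' * U.c) 1) := by
  obtain ⟨x, hx, rfl⟩ := h
  rcases Vo_cases x hx with rfl | rfl | rfl | rfl
  · exact Or.inl (map_one F)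
  · exact Or.inr (Or.inl rfl)
  · exact Or.inr (Or.inr (Or.inl rfl))
  · exact Or.inr (Or.inr (Or.inr rfl))

theorem t_mem : F t ∈ VO F := ⟨_, mem_Vo.2 (by decide), rfl⟩
theorem y'_mem : F (pr U.y' 1) ∈ VO F := ⟨_, mem_Vo.2 (by decide), rfl⟩
theorem y'c_mem : F (pr (U.y' * U.c) 1) ∈ VO F := ⟨_, mem_Vo.2 (by decide), rfl⟩

theorem VO_sq {g : G} (h : g ∈ VO F) : g * g = 1 := by
  obtain ⟨x, hx, rfl⟩ := h
  rw [← map_mul, Vo_sq x hx, map_one]

theorem VO_comm {a b : G} (ha : a ∈ VO F) (hb : b ∈ VO F) : a * b = b * a := by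
  obtain ⟨x, hx, rfl⟩ := ha
  obtain ⟨y, hy, rfl⟩ := hb
  rw [← map_mul, Vo_comm x y hx ⟨hy.1, hy.2.1⟩, map_mul]

theorem mem_DD {g : G} : g ∈ DD F ↔ ∀ v ∈ VO F, g * v = v * g := by
  rw [DD, mem_centralizer_iff]
  exact ⟨fun h v hv => (h v hv).symm, fun h v hv => (h v hv).symm⟩

theorem VO_le_DD : VO F ≤ DD F := fun _ hg => mem_DD.2 fun _ hv => VO_comm hg hv

theorem DD_le_CC : DD F ≤ centralizer ({F t} : Set G) := fun _ hg =>
  mem_centralizer_singleton_iff.2 (mem_DD.1 hg _ t_mem)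

theorem VO_le_CC : VO F ≤ centralizer ({F t} : Set G) := VO_le_DD.trans DD_le_CC

theorem LL_le_DD : LL F ≤ DD F := commutator_le_self _

theorem Bo_le_DD : Bo.map F ≤ DD F := by
  rintro _ ⟨x, hx, rfl⟩
  rw [mem_DD]
  rintro _ ⟨y, hy, rfl⟩
  rw [← map_mul, ← Vo_comm y x hy hx, map_mul]

theorem VO_le_Bo : VO F ≤ Bo.map F := map_mono fun _ hx => ⟨hx.1, hx.2.1⟩

theorem normalizer_le : normalizer (VO F : Set G) ≤ normalizer (LL F : Set G) := by
  intro g hg
  have h1 : g ∈ normalizer (DD F : Set G) := by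
    rw [mem_normalizer_iff]
    intro x
    rw [mem_normalizer_iff] at hg
    constructor
    · intro hx
      rw [mem_DD] at hx ⊢
      intro v hv
      have h2 : g⁻¹ * v * g ∈ VO F := (hg _).2 (by
        have e : g * (g⁻¹ * v * g) * g⁻¹ = v := by group
        rw [e]; exact hv)
      have h3 := hx _ h2
      calc g * x * g⁻¹ * v = g * (x * (g⁻¹ * v * g)) * g⁻¹ := by group
        _ = g * (g⁻¹ * v * g * x) * g⁻¹ := by rw [h3]
        _ = _ := by group
    · intro hx
      rw [mem_DD] at hx ⊢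
      intro v hv
      have h3 := hx _ ((hg _).1 hv)
      calc x * v = g⁻¹ * (g * x * g⁻¹ * (g * v * g⁻¹)) * g := by group
        _ = g⁻¹ * (g * v * g⁻¹ * (g * x * g⁻¹)) * g := by rw [h3]
        _ = _ := by group
  rw [mem_normalizer_iff_map_conj_eq] at h1 ⊢
  refine (map_commutator _ _ _).trans ?_
  rw [h1]
  rfl

section psi

variable {n : ℕ} [NeZero n] {ψ : centralizer ({F t} : Set G) →* Perm (Fin n)}

/-- the kernel of `ψ` -/
theorem psi_eq_one (hψ : Psi F n ψ) (hO : Cfsg.centralizerPPrimeCore 2 (F t) = ⊥) {x : G}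
    (hx : x ∈ centralizer ({F t} : Set G)) : ψ ⟨x, hx⟩ = 1 ↔ x ∈ VO F := by
  rw [hψ.ker, mem_VO']
  constructor
  · rintro ⟨v, hv, o, ho, e⟩
    rw [hO, mem_bot] at ho
    exact ⟨v, hv, by rw [ho, mul_one] at e; exact e⟩
  · rintro ⟨v, hv, e⟩
    exact ⟨v, hv, 1, one_mem _, by rw [mul_one]; exact e⟩

variable (hψ : Psi F n ψ) (hO : Cfsg.centralizerPPrimeCore 2 (F t) = ⊥)

include hψ hO

theorem CC_le : centralizer ({F t} : Set G) ≤ normalizer (VO F : Set G) := by
  have key : ∀ g ∈ centralizer ({F t} : Set G), ∀ v ∈ VO F, g * v * g⁻¹ ∈ VO F := by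
    intro g hg v hv
    have hvC := VO_le_CC hv
    rw [← psi_eq_one hψ hO (mul_mem (mul_mem hg hvC) (inv_mem hg))]
    have h1 := (psi_eq_one hψ hO hvC).2 hv
    have e : (⟨g * v * g⁻¹, mul_mem (mul_mem hg hvC) (inv_mem hg)⟩ : centralizer ({F t} : Set G)) =
        ⟨g, hg⟩ * ⟨v, hvC⟩ * ⟨g, hg⟩⁻¹ := rfl
    rw [e, map_mul, map_mul, h1, mul_one, map_inv, mul_inv_cancel]
  intro g hg
  rw [mem_normalizer_iff]
  intro v
  refine ⟨key g hg v, fun h => ?_⟩
  have h1 := key _ (inv_mem hg) _ h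
  have e : g⁻¹ * (g * v * g⁻¹) * g⁻¹⁻¹ = v := by group
  rwa [e] at h1

theorem CC_le_LL : centralizer ({F t} : Set G) ≤ normalizer (LL F : Set G) := (CC_le hψ hO).trans normalizer_le

/-- the value of the conjugation on `F(y', 1)` -/
theorem conj_y' (P : Alt S F) {g : G} (hg : g ∈ centralizer ({F t} : Set G)) :
    g * F (pr U.y' 1) * g⁻¹ = F (pr U.y' 1) ∨ g * F (pr U.y' 1) * g⁻¹ = F (pr (U.y' * U.c) 1) := by
  have h1 := (mem_normalizer_iff.1 (CC_le hψ hO hg) _).1 y'_mem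
  have h2 : g * F t * g⁻¹ = F t := by
    rw [mem_centralizer_singleton_iff.1 hg, mul_inv_cancel_right]
  rcases VO_cases h1 with h | h | h | h
  · exfalso
    rw [conj_eq_one_iff] at h
    exact absurd (P.inj (h.trans (map_one F).symm)) (by decide)
  · exfalso
    have h3 : F (pr U.y' 1) = F t := by
      have := h.trans h2.symm
      exact mul_left_cancel (mul_right_cancel this)
    exact absurd (P.inj h3) (by decide)
  · exact Or.inl h
  · exact Or.inr h

theorem mem_DD_iff {g : G} (hg : g ∈ centralizer ({F t} : Set G)) :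
    g ∈ DD F ↔ g * F (pr U.y' 1) * g⁻¹ = F (pr U.y' 1) := by
  have h2 : g * F t * g⁻¹ = F t := by
    rw [mem_centralizer_singleton_iff.1 hg, mul_inv_cancel_right]
  rw [mem_DD]
  constructor
  · intro h
    rw [h _ y'_mem, mul_inv_cancel_right]
  · intro h v hv
    have h3 : g * v * g⁻¹ = v := by
      rcases VO_cases hv with rfl | rfl | rfl | rfl
      · group
      · exact h2
      · exact h
      · have e : F (pr (U.y' * U.c) 1) = F (pr U.y' 1) * F t := by rw [← map_mul]; congr 1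
        rw [e]
        calc g * (F (pr U.y' 1) * F t) * g⁻¹ = (g * F (pr U.y' 1) * g⁻¹) * (g * F t * g⁻¹) := by group
          _ = _ := by rw [h, h2]
    calc g * v = g * v * g⁻¹ * g := by group
      _ = v * g := by rw [h3]

/-- `D` has index two in `C(t)` -/
theorem index_DD (P : Alt S F) : ((DD F).subgroupOf (centralizer ({F t} : Set G))).index = 2 := by
  rw [index_eq_two_iff]
  refine ⟨⟨F (pr U.y 1), pr_mem F _ _⟩, ?_⟩
  rintro ⟨b, hb⟩
  rw [mem_subgroupOf, mem_subgroupOf]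
  change Xor (b * F (pr U.y 1) ∈ DD F) (b ∈ DD F)
  rw [mem_DD_iff hψ hO hb, mem_DD_iff hψ hO (mul_mem hb (pr_mem F _ _))]
  have h2 : b * F t * b⁻¹ = F t := by
    rw [mem_centralizer_singleton_iff.1 hb, mul_inv_cancel_right]
  have h1 : b * F (pr U.y 1) * F (pr U.y' 1) * (b * F (pr U.y 1))⁻¹ = b * F (pr U.y' 1) * b⁻¹ * F t := by
    have e : F (pr U.y 1) * F (pr U.y' 1) * (F (pr U.y 1))⁻¹ = F (pr U.y' 1) * F t := by
      rw [← map_inv, ← map_mul, ← map_mul, ← map_mul]; congr 1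
    calc b * F (pr U.y 1) * F (pr U.y' 1) * (b * F (pr U.y 1))⁻¹ =
        b * (F (pr U.y 1) * F (pr U.y' 1) * (F (pr U.y 1))⁻¹) * b⁻¹ := by group
      _ = b * (F (pr U.y' 1) * F t) * b⁻¹ := by rw [e]
      _ = b * F (pr U.y' 1) * b⁻¹ * (b * F t * b⁻¹) := by group
      _ = _ := by rw [h2]
  rw [h1]
  have e1 : F (pr (U.y' * U.c) 1) * F t = F (pr U.y' 1) := by rw [← map_mul]; congr 1
  have e2 : F (pr U.y' 1) * F t = F (pr (U.y' * U.c) 1) := by rw [← map_mul]; congr 1
  have hne : F (pr (U.y' * U.c) 1) ≠ F (pr U.y' 1) := fun e => absurd (P.inj e) (by decide)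
  rcases conj_y' hψ hO P hb with h | h
  · rw [h, e2]
    exact Or.inr ⟨rfl, hne⟩
  · rw [h, e1]
    exact Or.inl ⟨rfl, hne⟩

theorem map_DD (P : Alt S F) : ((DD F).subgroupOf (centralizer ({F t} : Set G))).map ψ = alternatingGroup (Fin n) := by
  apply eq_alternatingGroup_of_index_eq_two
  rw [index_map_eq _ hψ.surj, index_DD hψ hO P]
  intro x hx
  rw [MonoidHom.mem_ker] at hx
  exact VO_le_DD ((psi_eq_one hψ hO x.2).1 hx)

theorem sign_DD (P : Alt S F) {g : G} (hg : g ∈ DD F) : ψ ⟨g, DD_le_CC hg⟩ ∈ alternatingGroup (Fin n) := by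
  rw [← map_DD hψ hO P]
  exact ⟨_, mem_subgroupOf.2 hg, rfl⟩

theorem map_LL (P : Alt S F) (hn : 5 ≤ n) :
    ((LL F).subgroupOf (centralizer ({F t} : Set G))).map ψ = alternatingGroup (Fin n) := by
  have h1 : (LL F).subgroupOf (centralizer ({F t} : Set G)) =
      ⁅(DD F).subgroupOf (centralizer ({F t} : Set G)), (DD F).subgroupOf (centralizer ({F t} : Set G))⁆ := by
    apply map_injective (subtype_injective (centralizer ({F t} : Set G)))
    rw [map_commutator, subgroupOf_map_subtype, subgroupOf_map_subtype, inf_of_le_left DD_le_CC,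
      inf_of_le_left (LL_le_DD.trans DD_le_CC)]
    rfl
  rw [h1, map_commutator, map_DD hψ hO P]
  apply commutator_alternatingGroup_eq_self
  rw [Nat.card_eq_fintype_card, Fintype.card_fin]
  exact hn

end psi

end Cfsg.Agent.LFourA.AltEnd
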