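import Cfsg.Agent.LFourA.AltEnd

/-!
# Case II: `V_o` is a Sylow 2-subgroup of the centralizer of the component
-/

set_option autoImplicit false

namespace Cfsg.Agent.LFourA.AltEndB

open Equiv Equiv.Perm Subgroup
open Cfsg.Agent.LFourA.AltModel Cfsg.Agent.LFourA.AltPat Cfsg.Agent.LFourA.AltPsi Cfsg.Agent.LFourA.AltPsiStd
  Cfsg.Agent.LFourA.AltEnd
open Cfsg.Agent.StdAlt.Conj (C N Cj TE mem_C mem_N)

universe u

variable {G : Type u} [Group G] {S : Sylow 2 G} {F : M →* G}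

theorem card_VO (P : Alt S F) : Nat.card (VO F) = 4 := by
  rw [VO, card_map_of_injective P.inj]
  have h : Fintype.card {x : M // x.m = false ∧ x.a.p = false ∧ x.b = 1} = 4 := by decide +kernel
  rw [← h, ← Nat.card_eq_fintype_card]
  rfl

section psi

variable {n : ℕ} [NeZero n] {ψ : centralizer ({F t} : Set G) →* Perm (Fin n)}
variable (hψ : Psi F n ψ) (hO : Cfsg.centralizerPPrimeCore 2 (F t) = ⊥)

include hψ hO

section

variable [Finite G]

/-- `F(V_o × U)` has odd index in `D` -/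
theorem odd_index (P : Alt S F) : Odd ((Bo.map F).subgroupOf (DD F)).index := by
  have h2 : Fact (Nat.Prime 2) := ⟨Nat.prime_two⟩
  obtain ⟨Q, hQ⟩ := exists_sylow_t P
  have h1 : ¬ 2 ∣ (AltNil.Bsub.map F).relIndex (centralizer ({F t} : Set G)) := by
    have h3 := Q.not_dvd_index
    rw [hQ] at h3
    exact h3
  have hBC : AltNil.Bsub.map F ≤ centralizer ({F t} : Set G) := by
    rintro _ ⟨x, hx, rfl⟩
    exact (AltNil.F_mem_CT hx).1
  have hBB : Bo.map F ≤ AltNil.Bsub.map F := map_mono fun x hx => hx.1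
  have e1 := relIndex_mul_relIndex _ _ _ hBB hBC
  have e2 := relIndex_mul_relIndex _ _ _ (Bo_le_DD (F := F)) DD_le_CC
  have e3 : (DD F).relIndex (centralizer ({F t} : Set G)) = 2 := index_DD hψ hO P
  have e4 := relIndex_mul_relIndex _ _ _ (bot_le (a := Bo.map F)) hBB
  rw [relIndex_bot_left, relIndex_bot_left, card_map_of_injective P.inj, card_map_of_injective P.inj, card_Bo,
    AltNil.card_Bsub] at e4
  have e5 : (Bo.map F).relIndex (AltNil.Bsub.map F) = 2 := by omega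
  rw [e5] at e1
  rw [e3] at e2
  change Odd ((Bo.map F).relIndex (DD F))
  rw [Nat.odd_iff]
  omega

/-- `V_o ∩ L = 1` -/
theorem eq_one_of_mem (P : Alt S F) {g : G} (h1 : g ∈ VO F) (h2 : g ∈ LL F) : g = 1 := by
  obtain ⟨x, hx, rfl⟩ := h1
  have hodd := odd_index hψ hO P
  have hD : F x ∈ DD F := LL_le_DD h2
  have hxB : x ∈ Bo := ⟨hx.1, hx.2.1⟩
  have hH : (⟨F x, hD⟩ : DD F) ∈ (Bo.map F).subgroupOf (DD F) := mem_subgroupOf.2 ⟨x, hxB, rfl⟩
  have hcomm : (⟨F x, hD⟩ : DD F) ∈ commutator (DD F) := by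
    have h3 : F x ∈ (commutator (DD F)).map (DD F).subtype := by
      rw [map_subtype_commutator]
      exact h2
    obtain ⟨y, hy, e⟩ := h3
    have : y = ⟨F x, hD⟩ := Subtype.ext e
    rwa [← this]
  have hcen : ∀ d : DD F, (⟨F x, hD⟩ : DD F) * d = d * ⟨F x, hD⟩ := by
    intro d
    exact Subtype.ext (mem_DD.1 d.2 _ ⟨x, hx, rfl⟩).symm
  have hsq : (⟨F x, hD⟩ : DD F) * ⟨F x, hD⟩ = 1 := Subtype.ext (VO_sq ⟨x, hx, rfl⟩)
  -- the homomorphism
  let e := Bo.equivMapOfInjective F P.inj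
  let r := (subgroupOfEquivOfLe (Bo_le_DD (F := F)))
  have key : ∀ κ : Bo →* ℤˣ, κ ⟨x, hxB⟩ = 1 := by
    intro κ
    let φ : (Bo.map F).subgroupOf (DD F) →* ℤˣ := κ.comp (e.symm.toMonoidHom.comp r.toMonoidHom)
    have h3 := transfer_central hodd φ hcen hH hsq
    rw [hom_commutator _ hcomm] at h3
    have h4 : e.symm (r ⟨⟨F x, hD⟩, hH⟩) = ⟨x, hxB⟩ := by
      rw [MulEquiv.symm_apply_eq]
      rfl
    have h5 : φ ⟨⟨F x, hD⟩, hH⟩ = κ ⟨x, hxB⟩ := by
      change κ (e.symm (r ⟨⟨F x, hD⟩, hH⟩)) = _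
      rw [h4]
    rw [← h5, ← h3]
  have h3 : x = 1 := eq_one_of_signs x hx (key sqHom) (key srHom)
  rw [h3, map_one]

/-- `L ≅ A_n` -/
theorem exists_equiv (P : Alt S F) (hn : 5 ≤ n) : Nonempty (LL F ≃* alternatingGroup (Fin n)) := by
  have hle : LL F ≤ centralizer ({F t} : Set G) := LL_le_DD.trans DD_le_CC
  let φ : LL F →* Perm (Fin n) := ψ.comp (inclusion hle)
  have hinj : Function.Injective φ := by
    rw [injective_iff_map_eq_one]
    rintro ⟨g, hg⟩ h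
    exact Subtype.ext (eq_one_of_mem hψ hO P ((psi_eq_one hψ hO (hle hg)).1 h) hg)
  have hr : φ.range = alternatingGroup (Fin n) := by
    rw [← map_LL hψ hO P hn]
    ext σ
    constructor
    · rintro ⟨⟨g, hg⟩, rfl⟩
      exact ⟨⟨g, hle hg⟩, mem_subgroupOf.2 hg, rfl⟩
    · rintro ⟨⟨g, hgC⟩, hg, rfl⟩
      exact ⟨⟨g, mem_subgroupOf.1 hg⟩, rfl⟩
  exact ⟨(MonoidHom.ofInjective hinj).trans (MulEquiv.subgroupCongr hr)⟩

/-- `C(L) ∩ C(t) = V_o` -/
theorem mem_VO_of (P : Alt S F) (hn : 5 ≤ n) {g : G} (h1 : g ∈ C (LL F)) (h2 : g ∈ centralizer ({F t} : Set G)) :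
    g ∈ VO F := by
  rw [← psi_eq_one hψ hO h2]
  apply eq_one_of_comm (by omega)
  intro τ hτ
  rw [← map_LL hψ hO P hn] at hτ
  obtain ⟨l, hl, rfl⟩ := hτ
  rw [← map_mul, ← map_mul]
  congr 1
  exact Subtype.ext (mem_C.1 h1 _ (mem_subgroupOf.1 hl))

omit hψ hO in
theorem VO_le_C : VO F ≤ C (LL F) := by
  intro v hv
  rw [mem_C]
  intro a ha
  exact (mem_DD.1 (LL_le_DD ha) v hv).symm

/-- auxiliary -/
theorem swap_aux (P : Alt S F) (hn : 5 ≤ n) {g B B' : G} (hg : g ∈ C (LL F)) (hm : ∃ m, orderOf g = 2 ^ m)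
    (hB : B ∈ VO F) (hBB : B * B' = F t) (hBB' : B * F t = B') (hne : B ≠ B')
    (s1 : F (pr U.y 1) * B * (F (pr U.y 1))⁻¹ = B') (s2 : F (pr U.y 1) * B' * (F (pr U.y 1))⁻¹ = B)
    (h1 : g * F t * g⁻¹ = B) (h2 : g * B * g⁻¹ = F t ∨ g * B * g⁻¹ = B') : g ∈ VO F := by
  obtain ⟨s, hs⟩ : ∃ s, s = F (pr U.y 1) := ⟨_, rfl⟩
  rw [← hs] at s1 s2
  have hsC : s ∈ centralizer ({F t} : Set G) := by rw [hs]; exact pr_mem F _ _
  have hsA : s * F t * s⁻¹ = F t := by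
    rw [mem_centralizer_singleton_iff.1 hsC, mul_inv_cancel_right]
  rcases h2 with h2 | h2
  · exfalso
    have h3 : g * B' * g⁻¹ = B' := by
      rw [← hBB']
      calc g * (B * F t) * g⁻¹ = (g * B * g⁻¹) * (g * F t * g⁻¹) := by group
        _ = F t * B := by rw [h1, h2]
        _ = B * F t := VO_comm t_mem hB
    obtain ⟨h, hh⟩ : ∃ h, h = g * (s * g * s⁻¹) * g := ⟨_, rfl⟩
    have hhC : h ∈ C (LL F) := by
      rw [hh]
      exact mul_mem (mul_mem hg (Cfsg.Agent.StdAlt.Conj.conj_mem_C (CC_le_LL hψ hO hsC) hg)) hg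
    have e1 : h * F t * h⁻¹ = F t := by
      calc h * F t * h⁻¹ = g * (s * (g * (s⁻¹ * (g * F t * g⁻¹) * s) * g⁻¹) * s⁻¹) * g⁻¹ := by rw [hh]; group
        _ = g * (s * (g * (s⁻¹ * B * s) * g⁻¹) * s⁻¹) * g⁻¹ := by rw [h1]
        _ = g * (s * (g * (s⁻¹ * (s * B' * s⁻¹) * s) * g⁻¹) * s⁻¹) * g⁻¹ := by rw [s2]
        _ = g * (s * (g * B' * g⁻¹) * s⁻¹) * g⁻¹ := by group
        _ = g * (s * B' * s⁻¹) * g⁻¹ := by rw [h3]
        _ = g * B * g⁻¹ := by rw [s2]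
        _ = _ := h2
    have e2 : h * B * h⁻¹ = B' := by
      calc h * B * h⁻¹ = g * (s * (g * (s⁻¹ * (g * B * g⁻¹) * s) * g⁻¹) * s⁻¹) * g⁻¹ := by rw [hh]; group
        _ = g * (s * (g * (s⁻¹ * F t * s) * g⁻¹) * s⁻¹) * g⁻¹ := by rw [h2]
        _ = g * (s * (g * (s⁻¹ * (s * F t * s⁻¹) * s) * g⁻¹) * s⁻¹) * g⁻¹ := by rw [hsA]
        _ = g * (s * (g * F t * g⁻¹) * s⁻¹) * g⁻¹ := by group
        _ = g * (s * B * s⁻¹) * g⁻¹ := by rw [h1]
        _ = g * B' * g⁻¹ := by rw [s1]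
        _ = _ := h3
    have h4 : h ∈ VO F := mem_VO_of hψ hO P hn hhC (mem_centralizer_singleton_iff.2 (by
      calc h * F t = h * F t * h⁻¹ * h := by group
        _ = _ := by rw [e1]))
    rw [VO_comm h4 hB, mul_inv_cancel_right] at e2
    exact hne e2
  · have h3 : g * B' * g⁻¹ = F t := by
      rw [← hBB']
      calc g * (B * F t) * g⁻¹ = (g * B * g⁻¹) * (g * F t * g⁻¹) := by group
        _ = B' * B := by rw [h1, h2]
        _ = F t := by
          have hB' : B' ∈ VO F := by rw [← hBB']; exact mul_mem hB t_mem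
          rw [VO_comm hB' hB, hBB]
    have e1 : g ^ 3 * F t * (g ^ 3)⁻¹ = F t := by
      have e3 : g ^ 3 = g * g * g := by rw [pow_succ, pow_two]
      calc g ^ 3 * F t * (g ^ 3)⁻¹ = g * (g * (g * F t * g⁻¹) * g⁻¹) * g⁻¹ := by rw [e3]; group
        _ = _ := by rw [h1, h2, h3]
    have h4 : g ^ 3 ∈ VO F := mem_VO_of hψ hO P hn (pow_mem hg 3) (mem_centralizer_singleton_iff.2 (by
      calc g ^ 3 * F t = g ^ 3 * F t * (g ^ 3)⁻¹ * g ^ 3 := by group
        _ = _ := by rw [e1]))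
    obtain ⟨m, hm⟩ := hm
    obtain ⟨k, hk⟩ := exists_pow_eq_self_of_coprime (x := g) (n := 3) (by
      rw [hm]; exact Nat.Coprime.pow_right m (by norm_num))
    rw [← hk]
    exact pow_mem h4 k

/-- a 2-element of `C(L)` normalising `V_o` lies in `V_o` -/
theorem no_swap (P : Alt S F) (hn : 5 ≤ n) {g : G} (hg : g ∈ C (LL F)) (hV : ∀ v ∈ VO F, g * v * g⁻¹ ∈ VO F)
    (hm : ∃ m, orderOf g = 2 ^ m) : g ∈ VO F := by
  have s1 : F (pr U.y 1) * F (pr U.y' 1) * (F (pr U.y 1))⁻¹ = F (pr (U.y' * U.c) 1) := by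
    rw [← map_inv, ← map_mul, ← map_mul]; congr 1
  have s2 : F (pr U.y 1) * F (pr (U.y' * U.c) 1) * (F (pr U.y 1))⁻¹ = F (pr U.y' 1) := by
    rw [← map_inv, ← map_mul, ← map_mul]; congr 1
  have a1 : F (pr U.y' 1) * F (pr (U.y' * U.c) 1) = F t := by rw [← map_mul]; congr 1
  have a2 : F (pr (U.y' * U.c) 1) * F (pr U.y' 1) = F t := by rw [← map_mul]; congr 1
  have b1 : F (pr U.y' 1) * F t = F (pr (U.y' * U.c) 1) := by rw [← map_mul]; congr 1
  have b2 : F (pr (U.y' * U.c) 1) * F t = F (pr U.y' 1) := by rw [← map_mul]; congr 1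
  have hne : F (pr U.y' 1) ≠ F (pr (U.y' * U.c) 1) := fun e => absurd (P.inj e) (by decide)
  have ht : F t ≠ 1 := fun e => absurd (P.inj (e.trans (map_one F).symm)) (by decide)
  have hy : F (pr U.y' 1) ≠ 1 := fun e => absurd (P.inj (e.trans (map_one F).symm)) (by decide)
  have hyc : F (pr (U.y' * U.c) 1) ≠ 1 := fun e => absurd (P.inj (e.trans (map_one F).symm)) (by decide)
  have hyt : F (pr U.y' 1) ≠ F t := fun e => absurd (P.inj e) (by decide)
  have hyct : F (pr (U.y' * U.c) 1) ≠ F t := fun e => absurd (P.inj e) (by decide)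
  have inj : ∀ {a b : G}, g * a * g⁻¹ = g * b * g⁻¹ → a = b := fun e => mul_left_cancel (mul_right_cancel e)
  rcases VO_cases (hV _ t_mem) with h | h | h | h
  · exact absurd (conj_eq_one_iff.1 h) ht
  · exact mem_VO_of hψ hO P hn hg (mem_centralizer_singleton_iff.2 (by
      calc g * F t = g * F t * g⁻¹ * g := by group
        _ = _ := by rw [h]))
  · refine swap_aux hψ hO P hn hg hm y'_mem a1 b1 hne s1 s2 h ?_
    rcases VO_cases (hV _ y'_mem) with h' | h' | h' | h'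
    · exact absurd (conj_eq_one_iff.1 h') hy
    · exact Or.inl h'
    · exact absurd (inj (h'.trans h.symm)) hyt
    · exact Or.inr h'
  · refine swap_aux hψ hO P hn hg hm y'c_mem a2 b2 hne.symm s2 s1 h ?_
    rcases VO_cases (hV _ y'c_mem) with h' | h' | h' | h'
    · exact absurd (conj_eq_one_iff.1 h') hyc
    · exact Or.inl h'
    · exact Or.inr h'
    · exact absurd (inj (h'.trans h.symm)) hyct

/-- `V_o` is a maximal 2-subgroup of `C(L)` -/
theorem eq_VO (P : Alt S F) (hn : 5 ≤ n) {T : Subgroup G} (hT : IsPGroup 2 T) (hTC : T ≤ C (LL F)) (hVT : VO F ≤ T) :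
    T = VO F := by
  have h2 : Fact (Nat.Prime 2) := ⟨Nat.prime_two⟩
  have : Group.IsNilpotent T := hT.isNilpotent
  have hnc := Group.normalizerCondition_of_isNilpotent (G := T)
  by_contra hne
  have hlt : (VO F).subgroupOf T < ⊤ := by
    rw [lt_top_iff_ne_top]
    intro h
    exact hne (le_antisymm (subgroupOf_eq_top.1 h) hVT)
  obtain ⟨g, hgN, hgH⟩ := Set.exists_of_ssubset (hnc _ hlt)
  apply hgH
  rw [SetLike.mem_coe, mem_subgroupOf]
  refine no_swap hψ hO P hn (hTC g.2) ?_ ?_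
  · intro v hv
    have h3 := (mem_normalizer_iff.1 hgN ⟨v, hVT hv⟩).1 (mem_subgroupOf.2 hv)
    exact mem_subgroupOf.1 h3
  · obtain ⟨m, hm⟩ := (IsPGroup.iff_orderOf.1 hT) g
    exact ⟨m, by rw [orderOf_coe]; exact hm⟩

/-- `V_o` is a Sylow 2-subgroup of `C(L)` -/
theorem exists_sylow (P : Alt S F) (hn : 5 ≤ n) : ∃ Q : Sylow 2 (C (LL F)), (Q : Subgroup (C (LL F))) =
    (VO F).subgroupOf (C (LL F)) := by
  have h2 : Fact (Nat.Prime 2) := ⟨Nat.prime_two⟩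
  have hV : IsPGroup 2 (VO F) := IsPGroup.of_card (n := 2) (by rw [card_VO P]; norm_num)
  obtain ⟨Q, hQ⟩ := (hV.comap_subtype (K := C (LL F))).exists_le_sylow
  change (VO F).subgroupOf (C (LL F)) ≤ Q at hQ
  refine ⟨Q, ?_⟩
  have h3 : (Q : Subgroup (C (LL F))).map (C (LL F)).subtype = VO F := by
    refine eq_VO hψ hO P hn (Q.isPGroup'.map _) (map_subtype_le _) ?_
    intro v hv
    exact ⟨⟨v, VO_le_C hv⟩, hQ (mem_subgroupOf.2 hv), rfl⟩
  apply map_injective (subtype_injective _)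
  rw [h3, subgroupOf_map_subtype, inf_of_le_left VO_le_C]

/-- an involution of `C(L)` is conjugate to `F t` in `N(L)` -/
theorem exists_conj_t (P : Alt S F) (hn : 5 ≤ n) {k : G} (hk : k ∈ C (LL F)) (hk1 : k ≠ 1) (hkk : k * k = 1) :
    ∃ g ∈ N (LL F), g * k * g⁻¹ = F t := by
  have h2 : Fact (Nat.Prime 2) := ⟨Nat.prime_two⟩
  obtain ⟨Q, hQ⟩ := exists_sylow hψ hO P hn
  have h3 : IsPGroup 2 (zpowers (⟨k, hk⟩ : C (LL F))) := by
    rw [IsPGroup.iff_card, Nat.card_zpowers]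
    obtain ⟨m, -, hm⟩ := (Nat.dvd_prime_pow Nat.prime_two).1 (orderOf_dvd_of_pow_eq_one (x := (⟨k, hk⟩ : C (LL F)))
      (n := 2 ^ 1) (by rw [pow_one, pow_two]; exact Subtype.ext hkk))
    exact ⟨m, hm⟩
  obtain ⟨R, hR⟩ := h3.exists_le_sylow
  obtain ⟨g, hg⟩ := MulAction.exists_smul_eq (C (LL F)) R Q
  have h4 : g * ⟨k, hk⟩ * g⁻¹ ∈ (Q : Subgroup (C (LL F))) := by
    rw [← hg]
    exact Subgroup.smul_mem_pointwise_smul _ (MulAut.conj g) (R : Subgroup (C (LL F))) (hR (mem_zpowers _))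
  rw [hQ, mem_subgroupOf] at h4
  change (g : G) * k * (g : G)⁻¹ ∈ VO F at h4
  have hgN : (g : G) ∈ N (LL F) := Cfsg.Agent.StdAlt.Conj.C_le_N g.2
  obtain ⟨ρ, hρ⟩ := P.rhoO
  have hρN : ρ ∈ N (LL F) := by
    apply normalizer_le
    rw [mem_normalizer_iff_map_conj_eq]
    refine eq_of_le_of_card_ge ?_ (by rw [card_map_of_injective (MulAut.conj ρ).injective])
    rintro _ ⟨v, hv, rfl⟩
    change ρ * v * ρ⁻¹ ∈ VO F
    rcases VO_cases hv with rfl | rfl | rfl | rfl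
    · rw [mul_one, mul_inv_cancel]; exact one_mem _
    · rw [hρ.cyc1]; exact y'_mem
    · rw [hρ.cyc2]; exact y'c_mem
    · rw [hρ.cyc3]; exact t_mem
  rcases VO_cases h4 with h | h | h | h
  · exact absurd (conj_eq_one_iff.1 h) hk1
  · exact ⟨g, hgN, h⟩
  · refine ⟨ρ * ρ * g, mul_mem (mul_mem hρN hρN) hgN, ?_⟩
    calc ρ * ρ * g * k * (ρ * ρ * g)⁻¹ = ρ * (ρ * (g * k * (g : G)⁻¹) * ρ⁻¹) * ρ⁻¹ := by group
      _ = _ := by rw [h, hρ.cyc2, hρ.cyc3]
  · refine ⟨ρ * g, mul_mem hρN hgN, ?_⟩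
    calc ρ * g * k * (ρ * g)⁻¹ = ρ * (g * k * (g : G)⁻¹) * ρ⁻¹ := by group
      _ = _ := by rw [h, hρ.cyc3]

/-- `|C(L)|_2 = 4` -/
theorem not_eight_dvd (P : Alt S F) (hn : 5 ≤ n) : ¬ 8 ∣ Nat.card (C (LL F)) := by
  have h2 : Fact (Nat.Prime 2) := ⟨Nat.prime_two⟩
  obtain ⟨Q, hQ⟩ := exists_sylow hψ hO P hn
  have h3 := Q.not_dvd_index
  have h4 := (Q : Subgroup (C (LL F))).card_mul_index
  have h5 : Nat.card (Q : Subgroup (C (LL F))) = 4 := by
    rw [hQ, Nat.card_congr (subgroupOfEquivOfLe VO_le_C).toEquiv, card_VO P]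
  rw [h5] at h4
  omega

/-- **`L` has the properties of a standard subgroup.** -/
theorem te (P : Alt S F) (hn : 6 ≤ n) : TE (LL F) := by
  have hn5 : 5 ≤ n := by omega
  obtain ⟨e⟩ := exists_equiv hψ hO P hn5
  have h8 : 8 ∣ Nat.card (LL F) := by
    rw [Nat.card_congr e.toEquiv]
    have h1 : 2 * Nat.card (alternatingGroup (Fin n)) = n.factorial := by
      have : NeZero n := ⟨by omega⟩
      have : Nontrivial (Fin n) := Fin.nontrivial_iff_two_le.2 (by omega)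
      rw [two_mul_nat_card_alternatingGroup, Nat.card_perm, Nat.card_eq_fintype_card, Fintype.card_fin]
    have h3 : Nat.factorial 6 ∣ n.factorial := Nat.factorial_dvd_factorial hn
    have h4 : Nat.factorial 6 = 720 := rfl
    rw [h4, ← h1] at h3
    omega
  refine ⟨?_, ?_, ?_⟩
  · intro k g hk hk1 hkk hg
    obtain ⟨a, ha, e1⟩ := exists_conj_t hψ hO P hn5 hk hk1 hkk
    obtain ⟨b, hb, e2⟩ := exists_conj_t hψ hO P hn5 hg (fun e => hk1 (conj_eq_one_iff.1 e)) (by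
      calc g * k * g⁻¹ * (g * k * g⁻¹) = g * (k * k) * g⁻¹ := by group
        _ = 1 := by rw [hkk]; group)
    have h3 : b * g * a⁻¹ ∈ centralizer ({F t} : Set G) := by
      rw [mem_centralizer_singleton_iff]
      calc b * g * a⁻¹ * F t = b * g * a⁻¹ * (a * k * a⁻¹) := by rw [e1]
        _ = b * (g * k * g⁻¹) * b⁻¹ * (b * g * a⁻¹) := by group
        _ = _ := by rw [e2]
    have h4 := CC_le_LL hψ hO h3
    have h5 := mul_mem (mul_mem (inv_mem hb) h4) ha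
    have e : b⁻¹ * (b * g * a⁻¹) * a = g := by group
    rwa [e] at h5
  · intro a ha hac
    have h1 : a ∈ VO F := mem_VO_of hψ hO P hn5 hac ((LL_le_DD.trans DD_le_CC) ha)
    exact eq_one_of_mem hψ hO P h1 ha
  · intro B hB hle
    apply not_eight_dvd hψ hO P hn5
    rw [hB.card_C]
    exact h8.trans (card_dvd_of_le hle)

end

end psi

end Cfsg.Agent.LFourA.AltEndB
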