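import Cfsg.Agent.LFourA.AltPlug
import Cfsg.Agent.LFourA.AltEndB
import Cfsg.Agent.StdAlt.Six.Main
import Cfsg.Agent.StdAlt.Main

/-!
# Case II: `G` is `A₁₀` or `A₁₁`
-/

set_option autoImplicit false

namespace Cfsg.Agent.LFourA.AltFinal

open Equiv Equiv.Perm Subgroup
open Cfsg.Agent.LFourA.AltModel Cfsg.Agent.LFourA.AltPat Cfsg.Agent.LFourA.AltPsi Cfsg.Agent.LFourA.AltEnd
  Cfsg.Agent.LFourA.AltEndB
open Cfsg.Agent.LFourA.AltFive (CommThm)
open Cfsg.Agent.LFourA.AltZ9 (FT)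
open Cfsg.Agent.StdAlt.Conj (TE C)

universe u

/-- The Gorenstein-Walter theorem for perfect groups -/
def GWPerf : Prop :=
  ∀ (X : Type u) [Group X] [Finite X] [Group.IsPerfect X]
    (S : Sylow 2 X) (n : ℕ), 2 ≤ n → Nonempty ((S : Subgroup X) ≃* DihedralGroup n) →
    (∃ (F : Type) (_ : Field F) (_ : Fintype F), Odd (Fintype.card F) ∧ 3 < Fintype.card F ∧
      Nonempty (X ⧸ Cfsg.oddCore X ≃* Matrix.ProjectiveSpecialLinearGroup (Fin 2) F)) ∨
    Nonempty (X ⧸ Cfsg.oddCore X ≃* alternatingGroup (Fin 7))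

theorem commHalf {G : Type u} [Group G] [Finite G] [IsSimpleGroup G] (hC : CommThm.{u}) (h : 2 ∣ Nat.card G) :
    Cfsg.Agent.StdAlt.First.CommHalf G := by
  intro P S₁ S₂ _ hd h1 h2
  have h3 := hC G P S₁ S₂ hd h1 h2
  have h4 : (Nat.card (Cfsg.oddCore G)).Coprime 2 := Cfsg.Agent.Lib.Cores.pPrimeCore_coprime 2
  have h5 : (Cfsg.oddCore G).Normal := inferInstance
  rcases h5.eq_bot_or_eq_top with h6 | h6
  · rw [h6] at h3
    exact le_bot_iff.1 h3
  · exfalso
    rw [h6, card_top] at h4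
    have h7 := Nat.dvd_gcd h dvd_rfl
    rw [h4.gcd_eq_one] at h7
    norm_num at h7

variable {G : Type u} [Group G] [Finite G] [IsSimpleGroup G] {S : Sylow 2 G} {F : M →* G}

theorem orderOf_t (P : Alt S F) : orderOf (F t) = 2 :=
  orderOf_eq_prime (by rw [pow_two]; exact VO_sq t_mem) (fun e => absurd (P.inj (e.trans (map_one F).symm)) (by decide))

theorem two_dvd (P : Alt S F) : 2 ∣ Nat.card G := by
  rw [← orderOf_t P]
  exact orderOf_dvd_natCard _

theorem hasFour (P : Alt S F) : Cfsg.Agent.StdAlt.Two.HasFour (LL F) := by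
  refine ⟨F t, VO_le_C t_mem, F (pr U.y' 1), VO_le_C y'_mem, ?_, ?_, ?_, VO_sq t_mem, VO_sq y'_mem,
    VO_comm y'_mem t_mem⟩
  · exact fun e => absurd (P.inj (e.trans (map_one F).symm)) (by decide)
  · exact fun e => absurd (P.inj (e.trans (map_one F).symm)) (by decide)
  · exact fun e => absurd (P.inj e) (by decide)

theorem nontrivial {n : ℕ} (hn : 6 ≤ n) (e : LL F ≃* alternatingGroup (Fin n)) : LL F ≠ ⊥ := by
  intro h
  have h1 : Nat.card (LL F) = 1 := by rw [h, card_bot]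
  rw [Nat.card_congr e.toEquiv] at h1
  have : Nontrivial (Fin n) := Fin.nontrivial_iff_two_le.2 (by omega)
  have h2 := two_mul_nat_card_alternatingGroup (α := Fin n)
  rw [h1, Nat.card_perm, Nat.card_eq_fintype_card, Fintype.card_fin] at h2
  have h3 : Nat.factorial 6 ≤ n.factorial := Nat.factorial_le hn
  rw [show Nat.factorial 6 = 720 from rfl] at h3
  omega

/-- the end: a normal subgroup above `L` is everything -/
theorem exists_equiv_top {n m : ℕ} (P : Alt S F) (hn : 6 ≤ n) (e : LL F ≃* alternatingGroup (Fin n)) (hTE : TE (LL F))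
    (h : (LL F).Normal ∨ ∃ L₀ : Subgroup G, L₀.Normal ∧ LL F ≤ L₀ ∧
      Nonempty (L₀ ≃* alternatingGroup (Fin m))) : Nonempty (G ≃* alternatingGroup (Fin m)) := by
  rcases h with h | ⟨L₀, h, hle, ⟨e'⟩⟩
  · exfalso
    rcases h.eq_bot_or_eq_top with h1 | h1
    · exact nontrivial hn e h1
    · have h2 : F t = 1 := hTE.disj (F t) (by rw [h1]; trivial) (VO_le_C t_mem)
      exact absurd (P.inj (h2.trans (map_one F).symm)) (by decide)
  · rcases h.eq_bot_or_eq_top with h1 | h1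
    · exact absurd (le_bot_iff.1 (hle.trans h1.le)) (nontrivial hn e)
    · subst h1
      exact ⟨topEquiv.symm.trans e'⟩

/-- **the end of case II** -/
theorem alt_of_psi (hC : CommThm.{u}) (P : Alt S F) (hO : Cfsg.centralizerPPrimeCore 2 (F t) = ⊥)
    (h : (∃ ψ, Psi F 6 ψ) ∨ ∃ ψ, Psi F 7 ψ) :
    Nonempty (G ≃* alternatingGroup (Fin 10)) ∨ Nonempty (G ≃* alternatingGroup (Fin 11)) := by
  have hcomm := commHalf (G := G) hC (two_dvd P)
  rcases h with ⟨ψ, hψ⟩ | ⟨ψ, hψ⟩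
  · have hTE := te hψ hO P (by norm_num)
    obtain ⟨e⟩ := exists_equiv hψ hO P (by norm_num)
    exact Or.inl (exists_equiv_top P (by norm_num) e hTE
      (Cfsg.Agent.StdAlt.Six.normal_or_six hTE e (hasFour P) hcomm))
  · have hTE := te hψ hO P (by norm_num)
    obtain ⟨e⟩ := exists_equiv hψ hO P (by norm_num)
    exact Or.inr (exists_equiv_top P (by norm_num) e hTE
      (Cfsg.Agent.StdAlt.Main.normal_or hTE (by norm_num) e (hasFour P) hcomm))

/-- **Case II of statement S0510** -/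
theorem main (hFT : FT.{u}) (hC : CommThm.{u}) (hGW : GWPerf.{u}) {k : ℕ} {f : Model.D k → Model.D k → G} {ww : G}
    (h : Model.DWr (S : Subgroup G) k f ww) (hI : Defs.CaseII f ww) :
    Nonempty (G ≃* alternatingGroup (Fin 10)) ∨ Nonempty (G ≃* alternatingGroup (Fin 11)) := by
  obtain rfl := hI.k0
  obtain ⟨P, hO, hpsi⟩ := AltPlug.main hFT hC hGW h hI
  exact alt_of_psi hC P hO hpsi

end Cfsg.Agent.LFourA.AltFinal
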