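import Mathlib
import Cfsg.Prelude.Def_Local
import Cfsg.Prelude.Def_TwoFusion

/-!
# Five strongly closed lines

`normal_sup`: if the Sylow 2-subgroup `P` of `G` is elementary abelian of order at least 8 and its normalizer acts on it
as the group generated by an element `ρ` of order three without fixed points, then `P O(G)` is normal in `G`.
-/

set_option autoImplicit false

namespace Cfsg.Agent.LFourA.AltFive

open Subgroup
open scoped commutatorElement

universe u

/-- Goldschmidt's product theorem, commutator part (`TwoFusion.ClosedCommutator.commutator_le`) -/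
def CommThm : Prop :=
  ∀ (X : Type u) [Group X] [Finite X] (P : Sylow 2 X) (A B : Subgroup X), A ⊓ B = ⊥ →
    Cfsg.IsStronglyClosed A (P : Subgroup X) → Cfsg.IsStronglyClosed B (P : Subgroup X) →
    ⁅normalClosure (A : Set X), normalClosure (B : Set X)⁆ ≤ Cfsg.oddCore X

variable {G : Type u} [Group G]

/-- conjugation by `ρ` -/
def rr (ρ a : G) : G := ρ * a * ρ⁻¹

theorem rr_one (ρ : G) : rr ρ 1 = 1 := by unfold rr; group

theorem rr_mul (ρ a b : G) : rr ρ (a * b) = rr ρ a * rr ρ b := by unfold rr; group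

/-- the line through `a` -/
def Ln (ρ a y : G) : Prop := y = 1 ∨ y = a ∨ y = rr ρ a ∨ y = rr ρ (rr ρ a)

/-- hypotheses -/
structure Hyp [Finite G] (P : Sylow 2 G) (ρ : G) : Prop where
  comm : ∀ a ∈ P, ∀ b ∈ P, a * b = b * a
  sq : ∀ a ∈ P, a * a = 1
  mem : ∀ a ∈ P, rr ρ a ∈ P
  fpf : ∀ a ∈ P, a * rr ρ a * rr ρ (rr ρ a) = 1
  nor : ∀ n ∈ normalizer (P : Set G), ∀ a ∈ P, Ln ρ a (n * a * n⁻¹)
  big : ∀ a ∈ P, ∃ b ∈ P, ¬ Ln ρ a b

variable [Finite G] {P : Sylow 2 G} {ρ : G}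

namespace Hyp

section

variable (h : Hyp P ρ)

include h

theorem three {a : G} (ha : a ∈ P) : rr ρ (rr ρ (rr ρ a)) = a := by
  have h1 := h.fpf a ha
  have h2 := h.fpf _ (h.mem a ha)
  have h3 := h.sq a ha
  rw [mul_assoc] at h1
  have h4 : rr ρ a * rr ρ (rr ρ a) = a := by
    have := eq_inv_of_mul_eq_one_right h1
    rw [this]
    exact inv_eq_of_mul_eq_one_left h3
  rw [h4] at h2
  have h5 := eq_inv_of_mul_eq_one_right h2
  rw [h5]
  exact inv_eq_of_mul_eq_one_left h3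

theorem mul_rr {a : G} (ha : a ∈ P) : a * rr ρ a = rr ρ (rr ρ a) := by
  have h1 := h.fpf a ha
  have h2 := eq_inv_of_mul_eq_one_left h1
  rw [h2]
  exact inv_eq_of_mul_eq_one_left (h.sq _ (h.mem _ (h.mem _ ha)))

theorem inv_eq {a : G} (ha : a ∈ P) : a⁻¹ = a := inv_eq_of_mul_eq_one_left (h.sq a ha)

theorem Ln_mem {a y : G} (ha : a ∈ P) (hy : Ln ρ a y) : y ∈ P := by
  rcases hy with rfl | rfl | rfl | rfl
  · exact one_mem _
  · exact ha
  · exact h.mem _ ha
  · exact h.mem _ (h.mem _ ha)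

/-- the line as a subgroup -/
def line {a : G} (ha : a ∈ P) : Subgroup G where
  carrier := {y | Ln ρ a y}
  one_mem' := Or.inl rfl
  inv_mem' {y} hy := by
    have h1 := h.inv_eq (h.Ln_mem ha hy)
    show Ln ρ a y⁻¹
    rw [h1]
    exact hy
  mul_mem' {x y} hx hy := by
    show Ln ρ a (x * y)
    have hb := h.mem _ ha
    have hc := h.mem _ hb
    have e1 := h.mul_rr ha
    have e2 := h.mul_rr hb
    have e3 := h.mul_rr hc
    rw [h.three ha] at e2 e3
    have s1 := h.sq _ ha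
    have s2 := h.sq _ hb
    have s3 := h.sq _ hc
    have c1 := h.comm _ ha _ hb
    have c2 := h.comm _ hb _ hc
    have c3 := h.comm _ hc _ ha
    rcases hx with rfl | rfl | rfl | rfl
    · rw [one_mul]; exact hy
    · rcases hy with rfl | rfl | rfl | rfl
      · rw [mul_one]; exact Or.inr (Or.inl rfl)
      · exact Or.inl s1
      · exact Or.inr (Or.inr (Or.inr e1))
      · rw [← c3]; exact Or.inr (Or.inr (Or.inl e3))
    · rcases hy with rfl | rfl | rfl | rfl
      · rw [mul_one]; exact Or.inr (Or.inr (Or.inl rfl))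
      · rw [← c1]; exact Or.inr (Or.inr (Or.inr e1))
      · exact Or.inl s2
      · exact Or.inr (Or.inl e2)
    · rcases hy with rfl | rfl | rfl | rfl
      · rw [mul_one]; exact Or.inr (Or.inr (Or.inr rfl))
      · exact Or.inr (Or.inr (Or.inl e3))
      · rw [← c2]; exact Or.inr (Or.inl e2)
      · exact Or.inl s3

theorem mem_line {a y : G} (ha : a ∈ P) : y ∈ h.line ha ↔ Ln ρ a y := Iff.rfl

theorem Ln_sub {a y x : G} (ha : a ∈ P) (hy : Ln ρ a y) (hx : Ln ρ y x) : Ln ρ a x := by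
  rcases hy with rfl | rfl | rfl | rfl
  · rcases hx with rfl | rfl | rfl | rfl
    · exact Or.inl rfl
    · exact Or.inl rfl
    · rw [rr_one]; exact Or.inl rfl
    · rw [rr_one, rr_one]; exact Or.inl rfl
  · exact hx
  · rcases hx with rfl | rfl | rfl | rfl
    · exact Or.inl rfl
    · exact Or.inr (Or.inr (Or.inl rfl))
    · exact Or.inr (Or.inr (Or.inr rfl))
    · rw [h.three ha]; exact Or.inr (Or.inl rfl)
  · rcases hx with rfl | rfl | rfl | rfl
    · exact Or.inl rfl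
    · exact Or.inr (Or.inr (Or.inr rfl))
    · rw [h.three ha]; exact Or.inr (Or.inl rfl)
    · rw [h.three ha]; exact Or.inr (Or.inr (Or.inl rfl))

theorem Ln_symm {a y : G} (ha : a ∈ P) (hy : Ln ρ a y) (h1 : y ≠ 1) : Ln ρ y a := by
  rcases hy with rfl | rfl | rfl | rfl
  · exact absurd rfl h1
  · exact Or.inr (Or.inl rfl)
  · refine Or.inr (Or.inr (Or.inr ?_))
    rw [h.three ha]
  · refine Or.inr (Or.inr (Or.inl ?_))
    rw [h.three ha]

theorem closed {a : G} (ha : a ∈ P) : Cfsg.IsStronglyClosed (h.line ha) (P : Subgroup G) := by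
  refine ⟨fun y hy => h.Ln_mem ha hy, fun y hy g hg => ?_⟩
  have hyP : y ∈ P := h.Ln_mem ha hy
  have : IsMulCommutative P := ⟨⟨fun x y => Subtype.ext (h.comm x x.2 y y.2)⟩⟩
  obtain ⟨n, hn, e⟩ := Sylow.conj_eq_normalizer_conj_of_mem (P := P) y g⁻¹ hyP (by rw [inv_inv]; exact hg)
  rw [inv_inv] at e
  rw [e]
  have h1 := h.nor _ (inv_mem hn) y hyP
  rw [inv_inv] at h1
  exact h.Ln_sub ha hy h1

end

variable (hC : CommThm.{u}) (h : Hyp P ρ)

include hC h

theorem commutator_mem {a b g : G} (ha : a ∈ P) (hb : b ∈ P) (hab : ¬ Ln ρ a b) :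
    ⁅b, g * a * g⁻¹⁆ ∈ Cfsg.oddCore G := by
  have h1 : h.line hb ⊓ h.line ha = ⊥ := by
    rw [eq_bot_iff]
    rintro y ⟨hy1, hy2⟩
    rw [mem_bot]
    by_contra hne
    exact hab (h.Ln_sub ha hy2 (h.Ln_symm hb hy1 hne))
  have h2 := hC G P _ _ h1 (h.closed hb) (h.closed ha)
  apply h2
  apply commutator_mem_commutator
  · exact subset_normalClosure (Or.inr (Or.inl rfl))
  · exact (normalClosure_normal (s := (h.line ha : Set G))).conj_mem a
      (subset_normalClosure (Or.inr (Or.inl rfl))) g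

theorem comm_mod (a b g : G) (ha : a ∈ P) (hb : b ∈ P) :
    (QuotientGroup.mk' (Cfsg.oddCore G) b) * (QuotientGroup.mk' (Cfsg.oddCore G) (g * a * g⁻¹)) =
      (QuotientGroup.mk' (Cfsg.oddCore G) (g * a * g⁻¹)) * (QuotientGroup.mk' (Cfsg.oddCore G) b) := by
  have key : ∀ b ∈ P, ¬ Ln ρ a b →
      Commute (QuotientGroup.mk' (Cfsg.oddCore G) b) (QuotientGroup.mk' (Cfsg.oddCore G) (g * a * g⁻¹)) := by
    intro b hb hab
    have h1 := commutator_mem hC h (g := g) ha hb hab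
    rw [← QuotientGroup.ker_mk' (Cfsg.oddCore G), MonoidHom.mem_ker, map_commutatorElement,
      commutatorElement_eq_one_iff_mul_comm] at h1
    exact h1
  obtain ⟨y, hy, hay⟩ := h.big a ha
  by_cases hab : Ln ρ a b
  · have h1 : ¬ Ln ρ a (y * b) := by
      intro h2
      apply hay
      have h3 : y * b * b⁻¹ ∈ h.line ha := mul_mem h2 (inv_mem (show b ∈ h.line ha from hab))
      rw [mul_inv_cancel_right] at h3
      exact h3
    have h2 := (key y hy hay).inv_left.mul_left (key _ (mul_mem hy hb) h1)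
    rw [← map_inv, ← map_mul, inv_mul_cancel_left] at h2
    exact h2
  · exact key b hb hab

/-- **the Sylow subgroup is normal modulo the core** -/
theorem conj_mem (g a : G) (ha : a ∈ P) : g * a * g⁻¹ ∈ (P : Subgroup G) ⊔ Cfsg.oddCore G := by
  have h2 : Fact (Nat.Prime 2) := ⟨Nat.prime_two⟩
  set π := QuotientGroup.mk' (Cfsg.oddCore G) with hπ
  have hs : Function.Surjective π := QuotientGroup.mk'_surjective _
  set Q : Sylow 2 (G ⧸ Cfsg.oddCore G) := P.mapSurjective hs with hQ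
  have hQm : ∀ y, y ∈ Q ↔ ∃ x ∈ P, π x = y := fun y => Iff.rfl
  -- the conjugate
  have h3 : IsPGroup 2 (zpowers (π (g * a * g⁻¹))) := by
    rw [IsPGroup.iff_card, Nat.card_zpowers]
    have h4 : π (g * a * g⁻¹) ^ (2 ^ 1) = 1 := by
      rw [pow_one, pow_two, ← map_mul]
      have e : g * a * g⁻¹ * (g * a * g⁻¹) = g * (a * a) * g⁻¹ := by group
      rw [e, h.sq a ha, mul_one, mul_inv_cancel, map_one]
    obtain ⟨k, -, hk⟩ := (Nat.dvd_prime_pow Nat.prime_two).1 (orderOf_dvd_of_pow_eq_one h4)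
    exact ⟨k, hk⟩
  have h5 : π (g * a * g⁻¹) ∈ normalizer (Q : Set (G ⧸ Cfsg.oddCore G)) := by
    show π (g * a * g⁻¹) ∈ normalizer ((Q : Subgroup (G ⧸ Cfsg.oddCore G)) : Set (G ⧸ Cfsg.oddCore G))
    rw [mem_normalizer_iff]
    intro y
    constructor
    · intro hy
      obtain ⟨b, hb, rfl⟩ := (hQm y).1 hy
      have h6 := comm_mod hC h a b g ha hb
      rw [← h6, mul_inv_cancel_right]
      exact hy
    · intro hy
      obtain ⟨b, hb, h7⟩ := (hQm _).1 hy
      have h6 := comm_mod hC h a b g ha hb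
      have h8 : y = (π (g * a * g⁻¹))⁻¹ * π b * π (g * a * g⁻¹) := by rw [h7]; group
      rw [h8, mul_assoc, h6, inv_mul_cancel_left]
      exact (hQm _).2 ⟨b, hb, rfl⟩
  have h9 := h3.inf_normalizer_sylow Q
  have h10 : π (g * a * g⁻¹) ∈ zpowers (π (g * a * g⁻¹)) ⊓ normalizer (Q : Set (G ⧸ Cfsg.oddCore G)) :=
    ⟨mem_zpowers _, h5⟩
  rw [h9] at h10
  obtain ⟨b, hb, h11⟩ := (hQm _).1 h10.2
  have h12 : b⁻¹ * (g * a * g⁻¹) ∈ Cfsg.oddCore G := by
    rw [← QuotientGroup.ker_mk' (Cfsg.oddCore G), MonoidHom.mem_ker, map_mul, map_inv]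
    change (π b)⁻¹ * π (g * a * g⁻¹) = 1
    rw [h11, inv_mul_cancel]
  have h13 := mul_mem (mem_sup_left (T := Cfsg.oddCore G) (show b ∈ (P : Subgroup G) from hb)) (mem_sup_right h12)
  rwa [mul_inv_cancel_left] at h13

end Hyp

end Cfsg.Agent.LFourA.AltFive
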