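import Cfsg.Agent.LFourA.AltZ9

/-!
# Case II: the input of the signalizer functor argument from the model
-/

set_option autoImplicit false

namespace Cfsg.Agent.LFourA.AltInst

open Cfsg.Agent.LFourA.AltModel Cfsg.Agent.LFourA.AltPat Cfsg.Agent.LFourA.AltNil Cfsg.Agent.LFourA.AltNilB
  Cfsg.Agent.LFourA.AltNilC Cfsg.Agent.LFourA.AltEAct Cfsg.Agent.LFourA.OddFree Cfsg.Agent.LFourA.AltZ1
  Cfsg.Agent.LFourA.AltZ2 Cfsg.Agent.LFourA.AltZ3 Cfsg.Agent.LFourA.AltZ4 Cfsg.Agent.LFourA.AltZ5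
  Cfsg.Agent.LFourA.AltZ6 Cfsg.Agent.LFourA.AltZ7 Cfsg.Agent.LFourA.AltZ8 Cfsg.Agent.LFourA.AltFive Subgroup

/-- the five involutions of z-type of `E` -/
def zz : Fin 5 → M := ![pr U.y U.c, pr (U.y * U.c) U.c, pr U.c U.y, pr U.c (U.y * U.c), z]

theorem zz_sq : ∀ i, zz i * zz i = 1 := by decide
theorem zz_comm : ∀ i j, zz i * zz j = zz j * zz i := by decide
theorem zz_E : ∀ i, InE (zz i) := by decide
theorem zz_TT : ∀ i j, i ≠ j → TT (zz i * zz j) := by decide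
theorem zz_ZZ : ∀ i, ZZ (zz i) := by decide
theorem zz_inj : ∀ i j i' j' : Fin 5, i < j → i' < j' → zz i * zz j = zz i' * zz j' → i = i' ∧ j = j' := by decide
theorem E_zz : ∀ x : M, InE x → x = 1 ∨ (∃ i, x = zz i) ∨ ∃ i j, i < j ∧ x = zz i * zz j := by decide +kernel
theorem E_TT : ∀ x : M, InE x → TT x → ∃ i j, i < j ∧ x = zz i * zz j := by decide +kernel
theorem E_ZZ : ∀ x : M, InE x → ZZ x → ∃ i, x = zz i := by decide +kernel

theorem exists_sigma (i j k l : Fin 5) (hij : i < j) (hkl : k < l) : ∃ σ : Equiv.Perm (Fin 5), σ i = k ∧ σ j = l := by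
  refine ⟨Equiv.swap (Equiv.swap i k j) l * Equiv.swap i k, ?_, ?_⟩
  · rw [Equiv.Perm.mul_apply, Equiv.swap_apply_left]
    apply Equiv.swap_apply_of_ne_of_ne
    · intro h
      have h1 : Equiv.swap i k j = Equiv.swap i k i := by rw [← h, Equiv.swap_apply_left]
      exact absurd ((Equiv.swap i k).injective h1) hij.ne'
    · exact hkl.ne
  · rw [Equiv.Perm.mul_apply, Equiv.swap_apply_left]

universe u

variable {G : Type u} [Group G] {S : Sylow 2 G} {F : M →* G}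

/-- the ten involutions of t-type of `E` -/
def tt (F : M →* G) (i j : Fin 5) : G := F (zz i * zz j)

theorem tt_self (i : Fin 5) : tt F i i = 1 := by rw [tt, zz_sq, map_one]
theorem tt_comm (i j : Fin 5) : tt F i j = tt F j i := by rw [tt, tt, zz_comm]
theorem tt_mul (i j k : Fin 5) : tt F i j * tt F j k = tt F i k := by
  rw [tt, tt, tt, ← map_mul]
  congr 1
  calc zz i * zz j * (zz j * zz k) = zz i * (zz j * zz j) * zz k := by group
    _ = _ := by rw [zz_sq, mul_one]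
theorem tt_sq (i j : Fin 5) : tt F i j * tt F i j = 1 := by
  conv_lhs => rw [tt_comm (F := F) i j]
  rw [tt_comm (F := F) j i]
  nth_rw 2 [tt_comm (F := F) i j]
  rw [tt_mul, tt_self]
theorem tt_inj (P : Alt S F) {i j i' j' : Fin 5} (h : i < j) (h' : i' < j') (e : tt F i j = tt F i' j') :
    i = i' ∧ j = j' := zz_inj i j i' j' h h' (P.inj e)
theorem tt_z : tt F 0 1 * tt F 2 3 = F z := by
  rw [tt, tt, ← map_mul]
  congr 1
theorem tt_t : tt F 0 1 = F t := by rw [tt]; congr 1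
theorem tt_t' : tt F 2 3 = F t' := by rw [tt]; congr 1

/-- `σ` is induced by an element of `G` -/
def Good (F : M →* G) (σ : Equiv.Perm (Fin 5)) : Prop := ∃ n : G, ∀ i, n * F (zz i) * n⁻¹ = F (zz (σ i))

theorem Good.mul {σ τ : Equiv.Perm (Fin 5)} (hσ : Good F σ) (hτ : Good F τ) : Good F (σ * τ) := by
  obtain ⟨n, hn⟩ := hσ
  obtain ⟨m, hm⟩ := hτ
  refine ⟨n * m, fun i => ?_⟩
  rw [Equiv.Perm.mul_apply, ← hn, ← hm]; group

theorem Good.inv {σ : Equiv.Perm (Fin 5)} (hσ : Good F σ) : Good F σ⁻¹ := by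
  obtain ⟨n, hn⟩ := hσ
  refine ⟨n⁻¹, fun i => ?_⟩
  have h1 := hn (σ⁻¹ i)
  have e : σ (σ⁻¹ i) = i := by rw [← Equiv.Perm.mul_apply, mul_inv_cancel, Equiv.Perm.one_apply]
  rw [e] at h1
  rw [← h1]; group

theorem Good.swap {a b c : Fin 5} (h1 : Good F (Equiv.swap a b)) (h2 : Good F (Equiv.swap b c)) (hab : a ≠ b)
    (hac : a ≠ c) : Good F (Equiv.swap a c) := by
  have e : Equiv.swap a c = Equiv.swap b c * Equiv.swap a b * Equiv.swap b c := by
    rw [Equiv.swap_mul_swap_mul_swap hab hac]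
    exact Equiv.swap_comm a c
  rw [e]
  exact (h2.mul h1).mul h2

theorem good_01 : Good F (Equiv.swap 0 1) := by
  refine ⟨F (pr U.y' 1), fun i => ?_⟩
  rw [← map_inv, ← map_mul, ← map_mul]
  congr 1
  revert i; decide

theorem good_w : Good F (Equiv.swap 0 2 * Equiv.swap 1 3) := by
  refine ⟨F w, fun i => ?_⟩
  rw [← map_inv, ← map_mul, ← map_mul]
  congr 1
  revert i; decide

theorem good_rho {ρ : G} (hρ : RhoE F ρ) : Good F (Equiv.swap 4 0 * Equiv.swap 0 1) := by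
  refine ⟨ρ, fun i => ?_⟩
  rw [(act_rho hρ _ (zz_E i)).2]
  congr 1
  revert i; decide

/-- **every permutation of the five involutions of z-type of `E` is induced in `G`.** -/
theorem perm (P : Alt S F) (σ : Equiv.Perm (Fin 5)) : Good F σ := by
  obtain ⟨ρ, hρ⟩ := P.rhoE
  have h01 : Good F (Equiv.swap 0 1) := good_01
  have hw := good_w (F := F)
  have hr := good_rho hρ
  have h14 : Good F (Equiv.swap 1 4) := by
    have h := (hr.mul h01).mul hr.inv
    have e : Equiv.swap (4 : Fin 5) 0 * Equiv.swap 0 1 * Equiv.swap 0 1 * (Equiv.swap 4 0 * Equiv.swap 0 1)⁻¹ =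
        Equiv.swap 1 4 := by decide
    rwa [e] at h
  have h23 : Good F (Equiv.swap 2 3) := by
    have h := (hw.mul h01).mul hw.inv
    have e : Equiv.swap (0 : Fin 5) 2 * Equiv.swap 1 3 * Equiv.swap 0 1 * (Equiv.swap 0 2 * Equiv.swap 1 3)⁻¹ =
        Equiv.swap 2 3 := by decide
    rwa [e] at h
  have h34 : Good F (Equiv.swap 3 4) := by
    have h := (hw.mul h14).mul hw.inv
    have e : Equiv.swap (0 : Fin 5) 2 * Equiv.swap 1 3 * Equiv.swap 1 4 * (Equiv.swap 0 2 * Equiv.swap 1 3)⁻¹ =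
        Equiv.swap 3 4 := by decide
    rwa [e] at h
  have h43 : Good F (Equiv.swap 4 3) := by rw [Equiv.swap_comm]; exact h34
  have h32 : Good F (Equiv.swap 3 2) := by rw [Equiv.swap_comm]; exact h23
  have h04 : Good F (Equiv.swap 0 4) := h01.swap h14 (by decide) (by decide)
  have h03 : Good F (Equiv.swap 0 3) := h04.swap h43 (by decide) (by decide)
  have h02 : Good F (Equiv.swap 0 2) := h03.swap h32 (by decide) (by decide)
  have h13 : Good F (Equiv.swap 1 3) := h14.swap h43 (by decide) (by decide)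
  have h12 : Good F (Equiv.swap 1 2) := h13.swap h32 (by decide) (by decide)
  have h42 : Good F (Equiv.swap 4 2) := h43.swap h32 (by decide) (by decide)
  have h1 : Good F 1 := ⟨1, fun i => by rw [Equiv.Perm.one_apply]; group⟩
  have hall : ∀ i j : Fin 5, Good F (Equiv.swap i j) := by
    have hlt : ∀ i j : Fin 5, i < j → Good F (Equiv.swap i j) := by
      intro i j hij
      fin_cases i <;> fin_cases j <;> first
        | exact absurd hij (by decide)
        | assumption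
        | (rw [Equiv.swap_comm]; assumption)
    intro i j
    rcases lt_trichotomy i j with h | h | h
    · exact hlt i j h
    · rw [h, Equiv.swap_self]; exact h1
    · rw [Equiv.swap_comm]; exact hlt j i h
  induction σ using Equiv.Perm.swap_induction_on with
  | one => exact h1
  | swap_mul f x y hxy ih => exact (hall x y).mul ih

/-- `F(E)` -/
abbrev EE (F : M →* G) : Subgroup G := Esub.map F

theorem mem_EE {g : G} : g ∈ EE F ↔ ∃ x, InE x ∧ F x = g := Iff.rfl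

theorem mem_normalizer_EE {n : G} (h1 : NE F n) (h2 : NE F n⁻¹) : n ∈ normalizer (EE F : Set G) := by
  rw [mem_normalizer_iff]
  intro g
  constructor
  · rintro ⟨x, hx, rfl⟩
    exact h1 x hx
  · rintro ⟨x, hx, e⟩
    obtain ⟨y, hy, e2⟩ := h2 x hx
    refine ⟨y, hy, ?_⟩
    rw [e2, e]; group

theorem F_mem_normalizer (g : M) : F g ∈ normalizer (EE F : Set G) :=
  mem_normalizer_EE (NE_F g) (by rw [← map_inv]; exact NE_F _)

theorem NE_of_good {n : G} {σ : Equiv.Perm (Fin 5)} (h : ∀ i, n * F (zz i) * n⁻¹ = F (zz (σ i))) : NE F n := by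
  intro x hx
  rcases E_zz x hx with rfl | ⟨i, rfl⟩ | ⟨i, j, -, rfl⟩
  · exact ⟨1, by decide, by rw [map_one]; group⟩
  · exact ⟨_, zz_E _, (h i).symm⟩
  · refine ⟨zz (σ i) * zz (σ j), InE_mul _ _ (zz_E _) (zz_E _), ?_⟩
    rw [map_mul, map_mul, ← h, ← h]; group

theorem mem_normalizer_of_good {n : G} {σ : Equiv.Perm (Fin 5)} (h : ∀ i, n * F (zz i) * n⁻¹ = F (zz (σ i))) :
    n ∈ normalizer (EE F : Set G) := by
  refine mem_normalizer_EE (NE_of_good h) (NE_of_good (σ := σ⁻¹) (fun i => ?_))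
  have h1 := h (σ⁻¹ i)
  have e : σ (σ⁻¹ i) = i := by rw [← Equiv.Perm.mul_apply, mul_inv_cancel, Equiv.Perm.one_apply]
  rw [e] at h1
  rw [← h1]; group

theorem rhoZ_mem_normalizer {ρ : G} (hρ : RhoE F ρ) : rhoZ F ρ ∈ normalizer (EE F : Set G) := by
  have ha := act_rhoZ hρ
  have ha' : Act F (rhoZ F ρ)⁻¹ (fun x => sigZ (sigZ x)) :=
    ha.inv (fun x hx => ⟨InE_sigZ _ (InE_sigZ _ hx), sigZ_three x hx⟩)
  exact mem_normalizer_EE ha.ne ha'.ne

theorem rho_mem_normalizer {ρ : G} (hρ : RhoE F ρ) : ρ ∈ normalizer (EE F : Set G) := by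
  have ha := act_rho hρ
  have h3 : ∀ x : M, InE x → sig (sig (sig x)) = x := by decide +kernel
  have ha' : Act F ρ⁻¹ (fun x => sig (sig x)) :=
    ha.inv (fun x hx => ⟨InE_sig _ (InE_sig _ hx), h3 x hx⟩)
  exact mem_normalizer_EE ha.ne ha'.ne

theorem w_conj_m : ∀ g : M, (g * w * g⁻¹).m = true := by decide +kernel

variable [Finite G]

/-- **`C(z) = N(E) O(C(z))`** -/
theorem cz (hC : CommThm.{u}) (P : Alt S F) : CZ F ≤ OZ F ⊔ normalizer (EE F : Set G) := by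
  intro d hd
  obtain ⟨ρ, hρ⟩ := P.rhoE
  obtain ⟨i, m, o, ho, rfl⟩ := decomp hC P hρ hd
  exact mul_mem (mul_mem (mem_sup_right (pow_mem (rhoZ_mem_normalizer hρ) i)) (mem_sup_right (F_mem_normalizer m)))
    (mem_sup_left ho)

/-- involutions of `C(t) ∩ C(t')` are conjugate into the base group -/
theorem exists_conj_CT (P : Alt S F) {x : G} (hx : x ∈ CT F) (hxx : x * x = 1) :
    ∃ g ∈ CT F, ∃ y : M, y.m = false ∧ g * x * g⁻¹ = F y := by
  have h2 : Fact (Nat.Prime 2) := ⟨Nat.prime_two⟩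
  obtain ⟨Q, hQ⟩ := exists_sylow P
  have h3 : IsPGroup 2 (zpowers (⟨x, hx⟩ : CT F)) := by
    rw [IsPGroup.iff_card, Nat.card_zpowers]
    obtain ⟨k, -, hk⟩ := (Nat.dvd_prime_pow Nat.prime_two).1 (orderOf_dvd_of_pow_eq_one (x := (⟨x, hx⟩ : CT F))
      (n := 2 ^ 1) (by rw [pow_one, pow_two]; exact Subtype.ext hxx))
    exact ⟨k, hk⟩
  obtain ⟨R, hR⟩ := h3.exists_le_sylow
  obtain ⟨g, hg⟩ := MulAction.exists_smul_eq (CT F) R Q
  have h4 : g * ⟨x, hx⟩ * g⁻¹ ∈ (Q : Subgroup (CT F)) := by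
    rw [← hg]
    exact Subgroup.smul_mem_pointwise_smul _ (MulAut.conj g) (R : Subgroup (CT F)) (hR (mem_zpowers _))
  rw [hQ] at h4
  obtain ⟨y, hy, e⟩ := h4
  exact ⟨g, g.2, y, hy, e.symm⟩

/-- **fusion of the involutions in a large subgroup** -/
theorem cls (P : Alt S F) (L : Subgroup G) (hE : normalizer (EE F : Set G) ≤ L) (ht : centralizer {F t} ≤ L)
    (hz : CZ F ≤ L) {v : M} (hv : v * v = 1) (hv1 : v ≠ 1) :
    ∃ m ∈ L, m * F t * m⁻¹ = F v ∨ m * F z * m⁻¹ = F v := by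
  have hF : ∀ g : M, F g ∈ L := fun g => hE (F_mem_normalizer g)
  obtain ⟨ρ, hρ⟩ := P.rhoE
  obtain ⟨ρo, hρo⟩ := P.rhoO
  have hρL : ρ ∈ L := hE (rho_mem_normalizer hρ)
  have hρoL : ρo ∈ L := by
    have h1 : F w * ρo * (F w)⁻¹ ∈ centralizer {F t} := by
      rw [mem_centralizer_singleton_iff]
      have h3 := hρo.fix U.c
      have h4 : F t = F w * F (pr 1 U.c) * (F w)⁻¹ := by rw [← map_inv, ← map_mul, ← map_mul]; congr 1
      rw [h4]
      calc F w * ρo * (F w)⁻¹ * (F w * F (pr 1 U.c) * (F w)⁻¹) = F w * (ρo * F (pr 1 U.c)) * (F w)⁻¹ := by group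
        _ = F w * (F (pr 1 U.c) * ρo) * (F w)⁻¹ := by rw [h3]
        _ = _ := by group
    have h5 := mul_mem (mul_mem (inv_mem (hF w)) (ht h1)) (hF w)
    have e : (F w)⁻¹ * (F w * ρo * (F w)⁻¹) * F w = ρo := by group
    rwa [e] at h5
  -- relation
  let Rel : G → G → Prop := fun a b => ∃ m ∈ L, m * a * m⁻¹ = b
  have rtrans : ∀ {a b c : G}, Rel a b → Rel b c → Rel a c := by
    rintro a b c ⟨m, hm, rfl⟩ ⟨n, hn, rfl⟩
    exact ⟨n * m, mul_mem hn hm, by group⟩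
  have rsymm : ∀ {a b : G}, Rel a b → Rel b a := by
    rintro a b ⟨m, hm, rfl⟩
    exact ⟨m⁻¹, inv_mem hm, by group⟩
  have rF : ∀ {x y : M} (g : M), g * x * g⁻¹ = y → Rel (F x) (F y) := by
    rintro x y g rfl
    exact ⟨F g, hF g, by rw [← map_inv, ← map_mul, ← map_mul]⟩
  -- `E`
  have hperm : ∀ i j k l : Fin 5, i < j → k < l → Rel (F (zz i * zz j)) (F (zz k * zz l)) := by
    intro i j k l hij hkl
    obtain ⟨σ, h1, h3⟩ := exists_sigma i j k l hij hkl
    obtain ⟨n, hn⟩ := perm P σ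
    refine ⟨n, hE (mem_normalizer_of_good hn), ?_⟩
    rw [map_mul, map_mul, ← h1, ← h3, ← hn, ← hn]; group
  have hperm1 : ∀ i k : Fin 5, Rel (F (zz i)) (F (zz k)) := by
    intro i k
    obtain ⟨n, hn⟩ := perm P (Equiv.swap i k)
    refine ⟨n, hE (mem_normalizer_of_good hn), ?_⟩
    rw [hn, Equiv.swap_apply_left]
  have hET : ∀ x : M, InE x → TT x → Rel (F t) (F x) := by
    intro x hx hxT
    obtain ⟨i, j, hij, rfl⟩ := E_TT x hx hxT
    exact hperm 0 1 i j (by decide) hij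
  have hEZ : ∀ x : M, InE x → ZZ x → Rel (F z) (F x) := by
    intro x hx hxZ
    obtain ⟨i, rfl⟩ := E_ZZ x hx hxZ
    exact hperm1 4 i
  -- the other representatives
  have hy' : Rel (F t) (F (pr U.y' 1)) := ⟨ρo, hρoL, hρo.cyc1⟩
  have hy'c : Rel (F z) (F (pr U.y' U.c)) := by
    refine ⟨ρo, hρoL, ?_⟩
    have e1 : F z = F t * F (pr 1 U.c) := by rw [← map_mul]; congr 1
    have e2 : F (pr U.y' U.c) = F (pr U.y' 1) * F (pr 1 U.c) := by rw [← map_mul]; congr 1
    rw [e1, e2, ← hρo.cyc1]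
    have h3 := hρo.fix U.c
    calc ρo * (F t * F (pr 1 U.c)) * ρo⁻¹ = ρo * F t * ρo⁻¹ * (ρo * F (pr 1 U.c)) * ρo⁻¹ := by group
      _ = _ := by rw [h3]; group
  have hcy' : Rel (F z) (F (pr U.c U.y')) := rtrans hy'c (rF w (by decide))
  have hy'y' : Rel (F z) (F (pr U.y' U.y')) := by
    refine rtrans hcy' ⟨ρo, hρoL, ?_⟩
    have e1 : F (pr U.c U.y') = F t * F (pr 1 U.y') := by rw [← map_mul]; congr 1
    have e2 : F (pr U.y' U.y') = F (pr U.y' 1) * F (pr 1 U.y') := by rw [← map_mul]; congr 1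
    rw [e1, e2, ← hρo.cyc1]
    have h3 := hρo.fix U.y'
    calc ρo * (F t * F (pr 1 U.y')) * ρo⁻¹ = ρo * F t * ρo⁻¹ * (ρo * F (pr 1 U.y')) * ρo⁻¹ := by group
      _ = _ := by rw [h3]; group
  have hyy' : Rel (F z) (F (pr U.y U.y')) := by
    refine rtrans hcy' ⟨ρ, hρL, ?_⟩
    have e1 : F (pr U.c U.y') = F t * F (pr 1 U.y') := by rw [← map_mul]; congr 1
    have e2 : F (pr U.y U.y') = F (pr U.y 1) * F (pr 1 U.y') := by rw [← map_mul]; congr 1
    rw [e1, e2, ← hρ.cyc1]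
    have h3 : ρ * F (pr 1 U.y') = F (pr 1 U.y') * ρ := hρ.fix U.y'
    calc ρ * (F t * F (pr 1 U.y')) * ρ⁻¹ = ρ * F t * ρ⁻¹ * (ρ * F (pr 1 U.y')) * ρ⁻¹ := by group
      _ = _ := by rw [h3]; group
  -- involutions of the base group
  have hB : ∀ x : M, x.m = false → ZZ x → Rel (F z) (F x) := by
    intro x hxm hx
    rcases conj_of_ZZ x hx with rfl | ⟨g, hg⟩ | ⟨g, hg⟩ | ⟨g, hg⟩ | ⟨g, hg⟩ | ⟨g, hg⟩
    · exact ⟨1, one_mem _, by group⟩
    · exact rtrans (hEZ _ (by decide) (by decide)) (rF g hg)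
    · exact rtrans hy'c (rF g hg)
    · exact rtrans hy'y' (rF g hg)
    · exact rtrans hyy' (rF g hg)
    · have h1 := w_conj_m g
      rw [hg, hxm] at h1
      exact absurd h1 (by decide)
  -- the element `w`
  have hw : Rel (F z) (F w) := by
    have hzz := rhoZ_comm_z hρ
    have ha := act_rhoZ hρ
    have ha' : Act F (rhoZ F ρ)⁻¹ (fun x => sigZ (sigZ x)) :=
      ha.inv (fun x hx => ⟨InE_sigZ _ (InE_sigZ _ hx), sigZ_three x hx⟩)
    have h1 : Act F (rhoZ F ρ * F w * (rhoZ F ρ)⁻¹) (fun x => dd * x * dd⁻¹) :=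
      ((ha.mul (act_F w)).mul ha').congr (fun x hx => sig_w x hx)
    obtain ⟨v', hv'⟩ : ∃ v', v' = rhoZ F ρ * F w * (rhoZ F ρ)⁻¹ := ⟨_, rfl⟩
    rw [← hv'] at h1
    have hrel : Rel (F w) v' := ⟨rhoZ F ρ, hz (mem_CZ.2 hzz), hv'.symm⟩
    have hct : ∀ x : M, InE x → dd * x * dd⁻¹ = x → v' * F x = F x * v' := by
      intro x hx hxd
      have h3 := (h1 x hx).2
      change v' * F x * v'⁻¹ = F (dd * x * dd⁻¹) at h3
      rw [hxd] at h3
      calc v' * F x = v' * F x * v'⁻¹ * v' := by group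
        _ = F x * v' := by rw [h3]
    have hvC : v' ∈ CT F := mem_CT.2 ⟨hct t InE_t (by decide), hct t' InE_t' (by decide)⟩
    have hvv : v' * v' = 1 := by
      have e : v' * v' = rhoZ F ρ * (F w * F w) * (rhoZ F ρ)⁻¹ := by rw [hv']; group
      rw [e, ← map_mul, show w * w = 1 by decide, map_one, mul_one, mul_inv_cancel]
    obtain ⟨g, hg, y, hym, e⟩ := exists_conj_CT P hvC hvv
    have hrel2 : Rel v' (F y) := ⟨g, hz (mem_CZ.2 (comm_z_of_mem_CT hg)), e⟩
    have hrel3 := rtrans hrel hrel2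
    have hyZ : ZZ y := by
      obtain ⟨m, -, hm⟩ := hrel3
      exact ZZ_of_conj P hm (by decide)
    exact rtrans (hB y hym hyZ) (rsymm hrel3)
  -- conclusion
  rcases inv_dichotomy v hv hv1 with h | h
  · have h1 : Rel (F t) (F v) := by
      rcases conj_of_TT v h with ⟨g, hg⟩ | ⟨g, hg⟩ | ⟨g, hg⟩ | ⟨g, hg⟩
      · exact rF g hg
      · exact rtrans (hET _ (by decide) (by decide)) (rF g hg)
      · exact rtrans hy' (rF g hg)
      · exact rtrans (hET _ (by decide) (by decide)) (rF g hg)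
    obtain ⟨m, hm, e⟩ := h1
    exact ⟨m, hm, Or.inl e⟩
  · have h1 : Rel (F z) (F v) := by
      rcases conj_of_ZZ v h with rfl | ⟨g, hg⟩ | ⟨g, hg⟩ | ⟨g, hg⟩ | ⟨g, hg⟩ | ⟨g, hg⟩
      · exact ⟨1, one_mem _, by group⟩
      · exact rtrans (hEZ _ (by decide) (by decide)) (rF g hg)
      · exact rtrans hy'c (rF g hg)
      · exact rtrans hy'y' (rF g hg)
      · exact rtrans hyy' (rF g hg)
      · exact rtrans hw (rF g hg)
    obtain ⟨m, hm, e⟩ := h1
    exact ⟨m, hm, Or.inr e⟩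

end Cfsg.Agent.LFourA.AltInst
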