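import Cfsg.Agent.LFourA.AltInst

/-!
# Case II: the input of the signalizer functor argument from the model, continued
-/

set_option autoImplicit false

namespace Cfsg.Agent.LFourA.AltInstB

open Cfsg.Agent.LFourA.AltModel Cfsg.Agent.LFourA.AltPat Cfsg.Agent.LFourA.AltNil Cfsg.Agent.LFourA.AltNilB
  Cfsg.Agent.LFourA.AltNilC Cfsg.Agent.LFourA.AltEAct Cfsg.Agent.LFourA.AltZ1
  Cfsg.Agent.LFourA.AltZ2 Cfsg.Agent.LFourA.AltInst Subgroup

universe u

variable {G : Type u} [Group G] {S : Sylow 2 G} {F : M →* G}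

theorem S_le_CZ (P : Alt S F) : (S : Subgroup G) ≤ CZ F := by
  intro g hg
  obtain ⟨x, rfl⟩ := (P.range g).1 hg
  exact F_mem_CZ x

theorem S_le_normalizer (P : Alt S F) : (S : Subgroup G) ≤ normalizer (EE F : Set G) := by
  intro g hg
  obtain ⟨x, rfl⟩ := (P.range g).1 hg
  exact F_mem_normalizer x

/-- `N(S) ≤ C(z)` -/
theorem normalizer_S_le (P : Alt S F) : normalizer ((S : Subgroup G) : Set G) ≤ CZ F := by
  intro n hn
  rw [mem_normalizer_iff] at hn
  obtain ⟨y, hy⟩ := (P.range _).1 ((hn (F z)).1 ((P.range _).2 ⟨z, rfl⟩))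
  have h1 : ∀ x : M, x * y = y * x := by
    intro x
    apply P.inj
    obtain ⟨v, hv⟩ := (P.range _).1 ((hn (n⁻¹ * F x * n)).2 (by
      have e : n * (n⁻¹ * F x * n) * n⁻¹ = F x := by group
      rw [e]; exact (P.range _).2 ⟨x, rfl⟩))
    have e : F x = n * F v * n⁻¹ := by rw [hv]; group
    rw [map_mul, map_mul, hy, e]
    calc n * F v * n⁻¹ * (n * F z * n⁻¹) = n * (F v * F z) * n⁻¹ := by group
      _ = n * (F z * F v) * n⁻¹ := by rw [← map_mul, z_comm, map_mul]
      _ = _ := by group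
  have h3 : y = z := by
    refine (center_M y h1).resolve_left (fun h4 => ?_)
    rw [h4, map_one] at hy
    have h5 : F z = 1 := by
      have e : F z = n⁻¹ * (n * F z * n⁻¹) * n := by group
      rw [e, ← hy]; group
    exact absurd (P.inj (h5.trans (map_one F).symm)) (by decide)
  rw [h3] at hy
  rw [mem_CZ]
  calc n * F z = n * F z * n⁻¹ * n := by group
    _ = F z * n := by rw [← hy]

theorem orderOf_F_two (P : Alt S F) {v : M} (h1 : v * v = 1) (h2 : v ≠ 1) : orderOf (F v) = 2 := by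
  rw [orderOf_injective F P.inj, orderOf_eq_prime_iff]
  exact ⟨by rw [pow_two, h1], h2⟩

/-- the involutions of the Sylow subgroup -/
theorem exists_of_involution (P : Alt S F) {g : G} (hg : g ∈ (S : Subgroup G)) (h : orderOf g = 2) :
    ∃ v : M, F v = g ∧ v * v = 1 ∧ v ≠ 1 := by
  obtain ⟨v, rfl⟩ := (P.range g).1 hg
  rw [orderOf_injective F P.inj, orderOf_eq_prime_iff] at h
  exact ⟨v, rfl, by rw [← pow_two, h.1], h.2⟩

/-- conjugation of the involutions of t-type of `E` -/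
theorem exists_conj_tt (P : Alt S F) (σ : Equiv.Perm (Fin 5)) :
    ∃ n ∈ normalizer (EE F : Set G), ∀ i j, n * tt F i j * n⁻¹ = tt F (σ i) (σ j) := by
  obtain ⟨n, hn⟩ := perm P σ
  refine ⟨n, mem_normalizer_of_good hn, fun i j => ?_⟩
  rw [tt, tt, map_mul, map_mul, ← hn, ← hn]; group

theorem EE_comm {a b : G} (ha : a ∈ EE F) (hb : b ∈ EE F) : a * b = b * a := by
  obtain ⟨x, hx, rfl⟩ := ha
  obtain ⟨y, hy, rfl⟩ := hb
  rw [← map_mul, ← map_mul, InE_comm x y hx hy]

theorem EE_sq {a : G} (ha : a ∈ EE F) : a * a = 1 := by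
  obtain ⟨x, hx, rfl⟩ := ha
  rw [← map_mul, InE_sq x hx, map_one]

theorem card_EE (P : Alt S F) : Nat.card (EE F) = 16 := by
  rw [card_map_of_injective P.inj]
  have h1 : Nat.card Esub = Fintype.card {x : M // InE x} := by
    rw [← Nat.card_eq_fintype_card]
    rfl
  rw [h1, card_E]

/-- the elements of `E` -/
theorem EE_cases {a : G} (ha : a ∈ EE F) (h1 : a ≠ 1) :
    (∃ i, a = F (zz i)) ∨ ∃ i j, i < j ∧ a = tt F i j := by
  obtain ⟨x, hx, rfl⟩ := ha
  rcases E_zz x hx with rfl | ⟨i, rfl⟩ | ⟨i, j, hij, rfl⟩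
  · exact absurd (map_one F) h1
  · exact Or.inl ⟨i, rfl⟩
  · exact Or.inr ⟨i, j, hij, rfl⟩

end Cfsg.Agent.LFourA.AltInstB
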