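import Cfsg.Agent.LFourA.Defs
import Cfsg.Agent.LFourA.Facts

/-!
# Case II (type `ALT`): explicit model of `D₈ wr 2` and the types of its involutions

`U` is the group of upper unitriangular `3 × 3`-matrices over `𝔽₂` (dihedral of order 8), `M = U wr 2` (order 128).
`hom h : M →* G` for `h : DWr S 0 f w`.
-/

set_option autoImplicit false

namespace Cfsg.Agent.LFourA.AltModel

/-- `D₈` in coordinates. -/
@[ext] structure U where
  p : Bool
  q : Bool
  r : Bool
deriving DecidableEq, Fintype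

namespace U

instance : Mul U := ⟨fun x y => ⟨xor x.p y.p, xor x.q y.q, xor (xor x.r y.r) (x.p && y.q)⟩⟩
instance : One U := ⟨⟨false, false, false⟩⟩
instance : Inv U := ⟨fun x => ⟨x.p, x.q, xor x.r (x.p && x.q)⟩⟩

theorem mul_assoc' : ∀ x y z : U, x * y * z = x * (y * z) := by decide +kernel
theorem one_mul' : ∀ x : U, 1 * x = x := by decide +kernel
theorem inv_mul' : ∀ x : U, x⁻¹ * x = 1 := by decide +kernel

instance : Group U := Group.ofLeftAxioms mul_assoc' one_mul' inv_mul'

/-- the central involution -/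
def c : U := ⟨false, false, true⟩
/-- a reflection of even type -/
def y : U := ⟨true, false, false⟩
/-- a reflection of odd type -/
def y' : U := ⟨false, true, false⟩
/-- an element of order four -/
def x : U := ⟨true, true, false⟩

end U

open U

/-- `D₈ wr 2`, a group of order 128. -/
@[ext] structure M where
  a : U
  b : U
  m : Bool
deriving DecidableEq, Fintype

namespace M

/-- multiplication -/
def mul (p q : M) : M :=
  match p.m with
  | true => ⟨p.a * q.b, p.b * q.a, !q.m⟩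
  | false => ⟨p.a * q.a, p.b * q.b, q.m⟩

/-- inverse -/
def inv (p : M) : M :=
  match p.m with
  | true => ⟨p.b⁻¹, p.a⁻¹, true⟩
  | false => ⟨p.a⁻¹, p.b⁻¹, false⟩

instance : Mul M := ⟨mul⟩
instance : One M := ⟨⟨1, 1, false⟩⟩
instance : Inv M := ⟨inv⟩

theorem mul_false (a b : U) (q : M) : (⟨a, b, false⟩ : M) * q = ⟨a * q.a, b * q.b, q.m⟩ := rfl

theorem mul_true (a b : U) (q : M) : (⟨a, b, true⟩ : M) * q = ⟨a * q.b, b * q.a, !q.m⟩ := rfl

theorem mul_assoc' (p q r : M) : p * q * r = p * (q * r) := by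
  obtain ⟨a, b, m⟩ := p
  obtain ⟨a', b', m'⟩ := q
  obtain ⟨a'', b'', m''⟩ := r
  cases m <;> cases m' <;>
    simp only [mul_false, mul_true, Bool.not_true, Bool.not_false, Bool.not_not, mul_assoc]

theorem one_mul' (p : M) : 1 * p = p := by
  show (⟨1, 1, false⟩ : M) * p = p
  rw [mul_false]
  ext <;> simp

theorem inv_mul' : ∀ p : M, p⁻¹ * p = 1 := by decide +kernel

instance : Group M := Group.ofLeftAxioms mul_assoc' one_mul' inv_mul'

end M

open M

theorem card_M : Fintype.card M = 128 := by decide +kernel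

/-- the pair `(a, b)` -/
def pr (a b : U) : M := ⟨a, b, false⟩
/-- `t = (c, 1)` -/
def t : M := pr c 1
/-- `t' = (1, c)` -/
def t' : M := pr 1 c
/-- `z = (c, c)` -/
def z : M := pr c c
/-- the swap -/
def w : M := ⟨1, 1, true⟩

/-- even reflection -/
def ev (u : U) : Prop := u = y ∨ u = y * c
/-- odd reflection -/
def od (u : U) : Prop := u = y' ∨ u = y' * c

instance : DecidablePred ev := fun x => by unfold ev; infer_instance
instance : DecidablePred od := fun x => by unfold od; infer_instance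

/-- the involutions of t-type -/
def TT (x : M) : Prop := x = t ∨ x = t' ∨ (x.m = false ∧
  ((x.b = 1 ∧ (ev x.a ∨ od x.a)) ∨ (x.a = 1 ∧ (ev x.b ∨ od x.b)) ∨ (ev x.a ∧ ev x.b)))
/-- the involutions of z-type -/
def ZZ (x : M) : Prop := x = z ∨ (x.m = false ∧
  ((x.b = c ∧ (ev x.a ∨ od x.a)) ∨ (x.a = c ∧ (ev x.b ∨ od x.b)) ∨ (od x.a ∧ od x.b) ∨ (ev x.a ∧ od x.b) ∨
    (od x.a ∧ ev x.b))) ∨ (x.m = true ∧ x.a * x.b = 1)

instance : DecidablePred TT := fun x => by unfold TT; infer_instance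
instance : DecidablePred ZZ := fun x => by unfold ZZ; infer_instance

theorem inv_dichotomy : ∀ x : M, x * x = 1 → x ≠ 1 → TT x ∨ ZZ x := by decide +kernel
theorem sq_TT : ∀ x : M, TT x → x * x = 1 ∧ x ≠ 1 := by decide +kernel
theorem sq_ZZ : ∀ x : M, ZZ x → x * x = 1 ∧ x ≠ 1 := by decide +kernel
theorem not_ZZ_of_TT : ∀ x : M, TT x → ¬ ZZ x := by decide +kernel

theorem conj_of_TT : ∀ x : M, TT x → (∃ g, g * t * g⁻¹ = x) ∨ (∃ g, g * pr y 1 * g⁻¹ = x) ∨
    (∃ g, g * pr y' 1 * g⁻¹ = x) ∨ (∃ g, g * pr y y * g⁻¹ = x) := by decide +kernel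
theorem conj_of_ZZ : ∀ x : M, ZZ x → x = z ∨ (∃ g, g * pr y c * g⁻¹ = x) ∨ (∃ g, g * pr y' c * g⁻¹ = x) ∨
    (∃ g, g * pr y' y' * g⁻¹ = x) ∨ (∃ g, g * pr y y' * g⁻¹ = x) ∨ (∃ g, g * w * g⁻¹ = x) := by decide +kernel

/-! ### from `DWr S 0 f w` to a homomorphism `M →* G` -/

open DihedralGroup

/-- the isomorphism `U → D 0` -/
def toD (u : U) : Model.D 0 :=
  (if u.p then sr 0 else 1) * (if u.q then sr 1 else 1) * (if xor u.r (u.p && u.q) then Model.c 0 else 1)

theorem toD_mul : ∀ u v : U, toD (u * v) = toD u * toD v := by decide +kernel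
theorem toD_inj : ∀ u : U, toD u = 1 → u = 1 := by decide +kernel
theorem toD_surj : ∀ d : Model.D 0, ∃ u, toD u = d := by decide +kernel
theorem toD_one : toD 1 = 1 := by decide +kernel
theorem toD_c : toD c = Model.c 0 := by decide +kernel
theorem toD_y : toD y = sr 0 := by decide +kernel
theorem toD_y' : toD y' = sr 1 := by decide +kernel

/-- the square of a pair of coordinates -/
theorem toD_injective : Function.Injective toD := by
  intro u v h
  have h1 : toD (u * v⁻¹) * toD v = toD v := by rw [← toD_mul, inv_mul_cancel_right, h]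
  have h2 : toD (u * v⁻¹) = 1 := by
    have h3 : toD (u * v⁻¹) * toD v = 1 * toD v := by rw [h1, one_mul]
    exact mul_right_cancel h3
  exact mul_inv_eq_one.1 (toD_inj _ h2)

variable {G : Type*} [Group G] {S : Subgroup G} {f : Model.D 0 → Model.D 0 → G} {ww : G}

/-- the homomorphism `M →* G` -/
def hom (h : Model.DWr S 0 f ww) : M →* G where
  toFun x := match x.m with
    | false => f (toD x.a) (toD x.b)
    | true => f (toD x.a) (toD x.b) * ww
  map_one' := by
    show f (toD 1) (toD 1) = 1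
    rw [toD_one]
    exact Base.f_one h
  map_mul' := by
    rintro ⟨a, b, m⟩ ⟨a', b', m'⟩
    cases m <;> cases m'
    · show f (toD (a * a')) (toD (b * b')) = f (toD a) (toD b) * f (toD a') (toD b')
      rw [toD_mul, toD_mul, h.f_mul]
    · show f (toD (a * a')) (toD (b * b')) * ww = f (toD a) (toD b) * (f (toD a') (toD b') * ww)
      rw [toD_mul, toD_mul, Base.f_mul_fw h]
    · show f (toD (a * b')) (toD (b * a')) * ww = f (toD a) (toD b) * ww * f (toD a') (toD b')
      rw [toD_mul, toD_mul, Base.fw_mul_f h]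
    · show f (toD (a * b')) (toD (b * a')) = f (toD a) (toD b) * ww * (f (toD a') (toD b') * ww)
      rw [toD_mul, toD_mul, Base.fw_mul_fw h]

theorem hom_false (h : Model.DWr S 0 f ww) (a b : U) : hom h ⟨a, b, false⟩ = f (toD a) (toD b) := rfl

theorem hom_true (h : Model.DWr S 0 f ww) (a b : U) : hom h ⟨a, b, true⟩ = f (toD a) (toD b) * ww := rfl

theorem hom_pr (h : Model.DWr S 0 f ww) (a b : U) : hom h (pr a b) = f (toD a) (toD b) := rfl

theorem hom_w (h : Model.DWr S 0 f ww) : hom h w = ww := by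
  show f (toD 1) (toD 1) * ww = ww
  rw [toD_one, Base.f_one h, one_mul]

theorem hom_injective (h : Model.DWr S 0 f ww) : Function.Injective (hom h) := by
  rw [injective_iff_map_eq_one]
  rintro ⟨a, b, m⟩ hx
  cases m
  · rw [hom_false] at hx
    obtain ⟨h1, h2⟩ := h.f_inj _ _ hx
    rw [toD_inj _ h1, toD_inj _ h2]
    rfl
  · rw [hom_true] at hx
    exfalso
    have h1 : f (toD a) (toD b) * ww = f 1 1 := by rw [hx, Base.f_one h]
    exact Base.fw_ne h _ _ _ _ h1

theorem mem_range_hom (h : Model.DWr S 0 f ww) (g : G) : g ∈ S ↔ ∃ x, hom h x = g := by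
  rw [h.mem_iff]
  constructor
  · rintro (⟨a, b, rfl⟩ | ⟨a, b, rfl⟩)
    · obtain ⟨u, hu⟩ := toD_surj a
      obtain ⟨v, hv⟩ := toD_surj b
      exact ⟨⟨u, v, false⟩, by rw [hom_false, hu, hv]⟩
    · obtain ⟨u, hu⟩ := toD_surj a
      obtain ⟨v, hv⟩ := toD_surj b
      exact ⟨⟨u, v, true⟩, by rw [hom_true, hu, hv]⟩
  · rintro ⟨⟨a, b, m⟩, rfl⟩
    cases m
    · exact Or.inl ⟨_, _, rfl⟩
    · exact Or.inr ⟨_, _, rfl⟩

end Cfsg.Agent.LFourA.AltModel
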