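import Cfsg.Agent.LFourA.AltPat
import Cfsg.Agent.LFourA.FOne
import Cfsg.Agent.SignalizersComponents.CentSylowFStar

/-!
# Case II: `C(t) ∩ C(t')` is 2-nilpotent
-/

set_option autoImplicit false

namespace Cfsg.Agent.LFourA.AltNil

open Cfsg.Agent.LFourA.AltModel Cfsg.Agent.LFourA.AltPat Subgroup

/-- the odd part of an element -/
theorem exists_odd_pow {X : Type*} [Group X] [Finite X] (n : X) :
    ∃ j e : ℕ, Odd (orderOf (n ^ j)) ∧ ((n ^ j)⁻¹ * n) ^ (2 ^ e) = 1 := by
  obtain ⟨e, k, hk, hm⟩ := Nat.exists_eq_two_pow_mul_odd (n := orderOf n) (orderOf_pos n).ne'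
  have hcop : Nat.Coprime (2 ^ e) k := Nat.Coprime.pow_left e (Nat.coprime_two_left.2 hk)
  obtain ⟨j, hj1, hj2⟩ := Nat.chineseRemainder hcop 0 1
  refine ⟨j, e, ?_, ?_⟩
  · have h1 : (n ^ j) ^ k = 1 := by
      rw [← pow_mul, ← orderOf_dvd_iff_pow_eq_one, hm]
      exact Nat.mul_dvd_mul_right (Nat.modEq_zero_iff_dvd.1 hj1) k
    exact hk.of_dvd_nat (orderOf_dvd_of_pow_eq_one h1)
  · have hc : Commute (n ^ j)⁻¹ n := ((Commute.refl n).pow_left j).inv_left
    rw [hc.mul_pow, inv_pow, inv_mul_eq_one, ← pow_mul, pow_eq_pow_iff_modEq, hm, mul_comm (2 ^ e) k]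
    have h2 : j * 2 ^ e ≡ 1 * 2 ^ e [MOD k * 2 ^ e] := hj2.mul_right' _
    rwa [one_mul] at h2

/-- Elements normalizing a Sylow subgroup are products of an element of odd order and an element of it. -/
theorem exists_odd_part {X : Type*} [Group X] [Finite X] (P : Sylow 2 X) {n : X}
    (hn : n ∈ normalizer (P : Set X)) :
    ∃ j : ℕ, Odd (orderOf (n ^ j)) ∧ (n ^ j)⁻¹ * n ∈ P := by
  have h2 : Fact (Nat.Prime 2) := ⟨Nat.prime_two⟩
  obtain ⟨j, e, ho, hs⟩ := exists_odd_pow n
  refine ⟨j, ho, ?_⟩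
  set s := (n ^ j)⁻¹ * n with hsdef
  have hsn : s ∈ normalizer (P : Set X) := mul_mem (inv_mem (pow_mem hn j)) hn
  have hp : IsPGroup 2 (zpowers s) := by
    rw [IsPGroup.iff_card]
    rw [Nat.card_zpowers]
    obtain ⟨a, -, ha⟩ := (Nat.dvd_prime_pow Nat.prime_two).1 (orderOf_dvd_of_pow_eq_one hs)
    exact ⟨a, ha⟩
  have h1 := hp.inf_normalizer_sylow P
  have h3 : s ∈ zpowers s ⊓ normalizer (P : Set X) := ⟨mem_zpowers s, hsn⟩
  rw [h1] at h3
  exact h3.2

/-- Burnside's theorem modulo a central 2-group. -/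
theorem hasNormalPComplement_of_central {X Y : Type*} [Group X] [Finite X] [Group Y] (P : Sylow 2 X)
    (π : X →* Y) (hs : Function.Surjective π) (hker : IsPGroup 2 π.ker)
    (hc : ∀ z ∈ π.ker, ∀ g : X, g * z = z * g)
    (hab : ∀ a ∈ P, ∀ b ∈ P, π (a * b) = π (b * a))
    (hn : ∀ n ∈ normalizer (P : Set X), Odd (orderOf n) → ∀ a ∈ P, π (n * a) = π (a * n)) :
    Cfsg.HasNormalPComplement 2 X := by
  have h2 : Fact (Nat.Prime 2) := ⟨Nat.prime_two⟩
  have hfin : Finite Y := Finite.of_surjective π hs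
  have hkn : π.ker.Normal := inferInstance
  have hkP : π.ker ≤ P := by
    have h1 : IsPGroup 2 ((P : Subgroup X) ⊔ π.ker : Subgroup X) := IsPGroup.to_sup_of_normal_right P.2 hker
    have h3 := P.3 h1 le_sup_left
    rw [← h3]
    exact le_sup_right
  refine SignalizersComponents.CentSylowFStar.hasNormalPComplement_of_central π hs hker hc ?_
  set Q : Sylow 2 Y := P.mapSurjective hs with hQ
  have hQm : ∀ y, y ∈ Q ↔ ∃ x ∈ P, π x = y := by
    intro y
    exact Iff.rfl
  have hQN : normalizer (Q : Set Y) ≤ centralizer (Q : Set Y) := by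
    intro m hm
    obtain ⟨n, rfl⟩ := hs m
    have hnN : n ∈ normalizer (P : Set X) := by
      change π n ∈ normalizer ((Q : Subgroup Y) : Set Y) at hm
      show n ∈ normalizer ((P : Subgroup X) : Set X)
      rw [mem_normalizer_iff] at hm ⊢
      have key : ∀ a, π a ∈ Q → a ∈ P := by
        intro a ha
        obtain ⟨b, hb, hba⟩ := (hQm _).1 ha
        have h1 : b⁻¹ * a ∈ π.ker := by rw [MonoidHom.mem_ker, map_mul, map_inv, hba, inv_mul_cancel]
        have h3 := mul_mem hb (hkP h1)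
        rwa [mul_inv_cancel_left] at h3
      intro a
      constructor
      · intro ha
        apply key
        rw [map_mul, map_mul, map_inv]
        exact (hm (π a)).1 ((hQm _).2 ⟨a, ha, rfl⟩)
      · intro ha
        apply key
        refine (hm (π a)).2 ?_
        rw [← map_inv, ← map_mul, ← map_mul]
        exact (hQm _).2 ⟨_, ha, rfl⟩
    obtain ⟨j, ho, hP⟩ := exists_odd_part P hnN
    rw [mem_centralizer_iff]
    intro y hy
    obtain ⟨a, ha, rfl⟩ := (hQm _).1 hy
    have e1 := hn (n ^ j) (pow_mem hnN j) ho a ha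
    obtain ⟨s, hs⟩ : ∃ s, s = (n ^ j)⁻¹ * n := ⟨_, rfl⟩
    rw [← hs] at hP
    have e2 := hab _ hP a ha
    have e3 : n = n ^ j * s := by rw [hs, mul_inv_cancel_left]
    rw [map_mul, map_mul] at e1 e2
    rw [e3, map_mul, ← mul_assoc, ← e1, mul_assoc, ← e2, mul_assoc]
  exact ⟨Q, _, inferInstance, MonoidHom.ker_transferSylow_isComplement' _ hQN⟩

/-! ### the subgroup `C(t) ∩ C(t')` -/

/-- the base group of the model -/
def Bsub : Subgroup M where
  carrier := {x | x.m = false}
  mul_mem' := by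
    rintro ⟨a, b, m⟩ ⟨a', b', m'⟩ h h'
    change m = false at h
    change m' = false at h'
    subst h; subst h'
    rfl
  one_mem' := rfl
  inv_mem' := by
    rintro ⟨a, b, m⟩ h
    change m = false at h
    subst h
    rfl

theorem mem_Bsub {x : M} : x ∈ Bsub ↔ x.m = false := Iff.rfl

/-- `{1, t, t', z}` -/
def InT (x : M) : Prop := x = 1 ∨ x = t ∨ x = t' ∨ x = z

instance : DecidablePred InT := fun x => by unfold InT; infer_instance

theorem InT_mul : ∀ x y : M, InT x → InT y → InT (x * y) := by decide +kernel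
theorem InT_inv : ∀ x : M, InT x → InT x⁻¹ := by decide +kernel
theorem InT_comm : ∀ x y : M, InT x → y.m = false → x * y = y * x := by decide +kernel
theorem comm_T : ∀ x : M, x * t = t * x → x.m = false := by decide +kernel
theorem center_M : ∀ y : M, (∀ x, x * y = y * x) → y = 1 ∨ y = z := by decide +kernel
theorem card_B : Fintype.card {x : M // x.m = false} = 64 := by decide +kernel

/-- `{1, t, t', z}` -/
def Tsub : Subgroup M where
  carrier := {x | InT x}
  mul_mem' {x y} hx hy := InT_mul x y hx hy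
  one_mem' := Or.inl rfl
  inv_mem' {x} hx := InT_inv x hx

theorem card_Bsub : Nat.card Bsub = 64 := by
  rw [← card_B, ← Nat.card_eq_fintype_card]
  rfl

universe u

variable {G : Type u} [Group G] {S : Sylow 2 G} {F : M →* G}

/-- `C(t) ∩ C(t')` -/
abbrev CT (F : M →* G) : Subgroup G := centralizer {F t} ⊓ centralizer {F t'}

theorem mem_CT {g : G} : g ∈ CT F ↔ g * F t = F t * g ∧ g * F t' = F t' * g := by
  rw [mem_inf, mem_centralizer_singleton_iff, mem_centralizer_singleton_iff]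

theorem F_mem_CT {x : M} (hx : x.m = false) : F x ∈ CT F := by
  rw [mem_CT, ← map_mul, ← map_mul, ← map_mul, ← map_mul, InT_comm t x (Or.inr (Or.inl rfl)) hx,
    InT_comm t' x (Or.inr (Or.inr (Or.inl rfl))) hx]
  exact ⟨rfl, rfl⟩

theorem comm_z_of_mem_CT {g : G} (hg : g ∈ CT F) : g * F z = F z * g := by
  obtain ⟨h1, h2⟩ := mem_CT.1 hg
  have e : z = t * t' := by decide
  rw [e, map_mul, ← mul_assoc, h1, mul_assoc, h2, mul_assoc]

variable [Finite G]

/-- every 2-subgroup is conjugate into the image of the model -/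
theorem exists_conj (P : Alt S F) {R : Subgroup G} (hR : IsPGroup 2 R) :
    ∃ g : G, ∀ r ∈ R, ∃ x, F x = g * r * g⁻¹ := by
  have h2 : Fact (Nat.Prime 2) := ⟨Nat.prime_two⟩
  obtain ⟨Q, hQ⟩ := hR.exists_le_sylow
  obtain ⟨g, hg⟩ := MulAction.exists_smul_eq G Q S
  refine ⟨g, fun r hr => ?_⟩
  rw [← P.range, ← hg]
  exact Subgroup.smul_mem_pointwise_smul r (MulAut.conj g) Q (hQ hr)

/-- 2-subgroups of `C(t) ∩ C(t')` containing `t`, `t'` have order at most 64 -/
theorem card_le (P : Alt S F) {R : Subgroup G} (hR : IsPGroup 2 R) (hC : R ≤ CT F) (ht : F t ∈ R)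
    (ht' : F t' ∈ R) : Nat.card R ≤ 64 := by
  classical
  obtain ⟨g, hg⟩ := exists_conj P hR
  choose! y hy using hg
  have hinj : Function.Injective (fun r : R => y r) := by
    intro r s h
    have h1 := hy r r.2
    have h3 := hy s s.2
    rw [show y (r : G) = y s from h, h3] at h1
    exact Subtype.ext (mul_left_cancel (mul_right_cancel h1)).symm
  by_contra hlt
  push Not at hlt
  have hc : Nat.card R = 128 := by
    have h1 : Nat.card R ≤ 128 := by
      rw [← card_M, ← Nat.card_eq_fintype_card]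
      exact Nat.card_le_card_of_injective _ hinj
    obtain ⟨k, hk⟩ := (IsPGroup.iff_card.1 hR)
    rw [hk] at h1 hlt ⊢
    have h3 : k < 8 := (Nat.pow_lt_pow_iff_right (by norm_num : 1 < 2)).1 (lt_of_le_of_lt h1 (by norm_num))
    have h4 : 6 < k := (Nat.pow_lt_pow_iff_right (by norm_num : 1 < 2)).1 (lt_of_le_of_lt (by norm_num) hlt)
    have h5 : k = 7 := by omega
    rw [h5]; norm_num
  have hsurj : Function.Surjective (fun r : R => y r) := by
    have h1 : Function.Bijective (fun r : R => y r) := by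
      rw [Nat.bijective_iff_injective_and_card]
      exact ⟨hinj, by rw [hc, Nat.card_eq_fintype_card, card_M]⟩
    exact h1.2
  have hcen : ∀ a ∈ R, (∀ r ∈ R, r * a = a * r) → y a = 1 ∨ y a = z := by
    intro a ha hac
    apply center_M
    intro x
    obtain ⟨r, hr⟩ := hsurj x
    change y r = x at hr
    apply P.inj
    rw [← hr, map_mul, map_mul, hy a ha, hy r r.2]
    calc g * r * g⁻¹ * (g * a * g⁻¹) = g * (r * a) * g⁻¹ := by group
      _ = g * (a * r) * g⁻¹ := by rw [hac r r.2]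
      _ = _ := by group
  have h1 := hcen (F t) ht (fun r hr => (mem_CT.1 (hC hr)).1)
  have h3 := hcen (F t') ht' (fun r hr => (mem_CT.1 (hC hr)).2)
  have hne : ∀ a ∈ R, a ≠ 1 → y a ≠ 1 := by
    intro a ha h h4
    have h5 := hy a ha
    rw [h4, map_one] at h5
    apply h
    have h6 : g * a * g⁻¹ = 1 := h5.symm
    have h7 : g * a = g := by
      have := congrArg (· * g) h6
      simpa using this
    simpa using h7
  have hF : ∀ x : M, x ≠ 1 → F x ≠ 1 := fun x hx h => hx (P.inj (by rw [h, map_one]))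
  have e1 : y (F t) = z := h1.resolve_left (hne _ ht (hF t (by decide)))
  have e2 : y (F t') = z := h3.resolve_left (hne _ ht' (hF t' (by decide)))
  have e3 : F t = F t' := by
    have h5 := hy _ ht
    have h6 := hy _ ht'
    rw [e1] at h5
    rw [e2, h5] at h6
    exact mul_left_cancel (mul_right_cancel h6)
  exact absurd (P.inj e3) (by decide)

/-- the base group is a Sylow 2-subgroup of `C(t) ∩ C(t')` -/
theorem exists_sylow (P : Alt S F) : ∃ Q : Sylow 2 (CT F), (Q : Subgroup (CT F)) = (Bsub.map F).subgroupOf (CT F) := by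
  have h2 : Fact (Nat.Prime 2) := ⟨Nat.prime_two⟩
  have hcard : Nat.card (Bsub.map F) = 64 := by rw [card_map_of_injective P.inj, card_Bsub]
  have hB : IsPGroup 2 (Bsub.map F) := IsPGroup.of_card (n := 6) (by rw [hcard]; norm_num)
  have hBC : Bsub.map F ≤ CT F := by
    rintro _ ⟨x, hx, rfl⟩
    exact F_mem_CT hx
  obtain ⟨Q, hQ⟩ := (hB.comap_subtype (K := CT F)).exists_le_sylow
  change (Bsub.map F).subgroupOf (CT F) ≤ Q at hQ
  refine ⟨Q, ?_⟩
  have h1 : Nat.card ((Bsub.map F).subgroupOf (CT F)) = 64 := by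
    rw [Nat.card_congr (subgroupOfEquivOfLe hBC).toEquiv, hcard]
  have h3 : Nat.card (Q : Subgroup (CT F)) ≤ 64 := by
    have h4 := card_le P (R := (Q : Subgroup (CT F)).map (CT F).subtype) (Q.isPGroup'.map _) (map_subtype_le _) ?_ ?_
    · rwa [card_map_of_injective (CT F).subtype_injective] at h4
    · exact ⟨⟨F t, F_mem_CT rfl⟩, hQ ⟨t, rfl, rfl⟩, rfl⟩
    · exact ⟨⟨F t', F_mem_CT rfl⟩, hQ ⟨t', rfl, rfl⟩, rfl⟩
  exact (eq_of_le_of_card_ge hQ (by rw [h1]; exact h3)).symm

end Cfsg.Agent.LFourA.AltNil
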