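import Cfsg.Agent.LFourA.AltNil

/-!
# Case II: `C(t) ∩ C(t')` is 2-nilpotent, second part
-/

set_option autoImplicit false

namespace Cfsg.Agent.LFourA.AltNilB

open Cfsg.Agent.LFourA.AltModel Cfsg.Agent.LFourA.AltPat Cfsg.Agent.LFourA.AltNil Subgroup

/-- the coset of `(y, 1)` modulo `T` -/
def Cl1 (x : M) : Prop := x.m = false ∧ (x.a = U.y ∨ x.a = U.y * U.c) ∧ (x.b = 1 ∨ x.b = U.c)
/-- the coset of `(y', 1)` modulo `T` -/
def Cl2 (x : M) : Prop := x.m = false ∧ (x.a = U.y' ∨ x.a = U.y' * U.c) ∧ (x.b = 1 ∨ x.b = U.c)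

instance : DecidablePred Cl1 := fun x => by unfold Cl1; infer_instance
instance : DecidablePred Cl2 := fun x => by unfold Cl2; infer_instance

theorem cl_char : ∀ x : M, x.m = false → x * x = 1 → ¬ InT x →
    (∀ b : M, b.m = false → x * b * x⁻¹ * b⁻¹ = 1 ∨ x * b * x⁻¹ * b⁻¹ = t) → Cl1 x ∨ Cl2 x := by decide +kernel
theorem cl_sq : ∀ x : M, (Cl1 x ∨ Cl2 x) → x * x = 1 := by decide +kernel
theorem cl_notT : ∀ x : M, (Cl1 x ∨ Cl2 x) → ¬ InT x := by decide +kernel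
theorem cl_comm : ∀ x : M, (Cl1 x ∨ Cl2 x) → ∀ b : M, b.m = false →
    x * b * x⁻¹ * b⁻¹ = 1 ∨ x * b * x⁻¹ * b⁻¹ = t := by decide +kernel
theorem cl1_comm : ∀ x y : M, Cl1 x → Cl1 y → x * y = y * x := by decide +kernel
theorem cl2_comm : ∀ x y : M, Cl2 x → Cl2 y → x * y = y * x := by decide +kernel
theorem cl12_comm : ∀ x y : M, Cl1 x → Cl2 y → x * y ≠ y * x := by decide +kernel
theorem cl1_T : ∀ x y : M, Cl1 x → Cl1 y → InT (x⁻¹ * y) := by decide +kernel
theorem cl2_T : ∀ x y : M, Cl2 x → Cl2 y → InT (x⁻¹ * y) := by decide +kernel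
theorem cl1_y : Cl1 (pr U.y 1) := by decide
theorem cl2_y' : Cl2 (pr U.y' 1) := by decide
theorem cl1_m : ∀ x : M, Cl1 x → x.m = false := fun _ h => h.1
theorem cl2_m : ∀ x : M, Cl2 x → x.m = false := fun _ h => h.1

universe u

variable {G : Type u} [Group G] {S : Sylow 2 G} {F : M →* G}

/-- `n` normalizes `F(B)` and centralizes `T` -/
structure NB (F : M →* G) (n : G) : Prop where
  fwd : ∀ x : M, x.m = false → ∃ x' : M, x'.m = false ∧ F x' = n * F x * n⁻¹
  bwd : ∀ x : M, x.m = false → ∃ x' : M, x'.m = false ∧ F x' = n⁻¹ * F x * n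
  ct : n * F t = F t * n
  ct' : n * F t' = F t' * n

theorem NB.mul {n m : G} (hn : NB F n) (hm : NB F m) : NB F (n * m) := by
  refine ⟨fun x hx => ?_, fun x hx => ?_, ?_, ?_⟩
  · obtain ⟨x', h1, h2⟩ := hm.fwd x hx
    obtain ⟨x'', h3, h4⟩ := hn.fwd x' h1
    exact ⟨x'', h3, by rw [h4, h2]; group⟩
  · obtain ⟨x', h1, h2⟩ := hn.bwd x hx
    obtain ⟨x'', h3, h4⟩ := hm.bwd x' h1
    exact ⟨x'', h3, by rw [h4, h2]; group⟩
  · rw [mul_assoc, hm.ct, ← mul_assoc, hn.ct, mul_assoc]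
  · rw [mul_assoc, hm.ct', ← mul_assoc, hn.ct', mul_assoc]

theorem NB.one : NB F (1 : G) :=
  ⟨fun x hx => ⟨x, hx, by group⟩, fun x hx => ⟨x, hx, by group⟩, by group, by group⟩

theorem NB.pow {n : G} (hn : NB F n) (k : ℕ) : NB F (n ^ k) := by
  induction k with
  | zero => rw [pow_zero]; exact NB.one
  | succ k ih => rw [pow_succ]; exact ih.mul hn

theorem NB.map_InT (P : Alt S F) {n : G} (hn : NB F n) {x x' : M} (h : F x' = n * F x * n⁻¹) (hx : InT x) :
    x' = x := by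
  have hc : ∀ v : M, n * F v = F v * n → F v = n * F v * n⁻¹ := by
    intro v hv
    rw [hv, mul_inv_cancel_right]
  have hz : n * F z = F z * n := comm_z_of_mem_CT (mem_CT.2 ⟨hn.ct, hn.ct'⟩)
  apply P.inj
  rw [h]
  rcases hx with rfl | rfl | rfl | rfl
  · rw [map_one]; group
  · exact (hc _ hn.ct).symm
  · exact (hc _ hn.ct').symm
  · exact (hc _ hz).symm

theorem rel_mul {n : G} {x x' y y' : M} (h : F x' = n * F x * n⁻¹) (h' : F y' = n * F y * n⁻¹) :
    F (x' * y') = n * F (x * y) * n⁻¹ := by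
  rw [map_mul, map_mul, h, h']; group

theorem rel_inv {n : G} {x x' : M} (h : F x' = n * F x * n⁻¹) : F x'⁻¹ = n * F x⁻¹ * n⁻¹ := by
  rw [map_inv, map_inv, h]; group

theorem rel_unique (P : Alt S F) {n : G} {x x' x'' : M} (h : F x' = n * F x * n⁻¹) (h' : F x'' = n * F x * n⁻¹) :
    x' = x'' := P.inj (by rw [h, h'])

theorem NB.cl (P : Alt S F) {n : G} (hn : NB F n) {x x' : M} (h : F x' = n * F x * n⁻¹)
    (hx : Cl1 x ∨ Cl2 x) : Cl1 x' ∨ Cl2 x' := by
  have hxm : x.m = false := by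
    rcases hx with h | h
    · exact h.1
    · exact h.1
  obtain ⟨x'', hm, h''⟩ := hn.fwd x hxm
  obtain rfl := rel_unique P h h''
  have hF : ∀ v : M, F v = 1 → v = 1 := fun v hv => P.inj (by rw [hv, map_one])
  refine cl_char _ hm ?_ ?_ ?_
  · apply hF
    rw [rel_mul h h, cl_sq x hx, map_one]; group
  · intro hT
    apply cl_notT x hx
    have h1 : F x = n⁻¹ * F x' * n := by rw [h]; group
    have hz : n * F z = F z * n := comm_z_of_mem_CT (mem_CT.2 ⟨hn.ct, hn.ct'⟩)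
    have hc : ∀ v : M, n * F v = F v * n → n⁻¹ * F v * n = F v := by
      intro v hv
      rw [mul_assoc, ← hv, inv_mul_cancel_left]
    have h2 : x = x' := by
      apply P.inj
      rw [h1]
      rcases hT with e | e | e | e
      · rw [e, map_one]; group
      · rw [e]; exact hc _ hn.ct
      · rw [e]; exact hc _ hn.ct'
      · rw [e]; exact hc _ hz
    rw [h2]; exact hT
  · intro b hb
    obtain ⟨b₀, hb₀, hb₀'⟩ := hn.bwd b hb
    have hbr : F b = n * F b₀ * n⁻¹ := by rw [hb₀']; group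
    have h1 : F (x' * b * x'⁻¹ * b⁻¹) = n * F (x * b₀ * x⁻¹ * b₀⁻¹) * n⁻¹ :=
      rel_mul (rel_mul (rel_mul h hbr) (rel_inv h)) (rel_inv hbr)
    rcases cl_comm x hx b₀ hb₀ with h3 | h3
    · left
      apply hF
      rw [h1, h3, map_one]; group
    · right
      apply P.inj
      rw [h1, h3, hn.ct, mul_inv_cancel_right]

theorem NB.rel_comm_iff (P : Alt S F) {n : G} {x x' y y' : M} (h : F x' = n * F x * n⁻¹)
    (h' : F y' = n * F y * n⁻¹) : x' * y' = y' * x' ↔ x * y = y * x := by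
  constructor
  · intro e
    apply P.inj
    have h1 := rel_mul h h'
    have h2 := rel_mul h' h
    rw [e, h2] at h1
    exact mul_left_cancel (mul_right_cancel h1).symm
  · intro e
    apply P.inj
    rw [rel_mul h h', rel_mul h' h, e]

/-- `n` fixes the classes -/
def Fix (F : M →* G) (n : G) : Prop := ∀ x x' : M, F x' = n * F x * n⁻¹ → (Cl1 x → Cl1 x') ∧ (Cl2 x → Cl2 x')

theorem NB.fix_sq (P : Alt S F) {n : G} (hn : NB F n) : Fix F (n * n) := by
  intro x x'' h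
  have hy := cl1_y
  have hy' := cl2_y'
  -- action of `n` on the classes
  have key : (∀ x x', F x' = n * F x * n⁻¹ → (Cl1 x → Cl1 x') ∧ (Cl2 x → Cl2 x')) ∨
      (∀ x x', F x' = n * F x * n⁻¹ → (Cl1 x → Cl2 x') ∧ (Cl2 x → Cl1 x')) := by
    obtain ⟨v, hvm, hv⟩ := hn.fwd (pr U.y 1) rfl
    obtain ⟨v', hvm', hv'⟩ := hn.fwd (pr U.y' 1) rfl
    have hne : v * v' ≠ v' * v := fun e => cl12_comm _ _ hy hy' ((NB.rel_comm_iff P hv hv').1 e)
    rcases hn.cl P hv (Or.inl hy) with h1 | h1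
    · have h2 : Cl2 v' := (hn.cl P hv' (Or.inr hy')).resolve_left (fun h3 => hne (cl1_comm _ _ h1 h3))
      left
      intro x x' hx
      constructor
      · intro hc
        refine (hn.cl P hx (Or.inl hc)).resolve_right (fun h3 => ?_)
        exact cl12_comm _ _ hc hy' ((NB.rel_comm_iff P hx hv').1 (cl2_comm _ _ h3 h2))
      · intro hc
        refine (hn.cl P hx (Or.inr hc)).resolve_left (fun h3 => ?_)
        exact cl12_comm _ _ hy hc ((NB.rel_comm_iff P hv hx).1 (cl1_comm _ _ h1 h3))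
    · have h2 : Cl1 v' := (hn.cl P hv' (Or.inr hy')).resolve_right (fun h3 => hne (cl2_comm _ _ h1 h3))
      right
      intro x x' hx
      constructor
      · intro hc
        refine (hn.cl P hx (Or.inl hc)).resolve_left (fun h3 => ?_)
        exact cl12_comm _ _ hc hy' ((NB.rel_comm_iff P hx hv').1 (cl1_comm _ _ h3 h2))
      · intro hc
        refine (hn.cl P hx (Or.inr hc)).resolve_right (fun h3 => ?_)
        exact cl12_comm _ _ hy hc ((NB.rel_comm_iff P hv hx).1 (cl2_comm _ _ h1 h3))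
  have main : ∀ x x'', F x'' = n * n * F x * (n * n)⁻¹ → x.m = false →
      ∃ x', F x' = n * F x * n⁻¹ ∧ F x'' = n * F x' * n⁻¹ := by
    intro x x'' h hx
    obtain ⟨x', -, hx'⟩ := hn.fwd x hx
    exact ⟨x', hx', by rw [h, hx']; group⟩
  constructor
  · intro hc
    obtain ⟨x', h1, h2⟩ := main x x'' h hc.1
    rcases key with hk | hk
    · exact (hk _ _ h2).1 ((hk _ _ h1).1 hc)
    · exact (hk _ _ h2).2 ((hk _ _ h1).1 hc)
  · intro hc
    obtain ⟨x', h1, h2⟩ := main x x'' h hc.1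
    rcases key with hk | hk
    · exact (hk _ _ h2).2 ((hk _ _ h1).2 hc)
    · exact (hk _ _ h2).1 ((hk _ _ h1).2 hc)

theorem Fix.mul {n m : G} (hm' : NB F m) (hn : Fix F n) (hm : Fix F m) : Fix F (n * m) := by
  intro x x'' h
  constructor
  · intro hc
    obtain ⟨x', -, hx'⟩ := hm'.fwd x hc.1
    exact (hn x' x'' (by rw [h, hx']; group)).1 ((hm x x' hx').1 hc)
  · intro hc
    obtain ⟨x', -, hx'⟩ := hm'.fwd x hc.1
    exact (hn x' x'' (by rw [h, hx']; group)).2 ((hm x x' hx').2 hc)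

theorem Fix.one (P : Alt S F) : Fix F (1 : G) := by
  intro x x' h
  have e : x' = x := P.inj (by rw [h]; group)
  rw [e]
  exact ⟨id, id⟩

theorem NB.fix_of_odd (P : Alt S F) {n : G} (hn : NB F n) (ho : Odd (orderOf n)) : Fix F n := by
  have h1 : ∀ k : ℕ, Fix F ((n * n) ^ k) := by
    intro k
    induction k with
    | zero => rw [pow_zero]; exact Fix.one P
    | succ k ih => rw [pow_succ]; exact Fix.mul (hn.mul hn) ih (hn.fix_sq P)
  obtain ⟨k, hk⟩ := ho
  have e : n = (n * n) ^ (k + 1) := by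
    have h2 : n ^ (2 * k + 1) = 1 := by rw [← hk, pow_orderOf_eq_one]
    rw [← pow_two, ← pow_mul]
    calc n = n ^ (2 * k + 1) * n := by rw [h2, one_mul]
      _ = n ^ (2 * (k + 1)) := by rw [← pow_succ]; congr 1
  rw [e]
  exact h1 _

theorem conj_w_m : ∀ x : M, x.m = false → (w * x * w⁻¹).m = false := by decide +kernel
theorem w_t : w * t * w⁻¹ = t' := by decide +kernel
theorem w_t' : w * t' * w⁻¹ = t := by decide +kernel
theorem w_inv : w⁻¹ = w := by decide +kernel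
theorem w_InT : ∀ x : M, InT (w * x * w⁻¹) → InT x := by decide +kernel
theorem w_pr1 : ∀ a : U, w * pr 1 a * w⁻¹ = pr a 1 := by decide +kernel

theorem NB.conj_w {n : G} (hn : NB F n) : NB F (F w * n * (F w)⁻¹) := by
  have hw1 : F w * F t * (F w)⁻¹ = F t' := by rw [← map_mul, ← map_inv, ← map_mul, w_t]
  have hw2 : F w * F t' * (F w)⁻¹ = F t := by rw [← map_mul, ← map_inv, ← map_mul, w_t']
  refine ⟨fun x hx => ?_, fun x hx => ?_, ?_, ?_⟩
  · obtain ⟨x', h1, h2⟩ := hn.fwd (w * x * w⁻¹) (conj_w_m x hx)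
    refine ⟨w * x' * w⁻¹, conj_w_m _ h1, ?_⟩
    have e : F w⁻¹ = F w := by rw [w_inv]
    rw [map_mul, map_mul, h2, map_mul, map_mul, e, ← map_inv, e]
    simp only [mul_inv_rev, ← map_inv, e]
    group
  · obtain ⟨x', h1, h2⟩ := hn.bwd (w * x * w⁻¹) (conj_w_m x hx)
    refine ⟨w * x' * w⁻¹, conj_w_m _ h1, ?_⟩
    have e : F w⁻¹ = F w := by rw [w_inv]
    rw [map_mul, map_mul, h2, map_mul, map_mul, e, ← map_inv, e]
    simp only [mul_inv_rev, ← map_inv, e]
    group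
  · rw [← hw2]
    calc F w * n * (F w)⁻¹ * (F w * F t' * (F w)⁻¹) = F w * (n * F t') * (F w)⁻¹ := by group
      _ = F w * (F t' * n) * (F w)⁻¹ := by rw [hn.ct']
      _ = _ := by group
  · rw [← hw1]
    calc F w * n * (F w)⁻¹ * (F w * F t * (F w)⁻¹) = F w * (n * F t) * (F w)⁻¹ := by group
      _ = F w * (F t * n) * (F w)⁻¹ := by rw [hn.ct]
      _ = _ := by group

theorem U_word : ∀ u : U, u = (if u.p then U.y else 1) * (if u.q then U.y' else 1) *
    (if xor u.r (u.p && u.q) then U.c else 1) := by decide +kernel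
theorem pr_mul (a a' b b' : U) : pr a b * pr a' b' = pr (a * a') (b * b') := rfl

/-- an element of odd order of `N(F(B)) ∩ C(T)` acts trivially modulo `T` -/
theorem NB.trivial_of_odd (P : Alt S F) {n : G} (hn : NB F n) (ho : Odd (orderOf n)) (x x' : M)
    (hx : x.m = false) (h : F x' = n * F x * n⁻¹) : InT (x⁻¹ * x') := by
  -- the good elements are closed under products
  have hmul : ∀ x y : M, x.m = false → y.m = false →
      (∀ x', F x' = n * F x * n⁻¹ → InT (x⁻¹ * x')) → (∀ y', F y' = n * F y * n⁻¹ → InT (y⁻¹ * y')) →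
      ∀ v, F v = n * F (x * y) * n⁻¹ → InT ((x * y)⁻¹ * v) := by
    intro x y hx hy h1 h2 v hv
    obtain ⟨x', hx'm, hx'⟩ := hn.fwd x hx
    obtain ⟨y', hy'm, hy'⟩ := hn.fwd y hy
    obtain rfl := rel_unique P hv (rel_mul hx' hy')
    have h3 := h1 _ hx'
    have h4 := h2 _ hy'
    have e : (x * y)⁻¹ * (x' * y') = (x⁻¹ * x') * (y⁻¹ * y') := by
      have h5 := InT_comm (x⁻¹ * x') y⁻¹ h3 (Bsub.inv_mem hy)
      calc (x * y)⁻¹ * (x' * y') = y⁻¹ * (x⁻¹ * x') * y' := by group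
        _ = (x⁻¹ * x') * y⁻¹ * y' := by rw [h5]
        _ = _ := by group
    rw [e]
    exact InT_mul _ _ h3 h4
  have hT : ∀ x, InT x → ∀ x', F x' = n * F x * n⁻¹ → InT (x⁻¹ * x') := by
    intro x hx x' h
    rw [hn.map_InT P h hx, inv_mul_cancel]
    exact Or.inl rfl
  have hf := hn.fix_of_odd P ho
  have hf' := (hn.conj_w (F := F)).fix_of_odd P (by
    rw [show F w * n * (F w)⁻¹ = MulAut.conj (F w) n from rfl, MulEquiv.orderOf_eq]
    exact ho)
  have h1 : ∀ u : U, (u = U.y ∨ u = U.y') → ∀ x', F x' = n * F (pr u 1) * n⁻¹ → InT ((pr u 1)⁻¹ * x') := by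
    rintro u (rfl | rfl) x' hx'
    · exact cl1_T _ _ cl1_y ((hf _ _ hx').1 cl1_y)
    · exact cl2_T _ _ cl2_y' ((hf _ _ hx').2 cl2_y')
  have h2 : ∀ u : U, (u = U.y ∨ u = U.y') → ∀ x', F x' = n * F (pr 1 u) * n⁻¹ → InT ((pr 1 u)⁻¹ * x') := by
    intro u hu x' hx'
    apply w_InT
    have e : w * ((pr 1 u)⁻¹ * x') * w⁻¹ = (pr u 1)⁻¹ * (w * x' * w⁻¹) := by
      rw [← w_pr1]; group
    have h3 : F (w * x' * w⁻¹) = F w * n * (F w)⁻¹ * F (pr u 1) * (F w * n * (F w)⁻¹)⁻¹ := by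
      rw [← w_pr1]
      simp only [map_mul, map_inv, hx']
      group
    rw [e]
    rcases hu with rfl | rfl
    · exact cl1_T _ _ cl1_y ((hf' _ _ h3).1 cl1_y)
    · exact cl2_T _ _ cl2_y' ((hf' _ _ h3).2 cl2_y')
  have h3 : ∀ u : U, ∀ x', F x' = n * F (pr u 1) * n⁻¹ → InT ((pr u 1)⁻¹ * x') := by
    intro u
    have e : pr u 1 = pr (if u.p then U.y else 1) 1 * pr (if u.q then U.y' else 1) 1 *
        pr (if xor u.r (u.p && u.q) then U.c else 1) 1 := by
      rw [pr_mul, pr_mul, mul_one, mul_one, ← U_word]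
    rw [e]
    refine hmul _ _ rfl rfl (hmul _ _ rfl rfl ?_ ?_) ?_
    · split_ifs
      · exact h1 _ (Or.inl rfl)
      · exact hT _ (Or.inl rfl)
    · split_ifs
      · exact h1 _ (Or.inr rfl)
      · exact hT _ (Or.inl rfl)
    · split_ifs
      · exact hT _ (Or.inr (Or.inl rfl))
      · exact hT _ (Or.inl rfl)
  have h4 : ∀ u : U, ∀ x', F x' = n * F (pr 1 u) * n⁻¹ → InT ((pr 1 u)⁻¹ * x') := by
    intro u
    have e : pr 1 u = pr 1 (if u.p then U.y else 1) * pr 1 (if u.q then U.y' else 1) *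
        pr 1 (if xor u.r (u.p && u.q) then U.c else 1) := by
      rw [pr_mul, pr_mul, mul_one, mul_one, ← U_word]
    rw [e]
    refine hmul _ _ rfl rfl (hmul _ _ rfl rfl ?_ ?_) ?_
    · split_ifs
      · exact h2 _ (Or.inl rfl)
      · exact hT _ (Or.inl rfl)
    · split_ifs
      · exact h2 _ (Or.inr rfl)
      · exact hT _ (Or.inl rfl)
    · split_ifs
      · exact hT _ (Or.inr (Or.inr (Or.inl rfl)))
      · exact hT _ (Or.inl rfl)
  obtain ⟨a, b, m⟩ := x
  change m = false at hx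
  subst hx
  have e : (⟨a, b, false⟩ : M) = pr a 1 * pr 1 b := by rw [pr_mul, mul_one, one_mul]; rfl
  rw [e] at h ⊢
  exact hmul _ _ rfl rfl (h3 a) (h4 b) _ h

variable [Finite G]

/-- **`C(t) ∩ C(t')` is 2-nilpotent.** -/
theorem nil (P : Alt S F) : Cfsg.HasNormalPComplement 2 (CT F) := by
  have h2 : Fact (Nat.Prime 2) := ⟨Nat.prime_two⟩
  obtain ⟨Q, hQ⟩ := exists_sylow P
  have hQm : ∀ g : CT F, g ∈ Q ↔ ∃ x : M, x.m = false ∧ F x = g := by
    intro g
    change g ∈ (Q : Subgroup (CT F)) ↔ _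
    rw [hQ]
    rfl
  have hcen : ∀ τ : M, InT τ → ∀ g : CT F, F τ * (g : G) = g * F τ := by
    intro τ hτ g
    obtain ⟨h1, h3⟩ := mem_CT.1 g.2
    have h4 := comm_z_of_mem_CT g.2
    rcases hτ with rfl | rfl | rfl | rfl
    · rw [map_one, one_mul, mul_one]
    · exact h1.symm
    · exact h3.symm
    · exact h4.symm
  let T0 : Subgroup (CT F) := (Tsub.map F).subgroupOf (CT F)
  have hT0 : ∀ g : CT F, g ∈ T0 ↔ ∃ τ : M, InT τ ∧ F τ = g := fun g => Iff.rfl
  have hT0c : ∀ s ∈ T0, ∀ g : CT F, g * s = s * g := by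
    intro s hs g
    obtain ⟨τ, hτ, hτs⟩ := (hT0 s).1 hs
    apply Subtype.ext
    show (g : G) * s = s * g
    rw [← hτs, hcen τ hτ g]
  have hT0n : T0.Normal := ⟨fun s hs g => by rwa [hT0c s hs g, mul_inv_cancel_right]⟩
  have hT0Q : T0 ≤ Q := by
    intro s hs
    obtain ⟨τ, hτ, hτs⟩ := (hT0 s).1 hs
    refine (hQm s).2 ⟨τ, ?_, hτs⟩
    rcases hτ with rfl | rfl | rfl | rfl <;> rfl
  have hT02 : IsPGroup 2 T0 := Q.2.to_le hT0Q
  refine hasNormalPComplement_of_central Q (QuotientGroup.mk' T0) (QuotientGroup.mk'_surjective T0) ?_ ?_ ?_ ?_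
  · rw [QuotientGroup.ker_mk']; exact hT02
  · intro s hs g
    rw [QuotientGroup.ker_mk'] at hs
    exact hT0c s hs g
  · intro a ha b hb
    obtain ⟨x, hx, hxa⟩ := (hQm a).1 ha
    obtain ⟨y, hy, hyb⟩ := (hQm b).1 hb
    rw [QuotientGroup.mk'_apply, QuotientGroup.mk'_apply, QuotientGroup.eq, hT0]
    have hd : ∀ x y : M, x.m = false → y.m = false → InT ((x * y)⁻¹ * (y * x)) := by decide +kernel
    refine ⟨_, hd x y hx hy, ?_⟩
    simp only [map_mul, map_inv, hxa, hyb, coe_mul, coe_inv]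
  · intro n hn ho a ha
    obtain ⟨x, hx, hxa⟩ := (hQm a).1 ha
    change n ∈ normalizer ((Q : Subgroup (CT F)) : Set (CT F)) at hn
    rw [mem_normalizer_iff] at hn
    have hNB : NB F (n : G) := by
      refine ⟨fun v hv => ?_, fun v hv => ?_, (mem_CT.1 n.2).1, (mem_CT.1 n.2).2⟩
      · have h1 := (hn ⟨F v, F_mem_CT hv⟩).1 ((hQm _).2 ⟨v, hv, rfl⟩)
        obtain ⟨v', h3, h4⟩ := (hQm _).1 h1
        exact ⟨v', h3, h4⟩
      · have h1 := (hn (n⁻¹ * ⟨F v, F_mem_CT hv⟩ * n)).2 (by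
          have e : n * (n⁻¹ * ⟨F v, F_mem_CT hv⟩ * n) * n⁻¹ = (⟨F v, F_mem_CT hv⟩ : CT F) := by group
          rw [e]
          exact (hQm _).2 ⟨v, hv, rfl⟩)
        obtain ⟨v', h3, h4⟩ := (hQm _).1 h1
        exact ⟨v', h3, h4⟩
    obtain ⟨x', hx', hx'r⟩ := hNB.fwd x hx
    have h3 := hNB.trivial_of_odd P (by rwa [orderOf_coe]) x x' hx hx'r
    rw [QuotientGroup.mk'_apply, QuotientGroup.mk'_apply, QuotientGroup.eq, hT0]
    have h4 : InT (x'⁻¹ * x) := by
      have := InT_inv _ h3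
      rwa [mul_inv_rev, inv_inv] at this
    -- `(n a)⁻¹ (a n) = n⁻¹ (…) n`
    refine ⟨x'⁻¹ * x, h4, ?_⟩
    have h5 := hcen _ h4 n
    have h6 : F (x'⁻¹ * x) = (n : G)⁻¹ * F (x'⁻¹ * x) * n := by
      rw [mul_assoc, h5, inv_mul_cancel_left]
    rw [h6, map_mul, map_inv, hx'r, hxa]
    simp only [coe_mul, coe_inv]
    group

end Cfsg.Agent.LFourA.AltNilB
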