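import Cfsg.Agent.LFourA.AltModel

/-!
# Case II: the fusion pattern in terms of the model
-/

set_option autoImplicit false

namespace Cfsg.Agent.LFourA.AltPat

open Cfsg.Agent.LFourA.AltModel DihedralGroup

/-- `c` on the elements of odd `p`-coordinate -/
def eta (b : U) : U := if b.p then U.c else 1

/-- a 3-element of `C(t')` acting as a 3-cycle on `V_e × 1` -/
structure RhoE {G : Type*} [Group G] (F : M →* G) (ρ : G) : Prop where
  cyc1 : ρ * F t * ρ⁻¹ = F (pr U.y 1)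
  cyc2 : ρ * F (pr U.y 1) * ρ⁻¹ = F (pr (U.y * U.c) 1)
  cyc3 : ρ * F (pr (U.y * U.c) 1) * ρ⁻¹ = F t
  ord : ∃ m, ρ ^ (3 ^ m) = 1
  fix : ∀ b, ρ * F (pr (eta b) b) = F (pr (eta b) b) * ρ

/-- a 3-element of `C(t')` acting as a 3-cycle on `V_o × 1` -/
structure RhoO {G : Type*} [Group G] (F : M →* G) (ρ : G) : Prop where
  cyc1 : ρ * F t * ρ⁻¹ = F (pr U.y' 1)
  cyc2 : ρ * F (pr U.y' 1) * ρ⁻¹ = F (pr (U.y' * U.c) 1)
  cyc3 : ρ * F (pr (U.y' * U.c) 1) * ρ⁻¹ = F t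
  ord : ∃ m, ρ ^ (3 ^ m) = 1
  fix : ∀ b, ρ * F (pr 1 b) = F (pr 1 b) * ρ

/-- The fusion pattern of `A₁₀`, `A₁₁`. -/
structure Alt {G : Type*} [Group G] (S : Sylow 2 G) (F : M →* G) : Prop where
  inj : Function.Injective F
  range : ∀ g, g ∈ S ↔ ∃ x, F x = g
  tz : ¬ IsConj (F t) (F z)
  tt : ∀ x, TT x → IsConj (F t) (F x)
  zz : ∀ x, ZZ x → IsConj (F z) (F x)
  rhoE : ∃ ρ, RhoE F ρ
  rhoO : ∃ ρ, RhoO F ρ

theorem chi_even : ∀ b : U, Defs.chi (k := 0) 1 0 (toD b) = toD (eta b) := by decide +kernel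
theorem chi_odd : ∀ b : U, Defs.chi (k := 0) 0 0 (toD b) = 1 := by decide +kernel
theorem toD_yc : toD (U.y * U.c) = sr 0 * Model.c 0 := by decide +kernel
theorem toD_y'c : toD (U.y' * U.c) = sr 1 * Model.c 0 := by decide +kernel

theorem isConj_F {G : Type*} [Group G] (F : M →* G) {x g y : M} (h : g * x * g⁻¹ = y) : IsConj (F x) (F y) :=
  isConj_iff.2 ⟨F g, by rw [← h]; simp only [map_mul, map_inv]⟩

/-- the pattern from `CaseII` -/
theorem Alt.of_caseII {G : Type*} [Group G] (S : Sylow 2 G) {f : Model.D 0 → Model.D 0 → G} {ww : G}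
    (h : Model.DWr (S : Subgroup G) 0 f ww) (hc : Defs.CaseII f ww) : Alt S (hom h) := by
  have hF : ∀ a b, hom h (pr a b) = f (toD a) (toD b) := hom_pr h
  have ht : hom h t = f (Model.c 0) 1 := by rw [t, hF, toD_c, toD_one]
  have hz : hom h z = f (Model.c 0) (Model.c 0) := by rw [z, hF, toD_c]
  refine ⟨hom_injective h, mem_range_hom h, ?_, ?_, ?_, ?_, ?_⟩
  · rw [ht, hz]; exact hc.tz
  · intro x hx
    rcases conj_of_TT x hx with ⟨g, hg⟩ | ⟨g, hg⟩ | ⟨g, hg⟩ | ⟨g, hg⟩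
    · exact isConj_F _ hg
    · refine IsConj.trans ?_ (isConj_F _ hg)
      rw [ht, hF, toD_y, toD_one]
      exact (hc.typ_t 0).symm
    · refine IsConj.trans ?_ (isConj_F _ hg)
      rw [ht, hF, toD_y', toD_one]
      exact (hc.typ_t 1).symm
    · refine IsConj.trans ?_ (isConj_F _ hg)
      rw [ht, hF, toD_y]
      exact (hc.even 0 0 (by decide) (by decide)).symm
  · intro x hx
    rcases conj_of_ZZ x hx with rfl | ⟨g, hg⟩ | ⟨g, hg⟩ | ⟨g, hg⟩ | ⟨g, hg⟩ | ⟨g, hg⟩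
    · exact IsConj.refl _
    · refine IsConj.trans ?_ (isConj_F _ hg)
      rw [hz, hF, toD_y, toD_c]
      exact (hc.typ_z 0).symm
    · refine IsConj.trans ?_ (isConj_F _ hg)
      rw [hz, hF, toD_y', toD_c]
      exact (hc.typ_z 1).symm
    · refine IsConj.trans ?_ (isConj_F _ hg)
      rw [hz, hF, toD_y']
      exact (hc.odd 1 1 (by decide) (by decide)).symm
    · refine IsConj.trans ?_ (isConj_F _ hg)
      rw [hz, hF, toD_y, toD_y']
      exact (hc.diff 0 1 (by decide)).symm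
    · refine IsConj.trans ?_ (isConj_F _ hg)
      rw [hz, hom_w]
      obtain ⟨g, i, j, -, -, hg, -⟩ := hc.w_z
      exact (isConj_iff.2 ⟨g, hg⟩ : IsConj ww _).symm
  · obtain ⟨ρ, hρ⟩ := hc.rho_even 0 (by decide)
    refine ⟨ρ, ?_, ?_, ?_, hρ.ord, ?_⟩
    · rw [ht, hF, toD_y, toD_one]; exact hρ.t_s
    · rw [hF, hF, toD_y, toD_yc, toD_one]; exact hρ.s_sc
    · rw [ht, hF, toD_yc, toD_one]; exact hρ.sc_t
    · intro b
      rw [hF, ← chi_even]
      exact hρ.fix (toD b)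
  · obtain ⟨ρ, hρ⟩ := hc.rho_odd 1 (by decide)
    refine ⟨ρ, ?_, ?_, ?_, hρ.ord, ?_⟩
    · rw [ht, hF, toD_y', toD_one]; exact hρ.t_s
    · rw [hF, hF, toD_y', toD_y'c, toD_one]; exact hρ.s_sc
    · rw [ht, hF, toD_y'c, toD_one]; exact hρ.sc_t
    · intro b
      rw [hF, toD_one, ← chi_odd b]
      exact hρ.fix (toD b)

end Cfsg.Agent.LFourA.AltPat
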