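import Cfsg.Agent.LFourA.AltCore
import Cfsg.Agent.LFourA.AltAdj

/-!
# Case II: `O(C(t)) = 1`
-/

set_option autoImplicit false

namespace Cfsg.Agent.LFourA.AltPlug

open Cfsg Subgroup Equiv
open Cfsg.Agent.LFourA.AltModel (U M pr t t' z hom)
open Cfsg.Agent.LFourA.AltPat (Alt)
open Cfsg.Agent.LFourA.AltInst (EE)
open Cfsg.Agent.LFourA.AltFive (CommThm)
open Cfsg.Agent.LFourA.AltZ9 (FT)
open Cfsg.Agent.LFourA.AltPsi (Psi)
open Cfsg.Agent.LFourA.AltAdj (Fct)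

universe u

variable {G : Type u} [Group G] [Finite G] {S : Sylow 2 G} {F : M →* G} {n : ℕ} [NeZero n]
  {ψ : centralizer ({F t} : Set G) →* Perm (Fin n)}

omit [Finite G] in
theorem tt02 : AltInst.tt F 0 2 = F (pr U.y' U.y') * F (pr U.y U.y) * (F (pr U.y' U.y'))⁻¹ := by
  rw [AltInst.tt, ← map_inv, ← map_mul, ← map_mul]; congr 1

omit [Finite G] in
theorem tt04 : AltInst.tt F 0 4 = F (pr U.y' 1) * F (pr U.y 1) * (F (pr U.y' 1))⁻¹ := by
  rw [AltInst.tt, ← map_inv, ← map_mul, ← map_mul]; congr 1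

omit [Finite G] in
theorem conj_t (a b : U) : F (pr a b) * F t * (F (pr a b))⁻¹ = F t := by
  have h1 := mem_centralizer_singleton_iff.1 (AltPsi.pr_mem F a b)
  rw [h1, mul_inv_cancel_right]

theorem adj (P : Alt S F) (hψ : Psi F n ψ) (hF : Fct n) : AltCore.Adj F := by
  rintro x ⟨hx, hxt⟩
  rw [AltInst.tt_t] at hxt ⊢
  rw [tt02] at hx
  have hxt' := mem_centralizer_singleton_iff.1 hxt
  set g := F (pr U.y' U.y') with hg
  have hgt := conj_t (F := F) U.y' U.y'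
  rw [← hg] at hgt
  have e : g * (g⁻¹ * x * g) * g⁻¹ = x := by group
  rw [← e, AltAdj.core_transport hgt]
  have hx2 : g⁻¹ * x * g ∈ centralizerPPrimeCore 2 (F (pr U.y U.y)) := by
    rw [← AltAdj.core_transport (g := g) rfl, e]
    exact hx
  apply AltAdj.adj P hψ hF hx2
  have hgt' : g * F t = F t * g := mul_inv_eq_iff_eq_mul.1 hgt
  calc g⁻¹ * x * g * F t = g⁻¹ * (x * (g * F t)) := by group
    _ = g⁻¹ * (x * F t * g) := by rw [hgt']; group
    _ = g⁻¹ * F t * x * g := by rw [hxt']; group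
    _ = g⁻¹ * (F t * g) * g⁻¹ * x * g := by group
    _ = F t * (g⁻¹ * x * g) := by rw [← hgt']; group

theorem disj (P : Alt S F) (hψ : Psi F n ψ) (hF : Fct n) : AltCore.Disj F := by
  rintro x ⟨hx, hxt⟩
  rw [AltInst.tt_t] at hxt ⊢
  rw [AltInst.tt_t'] at hx
  exact AltAdj.disj P hψ hF hx (mem_centralizer_singleton_iff.1 hxt)

theorem genT (P : Alt S F) (hψ : Psi F n ψ) (hF : Fct n) : AltCore.GenT F := by
  intro L h1 h2 h3 h4
  rw [AltInst.tt_t] at h1 h3 h4 ⊢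
  have key : ∀ (a b : U) (v : G), (∀ g, g * F t = F t * g →
      g * (F (pr a b) * v * (F (pr a b))⁻¹) = F (pr a b) * v * (F (pr a b))⁻¹ * g → g ∈ L) →
      ∀ g, g * F t = F t * g → g * v = v * g → g ∈ L := by
    intro a b v hL g hg hgv
    have hm : F (pr a b) ∈ L := h2 (AltInst.F_mem_normalizer _)
    have hat : F (pr a b) * F t = F t * F (pr a b) := mul_inv_eq_iff_eq_mul.1 (conj_t a b)
    have h5 : F (pr a b) * g * (F (pr a b))⁻¹ ∈ L := by
      apply hL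
      · calc F (pr a b) * g * (F (pr a b))⁻¹ * F t =
            F (pr a b) * g * ((F (pr a b))⁻¹ * (F t * F (pr a b)) * (F (pr a b))⁻¹) := by group
          _ = F (pr a b) * g * ((F (pr a b))⁻¹ * (F (pr a b) * F t) * (F (pr a b))⁻¹) := by rw [hat]
          _ = F (pr a b) * (g * F t) * (F (pr a b))⁻¹ := by group
          _ = F (pr a b) * F t * g * (F (pr a b))⁻¹ := by rw [hg]; group
          _ = F t * (F (pr a b) * g * (F (pr a b))⁻¹) := by rw [hat]; group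
      · calc F (pr a b) * g * (F (pr a b))⁻¹ * (F (pr a b) * v * (F (pr a b))⁻¹) =
            F (pr a b) * (g * v) * (F (pr a b))⁻¹ := by group
          _ = _ := by rw [hgv]; group
    have h6 : g = (F (pr a b))⁻¹ * (F (pr a b) * g * (F (pr a b))⁻¹) * F (pr a b) := by group
    rw [h6]
    exact mul_mem (mul_mem (inv_mem hm) h5) hm
  apply AltAdj.gen P hψ hF L h1
  · rintro g ⟨hg, hg'⟩
    rw [tt02] at h3
    exact key _ _ _ h3 g (mem_centralizer_singleton_iff.1 hg) (mem_centralizer_singleton_iff.1 hg')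
  · rintro g ⟨hg, hg'⟩
    rw [tt04] at h4
    exact key _ _ _ h4 g (mem_centralizer_singleton_iff.1 hg) (mem_centralizer_singleton_iff.1 hg')
  · exact h2 (AltInst.F_mem_normalizer _)

/-- **`O(C(t)) = 1` from the homomorphism `ψ`** -/
theorem core_t_of_psi [IsSimpleGroup G] (hFT : FT.{u}) (hC : CommThm.{u}) (P : Alt S F) (hψ : Psi F n ψ)
    (hF : Fct n) : centralizerPPrimeCore 2 (F t) = ⊥ :=
  AltCore.core_t hFT hC P (adj P hψ hF) (disj P hψ hF) (genT P hψ hF)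

/-- **`O(C(t)) = 1` and `C(t) / V_o ≃ S₆`, `S₇`.** -/
theorem main [IsSimpleGroup G] (hFT : FT.{u}) (hC : CommThm.{u})
    (hGW : ∀ (X : Type u) [Group X] [Finite X] [Group.IsPerfect X]
      (S : Sylow 2 X) (n : ℕ), 2 ≤ n → Nonempty ((S : Subgroup X) ≃* DihedralGroup n) →
      (∃ (F : Type) (_ : Field F) (_ : Fintype F), Odd (Fintype.card F) ∧ 3 < Fintype.card F ∧
        Nonempty (X ⧸ Cfsg.oddCore X ≃* Matrix.ProjectiveSpecialLinearGroup (Fin 2) F)) ∨
      Nonempty (X ⧸ Cfsg.oddCore X ≃* alternatingGroup (Fin 7)))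
    {f : Model.D 0 → Model.D 0 → G} {ww : G} (h : Model.DWr (S : Subgroup G) 0 f ww) (hI : Defs.CaseII f ww) :
    Alt S (hom h) ∧ centralizerPPrimeCore 2 (hom h t) = ⊥ ∧
      ((∃ ψ, Psi (hom h) 6 ψ) ∨ ∃ ψ, Psi (hom h) 7 ψ) := by
  have P := Alt.of_caseII S h hI
  have hpsi := AltPsi.exists_psi h hI hGW (AltZ9.solvable hFT hC P)
  refine ⟨P, ?_, hpsi⟩
  rcases hpsi with ⟨ψ, hψ⟩ | ⟨ψ, hψ⟩
  · exact core_t_of_psi hFT hC P hψ AltAdj.fct6
  · exact core_t_of_psi hFT hC P hψ AltAdj.fct7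

end Cfsg.Agent.LFourA.AltPlug
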