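import Mathlib
import Cfsg.Agent.StandardComponent.AltAut

/-!
# Automorphisms of `A₆`

`NE`: the automorphisms mapping three-cycles to three-cycles; a subgroup of index at most two; its elements are induced by
permutations.  `exists_exo`: an exotic automorphism normalising a given Sylow 2-subgroup.
-/

set_option autoImplicit false

namespace Cfsg.Agent.LFourA.AltPsiAut

open Equiv Equiv.Perm Subgroup
open Cfsg.Agent.Lib.AltCarmichael Cfsg.Agent.SporadicRecognition.AltCover Cfsg.Agent.StandardComponent.AltAut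

/-- an automorphism mapping the Carmichael generators to three-cycles is conjugation by a permutation -/
theorem exists_conj_of_three {m : ℕ} (hm : 2 ≤ m) (e : MulAut (alternatingGroup (Fin (m + 2))))
    (hU : ∀ i (hi : i < m), (e (cy m i hi) : Perm (Fin (m + 2))).IsThreeCycle) :
    ∃ σ : Perm (Fin (m + 2)), ∀ x : alternatingGroup (Fin (m + 2)), (e x : Perm (Fin (m + 2))) = σ * x * σ⁻¹ := by
  classical
  -- the images of the Carmichael generators
  have hne : ∀ i (hi : i < m) j (hj : j < m), i ≠ j →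
      (e (cy m i hi) : Perm (Fin (m + 2))) ≠ e (cy m j hj) := fun i hi j hj hij h =>
    cy_ne hi hj hij (e.injective (Subtype.ext h))
  have hni : ∀ i (hi : i < m) j (hj : j < m), i ≠ j →
      (e (cy m j hj) : Perm (Fin (m + 2))) ≠ (e (cy m i hi) : Perm (Fin (m + 2)))⁻¹ := fun i hi j hj hij h =>
    cy_ne_inv hi hj hij (e.injective (Subtype.ext (by rw [h, map_inv]; rfl)))
  have hsq : ∀ i (hi : i < m) j (hj : j < m), i ≠ j →
      ((e (cy m i hi) : Perm (Fin (m + 2))) * e (cy m j hj)) ^ 2 = 1 := fun i hi j hj hij => by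
    have h := congrArg (fun x => (e x : Perm (Fin (m + 2)))) (cy_sq hi hj hij)
    simpa using h
  have harc : ∀ i (hi : i < m) j (hj : j < m), i ≠ j →
      ∃ r, (e (cy m i hi) : Perm (Fin (m + 2))) r = (e (cy m j hj) : Perm (Fin (m + 2))) r ∧
        (e (cy m i hi) : Perm (Fin (m + 2))) r ≠ r := fun i hi j hj hij =>
    exists_arc (hU i hi) (hU j hj) (hne i hi j hj hij) (hni i hi j hj hij) (hsq i hi j hj hij)
  have h0 : 0 < m := by omega
  have h1 : 1 < m := by omega
  obtain ⟨q, hq, hq'⟩ := harc 0 h0 1 h1 (by omega)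
  obtain ⟨p, hp⟩ : ∃ p, p = (e (cy m 0 h0) : Perm (Fin (m + 2))) q := ⟨_, rfl⟩
  have hpq : p ≠ q := by rw [hp]; exact hq'
  have hall : ∀ i (hi : i < m), (e (cy m i hi) : Perm (Fin (m + 2))) q = p := by
    intro i hi
    by_cases hi0 : i = 0
    · subst hi0; exact hp.symm
    by_cases hi1 : i = 1
    · subst hi1; rw [hp, hq]
    rw [hp]
    exact arc_of_three (hU 0 h0) (hU 1 h1) (hU i hi) (hne 0 h0 1 h1 (by omega)) hq' hq
      (harc 0 h0 i hi (Ne.symm hi0)) (harc 1 h1 i hi (Ne.symm hi1))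
  have hqm : ∀ i (hi : i < m), (e (cy m i hi) : Perm (Fin (m + 2))) q ≠ q := fun i hi => by
    rw [hall i hi]; exact hpq
  -- the third point
  have hcq : ∀ i (hi : i < m), (e (cy m i hi) : Perm (Fin (m + 2))) p ≠ q := fun i hi => by
    rw [← hall i hi]; exact apply_two_ne (hU i hi) (hqm i hi)
  have hcp : ∀ i (hi : i < m), (e (cy m i hi) : Perm (Fin (m + 2))) p ≠ p := fun i hi h => by
    apply hqm i hi
    rw [← hall i hi] at h
    exact (e (cy m i hi) : Perm (Fin (m + 2))).injective h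
  have hcc : ∀ i (hi : i < m), (e (cy m i hi) : Perm (Fin (m + 2)))
      ((e (cy m i hi) : Perm (Fin (m + 2))) p) = q := fun i hi => by
    rw [← hall i hi]; exact apply_three (hU i hi) q
  have hinj : ∀ i (hi : i < m) j (hj : j < m), i ≠ j →
      (e (cy m i hi) : Perm (Fin (m + 2))) p ≠ (e (cy m j hj) : Perm (Fin (m + 2))) p := by
    intro i hi j hj hij h
    apply hne i hi j hj hij
    apply eq_of_arc (hU i hi) (hU j hj) (hqm i hi)
    · rw [hall, hall]
    · rw [hall, hall]; exact h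
  have hfix : ∀ i (hi : i < m) j (hj : j < m), i ≠ j →
      (e (cy m i hi) : Perm (Fin (m + 2))) ((e (cy m j hj) : Perm (Fin (m + 2))) p) =
        (e (cy m j hj) : Perm (Fin (m + 2))) p := by
    intro i hi j hj hij
    apply apply_of_not (hU i hi) (hqm i hi)
    · exact hcq j hj
    · rw [hall]; exact hcp j hj
    · rw [hall]; exact (hinj i hi j hj hij).symm
  -- the permutation
  let f : Fin (m + 2) → Fin (m + 2) := fun x =>
    if h : x.val < m then (e (cy m x.val h) : Perm (Fin (m + 2))) p else if x.val = m then q else p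
  have hf1 : ∀ i (hi : i < m), f (Fin.ofNat (m + 2) i) = (e (cy m i hi) : Perm (Fin (m + 2))) p := by
    intro i hi
    have hv : (Fin.ofNat (m + 2) i).val = i := ofNat_val (by omega)
    have hlt : (Fin.ofNat (m + 2) i).val < m := by rw [hv]; exact hi
    change (if h : (Fin.ofNat (m + 2) i).val < m then
      (e (cy m (Fin.ofNat (m + 2) i).val h) : Perm (Fin (m + 2))) p else
        if (Fin.ofNat (m + 2) i).val = m then q else p) = _
    rw [dif_pos hlt]
    congr 3
    congr 1
  have hf2 : f (Fin.ofNat (m + 2) m) = q := by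
    have hv : (Fin.ofNat (m + 2) m).val = m := ofNat_val (by omega)
    change (if h : (Fin.ofNat (m + 2) m).val < m then
      (e (cy m (Fin.ofNat (m + 2) m).val h) : Perm (Fin (m + 2))) p else
        if (Fin.ofNat (m + 2) m).val = m then q else p) = _
    rw [dif_neg (by omega), if_pos hv]
  have hf3 : f (Fin.ofNat (m + 2) (m + 1)) = p := by
    have hv : (Fin.ofNat (m + 2) (m + 1)).val = m + 1 := ofNat_val (by omega)
    change (if h : (Fin.ofNat (m + 2) (m + 1)).val < m then
      (e (cy m (Fin.ofNat (m + 2) (m + 1)).val h) : Perm (Fin (m + 2))) p else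
        if (Fin.ofNat (m + 2) (m + 1)).val = m then q else p) = _
    rw [dif_neg (by omega), if_neg (by omega)]
  have hcases : ∀ x : Fin (m + 2), (∃ i, i < m ∧ x = Fin.ofNat (m + 2) i) ∨ x = Fin.ofNat (m + 2) m ∨
      x = Fin.ofNat (m + 2) (m + 1) := by
    intro x
    have hx := x.isLt
    rcases Nat.lt_or_ge x.val m with h | h
    · left; exact ⟨x.val, h, Fin.ext (ofNat_val hx).symm⟩
    rcases Nat.lt_or_ge x.val (m + 1) with h' | h'
    · right; left
      apply Fin.ext; rw [ofNat_val (by omega)]; omega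
    · right; right
      apply Fin.ext; rw [ofNat_val (by omega)]; omega
  have hfi : Function.Injective f := by
    intro x y hxy
    rcases hcases x with ⟨i, hi, rfl⟩ | rfl | rfl <;> rcases hcases y with ⟨j, hj, rfl⟩ | rfl | rfl
    · rw [hf1 i hi, hf1 j hj] at hxy
      by_contra hne'
      exact hinj i hi j hj (fun h => hne' (by rw [h])) hxy
    · rw [hf1 i hi, hf2] at hxy; exact absurd hxy (hcq i hi)
    · rw [hf1 i hi, hf3] at hxy; exact absurd hxy (hcp i hi)
    · rw [hf1 j hj, hf2] at hxy; exact absurd hxy.symm (hcq j hj)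
    · rfl
    · rw [hf2, hf3] at hxy; exact absurd hxy.symm hpq
    · rw [hf1 j hj, hf3] at hxy; exact absurd hxy.symm (hcp j hj)
    · rw [hf2, hf3] at hxy; exact absurd hxy hpq
    · rfl
  let σ : Perm (Fin (m + 2)) := Equiv.ofBijective f (Finite.injective_iff_bijective.1 hfi)
  have hσ : ∀ x, σ x = f x := fun x => rfl
  have hkey : ∀ i (hi : i < m), (e (cy m i hi) : Perm (Fin (m + 2))) = σ * cyc m i * σ⁻¹ := by
    intro i hi
    rw [eq_mul_inv_iff_mul_eq]
    ext1 x
    rw [Perm.mul_apply, Perm.mul_apply, hσ, hσ]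
    rcases hcases x with ⟨j, hj, rfl⟩ | rfl | rfl
    · by_cases hij : i = j
      · subst hij
        rw [cyc_apply_self hi, hf1 i hi, hf2, hcc i hi]
      · rw [cyc_apply_of_ne hi hj hij, hf1 j hj, hfix i hi j hj hij]
    · rw [cyc_apply_m hi, hf2, hf3, hall i hi]
    · rw [cyc_apply_m_succ, hf3, hf1 i hi]
  refine ⟨σ, fun x => ?_⟩
  have h := hom_ext (m := m) (by omega)
    (f := (alternatingGroup (Fin (m + 2))).subtype.comp e.toMonoidHom)
    (g := (MulAut.conj σ).toMonoidHom.comp (alternatingGroup (Fin (m + 2))).subtype)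
    (fun i hi => hkey i hi)
  exact DFunLike.congr_fun h x


/-- the alternating group of degree six -/
abbrev A6 : Type := alternatingGroup (Fin 6)

theorem card6 : 5 ≤ Nat.card (Fin 6) := by rw [Nat.card_eq_fintype_card, Fintype.card_fin]; norm_num

theorem three_or {x : A6} (hx : orderOf x = 3) :
    (x : Perm (Fin 6)).IsThreeCycle ∨ (x : Perm (Fin 6)).cycleType = {3, 3} := by
  have ho : orderOf (x : Perm (Fin 6)) = 3 := by rw [Subgroup.orderOf_coe, hx]
  obtain ⟨j, hj⟩ := cycleType_prime_order (σ := (x : Perm (Fin 6))) (by rw [ho]; exact Nat.prime_three)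
  rw [ho] at hj
  have hsum : 3 * (j + 1) ≤ 6 := by
    have h := (x : Perm (Fin 6)).sum_cycleType
    have h2 : (x : Perm (Fin 6)).support.card ≤ 6 := by
      simpa using Finset.card_le_univ (x : Perm (Fin 6)).support
    rw [hj, Multiset.sum_replicate, smul_eq_mul] at h
    omega
  have hj1 : j = 0 ∨ j = 1 := by omega
  rcases hj1 with rfl | rfl
  · left; exact hj
  · right; exact hj

/-- an element of cycle type `{3,3}` -/
def x33 : Perm (Fin 6) := swap 0 1 * swap 1 2 * (swap 3 4 * swap 4 5)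

/-- an odd permutation commuting with it -/
def c33 : Perm (Fin 6) := swap 0 3 * swap 1 4 * swap 2 5

theorem c33_comm : c33 * x33 = x33 * c33 := by decide

theorem c33_sign : sign c33 = -1 := by decide

theorem x33_mem : x33 ∈ alternatingGroup (Fin 6) := by
  rw [Perm.mem_alternatingGroup]; decide

theorem x33_type : x33.cycleType = {3, 3} := by
  have h := three_or (x := ⟨x33, x33_mem⟩) (by
    apply orderOf_eq_prime
    · apply Subtype.ext; decide
    · intro h
      have := congrArg Subtype.val h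
      revert this; decide)
  rcases h with h | h
  · exfalso
    have h3 := h.card_support
    revert h3; decide
  · exact h

theorem exists_conj_x33 {x : A6} (hx : (x : Perm (Fin 6)).cycleType = {3, 3}) :
    ∃ g : Perm (Fin 6), g * x33 * g⁻¹ = x ∧ sign g = 1 := by
  have h1 : IsConj x33 (x : Perm (Fin 6)) := by
    rw [isConj_iff_cycleType_eq, hx, x33_type]
  obtain ⟨g, hg⟩ := isConj_iff.1 h1
  rcases Int.units_eq_one_or (sign g) with h2 | h2
  · exact ⟨g, hg, h2⟩
  · refine ⟨g * c33, ?_, ?_⟩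
    · rw [← hg]
      have h3 : c33 * x33 * c33⁻¹ = x33 := by rw [c33_comm, mul_inv_cancel_right]
      calc g * c33 * x33 * (g * c33)⁻¹ = g * (c33 * x33 * c33⁻¹) * g⁻¹ := by group
        _ = _ := by rw [h3]
    · rw [map_mul, h2, c33_sign]; rfl

theorem exists_conj_33 {x y : A6} (hx : (x : Perm (Fin 6)).cycleType = {3, 3})
    (hy : (y : Perm (Fin 6)).cycleType = {3, 3}) : ∃ g : A6, g * x * g⁻¹ = y := by
  obtain ⟨g, hg, hs⟩ := exists_conj_x33 hx
  obtain ⟨g', hg', hs'⟩ := exists_conj_x33 hy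
  refine ⟨⟨g' * g⁻¹, ?_⟩, ?_⟩
  · rw [Perm.mem_alternatingGroup, map_mul, map_inv, hs, hs']; rfl
  · apply Subtype.ext
    change g' * g⁻¹ * x * (g' * g⁻¹)⁻¹ = y
    rw [← hg, ← hg']; group

theorem isThreeCycle_conj {g x : Perm (Fin 6)} : (g * x * g⁻¹).IsThreeCycle ↔ x.IsThreeCycle := by
  rw [IsThreeCycle, IsThreeCycle, cycleType_conj]

theorem all_of_one (α : MulAut A6) {x₀ : A6} (h₀ : (x₀ : Perm (Fin 6)).IsThreeCycle) :
    ∀ x : A6, (x : Perm (Fin 6)).IsThreeCycle →
      ((α x : Perm (Fin 6)).IsThreeCycle ↔ (α x₀ : Perm (Fin 6)).IsThreeCycle) := by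
  intro x hx
  obtain ⟨g, hg⟩ := isConj_iff.1 (alternatingGroup.isThreeCycle_isConj card6 h₀ hx)
  rw [← hg, map_mul, map_mul, map_inv]
  exact isThreeCycle_conj

/-- the automorphisms mapping three-cycles to three-cycles -/
def NE : Subgroup (MulAut A6) where
  carrier := {α | ∀ x : A6, (x : Perm (Fin 6)).IsThreeCycle → (α x : Perm (Fin 6)).IsThreeCycle}
  one_mem' := fun x hx => hx
  mul_mem' := fun {α β} hα hβ x hx => hα _ (hβ x hx)
  inv_mem' := by
    intro α hα
    have hfin : Finite (MulAut A6) :=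
      Finite.of_injective (fun σ : MulAut A6 => (σ : A6 → A6)) DFunLike.coe_injective
    have hpow : ∀ (k : ℕ) (x : A6), (x : Perm (Fin 6)).IsThreeCycle → ((α ^ k) x : Perm (Fin 6)).IsThreeCycle := by
      intro k
      induction k with
      | zero => intro x hx; exact hx
      | succ k ih =>
        intro x hx
        rw [pow_succ, MulAut.mul_apply]
        exact ih _ (hα x hx)
    have h1 : α⁻¹ = α ^ (orderOf α - 1) := by
      have h2 : α ^ (orderOf α - 1) * α = 1 := by
        rw [← pow_succ, Nat.sub_add_cancel (orderOf_pos α), pow_orderOf_eq_one]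
      exact inv_eq_of_mul_eq_one_left h2
    change ∀ x : A6, (x : Perm (Fin 6)).IsThreeCycle → (α⁻¹ x : Perm (Fin 6)).IsThreeCycle
    rw [h1]
    exact hpow _

theorem mem_NE {α : MulAut A6} :
    α ∈ NE ↔ ∀ x : A6, (x : Perm (Fin 6)).IsThreeCycle → (α x : Perm (Fin 6)).IsThreeCycle := Iff.rfl

/-- the three-cycle `(0 1 2)` -/
def u3 : A6 := ⟨swap 0 1 * swap 1 2, by rw [Perm.mem_alternatingGroup]; decide⟩

theorem u3_three : (u3 : Perm (Fin 6)).IsThreeCycle := by
  have : (u3 : Perm (Fin 6)) = swap 1 0 * swap 1 2 := by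
    change swap 0 1 * swap 1 2 = swap 1 0 * swap 1 2
    rw [swap_comm]
  rw [this]
  exact isThreeCycle_swap_mul_swap_same (by decide) (by decide) (by decide)

theorem mem_NE_iff {α : MulAut A6} : α ∈ NE ↔ (α u3 : Perm (Fin 6)).IsThreeCycle :=
  ⟨fun h => h _ u3_three, fun h x hx => (all_of_one α u3_three x hx).2 h⟩

theorem type_of_not_mem {α : MulAut A6} (hα : α ∉ NE) {x : A6} (hx : (x : Perm (Fin 6)).IsThreeCycle) :
    (α x : Perm (Fin 6)).cycleType = {3, 3} := by
  rcases three_or (x := α x) (by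
    rw [MulEquiv.orderOf_eq, ← Subgroup.orderOf_coe]; exact hx.orderOf) with h | h
  · exact absurd (mem_NE_iff.2 ((all_of_one α u3_three x hx).1 h)) hα
  · exact h

theorem inv_mul_mem {α β : MulAut A6} (hα : α ∉ NE) (hβ : β ∉ NE) : α⁻¹ * β ∈ NE := by
  rw [mem_NE_iff]
  obtain ⟨g, hg⟩ := exists_conj_33 (type_of_not_mem hα u3_three) (type_of_not_mem hβ u3_three)
  have h1 : (α⁻¹ * β) u3 = α⁻¹ g * u3 * (α⁻¹ g)⁻¹ := by
    rw [MulAut.mul_apply, ← hg, map_mul, map_mul, map_inv, MulAut.inv_apply_self]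
  rw [h1]
  exact isThreeCycle_conj.2 u3_three

/-- a group of automorphisms whose Sylow 2-subgroup is not exotic -/
theorem mem_NE_of_sylow {X : Type*} [Group X] [Finite X] (φ : X →* MulAut A6) (P : Sylow 2 X)
    (hP : ∀ g ∈ (P : Subgroup X), φ g ∈ NE) (g : X) : φ g ∈ NE := by
  by_contra hg
  have hidx : (NE.comap φ).index = 2 := by
    rw [Subgroup.index_eq_two_iff_exists_notMem_and]
    refine ⟨g, hg, ?_⟩
    intro b
    by_cases hb : φ b ∈ NE
    · right; exact hb
    · left
      change φ (b * g) ∈ NE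
      rw [map_mul]
      have := inv_mul_mem (α := (φ b)⁻¹) (β := φ g) (fun h => hb (inv_mem_iff.1 h)) hg
      rwa [inv_inv] at this
  have hle : (P : Subgroup X) ≤ NE.comap φ := hP
  have h1 := Subgroup.index_dvd_of_le hle
  rw [hidx] at h1
  have h2 : Fact (Nat.Prime 2) := ⟨Nat.prime_two⟩
  exact P.not_dvd_index h1

/-- `(01)(23)` -/
def sa : A6 := ⟨swap 0 1 * swap 2 3, by rw [Perm.mem_alternatingGroup]; decide⟩
/-- `(02)(13)` -/
def sb : A6 := ⟨swap 0 2 * swap 1 3, by rw [Perm.mem_alternatingGroup]; decide⟩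
/-- `(01)(45)` -/
def sd : A6 := ⟨swap 0 1 * swap 4 5, by rw [Perm.mem_alternatingGroup]; decide⟩

set_option maxRecDepth 100000 in
theorem cent_four : ∀ σ : Perm (Fin 6), σ * (swap 0 1 * swap 2 3) = (swap 0 1 * swap 2 3) * σ →
    σ * (swap 0 2 * swap 1 3) = (swap 0 2 * swap 1 3) * σ → sign σ = 1 →
    σ = 1 ∨ σ = swap 0 1 * swap 2 3 ∨ σ = swap 0 2 * swap 1 3 ∨ σ = swap 0 3 * swap 1 2 := by decide +kernel

theorem mem_NE_of_fix {α : MulAut A6} (ha : α sa = sa) (hb : α sb = sb) : α ∈ NE := by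
  rw [mem_NE_iff]
  have hu1 : u3 * sa * u3⁻¹ = sa * sb := by apply Subtype.ext; decide
  have hu2 : u3 * sb * u3⁻¹ = sa := by apply Subtype.ext; decide
  have e1 : α u3 * sa * (α u3)⁻¹ = sa * sb := by
    have := congrArg α hu1
    rwa [map_mul, map_mul, map_mul, map_inv, ha, hb] at this
  have e2 : α u3 * sb * (α u3)⁻¹ = sa := by
    have := congrArg α hu2
    rwa [map_mul, map_mul, map_inv, ha, hb] at this
  have f1 : (u3⁻¹ * α u3) * sa = sa * (u3⁻¹ * α u3) := by
    rw [mul_assoc, mul_inv_eq_iff_eq_mul.1 e1, ← hu1]; group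
  have f2 : (u3⁻¹ * α u3) * sb = sb * (u3⁻¹ * α u3) := by
    rw [mul_assoc, mul_inv_eq_iff_eq_mul.1 e2, ← hu2]; group
  have h := cent_four ((u3⁻¹ * α u3 : A6) : Perm (Fin 6)) (congrArg Subtype.val f1) (congrArg Subtype.val f2)
    (Perm.mem_alternatingGroup.1 (u3⁻¹ * α u3 : A6).2)
  have h3 : (α u3 : Perm (Fin 6)) = (u3 : Perm (Fin 6)) * ((u3⁻¹ * α u3 : A6) : Perm (Fin 6)) := by
    rw [← Subgroup.coe_mul, mul_inv_cancel_left]
  have key : ∀ v : Perm (Fin 6), (v = 1 ∨ v = swap 0 1 * swap 2 3 ∨ v = swap 0 2 * swap 1 3 ∨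
      v = swap 0 3 * swap 1 2) → ∃ g : Perm (Fin 6), (u3 : Perm (Fin 6)) * v = g * u3 * g⁻¹ := by
    rintro v (rfl | rfl | rfl | rfl)
    · exact ⟨1, by group⟩
    all_goals
      first
        | exact ⟨swap 0 1 * swap 2 3, by decide⟩
        | exact ⟨swap 0 2 * swap 1 3, by decide⟩
        | exact ⟨swap 0 3 * swap 1 2, by decide⟩
  obtain ⟨g, hg⟩ := key _ h
  rw [h3, hg]
  exact isThreeCycle_conj.2 u3_three

theorem exists_perm {α : MulAut A6} (hα : α ∈ NE) :
    ∃ σ : Perm (Fin 6), ∀ x : A6, (α x : Perm (Fin 6)) = σ * x * σ⁻¹ :=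
  exists_conj_of_three (m := 4) (by norm_num) α (fun _ hi => hα _ (isThreeCycle_cyc hi))

/-- the images of the Carmichael generators under an exotic automorphism -/
def xo : ℕ → A6
  | 0 => ⟨swap 0 3 * swap 3 5 * (swap 1 4 * swap 4 2), by rw [Perm.mem_alternatingGroup]; decide⟩
  | 1 => ⟨swap 0 4 * swap 4 3 * (swap 1 2 * swap 2 5), by rw [Perm.mem_alternatingGroup]; decide⟩
  | 2 => ⟨swap 0 5 * swap 5 2 * (swap 1 3 * swap 3 4), by rw [Perm.mem_alternatingGroup]; decide⟩
  | _ => ⟨swap 0 2 * swap 2 4 * (swap 1 5 * swap 5 3), by rw [Perm.mem_alternatingGroup]; decide⟩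

theorem rel_xo : Rel 4 xo where
  cube := by
    intro i hi
    interval_cases i <;> (apply Subtype.ext; decide)
  sq := by
    intro i hi j hj hij
    interval_cases i <;> interval_cases j <;> first | exact absurd rfl hij | (apply Subtype.ext; decide)

theorem exists_exo : ∃ ε : MulAut A6, ε sa = sa ∧ ε sb = sd ∧ ε sd = sb := by
  obtain ⟨φ, hφ⟩ := exists_hom (m := 4) (by norm_num) rel_xo
  have hinj : Function.Injective φ := by
    have hs : IsSimpleGroup (alternatingGroup (Fin 6)) := alternatingGroup.isSimpleGroup (by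
      rw [Nat.card_eq_fintype_card, Fintype.card_fin]; norm_num)
    rw [← MonoidHom.ker_eq_bot_iff]
    rcases hs.eq_bot_or_eq_top_of_normal φ.ker inferInstance with h | h
    · exact h
    · exfalso
      have h1 : (⟨cyc 4 0, cyc_mem 4 0 (by norm_num)⟩ : alternatingGroup (Fin (4 + 2))) ∈ φ.ker := by
        rw [h]; trivial
      rw [MonoidHom.mem_ker, hφ 0 (by norm_num)] at h1
      have := congrArg Subtype.val h1
      revert this; decide
  let ε : MulAut A6 := MulEquiv.ofBijective φ ((Finite.injective_iff_bijective).1 hinj)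
  have hε : ∀ x, ε x = φ x := fun x => rfl
  have w1 : sd = (⟨cyc 4 0, cyc_mem 4 0 (by norm_num)⟩ : A6) * ⟨cyc 4 1, cyc_mem 4 1 (by norm_num)⟩ *
      ⟨cyc 4 1, cyc_mem 4 1 (by norm_num)⟩ * ⟨cyc 4 0, cyc_mem 4 0 (by norm_num)⟩ := by
    apply Subtype.ext; decide
  have w2 : sb = (⟨cyc 4 0, cyc_mem 4 0 (by norm_num)⟩ : A6) * ⟨cyc 4 1, cyc_mem 4 1 (by norm_num)⟩ *
      ⟨cyc 4 2, cyc_mem 4 2 (by norm_num)⟩ * ⟨cyc 4 3, cyc_mem 4 3 (by norm_num)⟩ *
      ⟨cyc 4 0, cyc_mem 4 0 (by norm_num)⟩ * ⟨cyc 4 1, cyc_mem 4 1 (by norm_num)⟩ := by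
    apply Subtype.ext; decide
  have e1 : ε sd = sb := by
    rw [hε, w1, map_mul, map_mul, map_mul, hφ 0 (by norm_num), hφ 1 (by norm_num)]
    apply Subtype.ext; decide +kernel
  have e2 : ε sb = sd := by
    rw [hε, w2, map_mul, map_mul, map_mul, map_mul, map_mul, hφ 0 (by norm_num), hφ 1 (by norm_num),
      hφ 2 (by norm_num), hφ 3 (by norm_num)]
    apply Subtype.ext; decide +kernel
  refine ⟨ε, ?_, e2, e1⟩
  have h1 : sa = sd * sb * (sd * sb) := by apply Subtype.ext; decide
  have h2 : sa = sb * sd * (sb * sd) := by apply Subtype.ext; decide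
  rw [h1, map_mul, map_mul, e1, e2, ← h2, h1]

end Cfsg.Agent.LFourA.AltPsiAut
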