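import Cfsg.Agent.LFourA.AltPsiX
import Cfsg.Agent.LFourA.FieldOdd
import Cfsg.Agent.S0254
import Cfsg.Agent.ClassicalGeometry.SLTwoFour

/-!
# Case II: existence of the homomorphism `C(t) → S₆`, `S₇` (abstract form)
-/

set_option autoImplicit false

namespace Cfsg.Agent.LFourA.AltPsiMain

open Equiv Equiv.Perm Subgroup Cfsg.Agent.LFourA.AltModel Cfsg.Agent.LFourA.AltPsiAut Cfsg.Agent.LFourA.AltPsiStd
  Cfsg.Agent.LFourA.AltPsiX Cfsg.Agent.StandardComponent.AltAut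

variable {X : Type*} [Group X] {K : Subgroup X}

/-- the homomorphism to the symmetric group from an isomorphism `K ≃ A_n` -/
theorem exists_psi {m : ℕ} (hm : 2 ≤ m) [K.Normal] (e : K ≃* alternatingGroup (Fin (m + 2)))
    (hr : ∀ x : X, ∃ σ : Perm (Fin (m + 2)), ∀ k : K,
      (e (MulAut.conjNormal x k) : Perm (Fin (m + 2))) = σ * e k * σ⁻¹) :
    ∃ ψ : X →* Perm (Fin (m + 2)), (∀ x (k : K), (e (MulAut.conjNormal x k) : Perm (Fin (m + 2))) =
      ψ x * e k * (ψ x)⁻¹) ∧ (∀ k : K, ψ k = e k) ∧ ∀ x, ψ x = 1 ↔ Cen K x := by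
  choose f hf using hr
  have huniq : ∀ (x : X) (σ : Perm (Fin (m + 2))), (∀ k : K,
      (e (MulAut.conjNormal x k) : Perm (Fin (m + 2))) = σ * e k * σ⁻¹) → f x = σ := by
    intro x σ hσ
    apply conj_unique hm
    intro y
    obtain ⟨k, rfl⟩ := e.surjective y
    rw [← hf, hσ]
  refine ⟨MonoidHom.mk' f fun a b => ?_, hf, ?_, ?_⟩
  · apply huniq
    intro k
    rw [map_mul, MulAut.mul_apply, hf a, hf b]
    group
  · intro k
    apply huniq
    intro l
    have h1 : MulAut.conjNormal (k : X) l = k * l * k⁻¹ := by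
      apply Subtype.ext
      rw [MulAut.conjNormal_apply]
      rfl
    rw [h1, map_mul, map_mul, map_inv]
    rfl
  · intro x
    change f x = 1 ↔ _
    constructor
    · intro h1 k hk
      have h2 := hf x ⟨k, hk⟩
      rw [h1, one_mul, inv_one, mul_one] at h2
      have h3 := congrArg Subtype.val (e.injective (Subtype.ext h2))
      rw [MulAut.conjNormal_apply] at h3
      exact mul_inv_eq_iff_eq_mul.1 h3
    · intro h1
      apply huniq
      intro k
      have h2 : MulAut.conjNormal x k = k := by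
        apply Subtype.ext
        rw [MulAut.conjNormal_apply, h1 _ k.2, mul_inv_cancel_right]
      rw [h2, one_mul, inv_one, mul_one]

variable {δ : U → U → X} {r₁ r₂ : X}

/-- an isomorphism in standard position -/
def Pos (h : XD K δ r₁ r₂) (n : ℕ) [NeZero n] (e : K ≃* alternatingGroup (Fin n)) : Prop :=
  (e ⟨δ 1 U.y, h.mem _⟩ : Perm (Fin n)) = pd n ∧ (e ⟨δ 1 U.y', h.mem _⟩ : Perm (Fin n)) = pb n

/-- an isomorphism in twisted position -/
def Pos' (h : XD K δ r₁ r₂) (n : ℕ) [NeZero n] (e : K ≃* alternatingGroup (Fin n)) : Prop :=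
  (e ⟨δ 1 U.y, h.mem _⟩ : Perm (Fin n)) = pb n ∧ (e ⟨δ 1 U.y', h.mem _⟩ : Perm (Fin n)) = pd n

theorem exists_pos (h : XD K δ r₁ r₂) {n : ℕ} [NeZero n] (hF : Facts n)
    (hn : ¬ 2 ∣ Nat.card (alternatingGroup (Fin n)) / 8)
    (hn' : Nat.card (alternatingGroup (Fin n)) = 8 * (Nat.card (alternatingGroup (Fin n)) / 8))
    (e : K ≃* alternatingGroup (Fin n)) : ∃ e' : K ≃* alternatingGroup (Fin n), Pos h n e' ∨ Pos' h n e' := by
  let g : U →* K := MonoidHom.mk' (fun u => ⟨δ 1 u, h.mem u⟩) fun a b => Subtype.ext (by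
    change δ 1 (a * b) = δ 1 a * δ 1 b
    rw [h.mul, mul_one])
  have hg : Function.Injective g := fun a b hab => (h.injective (congrArg Subtype.val hab)).2
  obtain ⟨σ, hσ⟩ := exists_std hF hn hn' (e.toMonoidHom.comp g) (e.injective.comp hg)
  refine ⟨e.trans (MulAut.conjNormal σ), ?_⟩
  have h1 : ∀ k : K, ((e.trans (MulAut.conjNormal σ)) k : Perm (Fin n)) = σ * e k * σ⁻¹ := by
    intro k
    rw [MulEquiv.trans_apply, MulAut.conjNormal_apply]
  rcases hσ with ⟨h2, h3⟩ | ⟨h2, h3⟩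
  · left
    exact ⟨(h1 _).trans h2, (h1 _).trans h3⟩
  · right
    exact ⟨(h1 _).trans h2, (h1 _).trans h3⟩

/-- the data from `ψ` -/
theorem xpsi_of_psi [Finite X] (h : XD K δ r₁ r₂) {n : ℕ} [NeZero n] (hF : Facts n)
    {e : K ≃* alternatingGroup (Fin n)} (he : Pos h n e) {ψ : X →* Perm (Fin n)} (h2 : ∀ k : K, ψ k = e k)
    (h3 : ∀ x, ψ x = 1 ↔ Cen K x) : XPsi K δ n ψ := by
  apply xpsi_of_val hF h3 h
  · rw [← he.1, ← h2]
  · rw [← he.2, ← h2]
  · intro σ hσ
    obtain ⟨k, hk⟩ := e.surjective ⟨σ, hσ⟩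
    exact ⟨k, k.2, by rw [h2, hk]⟩
  · intro k hk
    rw [h2 ⟨k, hk⟩]
    exact (e ⟨k, hk⟩).2

theorem exists_psi_six [Finite X] (h : XD K δ r₁ r₂) (e : K ≃* A6) : ∃ ψ : X →* Perm (Fin 6), XPsi K δ 6 ψ := by
  have hN := h.normal
  obtain ⟨e, he⟩ := exists_pos h facts6 (by rw [card_alt6]; decide) (by rw [card_alt6]) e
  -- standard position
  obtain ⟨e, he⟩ : ∃ e : K ≃* A6, Pos h 6 e := by
    rcases he with he | he
    · exact ⟨e, he⟩
    · obtain ⟨ε, -, h2, h3⟩ := exists_exo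
      refine ⟨e.trans ε, ?_, ?_⟩
      · have : e ⟨δ 1 U.y, h.mem _⟩ = sb := Subtype.ext he.1
        rw [MulEquiv.trans_apply, this, h2]; rfl
      · have : e ⟨δ 1 U.y', h.mem _⟩ = sd := Subtype.ext he.2
        rw [MulEquiv.trans_apply, this, h3]; rfl
  have hy : e ⟨δ 1 U.y, h.mem _⟩ = sd := Subtype.ext he.1
  have hy' : e ⟨δ 1 U.y', h.mem _⟩ = sb := Subtype.ext he.2
  have hc : e ⟨δ 1 U.c, h.mem _⟩ = sa := by
    have h1 : (⟨δ 1 U.c, h.mem _⟩ : K) = ⟨δ 1 U.y, h.mem _⟩ * ⟨δ 1 U.y', h.mem _⟩ *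
        (⟨δ 1 U.y, h.mem _⟩ * ⟨δ 1 U.y', h.mem _⟩) := by
      apply Subtype.ext
      change δ 1 U.c = δ 1 U.y * δ 1 U.y' * (δ 1 U.y * δ 1 U.y')
      rw [h.mul, h.mul, mul_one]
      congr 1
    rw [h1, map_mul, map_mul, hy, hy']
    apply Subtype.ext; decide
  let φ : X →* MulAut A6 := (MulAut.congr e).toMonoidHom.comp MulAut.conjNormal
  have hφ : ∀ (x : X) (k : K), φ x (e k) = e (MulAut.conjNormal x k) := by
    intro x k
    change e (MulAut.conjNormal x (e.symm (e k))) = _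
    rw [e.symm_apply_apply]
  have hfix : ∀ (a : U) (b : U), φ (δ a 1) (e ⟨δ 1 b, h.mem _⟩) = e ⟨δ 1 b, h.mem _⟩ := by
    intro a b
    rw [hφ]
    congr 1
    apply Subtype.ext
    rw [MulAut.conjNormal_apply]
    change δ a 1 * δ 1 b * (δ a 1)⁻¹ = δ 1 b
    rw [h.comm, mul_inv_cancel_right]
  have hall : ∀ x, φ x ∈ NE := by
    obtain ⟨P, hP⟩ := h.syl
    apply mem_NE_of_sylow φ P
    intro g hg
    obtain ⟨a, b, rfl⟩ := (hP g).1 hg
    rw [h.split, map_mul]
    apply NE.mul_mem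
    · apply mem_NE_of_fix
      · rw [← hc]; exact hfix _ _
      · rw [← hy']; exact hfix _ _
    · intro x hx
      obtain ⟨k, rfl⟩ := e.surjective x
      rw [hφ]
      have h1 : MulAut.conjNormal (δ 1 b) k = ⟨δ 1 b, h.mem b⟩ * k * (⟨δ 1 b, h.mem b⟩ : K)⁻¹ := by
        apply Subtype.ext
        rw [MulAut.conjNormal_apply]
        rfl
      rw [h1, map_mul, map_mul, map_inv]
      exact isThreeCycle_conj.2 hx
  obtain ⟨ψ, -, h2, h3⟩ := exists_psi (m := 4) (by norm_num) e (by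
    intro x
    obtain ⟨σ, hσ⟩ := exists_perm (hall x)
    exact ⟨σ, fun k => by rw [← hφ]; exact hσ _⟩)
  exact ⟨ψ, xpsi_of_psi h facts6 he h2 h3⟩

/-! ### degree seven -/

/-- `{0,1,2,3,6}` -/
def ι : Fin 5 ↪ Fin 7 := ⟨![0, 1, 2, 3, 6], by decide⟩

theorem via_comm (τ : Perm (Fin 5)) : viaEmbedding τ ι * pt 7 = pt 7 * viaEmbedding τ ι := by
  have h4 : viaEmbedding τ ι 4 = 4 := viaEmbedding_apply_of_notMem _ _ _ (by decide)
  have h5 : viaEmbedding τ ι 5 = 5 := viaEmbedding_apply_of_notMem _ _ _ (by decide)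
  rw [← mul_inv_eq_iff_eq_mul, pt, ← Equiv.swap_apply_apply, h4, h5]

theorem via_sign (τ : Perm (Fin 5)) : sign (viaEmbedding τ ι) = sign τ := by
  rw [viaEmbedding]
  convert sign_extendDomain τ (ofInjective ι.1 ι.2)

theorem not_solvable_seven {H : Type*} [Group H] [Group.IsSolvable H] (g : (sign : Perm (Fin 5) →* ℤˣ).ker →* H)
    (hg : Function.Injective g) : False := by
  have h1 : Group.IsSolvable (sign : Perm (Fin 5) →* ℤˣ).ker := Group.isSolvable_of_isSolvable_injective hg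
  have h2 : Group.IsSolvable (Perm (Fin 5)) := Group.isSolvable_of_ker_le_range (sign : Perm (Fin 5) →* ℤˣ).ker.subtype
    (sign : Perm (Fin 5) →* ℤˣ) (by rw [range_subtype])
  exact Equiv.Perm.not_isSolvable_fin_5 h2

theorem exists_psi_seven [Finite X] (h : XD K δ r₁ r₂) (e : K ≃* alternatingGroup (Fin 7))
    (hs : Group.IsSolvable (centralizer ({δ U.y U.c} : Set X))) : ∃ ψ : X →* Perm (Fin 7), XPsi K δ 7 ψ := by
  have hN := h.normal
  obtain ⟨e, he⟩ := exists_pos h facts7 (by rw [card_alt7]; decide) (by rw [card_alt7]) e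
  let φ : X →* MulAut (alternatingGroup (Fin 7)) := (MulAut.congr e).toMonoidHom.comp MulAut.conjNormal
  have hφ : ∀ (x : X) (k : K), φ x (e k) = e (MulAut.conjNormal x k) := by
    intro x k
    change e (MulAut.conjNormal x (e.symm (e k))) = _
    rw [e.symm_apply_apply]
  obtain ⟨ψ, h1, h2, h3⟩ := exists_psi (m := 5) (by norm_num) e (by
    intro x
    obtain ⟨σ, hσ⟩ := exists_conj (m := 5) (by norm_num) (φ x)
    exact ⟨σ, fun k => by rw [← hφ]; exact hσ _⟩)
  rcases he with he | he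
  · exact ⟨ψ, xpsi_of_psi h facts7 he h2 h3⟩
  · exfalso
    have h4 : ψ (δ U.y U.c) = pt 7 := by
      apply val_second facts7 h3 h
      · rw [← he.1, ← h2]
      · rw [← he.2, ← h2]
    have hmem : ∀ τ : (sign : Perm (Fin 5) →* ℤˣ).ker, viaEmbeddingHom ι τ ∈ alternatingGroup (Fin 7) := by
      intro τ
      rw [Perm.mem_alternatingGroup]
      exact (via_sign _).trans τ.2
    let g0 : (sign : Perm (Fin 5) →* ℤˣ).ker →* alternatingGroup (Fin 7) :=
      ((viaEmbeddingHom ι).comp (sign : Perm (Fin 5) →* ℤˣ).ker.subtype).codRestrict _ hmem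
    let g1 : (sign : Perm (Fin 5) →* ℤˣ).ker →* X := K.subtype.comp (e.symm.toMonoidHom.comp g0)
    have hg1 : Function.Injective g1 := by
      refine (Subtype.val_injective).comp (e.symm.injective.comp ?_)
      intro a b hab
      have h5 := congrArg Subtype.val hab
      exact Subtype.ext (viaEmbeddingHom_injective ι h5)
    have hc : ∀ τ, g1 τ ∈ centralizer ({δ U.y U.c} : Set X) := by
      intro τ
      rw [mem_centralizer_singleton_iff]
      have h5 := h1 (δ U.y U.c) (e.symm (g0 τ))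
      rw [e.apply_symm_apply, h4] at h5
      have h6 : pt 7 * (g0 τ : Perm (Fin 7)) * (pt 7)⁻¹ = g0 τ := by
        have : (g0 τ : Perm (Fin 7)) = viaEmbedding (τ : Perm (Fin 5)) ι := rfl
        rw [this, ← via_comm, mul_inv_cancel_right]
      rw [h6] at h5
      have h7 : MulAut.conjNormal (δ U.y U.c) (e.symm (g0 τ)) = e.symm (g0 τ) := by
        apply e.injective
        apply Subtype.ext
        rw [h5, e.apply_symm_apply]
      have h8 := congrArg Subtype.val h7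
      rw [MulAut.conjNormal_apply] at h8
      exact (mul_inv_eq_iff_eq_mul.1 h8).symm
    refine not_solvable_seven (g1.codRestrict _ hc) fun a b hab => hg1 ?_
    exact congrArg (fun x : centralizer ({δ U.y U.c} : Set X) => (x : X)) hab

/-! ### `PSL(2,F)` -/

theorem key : ∀ b : U, b * U.y = U.y * b → b * U.y' = U.y' * b → b = 1 ∨ b = U.c := by decide

theorem key' : ∀ z : U, (z = 1 ∨ z = U.c ∨ z = U.y ∨ z = U.c * U.y) → (z = 1 ∨ z = U.c ∨ z = U.y' ∨ z = U.c * U.y') →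
    z = 1 ∨ z = U.c := by decide

theorem eq_one_of_cen (h : XD K δ r₁ r₂) {b : U} (hb : Cen K (δ 1 b)) : b = 1 := by
  by_cases h1 : b * U.y = U.y * b
  · by_cases h2 : b * U.y' = U.y' * b
    · have h3 : b = 1 ∨ b = U.c := key b h1 h2
      rcases h3 with h3 | h3
      · exact h3
      · exfalso
        have h4 := hb.conj h.normal r₁
        rw [h3, h.r₁c] at h4
        exact h.not_cen_one (b' := U.y') (by decide) h4
    · exact absurd hb (h.not_cen_one h2)
  · exact absurd hb (h.not_cen_one h1)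

theorem eq_one_of_perfect {A B : Type*} [Group A] [Group B] [hB : Group.IsSolvable B] (hA : commutator A = ⊤)
    (f : A →* B) (a : A) : f a = 1 := by
  have h1 : ∀ n, derivedSeries A n = ⊤ := by
    intro n
    induction n with
    | zero => rfl
    | succ n ih =>
      rw [derivedSeries_succ, ih]
      exact hA
  obtain ⟨n, hn⟩ := hB.solvable
  have h2 := map_derivedSeries_le_derivedSeries f n
  rw [h1, hn] at h2
  exact h2 ⟨a, trivial, rfl⟩

open Cfsg.Agent.LFourA.FieldInv in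
/-- `|F| = 9` -/
theorem card_eq_nine [Finite X] (h : XD K δ r₁ r₂) {F : Type*} [Field F] [Fintype F] (hodd : Odd (Fintype.card F))
    (e : K ≃* Matrix.ProjectiveSpecialLinearGroup (Fin 2) F)
    (hs : Group.IsSolvable (centralizer ({δ U.y U.c} : Set X))) : Fintype.card F = 9 := by
  classical
  have hN := h.normal
  have h2 : (2 : F) ≠ 0 := Cfsg.Agent.ClassicalGeometry.SLTwoFour.two_ne_zero_of_odd hodd
  -- the projection
  obtain ⟨π, hπ, hk⟩ := Lib.PSL2Torus.exists_hom h2 e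
  let α : MulAut K := MulAut.conjNormal (δ U.y U.c)
  have hα : ∀ k : K, (α k : X) = δ U.y U.c * k * (δ U.y U.c)⁻¹ := fun k => MulAut.conjNormal_apply _ _
  have hαα : ∀ z, α (α z) = z := by
    intro z
    apply Subtype.ext
    rw [hα, hα]
    have h3 : δ U.y U.c * δ U.y U.c = 1 := by
      rw [h.mul, ← h.one]; congr 1
    calc δ U.y U.c * (δ U.y U.c * z * (δ U.y U.c)⁻¹) * (δ U.y U.c)⁻¹ =
        (δ U.y U.c * δ U.y U.c) * z * (δ U.y U.c * δ U.y U.c)⁻¹ := by group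
      _ = z := by rw [h3]; group
  let d : U → K := fun b => ⟨δ 1 b, h.mem b⟩
  have hdm : ∀ a b, d a * d b = d (a * b) := fun a b => Subtype.ext (by
    change δ 1 a * δ 1 b = δ 1 (a * b)
    rw [h.mul, mul_one])
  have hd1 : d 1 = 1 := Subtype.ext h.one
  have hdi : Function.Injective d := fun a b hab => (h.injective (congrArg Subtype.val hab)).2
  have hαd : ∀ b, α (d b) = d b := by
    intro b
    apply Subtype.ext
    rw [hα]
    change δ U.y U.c * δ 1 b * (δ U.y U.c)⁻¹ = δ 1 b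
    have h3 : δ U.y U.c * δ 1 b = δ 1 b * δ U.y U.c := by
      rw [h.mul, h.mul, mul_one, one_mul]
      congr 1
      revert b; decide
    rw [h3, mul_inv_cancel_right]
  have hdne : ∀ b, b ≠ 1 → d b ≠ 1 := fun b hb h3 => hb (hdi (by rw [h3, hd1]))
  have hin : ∀ u : U, u ≠ 1 → u * u = 1 → u ≠ U.c → ∀ g : GL (Fin 2) F, (∀ x, α (π x) = π (Lib.SL2Mat.conjGL g x)) →
      ∃ z : U, (z = 1 ∨ z = U.c ∨ z = u ∨ z = U.c * u) ∧ ∀ y, α y = d z * y * (d z)⁻¹ := by
    intro u hu1 hu2 hu3 g hg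
    obtain ⟨z, hz, hz'⟩ := inner_of_four h2 hπ hk (t := d U.c) (u := d u) (hdne _ (by decide))
      (by rw [hdm, ← hd1]; congr 1) (hdne _ hu1) (by rw [hdm, hu2, hd1]) (fun h3 => hu3 (hdi h3))
      (by rw [hdm, hdm]; congr 1; revert u; decide) (hαd _) (hαd _) hg
    rcases hz with rfl | rfl | rfl | rfl
    · exact ⟨1, Or.inl rfl, by rw [hd1]; exact hz'⟩
    · exact ⟨U.c, Or.inr (Or.inl rfl), hz'⟩
    · exact ⟨u, Or.inr (Or.inr (Or.inl rfl)), hz'⟩
    · exact ⟨U.c * u, Or.inr (Or.inr (Or.inr rfl)), by rw [← hdm]; exact hz'⟩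
  have hno : ¬ ∃ g : GL (Fin 2) F, ∀ x, α (π x) = π (Lib.SL2Mat.conjGL g x) := by
    rintro ⟨g, hg⟩
    obtain ⟨z₁, hz₁, h3⟩ := hin U.y (by decide) (by decide) (by decide) g hg
    obtain ⟨z₂, hz₂, h4⟩ := hin U.y' (by decide) (by decide) (by decide) g hg
    have h5 : z₁⁻¹ * z₂ = 1 := by
      apply eq_one_of_cen h
      intro k hk
      have h6 := congrArg Subtype.val ((h3 ⟨k, hk⟩).symm.trans (h4 ⟨k, hk⟩))
      change δ 1 z₁ * k * (δ 1 z₁)⁻¹ = δ 1 z₂ * k * (δ 1 z₂)⁻¹ at h6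
      have h7 : δ 1 (z₁⁻¹ * z₂) = (δ 1 z₁)⁻¹ * δ 1 z₂ := by
        rw [h.inv, h.mul, inv_one, one_mul]
      rw [h7]
      calc (δ 1 z₁)⁻¹ * δ 1 z₂ * k = (δ 1 z₁)⁻¹ * (δ 1 z₂ * k * (δ 1 z₂)⁻¹) * δ 1 z₂ := by group
        _ = (δ 1 z₁)⁻¹ * (δ 1 z₁ * k * (δ 1 z₁)⁻¹) * δ 1 z₂ := by rw [h6]
        _ = k * ((δ 1 z₁)⁻¹ * δ 1 z₂) := by group
    have h6 : z₁ = 1 ∨ z₁ = U.c := by
      rw [inv_mul_eq_one] at h5
      subst h5
      exact key' z₁ hz₁ hz₂
    have h7 : ∀ k ∈ K, δ U.y U.c * k * (δ U.y U.c)⁻¹ = δ 1 z₁ * k * (δ 1 z₁)⁻¹ := by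
      intro k hk
      exact congrArg Subtype.val (h3 ⟨k, hk⟩)
    rcases h6 with h6 | h6
    · apply h.not_cen_yc
      intro k hk
      have h8 := h7 k hk
      rw [h6, h.one, one_mul, inv_one, mul_one] at h8
      exact mul_inv_eq_iff_eq_mul.1 h8
    · apply h.not_cen_y1
      intro k hk
      have h8 := h7 k hk
      rw [h6] at h8
      have h9 : δ U.y 1 = (δ 1 U.c)⁻¹ * δ U.y U.c := by
        rw [h.inv, h.mul]; congr 1
      rw [h9]
      calc (δ 1 U.c)⁻¹ * δ U.y U.c * k = (δ 1 U.c)⁻¹ * (δ U.y U.c * k * (δ U.y U.c)⁻¹) * δ U.y U.c := by group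
        _ = (δ 1 U.c)⁻¹ * (δ 1 U.c * k * (δ 1 U.c)⁻¹) * δ U.y U.c := by rw [h8]
        _ = k * ((δ 1 U.c)⁻¹ * δ U.y U.c) := by group
  obtain ⟨g, σ, K0, hI⟩ := exists_finv h2 hπ hk hαα hno
  have hfin : Finite K0 := inferInstance
  have hK0 : Fintype K0 := Fintype.ofFinite _
  have hcent : ∀ x, (hI.sub x : X) ∈ centralizer ({δ U.y U.c} : Set X) := by
    intro x
    rw [mem_centralizer_singleton_iff]
    have h3 := congrArg Subtype.val (hI.sub_fixed x)
    rw [hα] at h3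
    exact (mul_inv_eq_iff_eq_mul.1 h3).symm
  have hle : ¬ 3 < Fintype.card K0 := by
    intro hlt
    have h3 := eq_one_of_perfect (Cfsg.Agent.TwoFusion.SLTwoFacts.commutator_eq_top hlt)
      ((K.subtype.comp hI.sub).codRestrict _ hcent) (Lib.SL2Mat.up 1)
    have h4 : hI.sub (Lib.SL2Mat.up 1) = 1 :=
      Subtype.ext (congrArg (fun x : centralizer ({δ U.y U.c} : Set X) => (x : X)) h3)
    rw [hI.sub_eq_one_iff] at h4
    rcases h4 with h4 | h4
    · have h5 := congrArg (fun y => Lib.SL2Mat.ent y 0 1) h4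
      simp at h5
    · have h5 := congrArg (fun y => Lib.SL2Mat.ent y 0 1) h4
      simp only [Lib.SL2Mat.up_01] at h5
      simp [Lib.SL2Mat.ent] at h5
  have hc := hI.card
  have hodd' := hI.odd_card_sub
  rw [Nat.card_eq_fintype_card, Nat.card_eq_fintype_card] at hc
  rw [Nat.card_eq_fintype_card] at hodd'
  have h1 : 1 < Fintype.card K0 := Fintype.one_lt_card
  obtain ⟨m, hm⟩ := hodd'
  have h3 : Fintype.card K0 = 3 := by omega
  rw [hc, h3]
  norm_num

theorem exists_psi_psl [Finite X] (h : XD K δ r₁ r₂) {F : Type*} [Field F] [Fintype F] (hodd : Odd (Fintype.card F))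
    (e : K ≃* Matrix.ProjectiveSpecialLinearGroup (Fin 2) F)
    (hs : Group.IsSolvable (centralizer ({δ U.y U.c} : Set X))) : ∃ ψ : X →* Perm (Fin 6), XPsi K δ 6 ψ := by
  obtain ⟨e'⟩ := Cfsg.Agent.S0254.result (card_eq_nine h hodd e hs)
  exact exists_psi_six h (e.trans e')

end Cfsg.Agent.LFourA.AltPsiMain
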