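import Cfsg.Agent.LFourA.AltPsiAut
import Cfsg.Agent.LFourA.AltModel

/-!
# The standard dihedral group of order eight in `A₆`, `A₇`

`a = (01)(23)`, `b = (02)(13)`, `d = (01)(45)`, `τ = (45)`.  `std : U →* Perm (Fin n)`, `y ↦ d`, `y' ↦ b`, `c ↦ a`.
-/

set_option autoImplicit false

namespace Cfsg.Agent.LFourA.AltPsiStd

open Equiv Equiv.Perm Subgroup Cfsg.Agent.LFourA.AltModel Cfsg.Agent.LFourA.AltPsiAut

section gen

variable (n : ℕ) [NeZero n]

/-- `(01)(23)` -/
def pa : Perm (Fin n) := swap 0 1 * swap 2 3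
/-- `(02)(13)` -/
def pb : Perm (Fin n) := swap 0 2 * swap 1 3
/-- `(01)(45)` -/
def pd : Perm (Fin n) := swap 0 1 * swap 4 5
/-- `(45)` -/
def pt : Perm (Fin n) := swap 4 5

/-- the standard embedding of the dihedral group of order eight -/
def stdF (u : U) : Perm (Fin n) :=
  (if u.p then pd n else 1) * (if u.q then pb n else 1) * (if xor u.r (u.p && u.q) then pa n else 1)

/-- facts on the standard embedding -/
structure Facts : Prop where
  mul : ∀ u v : U, stdF n (u * v) = stdF n u * stdF n v
  even : ∀ u : U, sign (stdF n u) = 1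
  inj : ∀ (s : Bool) (u : U), (if s then pt n else 1) * stdF n u = 1 → s = false ∧ u = 1
  cent : ∀ σ : Perm (Fin n), σ * pa n = pa n * σ → σ * pb n = pb n * σ → σ * pd n = pd n * σ →
    σ = 1 ∨ σ = pa n ∨ σ = pt n ∨ σ = pa n * pt n
  sw : ∀ x y : Fin n, swap x y ≠ pb n * (pa n * pt n)
  comm_pt : ∀ u : U, stdF n u * pt n = pt n * stdF n u
  pt_sq : pt n * pt n = 1
  odd : sign (pt n) = -1

variable {n}

theorem stdF_y : stdF n U.y = pd n := by
  simp [stdF, U.y]

theorem stdF_y' : stdF n U.y' = pb n := by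
  simp [stdF, U.y']

theorem stdF_c : stdF n U.c = pa n := by
  simp [stdF, U.c]

theorem stdF_one : stdF n 1 = 1 := by
  have : (1 : U) = ⟨false, false, false⟩ := rfl
  simp [stdF, this]

end gen

set_option maxRecDepth 100000

theorem facts6 : Facts 6 where
  mul := by decide +kernel
  even := by decide +kernel
  inj := by decide +kernel
  cent := by decide +kernel
  sw := by decide +kernel
  comm_pt := by decide +kernel
  pt_sq := by decide +kernel
  odd := by decide +kernel

theorem facts7 : Facts 7 where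
  mul := by decide +kernel
  even := by decide +kernel
  inj := by decide +kernel
  cent := by decide +kernel
  sw := by decide +kernel
  comm_pt := by decide +kernel
  pt_sq := by decide +kernel
  odd := by decide +kernel

theorem pair_conj : ∀ u v : U, u * u = 1 → v * v = 1 → u * v ≠ v * u →
    ∃ g : U, (g * u * g⁻¹ = U.y ∧ g * v * g⁻¹ = U.y') ∨ (g * u * g⁻¹ = U.y' ∧ g * v * g⁻¹ = U.y) := by
  decide +kernel

theorem card_U : Fintype.card U = 8 := by decide +kernel

section syl

variable {n : ℕ} [NeZero n]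

/-- the standard homomorphism -/
def std (h : Facts n) : U →* Perm (Fin n) := MonoidHom.mk' (stdF n) h.mul

theorem std_injective (h : Facts n) : Function.Injective (std h) := by
  rw [injective_iff_map_eq_one]
  intro u hu
  have := h.inj false u (by rw [if_neg (by decide), one_mul]; exact hu)
  exact this.2

/-- `8` is the 2-part of `|A_n|` -/
theorem exists_std (h : Facts n) (hn : ¬ 2 ∣ Nat.card (alternatingGroup (Fin n)) / 8)
    (hn' : Nat.card (alternatingGroup (Fin n)) = 8 * (Nat.card (alternatingGroup (Fin n)) / 8))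
    (f : U →* alternatingGroup (Fin n)) (hf : Function.Injective f) :
    ∃ σ : Perm (Fin n), (σ * f U.y * σ⁻¹ = pd n ∧ σ * f U.y' * σ⁻¹ = pb n) ∨
      (σ * f U.y * σ⁻¹ = pb n ∧ σ * f U.y' * σ⁻¹ = pd n) := by
  have h2 : Fact (Nat.Prime 2) := ⟨Nat.prime_two⟩
  let s : U →* alternatingGroup (Fin n) := (std h).codRestrict _ (fun u => by
    rw [Perm.mem_alternatingGroup]; exact h.even u)
  have hs : Function.Injective s := fun u v huv => std_injective h (congrArg Subtype.val huv)
  have key : ∀ φ : U →* alternatingGroup (Fin n), Function.Injective φ →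
      ∃ P : Sylow 2 (alternatingGroup (Fin n)), (P : Subgroup (alternatingGroup (Fin n))) = φ.range := by
    intro φ hφ
    have hc : Nat.card φ.range = 8 := by
      rw [Nat.card_congr (MonoidHom.ofInjective hφ).toEquiv.symm, Nat.card_eq_fintype_card, card_U]
    have hp : IsPGroup 2 φ.range := IsPGroup.of_card (n := 3) (by rw [hc]; norm_num)
    have hi : ¬ 2 ∣ φ.range.index := by
      have h3 := Subgroup.card_mul_index φ.range
      rw [hc] at h3
      have h4 : φ.range.index = Nat.card (alternatingGroup (Fin n)) / 8 := by omega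
      rw [h4]; exact hn
    exact ⟨hp.toSylow hi, rfl⟩
  obtain ⟨P, hP⟩ := key f hf
  obtain ⟨Q, hQ⟩ := key s hs
  obtain ⟨g, hg⟩ := MulAction.exists_smul_eq (alternatingGroup (Fin n)) P Q
  have hmem : ∀ u : U, ∃ v : U, s v = g * f u * g⁻¹ := by
    intro u
    have h3 : f u ∈ (P : Subgroup (alternatingGroup (Fin n))) := by rw [hP]; exact ⟨u, rfl⟩
    have h4 : g * f u * g⁻¹ ∈ (Q : Subgroup (alternatingGroup (Fin n))) := by
      rw [← hg, Sylow.coe_subgroup_smul]
      have := Subgroup.smul_mem_pointwise_smul (f u) (MulAut.conj g) (P : Subgroup (alternatingGroup (Fin n))) h3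
      rwa [MulAut.smul_def, MulAut.conj_apply] at this
    rw [hQ] at h4
    exact h4
  obtain ⟨u, hu⟩ := hmem U.y
  obtain ⟨v, hv⟩ := hmem U.y'
  have hyy : U.y * U.y = 1 := by decide
  have hyy' : U.y' * U.y' = 1 := by decide
  have hne : U.y * U.y' ≠ U.y' * U.y := by decide
  have e1 : u * u = 1 := by
    apply hs
    rw [map_mul, hu, map_one]
    calc g * f U.y * g⁻¹ * (g * f U.y * g⁻¹) = g * f (U.y * U.y) * g⁻¹ := by rw [map_mul]; group
      _ = 1 := by rw [hyy, map_one]; group
  have e2 : v * v = 1 := by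
    apply hs
    rw [map_mul, hv, map_one]
    calc g * f U.y' * g⁻¹ * (g * f U.y' * g⁻¹) = g * f (U.y' * U.y') * g⁻¹ := by rw [map_mul]; group
      _ = 1 := by rw [hyy', map_one]; group
  have e3 : u * v ≠ v * u := by
    intro h3
    have h4 := congrArg s h3
    rw [map_mul, map_mul, hu, hv] at h4
    apply hne
    apply hf
    rw [map_mul, map_mul]
    have h5 : g * (f U.y * f U.y') * g⁻¹ = g * (f U.y' * f U.y) * g⁻¹ := by
      calc g * (f U.y * f U.y') * g⁻¹ = g * f U.y * g⁻¹ * (g * f U.y' * g⁻¹) := by group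
        _ = g * f U.y' * g⁻¹ * (g * f U.y * g⁻¹) := h4
        _ = _ := by group
    exact mul_left_cancel (mul_right_cancel h5)
  obtain ⟨w, hw⟩ := pair_conj u v e1 e2 e3
  refine ⟨stdF n w * (g : Perm (Fin n)), ?_⟩
  have c1 : ∀ x : U, (stdF n w * (g : Perm (Fin n))) * f x * (stdF n w * (g : Perm (Fin n)))⁻¹ =
      stdF n w * ((g * f x * g⁻¹ : alternatingGroup (Fin n)) : Perm (Fin n)) * (stdF n w)⁻¹ := by
    intro x
    push_cast
    group
  have c2 : ∀ x : U, stdF n w * ((s x : alternatingGroup (Fin n)) : Perm (Fin n)) * (stdF n w)⁻¹ =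
      stdF n (w * x * w⁻¹) := by
    intro x
    have : stdF n (w * x * w⁻¹) = (std h) (w * x * w⁻¹) := rfl
    rw [this, map_mul, map_mul, map_inv]
    rfl
  rcases hw with ⟨h3, h4⟩ | ⟨h3, h4⟩
  · left
    constructor
    · rw [c1, ← hu, c2, h3, stdF_y]
    · rw [c1, ← hv, c2, h4, stdF_y']
  · right
    constructor
    · rw [c1, ← hu, c2, h3, stdF_y']
    · rw [c1, ← hv, c2, h4, stdF_y]

end syl

theorem card_alt6 : Nat.card (alternatingGroup (Fin 6)) = 360 := by
  have h := two_mul_nat_card_alternatingGroup (α := Fin 6)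
  rw [Nat.card_eq_fintype_card (α := Perm (Fin 6)), Fintype.card_perm, Fintype.card_fin] at h
  have : Nat.factorial 6 = 720 := rfl
  omega

theorem card_alt7 : Nat.card (alternatingGroup (Fin 7)) = 2520 := by
  have h := two_mul_nat_card_alternatingGroup (α := Fin 7)
  rw [Nat.card_eq_fintype_card (α := Perm (Fin 7)), Fintype.card_perm, Fintype.card_fin] at h
  have : Nat.factorial 7 = 5040 := rfl
  omega

end Cfsg.Agent.LFourA.AltPsiStd
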