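import Cfsg.Agent.LFourA.AltPsiStd
import Cfsg.Agent.LFourA.AltNilB

/-!
# Case II: the action of `X = C(t)/O(C(t))` on its normal subgroup `K = A₆`, `A₇` (abstract form)

`XD K δ r₁ r₂` : `δ a b` the Sylow 2-subgroup `D₈ × D₈` of `X`, `δ 1 b ∈ K`, `r₁`, `r₂` the elements of order a power of
three acting on the two four-subgroups of `1 × D₈`.
`XPsi K δ n ψ` : `ψ : X →* Perm (Fin n)` with `ψ (δ a b) = (45)^{a.p} std b`, kernel `V_o × 1`, and `ψ K = A_n`.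
-/

set_option autoImplicit false

namespace Cfsg.Agent.LFourA.AltPsiX

open Equiv Equiv.Perm Subgroup Cfsg.Agent.LFourA.AltModel Cfsg.Agent.LFourA.AltPsiAut Cfsg.Agent.LFourA.AltPsiStd
  Cfsg.Agent.LFourA.AltPat

variable {X : Type*} [Group X]

/-- the data in `C(t)/O(C(t))` -/
structure XD (K : Subgroup X) (δ : U → U → X) (r₁ r₂ : X) : Prop where
  mul : ∀ a b a' b', δ a b * δ a' b' = δ (a * a') (b * b')
  inj : ∀ a b, δ a b = 1 → a = 1 ∧ b = 1
  normal : K.Normal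
  cent : ∀ g : X, Odd (orderOf g) → (∀ x ∈ K, g * x = x * g) → g = 1
  mem : ∀ b, δ 1 b ∈ K
  syl : ∃ P : Sylow 2 X, ∀ g, g ∈ (P : Subgroup X) ↔ ∃ a b, g = δ a b
  r₁c : r₁ * δ 1 U.c * r₁⁻¹ = δ 1 U.y
  r₁f : ∀ b, r₁ * δ b (eta b) = δ b (eta b) * r₁
  r₂c : r₂ * δ 1 U.c * r₂⁻¹ = δ 1 U.y'
  r₂f : ∀ b, r₂ * δ b 1 = δ b 1 * r₂

/-- the homomorphism from `X` to the symmetric group -/
structure XPsi (K : Subgroup X) (δ : U → U → X) (n : ℕ) [NeZero n] (ψ : X →* Perm (Fin n)) : Prop where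
  ker : ∀ x, ψ x = 1 ↔ ∃ v : U, v.p = false ∧ x = δ v 1
  val : ∀ a b, ψ (δ a b) = (if a.p then pt n else 1) * stdF n b
  alt : ∀ σ ∈ alternatingGroup (Fin n), ∃ k ∈ K, ψ k = σ
  mem : ∀ k ∈ K, ψ k ∈ alternatingGroup (Fin n)

variable {K : Subgroup X} {δ : U → U → X} {r₁ r₂ : X}

/-- `g` centralises `K` -/
def Cen (K : Subgroup X) (g : X) : Prop := ∀ k ∈ K, g * k = k * g

theorem Cen.mul {g h : X} (hg : Cen K g) (hh : Cen K h) : Cen K (g * h) := fun k hk => by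
  rw [mul_assoc, hh k hk, ← mul_assoc, hg k hk, mul_assoc]

theorem Cen.inv {g : X} (hg : Cen K g) : Cen K g⁻¹ := fun k hk => by
  have h1 := hg k hk
  rw [inv_mul_eq_iff_eq_mul, ← mul_assoc, h1, mul_inv_cancel_right]

theorem Cen.conj (hK : K.Normal) {g : X} (hg : Cen K g) (x : X) : Cen K (x * g * x⁻¹) := fun k hk => by
  have h1 := hg (x⁻¹ * k * x) (by simpa using hK.conj_mem k hk x⁻¹)
  calc x * g * x⁻¹ * k = x * (g * (x⁻¹ * k * x)) * x⁻¹ := by group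
    _ = x * (x⁻¹ * k * x * g) * x⁻¹ := by rw [h1]
    _ = k * (x * g * x⁻¹) := by group

namespace XD

variable (h : XD K δ r₁ r₂)

include h

theorem one : δ 1 1 = 1 := by
  have h1 := h.mul 1 1 1 1
  rw [mul_one] at h1
  exact mul_eq_left.1 h1

theorem comm (a b : U) : δ a 1 * δ 1 b = δ 1 b * δ a 1 := by
  rw [h.mul, h.mul, mul_one, one_mul, one_mul, mul_one]

theorem split (a b : U) : δ a b = δ a 1 * δ 1 b := by rw [h.mul, mul_one, one_mul]

theorem inv (a b : U) : (δ a b)⁻¹ = δ a⁻¹ b⁻¹ := by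
  rw [inv_eq_iff_mul_eq_one, h.mul, mul_inv_cancel, mul_inv_cancel, h.one]

theorem injective {a b a' b' : U} (hab : δ a b = δ a' b') : a = a' ∧ b = b' := by
  rw [← mul_inv_eq_one, h.inv, h.mul] at hab
  obtain ⟨h1, h2⟩ := h.inj _ _ hab
  exact ⟨mul_inv_eq_one.1 h1, mul_inv_eq_one.1 h2⟩

theorem not_cen_one {b b' : U} (hb : b * b' ≠ b' * b) : ¬ Cen K (δ 1 b) := by
  intro hc
  have h1 := hc _ (h.mem b')
  rw [h.mul, h.mul] at h1
  exact hb (h.injective h1).2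

theorem not_cen_yc : ¬ Cen K (δ U.y U.c) := by
  intro hc
  have h1 := hc.conj h.normal r₂
  have h2 : r₂ * δ U.y U.c * r₂⁻¹ = δ U.y U.y' := by
    rw [h.split U.y U.c, ← mul_assoc, h.r₂f]
    calc δ U.y 1 * r₂ * δ 1 U.c * r₂⁻¹ = δ U.y 1 * (r₂ * δ 1 U.c * r₂⁻¹) := by group
      _ = _ := by rw [h.r₂c, ← h.split]
  rw [h2] at h1
  have h3 := (hc.inv).mul h1
  rw [h.inv, h.mul, inv_mul_cancel] at h3
  exact h.not_cen_one (b' := U.y) (by decide) h3

theorem not_cen_y1 : ¬ Cen K (δ U.y 1) := by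
  intro hc
  have h1 := hc.conj h.normal r₁
  have he : eta U.y = U.c := by decide
  have hf := h.r₁f U.y
  rw [he] at hf
  have h0 : δ U.y 1 = δ U.y U.c * δ 1 U.c := by
    rw [h.mul, mul_one]; congr 1
  have h2 : r₁ * δ U.y 1 * r₁⁻¹ = δ U.y (U.c * U.y) := by
    rw [h0, ← mul_assoc, hf]
    calc δ U.y U.c * r₁ * δ 1 U.c * r₁⁻¹ = δ U.y U.c * (r₁ * δ 1 U.c * r₁⁻¹) := by group
      _ = _ := by rw [h.r₁c, h.mul, mul_one]
  rw [h2] at h1
  have h3 := (hc.inv).mul h1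
  rw [h.inv, h.mul, inv_mul_cancel] at h3
  exact h.not_cen_one (b' := U.y') (by decide) h3

/-- the values of a homomorphism on the Sylow subgroup -/
theorem hom_snd {H : Type*} [Group H] (φ : X →* H) (b : U) : φ (δ 1 b) = (if b.p then φ (δ 1 U.y) else 1) *
    (if b.q then φ (δ 1 U.y') else 1) * (if xor b.r (b.p && b.q) then φ (δ 1 U.c) else 1) := by
  conv_lhs => rw [AltNilB.U_word b]
  have h1 : ∀ b b' : U, δ 1 (b * b') = δ 1 b * δ 1 b' := fun b b' => by rw [h.mul, mul_one]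
  rw [h1, h1, map_mul, map_mul]
  congr 1
  · congr 1
    · split_ifs
      · rfl
      · rw [h.one, map_one]
    · split_ifs
      · rfl
      · rw [h.one, map_one]
  · split_ifs
    · rfl
    · rw [h.one, map_one]

theorem hom_fst {H : Type*} [Group H] (φ : X →* H) (a : U) : φ (δ a 1) = (if a.p then φ (δ U.y 1) else 1) *
    (if a.q then φ (δ U.y' 1) else 1) * (if xor a.r (a.p && a.q) then φ (δ U.c 1) else 1) := by
  conv_lhs => rw [AltNilB.U_word a]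
  have h1 : ∀ b b' : U, δ (b * b') 1 = δ b 1 * δ b' 1 := fun b b' => by rw [h.mul, mul_one]
  rw [h1, h1, map_mul, map_mul]
  congr 1
  · congr 1
    · split_ifs
      · rfl
      · rw [h.one, map_one]
    · split_ifs
      · rfl
      · rw [h.one, map_one]
  · split_ifs
    · rfl
    · rw [h.one, map_one]

theorem hom_c {H : Type*} [Group H] (φ : X →* H) :
    φ (δ 1 U.c) = φ (δ 1 U.y) * φ (δ 1 U.y') * (φ (δ 1 U.y) * φ (δ 1 U.y')) := by
  rw [← map_mul, ← map_mul, h.mul, h.mul, mul_one]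
  congr 2

theorem hom_c' {H : Type*} [Group H] (φ : X →* H) :
    φ (δ U.c 1) = φ (δ U.y 1) * φ (δ U.y' 1) * (φ (δ U.y 1) * φ (δ U.y' 1)) := by
  rw [← map_mul, ← map_mul, h.mul, h.mul, mul_one]
  congr 2

end XD

section val

variable {n : ℕ} [NeZero n] (hF : Facts n) {ψ : X →* Perm (Fin n)} (hk : ∀ x, ψ x = 1 ↔ Cen K x)

theorem pa_ne_pb (hF : Facts n) : pa n ≠ pb n := by
  rw [← stdF_c, ← stdF_y']
  intro h1
  have := std_injective hF (a₁ := U.c) (a₂ := U.y') h1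
  revert this; decide

theorem pa_ne_pd (hF : Facts n) : pa n ≠ pd n := by
  rw [← stdF_c, ← stdF_y]
  intro h1
  have := std_injective hF (a₁ := U.c) (a₂ := U.y) h1
  revert this; decide

theorem pa_mul_pa (hF : Facts n) : pa n * pa n = 1 := by
  rw [← stdF_c, ← hF.mul, ← stdF_one]
  congr 1

theorem pb_mul_pb (hF : Facts n) : pb n * pb n = 1 := by
  rw [← stdF_y', ← hF.mul, ← stdF_one]
  congr 1

theorem pd_pb (hF : Facts n) : pd n * pb n * (pd n * pb n) = pa n := by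
  rw [← stdF_y, ← stdF_y', ← hF.mul, ← hF.mul, ← stdF_c]
  congr 1

theorem pb_pd (hF : Facts n) : pb n * pd n * (pb n * pd n) = pa n := by
  rw [← stdF_y, ← stdF_y', ← hF.mul, ← hF.mul, ← stdF_c]
  congr 1

theorem pa_pt (hF : Facts n) : pa n * pt n = pt n * pa n := by
  rw [← stdF_c, hF.comm_pt]

/-- an element mapping `a` to `b` does not commute with `a τ` -/
theorem false_of_conj (hF : Facts n) {ρ : Perm (Fin n)} (h1 : ρ * pa n * ρ⁻¹ = pb n)
    (h2 : ρ * (pa n * pt n) = pa n * pt n * ρ) : False := by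
  have h3 : ρ * pt n * ρ⁻¹ = pb n * (pa n * pt n) := by
    have h4 : ρ * (pa n * pt n) * ρ⁻¹ = pa n * pt n := by rw [h2, mul_inv_cancel_right]
    have h5 : ρ * (pa n * pt n) * ρ⁻¹ = (ρ * pa n * ρ⁻¹) * (ρ * pt n * ρ⁻¹) := by group
    rw [h5, h1] at h4
    rw [← h4, ← mul_assoc, pb_mul_pb hF, one_mul]
  have h6 : ρ * pt n * ρ⁻¹ = swap (ρ 4) (ρ 5) := by
    rw [pt, Equiv.swap_apply_apply]
  rw [h6] at h3
  exact hF.sw _ _ h3

include hF hk

theorem val_first (h : XD K δ r₁ r₂) (hy : ψ (δ 1 U.y) = pd n) (hy' : ψ (δ 1 U.y') = pb n) :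
    ψ (δ U.y 1) = pt n ∧ ψ (δ U.y' 1) = 1 := by
  have hc : ψ (δ 1 U.c) = pa n := by rw [h.hom_c, hy, hy', pd_pb hF]
  have hcomm : ∀ a : U, ψ (δ a 1) * pa n = pa n * ψ (δ a 1) ∧ ψ (δ a 1) * pb n = pb n * ψ (δ a 1) ∧
      ψ (δ a 1) * pd n = pd n * ψ (δ a 1) := by
    intro a
    rw [← hc, ← hy, ← hy', ← map_mul, ← map_mul, ← map_mul, ← map_mul, ← map_mul, ← map_mul,
      h.comm, h.comm, h.comm]
    exact ⟨rfl, rfl, rfl⟩
  have hcas := fun a => hF.cent _ (hcomm a).1 (hcomm a).2.1 (hcomm a).2.2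
  have hr2 : ψ r₂ * pa n * (ψ r₂)⁻¹ = pb n := by
    rw [← hc, ← hy', ← h.r₂c, map_mul, map_mul, map_inv]
  have hr1 : ψ r₁ * pa n * (ψ r₁)⁻¹ = pd n := by
    rw [← hc, ← hy, ← h.r₁c, map_mul, map_mul, map_inv]
  have hf2 : ∀ a, ψ r₂ * ψ (δ a 1) = ψ (δ a 1) * ψ r₂ := fun a => by
    rw [← map_mul, ← map_mul, h.r₂f]
  have hyc : ψ (δ U.y U.c) = ψ (δ U.y 1) * pa n := by rw [h.split, map_mul, hc]
  have h1 : ψ (δ U.y 1) = pt n := by
    rcases hcas U.y with h1 | h1 | h1 | h1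
    · exact absurd ((hk _).1 h1) h.not_cen_y1
    · rw [h1, pa_mul_pa hF] at hyc
      exact absurd ((hk _).1 hyc) h.not_cen_yc
    · exact h1
    · exfalso
      have := hf2 U.y
      rw [h1] at this
      exact false_of_conj hF hr2 this
  refine ⟨h1, ?_⟩
  have hpt2 : ψ r₂ * pt n = pt n * ψ r₂ := by rw [← h1, hf2]
  rcases hcas U.y' with h3 | h3 | h3 | h3
  · exact h3
  · exfalso
    have h4 := hf2 U.y'
    rw [h3] at h4
    rw [h4, mul_inv_cancel_right] at hr2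
    exact pa_ne_pb hF hr2
  · exfalso
    have h4 : ψ r₁ * pt n = pt n * ψ r₁ := by
      have h5 := h.r₁f U.y'
      have he : eta U.y' = 1 := by decide
      rw [he] at h5
      rw [← h3, ← map_mul, ← map_mul, h5]
    have h6 : ψ r₁ * (pt n * pa n) = pt n * pa n * ψ r₁ := by
      have h5 := h.r₁f U.y
      have he : eta U.y = U.c := by decide
      rw [he] at h5
      rw [← h1, ← hyc, ← map_mul, ← map_mul, h5]
    have h7 : ψ r₁ * pa n = pa n * ψ r₁ := by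
      have : pt n * (ψ r₁ * pa n) = pt n * (pa n * ψ r₁) := by
        rw [← mul_assoc, ← h4, mul_assoc, h6, mul_assoc]
      exact mul_left_cancel this
    rw [h7, mul_inv_cancel_right] at hr1
    exact pa_ne_pd hF hr1
  · exfalso
    have h4 := hf2 U.y'
    rw [h3] at h4
    exact false_of_conj hF hr2 h4

theorem val_second (h : XD K δ r₁ r₂) (hy : ψ (δ 1 U.y) = pb n) (hy' : ψ (δ 1 U.y') = pd n) :
    ψ (δ U.y U.c) = pt n := by
  have hc : ψ (δ 1 U.c) = pa n := by rw [h.hom_c, hy, hy', pb_pd hF]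
  have hcomm : ∀ a : U, ψ (δ a 1) * pa n = pa n * ψ (δ a 1) ∧ ψ (δ a 1) * pb n = pb n * ψ (δ a 1) ∧
      ψ (δ a 1) * pd n = pd n * ψ (δ a 1) := by
    intro a
    rw [← hc, ← hy, ← hy', ← map_mul, ← map_mul, ← map_mul, ← map_mul, ← map_mul, ← map_mul,
      h.comm, h.comm, h.comm]
    exact ⟨rfl, rfl, rfl⟩
  have hyc : ψ (δ U.y U.c) = ψ (δ U.y 1) * pa n := by rw [h.split, map_mul, hc]
  have hr1 : ψ r₁ * pa n * (ψ r₁)⁻¹ = pb n := by
    rw [← hc, ← hy, ← h.r₁c, map_mul, map_mul, map_inv]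
  have hf1 : ψ r₁ * ψ (δ U.y U.c) = ψ (δ U.y U.c) * ψ r₁ := by
    have h5 := h.r₁f U.y
    have he : eta U.y = U.c := by decide
    rw [he] at h5
    rw [← map_mul, ← map_mul, h5]
  rcases hF.cent _ (hcomm U.y).1 (hcomm U.y).2.1 (hcomm U.y).2.2 with h1 | h1 | h1 | h1
  · exact absurd ((hk _).1 h1) h.not_cen_y1
  · rw [h1, pa_mul_pa hF] at hyc
    exact absurd ((hk _).1 hyc) h.not_cen_yc
  · exfalso
    rw [h1, ← pa_pt hF] at hyc
    rw [hyc] at hf1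
    exact false_of_conj hF hr1 hf1
  · rw [hyc, h1, pa_pt hF, mul_assoc, pa_mul_pa hF, mul_one]

theorem xpsi_of_val [Finite X] (h : XD K δ r₁ r₂) (hy : ψ (δ 1 U.y) = pd n) (hy' : ψ (δ 1 U.y') = pb n)
    (halt : ∀ σ ∈ alternatingGroup (Fin n), ∃ k ∈ K, ψ k = σ)
    (hmem : ∀ k ∈ K, ψ k ∈ alternatingGroup (Fin n)) : XPsi K δ n ψ := by
  obtain ⟨h1, h2⟩ := val_first hF hk h hy hy'
  have hc : ψ (δ 1 U.c) = pa n := by rw [h.hom_c, hy, hy', pd_pb hF]
  have hc' : ψ (δ U.c 1) = 1 := by rw [h.hom_c', h1, h2, mul_one, hF.pt_sq]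
  have hsnd : ∀ b, ψ (δ 1 b) = stdF n b := fun b => by rw [h.hom_snd, hy, hy', hc]; rfl
  have hfst : ∀ a, ψ (δ a 1) = if a.p then pt n else 1 := fun a => by
    rw [h.hom_fst, h1, h2, hc', ite_self, ite_self, mul_one, mul_one]
  have hval : ∀ a b, ψ (δ a b) = (if a.p then pt n else 1) * stdF n b := fun a b => by
    rw [h.split, map_mul, hsnd, hfst]
  refine ⟨?_, hval, halt, hmem⟩
  intro x
  constructor
  · intro hx
    have hp : IsPGroup 2 ψ.ker := by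
      rintro ⟨g, hg⟩
      rw [MonoidHom.mem_ker] at hg
      obtain ⟨k, m, hm, ho⟩ := Nat.exists_eq_two_pow_mul_odd (orderOf_pos g).ne'
      refine ⟨k, Subtype.ext ?_⟩
      change g ^ 2 ^ k = 1
      apply h.cent
      · have h3 : orderOf (g ^ 2 ^ k) ∣ m := by
          rw [orderOf_dvd_iff_pow_eq_one, ← pow_mul, ← ho, pow_orderOf_eq_one]
        exact hm.of_dvd_nat h3
      · exact (hk _).1 (by rw [map_pow, hg, one_pow])
    obtain ⟨P, hP⟩ := h.syl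
    have h3 : ψ.ker ≤ P := IsPGroup.le_sylow_of_normal hp P
    obtain ⟨a, b, rfl⟩ := (hP x).1 (h3 hx)
    rw [hval] at hx
    obtain ⟨h4, h5⟩ := hF.inj _ _ hx
    exact ⟨a, h4, by rw [h5]⟩
  · rintro ⟨v, hv, rfl⟩
    rw [hval, hv, stdF_one]
    simp

end val

end Cfsg.Agent.LFourA.AltPsiX
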