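import Cfsg.Agent.SylowSp4.ExtTransfer

/-!
# The transfer homomorphism modulo a subgroup of index two of a Sylow 2-subgroup

`exists_hom`: there is a homomorphism `f : G → {±1}` such that `f v = 1` if `v` is an involution all of whose conjugates
in `S` lie in `T`, and such that involutions `u` with `f u = 1` have an extremal conjugate in `T`.
-/

set_option autoImplicit false

namespace Cfsg.Agent.LFourA.SignTransfer

open Subgroup Cfsg.Agent.SylowSp4.ExtTransfer

/-- **The transfer homomorphism.** -/
theorem exists_hom {G : Type*} [Group G] [Finite G] (S : Sylow 2 G) (T : Subgroup G)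
    (hTS : T ≤ S) (hidx : T.relIndex (S : Subgroup G) = 2) :
    ∃ f : G →* ℤˣ, (∀ v : G, v * v = 1 → (∀ g : G, g * v * g⁻¹ ∈ S → g * v * g⁻¹ ∈ T) → f v = 1) ∧
      ∀ (u : G) (R : Subgroup G), u * u = 1 → IsPGroup 2 R → (∀ r ∈ R, r * u = u * r) → f u = 1 →
        ∃ g : G, g * u * g⁻¹ ∈ T ∧ ∀ r ∈ R, g * r * g⁻¹ ∈ S := by
  classical
  have h2p : Fact (Nat.Prime 2) := ⟨Nat.prime_two⟩
  -- `T` is normal in `S`
  have hT2 : (T.subgroupOf (S : Subgroup G)).index = 2 := hidx
  have hTn : (T.subgroupOf (S : Subgroup G)).Normal := Subgroup.normal_of_index_eq_two hT2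
  have hTS' : ∀ s ∈ S, ∀ t ∈ T, s⁻¹ * t * s ∈ T := by
    intro s hs t ht
    have h := hTn.conj_mem ⟨t, hTS ht⟩ ht ⟨s⁻¹, (S : Subgroup G).inv_mem hs⟩
    have h1 : s⁻¹ * t * (s⁻¹)⁻¹ ∈ T := h
    rwa [inv_inv] at h1
  obtain ⟨s, hs, hsT⟩ : ∃ s ∈ S, s ∉ T := by
    by_contra hc
    push Not at hc
    have h1 : T.subgroupOf (S : Subgroup G) = ⊤ := by
      rw [eq_top_iff]
      intro x _
      exact hc x x.2
    rw [h1, index_top] at hT2
    norm_num at hT2
  have hcos : ∀ a ∈ S, a ∈ T ∨ s⁻¹ * a ∈ T := by
    intro a ha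
    by_contra hc
    push Not at hc
    have h1 := Subgroup.mul_mem_iff_of_index_two hT2
      (a := (⟨s⁻¹, (S : Subgroup G).inv_mem hs⟩ : (S : Subgroup G))) (b := ⟨a, ha⟩)
    have h2 : (⟨s⁻¹, (S : Subgroup G).inv_mem hs⟩ : (S : Subgroup G)) ∉
        T.subgroupOf (S : Subgroup G) := fun h => hsT (by
      have h3 : s⁻¹ ∈ T := h
      simpa using T.inv_mem h3)
    have h3 : (⟨a, ha⟩ : (S : Subgroup G)) ∉ T.subgroupOf (S : Subgroup G) := fun h => hc.1 h
    exact hc.2 (h1.2 ⟨fun h => absurd h h2, fun h => absurd h h3⟩)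
  obtain ⟨m, hm, hmo⟩ := Cfsg.Agent.Transfer.ThompsonTransfer.exists_index_eq S T hTS hidx
  have : Fintype (G ⧸ T) := Fintype.ofFinite _
  have : Fintype (G ⧸ (S : Subgroup G)) := Fintype.ofFinite _
  -- the number of fixed points
  have hsgn : ∀ (u : G) (F : Finset (G ⧸ (S : Subgroup G))), u * u = 1 →
      (∀ g : G, ((g : G) : G ⧸ (S : Subgroup G)) ∈ F ↔ g⁻¹ * u * g ∈ T) →
      Equiv.Perm.sign (MulAction.toPermHom G (G ⧸ T) u) = (-1) ^ (m - F.card) ∧ F.card ≤ m := by
    intro u F huu hFm
    let X : Finset (G ⧸ T) := Finset.univ.filter (fun x => u • x = x)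
    have hXm : ∀ g : G, ((g : G) : G ⧸ T) ∈ X ↔ g⁻¹ * u * g ∈ T := by
      intro g
      simp only [X, Finset.mem_filter, Finset.mem_univ, true_and]
      exact smul_coe_eq_iff T u g
    -- the map `G/T → G/S`
    let π : G ⧸ T → G ⧸ (S : Subgroup G) := Quotient.map' id (fun a b hab => by
      rw [QuotientGroup.leftRel_apply] at hab ⊢
      exact hTS hab)
    have hπ : ∀ g : G, π ((g : G) : G ⧸ T) = ((g : G) : G ⧸ (S : Subgroup G)) := fun g => rfl
    have hcard : X.card = 2 * F.card := by
      have h1 : X.card = ∑ q ∈ F, (X.filter (fun x => π x = q)).card := by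
        apply Finset.card_eq_sum_card_fiberwise
        intro x hx
        obtain ⟨g, rfl⟩ := QuotientGroup.mk_surjective x
        exact (hFm g).2 ((hXm g).1 hx)
      rw [h1]
      have h2 : ∀ q ∈ F, (X.filter (fun x => π x = q)).card = 2 := by
        intro q hq
        obtain ⟨g, rfl⟩ := QuotientGroup.mk_surjective q
        have hgT := (hFm g).1 hq
        have h3 : X.filter (fun x => π x = ((g : G) : G ⧸ (S : Subgroup G))) =
            {((g : G) : G ⧸ T), ((g * s : G) : G ⧸ T)} := by
          ext x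
          obtain ⟨y, rfl⟩ := QuotientGroup.mk_surjective x
          simp only [Finset.mem_filter, Finset.mem_insert, Finset.mem_singleton]
          constructor
          · rintro ⟨_, hy⟩
            rw [hπ] at hy
            have h4 := QuotientGroup.eq.1 hy.symm
            rcases hcos _ h4 with h5 | h5
            · left
              exact (QuotientGroup.eq.2 h5).symm
            · right
              refine (QuotientGroup.eq.2 ?_).symm
              have e : (g * s)⁻¹ * y = s⁻¹ * (g⁻¹ * y) := by group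
              rw [e]; exact h5
          · rintro (h4 | h4)
            · rw [h4, hπ]
              exact ⟨(hXm g).2 hgT, rfl⟩
            · rw [h4, hπ]
              refine ⟨(hXm _).2 ?_, ?_⟩
              · have e : (g * s)⁻¹ * u * (g * s) = s⁻¹ * (g⁻¹ * u * g) * s := by group
                rw [e]
                exact hTS' s hs _ hgT
              · refine (QuotientGroup.eq.2 ?_).symm
                have e : g⁻¹ * (g * s) = s := by group
                rw [e]; exact hs
        rw [h3]
        apply Finset.card_pair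
        intro h4
        have h5 := QuotientGroup.eq.1 h4
        have e : g⁻¹ * (g * s) = s := by group
        rw [e] at h5
        exact hsT h5
      rw [Finset.sum_congr rfl h2, Finset.sum_const, smul_eq_mul, mul_comm]
    have h2 : (MulAction.toPermHom G (G ⧸ T) u) ^ 2 = 1 := by
      rw [← map_pow, pow_two, huu, map_one]
    have h3 : Fintype.card (Function.fixedPoints (MulAction.toPermHom G (G ⧸ T) u)) = X.card := by
      rw [← Set.toFinset_card]
      congr 1
      ext x
      simp only [Set.mem_toFinset, X, Finset.mem_filter, Finset.mem_univ, true_and]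
      rfl
    have h4 : Fintype.card (G ⧸ T) = 2 * m := by
      rw [← Nat.card_eq_fintype_card, ← Subgroup.index_eq_card, hm]
    have h5 : X.card ≤ 2 * m := by
      rw [← h4]; exact Finset.card_le_univ X
    have h6 : (2 * m - 2 * F.card) / 2 = m - F.card := by omega
    refine ⟨?_, by omega⟩
    rw [Equiv.Perm.sign_of_pow_two_eq_one h2, h3, h4, hcard, h6]
  refine ⟨(Equiv.Perm.sign).comp (MulAction.toPermHom G (G ⧸ T)), ?_, ?_⟩
  · -- pure involutions
    intro v hvv hv
    let F : Finset (G ⧸ (S : Subgroup G)) := Finset.univ.filter (fun q => v • q = q)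
    have hFm : ∀ g : G, ((g : G) : G ⧸ (S : Subgroup G)) ∈ F ↔ g⁻¹ * v * g ∈ T := by
      intro g
      simp only [F, Finset.mem_filter, Finset.mem_univ, true_and]
      rw [smul_coe_eq_iff (S : Subgroup G) v g]
      constructor
      · intro h
        have h1 := hv g⁻¹ (by rwa [inv_inv])
        rwa [inv_inv] at h1
      · exact fun h => hTS h
    obtain ⟨h1, h3⟩ := hsgn v F hvv hFm
    have hFodd : Odd F.card := by
      have hp : IsPGroup 2 (zpowers v) := by
        rw [IsPGroup.iff_card, Nat.card_zpowers]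
        obtain ⟨a, -, ha⟩ := (Nat.dvd_prime_pow Nat.prime_two).1
          (orderOf_dvd_of_pow_eq_one (x := v) (n := 2 ^ 1) (by rw [pow_one, pow_two, hvv]))
        exact ⟨a, ha⟩
      have hmod := hp.card_modEq_card_fixedPoints (G ⧸ (S : Subgroup G))
      have h4 : Nat.card (MulAction.fixedPoints (zpowers v) (G ⧸ (S : Subgroup G))) = F.card := by
        rw [← Fintype.card_coe, ← Nat.card_eq_fintype_card]
        apply Nat.card_congr
        refine Equiv.subtypeEquivRight (fun q => ?_)
        simp only [F, Finset.mem_filter, Finset.mem_univ, true_and]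
        constructor
        · intro h
          exact h ⟨v, mem_zpowers v⟩
        · rintro h ⟨x, hx⟩
          obtain ⟨k, rfl⟩ := mem_zpowers_iff.1 hx
          exact MulAction.mem_stabilizer_iff.1 (zpow_mem (MulAction.mem_stabilizer_iff.2 h) k)
      rw [h4] at hmod
      have h5 : ¬ 2 ∣ Nat.card (G ⧸ (S : Subgroup G)) := S.not_dvd_index
      have h6 : Nat.card (G ⧸ (S : Subgroup G)) % 2 = F.card % 2 := hmod
      rw [Nat.odd_iff]
      omega
    show Equiv.Perm.sign (MulAction.toPermHom G (G ⧸ T) v) = 1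
    rw [h1]
    have h7 : Even (m - F.card) := by
      obtain ⟨k, hk⟩ := hFodd
      obtain ⟨l, hl⟩ := hmo
      exact ⟨l - k, by omega⟩
    exact h7.neg_one_pow
  intro u R huu hR hRu hG
  by_contra hcon
  push Not at hcon
  -- the sets
  let F : Finset (G ⧸ (S : Subgroup G)) := Finset.univ.filter
    (fun q => ∃ g : G, (g : G ⧸ (S : Subgroup G)) = q ∧ g⁻¹ * u * g ∈ T)
  have hFm : ∀ g : G, ((g : G) : G ⧸ (S : Subgroup G)) ∈ F ↔ g⁻¹ * u * g ∈ T := by
    intro g
    simp only [F, Finset.mem_filter, Finset.mem_univ, true_and]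
    constructor
    · rintro ⟨g', hg', hg'T⟩
      have h1 := QuotientGroup.eq.1 hg'
      have h2 := hTS' _ h1 _ hg'T
      have e : (g'⁻¹ * g)⁻¹ * (g'⁻¹ * u * g') * (g'⁻¹ * g) = g⁻¹ * u * g := by group
      rwa [e] at h2
    · intro h
      exact ⟨g, rfl, h⟩
  -- `F` has an even number of elements
  have hF2 : Even F.card := by
    let A : SubMulAction R (G ⧸ (S : Subgroup G)) :=
      { carrier := (F : Set (G ⧸ (S : Subgroup G)))
        smul_mem' := by
          intro r q hq
          obtain ⟨g, rfl⟩ := QuotientGroup.mk_surjective q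
          have h1 := (hFm g).1 hq
          have h2 : ((r : G) * g)⁻¹ * u * ((r : G) * g) ∈ T := by
            have e : ((r : G) * g)⁻¹ * u * ((r : G) * g) = g⁻¹ * ((r : G)⁻¹ * (u * r)) * g := by
              group
            rw [e, ← hRu r r.2, inv_mul_cancel_left]
            exact h1
          exact (hFm ((r : G) * g)).2 h2 }
    have hmod := hR.card_modEq_card_fixedPoints A
    have hempty : IsEmpty (MulAction.fixedPoints R A) := by
      constructor
      rintro ⟨⟨q, hq⟩, hfix⟩
      obtain ⟨g, rfl⟩ := QuotientGroup.mk_surjective q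
      obtain ⟨r, hr, hrS⟩ := hcon g⁻¹ (by rw [inv_inv]; exact (hFm g).1 hq)
      apply hrS
      rw [inv_inv]
      exact (smul_coe_eq_iff (S : Subgroup G) r g).1 (congrArg Subtype.val (hfix ⟨r, hr⟩))
    have h0 : Nat.card (MulAction.fixedPoints R A) = 0 := Nat.card_of_isEmpty
    rw [h0] at hmod
    have h1 : Nat.card A = F.card := by
      have : Nat.card A = Nat.card {q // q ∈ F} := rfl
      rw [this, Nat.card_eq_fintype_card, Fintype.card_coe]
    rw [h1] at hmod
    exact even_iff_two_dvd.2 (Nat.modEq_zero_iff_dvd.1 hmod)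
  obtain ⟨h1, h3⟩ := hsgn u F huu hFm
  have hsign : Equiv.Perm.sign (MulAction.toPermHom G (G ⧸ T) u) = -1 := by
    rw [h1]
    have h7 : Odd (m - F.card) := by
      obtain ⟨k, hk⟩ := hF2
      obtain ⟨l, hl⟩ := hmo
      exact ⟨l - k, by omega⟩
    exact h7.neg_one_pow
  have h9 : Equiv.Perm.sign (MulAction.toPermHom G (G ⧸ T) u) = 1 := hG
  rw [hsign] at h9
  exact absurd h9 (by decide)

end Cfsg.Agent.LFourA.SignTransfer
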