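import Cfsg.Agent.LFourA.AltEAct
import Cfsg.Agent.LFourA.SignTransfer
import Cfsg.Agent.LFourA.OddFree

/-!
# Case II: the centralizer of `z`, transfer
-/

set_option autoImplicit false

namespace Cfsg.Agent.LFourA.AltZ1

open Cfsg.Agent.LFourA.AltModel Cfsg.Agent.LFourA.AltPat Cfsg.Agent.LFourA.AltNil Cfsg.Agent.LFourA.AltNilB
  Cfsg.Agent.LFourA.AltNilC Cfsg.Agent.LFourA.AltEAct Cfsg.Agent.LFourA.OddFree Subgroup

/-- a Sylow 2-subgroup of a normal subgroup of a subgroup -/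
theorem exists_sylow_map {G : Type*} [Group G] [Finite G] {H : Subgroup G} (N : Subgroup H) [N.Normal]
    (Q : Sylow 2 H) : ∃ R : Sylow 2 (N.map H.subtype), ∀ g : N.map H.subtype, g ∈ R ↔ ∃ q ∈ Q, (q : G) = g := by
  have h2 : Fact (Nat.Prime 2) := ⟨Nat.prime_two⟩
  let e := N.equivMapOfInjective H.subtype H.subtype_injective
  have hs : Function.Surjective (e : N →* N.map H.subtype) := e.surjective
  refine ⟨(sylN Q N).mapSurjective hs, fun g => ?_⟩
  have h1 : g ∈ (sylN Q N).mapSurjective hs ↔ ∃ x ∈ sylN Q N, (e : N →* N.map H.subtype) x = g := Iff.rfl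
  rw [h1]
  constructor
  · rintro ⟨x, hx, rfl⟩
    exact ⟨x, (mem_sylN Q N x).1 hx, rfl⟩
  · rintro ⟨q, hq, hqg⟩
    obtain ⟨n, hn, hng⟩ := g.2
    have h3 : n = q := Subtype.ext (by rw [hqg]; exact hng)
    subst h3
    exact ⟨⟨n, hn⟩, (mem_sylN Q N _).2 hq, Subtype.ext hng⟩

/-- the transfer homomorphism in terms of a model of the Sylow subgroup -/
theorem exists_sign {G M' : Type*} [Group G] [Finite G] [Group M'] (N : Subgroup G) (Q : Sylow 2 N) (F : M' →* G)
    (hinj : Function.Injective F) (A B : Subgroup M') (hAN : ∀ x ∈ A, F x ∈ N) (hQ : ∀ g : N, g ∈ Q ↔ ∃ x ∈ A, F x = g)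
    (hBA : B ≤ A) (hidx : B.relIndex A = 2) :
    ∃ f : N →* ℤˣ, (∀ v ∈ A, v * v = 1 → (∀ g ∈ N, ∀ x ∈ A, g * F v * g⁻¹ = F x → x ∈ B) →
        ∀ hv : F v ∈ N, f ⟨F v, hv⟩ = 1) ∧
      ∀ u ∈ A, ∀ R : Subgroup M', R ≤ A → u * u = 1 → (∀ r ∈ R, r * u = u * r) →
        ∀ hu : F u ∈ N, f ⟨F u, hu⟩ = 1 →
        ∃ g ∈ N, (∃ x ∈ B, g * F u * g⁻¹ = F x) ∧ ∀ r ∈ R, ∃ x ∈ A, g * F r * g⁻¹ = F x := by
  have h2 : Fact (Nat.Prime 2) := ⟨Nat.prime_two⟩
  have hAm : A.map F ≤ N := by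
    rintro _ ⟨x, hx, rfl⟩
    exact hAN x hx
  have hQe : (Q : Subgroup N) = (A.map F).subgroupOf N := by
    ext g
    exact hQ g
  have hT : ∀ g : N, g ∈ (B.map F).subgroupOf N ↔ ∃ x ∈ B, F x = g := fun g => Iff.rfl
  obtain ⟨f, hf1, hf2⟩ := SignTransfer.exists_hom Q ((B.map F).subgroupOf N) (by
      rw [hQe]
      exact fun g hg => map_mono hBA hg) (by
      rw [hQe, relIndex_subgroupOf hAm, relIndex_map_map_of_injective _ _ hinj, hidx])
  refine ⟨f, fun v hv hvv hc hvN => ?_, fun u hu R hRA huu hRu huN hfu => ?_⟩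
  · refine hf1 _ (Subtype.ext ?_) (fun g hg => ?_)
    · show F v * F v = 1
      rw [← map_mul, hvv, map_one]
    · obtain ⟨x, hx, hxe⟩ := (hQ _).1 hg
      exact (hT _).2 ⟨x, hc g g.2 x hx hxe.symm, hxe⟩
  · obtain ⟨g, hg1, hg2⟩ := hf2 ⟨F u, huN⟩ ((R.map F).subgroupOf N) (Subtype.ext (by
        show F u * F u = 1
        rw [← map_mul, huu, map_one])) (by
        have h3 : (R.map F).subgroupOf N ≤ Q := by
          rw [hQe]
          exact fun g hg => map_mono hRA hg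
        exact Q.2.to_le h3) (by
        rintro r ⟨x, hx, hxr⟩
        apply Subtype.ext
        have hxr' : F x = (r : G) := hxr
        show (r : G) * F u = F u * r
        rw [← hxr', ← map_mul, hRu x hx, map_mul]) hfu
    refine ⟨g, g.2, ?_, fun r hr => ?_⟩
    · obtain ⟨x, hx, hxe⟩ := (hT _).1 hg1
      exact ⟨x, hx, hxe.symm⟩
    · obtain ⟨x, hx, hxe⟩ := (hQ _).1 (hg2 ⟨F r, hAN r (hRA hr)⟩ ⟨r, hr, rfl⟩)
      exact ⟨x, hx, hxe.symm⟩

/-! ### the subgroups of the model -/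

/-- the subgroup of order 64 -/
def InQp (x : M) : Prop := (xor x.a.p x.a.q) = (xor x.b.p x.b.q)
/-- the extraspecial subgroup of order 32 -/
def InQ (x : M) : Prop := x.a.p = x.b.p ∧ x.a.q = x.b.q

instance : DecidablePred InQp := fun x => by unfold InQp; infer_instance
instance : DecidablePred InQ := fun x => by unfold InQ; infer_instance

theorem InQp_mul : ∀ x y : M, InQp x → InQp y → InQp (x * y) := by decide +kernel
theorem InQp_inv : ∀ x : M, InQp x → InQp x⁻¹ := by decide +kernel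
theorem InQ_mul : ∀ x y : M, InQ x → InQ y → InQ (x * y) := by decide +kernel
theorem InQ_inv : ∀ x : M, InQ x → InQ x⁻¹ := by decide +kernel
theorem InQp_of_InQ : ∀ x : M, InQ x → InQp x := by decide +kernel

/-- the subgroup of order 64 -/
def Qp : Subgroup M where
  carrier := {x | InQp x}
  mul_mem' {x y} hx hy := InQp_mul x y hx hy
  one_mem' := by decide
  inv_mem' {x} hx := InQp_inv x hx

/-- the extraspecial subgroup of order 32 -/
def Qs : Subgroup M where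
  carrier := {x | InQ x}
  mul_mem' {x y} hx hy := InQ_mul x y hx hy
  one_mem' := by decide
  inv_mem' {x} hx := InQ_inv x hx

theorem Qp_xor : ∀ b : M, Xor (InQp (b * pr U.y 1)) (InQp b) := by decide +kernel
theorem Qs_xor : ∀ b : M, InQp b → Xor (InQ (b * pr U.y U.y')) (InQ b) := by decide +kernel

theorem Qp_relIndex : Qp.relIndex ⊤ = 2 := by
  rw [relIndex_top_right, index_eq_two_iff]
  exact ⟨pr U.y 1, Qp_xor⟩

theorem Qs_relIndex : Qs.relIndex Qp = 2 := by
  rw [relIndex, index_eq_two_iff]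
  refine ⟨⟨pr U.y U.y', by show InQp _; decide⟩, ?_⟩
  rintro ⟨b, hb⟩
  exact Qs_xor b hb

/-- pure of t-type -/
def PT (x : M) : Prop := TT x ∧ TT (z * x)
/-- pure of z-type -/
def PZ (x : M) : Prop := ZZ x ∧ ZZ (z * x)

instance : DecidablePred PT := fun x => by unfold PT; infer_instance
instance : DecidablePred PZ := fun x => by unfold PZ; infer_instance

theorem pure_cases : ∀ x : M, x * x = 1 → InQp x → x = 1 ∨ x = z ∨ PT x ∨ PZ x := by decide +kernel
theorem PT_InQ : ∀ x : M, PT x → InQ x := by decide +kernel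
theorem PZ_InQp : ∀ x : M, PZ x → InQp x := by decide +kernel
theorem sq_conj : ∀ x : M, x * x = 1 → x ≠ 1 → TT x ∨ ZZ x := inv_dichotomy

/-! ### the centralizer of `z` -/

universe u

variable {G : Type u} [Group G] {S : Sylow 2 G} {F : M →* G}

/-- `C(z)` -/
abbrev CZ (F : M →* G) : Subgroup G := centralizer {F z}

theorem mem_CZ {g : G} : g ∈ CZ F ↔ g * F z = F z * g := mem_centralizer_singleton_iff

theorem z_comm : ∀ x : M, x * z = z * x := by decide +kernel

theorem F_mem_CZ (x : M) : F x ∈ CZ F := by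
  rw [mem_CZ, ← map_mul, ← map_mul, z_comm]

theorem conj_z {g : G} (hg : g ∈ CZ F) {x x' : M} (h : g * F x * g⁻¹ = F x') : g * F (z * x) * g⁻¹ = F (z * x') := by
  rw [map_mul, map_mul, ← h, ← mul_assoc, mem_CZ.1 hg]; group

theorem TT_of_conj (P : Alt S F) {g : G} {x x' : M} (h : g * F x * g⁻¹ = F x') (hx : TT x) : TT x' := by
  have h1 : x' * x' = 1 := by
    apply P.inj
    rw [map_mul, ← h, map_one]
    have e : g * F x * g⁻¹ * (g * F x * g⁻¹) = g * (F x * F x) * g⁻¹ := by group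
    rw [e, ← map_mul, (sq_TT x hx).1, map_one, mul_one, mul_inv_cancel]
  have h2 : x' ≠ 1 := by
    rintro rfl
    rw [map_one] at h
    apply (sq_TT x hx).2
    apply P.inj
    rw [map_one, ← mul_right_inj g, ← mul_left_inj g⁻¹, h]; group
  refine (inv_dichotomy x' h1 h2).resolve_right (fun h3 => P.tz ?_)
  exact ((P.tt x hx).trans (isConj_iff.2 ⟨g, h⟩)).trans (P.zz x' h3).symm

theorem ZZ_of_conj (P : Alt S F) {g : G} {x x' : M} (h : g * F x * g⁻¹ = F x') (hx : ZZ x) : ZZ x' := by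
  have h1 : x' * x' = 1 := by
    apply P.inj
    rw [map_mul, ← h, map_one]
    have e : g * F x * g⁻¹ * (g * F x * g⁻¹) = g * (F x * F x) * g⁻¹ := by group
    rw [e, ← map_mul, (sq_ZZ x hx).1, map_one, mul_one, mul_inv_cancel]
  have h2 : x' ≠ 1 := by
    rintro rfl
    rw [map_one] at h
    apply (sq_ZZ x hx).2
    apply P.inj
    rw [map_one, ← mul_right_inj g, ← mul_left_inj g⁻¹, h]; group
  refine (inv_dichotomy x' h1 h2).resolve_left (fun h3 => P.tz ?_)
  exact ((P.tt x' h3).trans (isConj_iff.2 ⟨g, h⟩ : IsConj (F x) (F x')).symm).trans (P.zz x hx).symm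

theorem PT_of_conj (P : Alt S F) {g : G} (hg : g ∈ CZ F) {x x' : M} (h : g * F x * g⁻¹ = F x') (hx : PT x) : PT x' :=
  ⟨TT_of_conj P h hx.1, TT_of_conj P (conj_z hg h) hx.2⟩

theorem PZ_of_conj (P : Alt S F) {g : G} (hg : g ∈ CZ F) {x x' : M} (h : g * F x * g⁻¹ = F x') (hx : PZ x) : PZ x' :=
  ⟨ZZ_of_conj P h hx.1, ZZ_of_conj P (conj_z hg h) hx.2⟩

/-- all involutions of `Q'` are pure, so is the conjugate -/
theorem InQp_of_conj (P : Alt S F) {g : G} (hg : g ∈ CZ F) {x x' : M} (h : g * F x * g⁻¹ = F x') (hxx : x * x = 1)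
    (hx : InQp x) : InQp x' := by
  rcases pure_cases x hxx hx with rfl | rfl | h1 | h1
  · rw [map_one, mul_one, mul_inv_cancel] at h
    have : x' = 1 := P.inj (by rw [← h, map_one])
    rw [this]; decide
  · rw [mem_CZ.1 hg, mul_inv_cancel_right] at h
    rw [← P.inj h]; decide
  · exact InQp_of_InQ _ (PT_InQ _ (PT_of_conj P hg h h1))
  · exact PZ_InQp _ (PZ_of_conj P hg h h1)

/-- `Q'` is generated by involutions -/
theorem Qp_gen : ∀ x : M, InQp x → ∃ a b : M, InQp a ∧ InQp b ∧ a * a = 1 ∧ b * b = 1 ∧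
    (a * b * x) * (a * b * x) = 1 := by decide +kernel

variable [Finite G]

/-- the first transfer homomorphism of `C(z)` -/
theorem exists_f1 (P : Alt S F) : ∃ f : CZ F →* ℤˣ, ∀ x : M, f ⟨F x, F_mem_CZ x⟩ = 1 ↔ InQp x := by
  have hS : (S : Subgroup G) ≤ CZ F := by
    intro g hg
    obtain ⟨x, rfl⟩ := (P.range g).1 hg
    exact F_mem_CZ x
  obtain ⟨f, hf1, hf2⟩ := exists_sign (CZ F) (S.subtype hS) F P.inj ⊤ Qp (fun x _ => F_mem_CZ x) (by
      intro g
      have h1 : g ∈ S.subtype hS ↔ (g : G) ∈ S := Iff.rfl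
      rw [h1, P.range]
      simp) le_top Qp_relIndex
  have hmul : ∀ x y : M, f ⟨F (x * y), F_mem_CZ _⟩ = f ⟨F x, F_mem_CZ _⟩ * f ⟨F y, F_mem_CZ _⟩ := by
    intro x y
    rw [← map_mul]
    congr 1
    exact Subtype.ext (map_mul F x y)
  have hinv : ∀ x : M, x * x = 1 → InQp x → f ⟨F x, F_mem_CZ x⟩ = 1 := by
    intro x hxx hx
    exact hf1 x (mem_top _) hxx (fun g hg x' _ h => InQp_of_conj P hg h hxx hx) _
  have h1 : ∀ x : M, InQp x → f ⟨F x, F_mem_CZ x⟩ = 1 := by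
    intro x hx
    obtain ⟨a, b, ha, hb, haa, hbb, hab⟩ := Qp_gen x hx
    have h2 := hinv _ hab (InQp_mul _ _ (InQp_mul _ _ ha hb) hx)
    rw [hmul, hmul, hinv a haa ha, hinv b hbb hb, one_mul, one_mul] at h2
    exact h2
  have h2 : f ⟨F (pr U.y 1), F_mem_CZ _⟩ ≠ 1 := by
    intro h3
    obtain ⟨g, hg, ⟨x, hx, hgx⟩, -⟩ := hf2 (pr U.y 1) (mem_top _) ⊥ bot_le (by decide) (by
      intro r hr
      rw [mem_bot] at hr
      rw [hr, one_mul, mul_one]) _ h3
    have h4 : TT x := TT_of_conj P hgx (by decide)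
    have h5 : ZZ (z * x) := ZZ_of_conj P (conj_z hg hgx) (by decide)
    have h6 : ∀ x : M, InQp x → TT x → ¬ ZZ (z * x) := by decide +kernel
    exact h6 x hx h4 h5
  refine ⟨f, fun x => ⟨fun h3 => ?_, h1 x⟩⟩
  by_contra h4
  have h5 : InQp (x * pr U.y 1) := by
    rcases Qp_xor x with h6 | h6
    · exact h6.1
    · exact absurd h6.1 h4
  have h6 := h1 _ h5
  rw [hmul, h3, one_mul] at h6
  exact h2 h6

end Cfsg.Agent.LFourA.AltZ1
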