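import Cfsg.Agent.LFourA.AltZ1

/-!
# Case II: the centralizer of `z`, the second transfer
-/

set_option autoImplicit false

namespace Cfsg.Agent.LFourA.AltZ2

open Cfsg.Agent.LFourA.AltModel Cfsg.Agent.LFourA.AltPat Cfsg.Agent.LFourA.AltNil Cfsg.Agent.LFourA.AltNilB
  Cfsg.Agent.LFourA.AltNilC Cfsg.Agent.LFourA.AltEAct Cfsg.Agent.LFourA.OddFree Cfsg.Agent.LFourA.AltZ1 Subgroup

/-- `D = (y', y')` -/
def dd : M := pr U.y' U.y'

theorem sig_w : ∀ x : M, InE x → sigZ (w * sigZ (sigZ x) * w⁻¹) = dd * x * dd⁻¹ := by decide +kernel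
theorem sig_dd : ∀ x : M, InE x → sigZ (dd * sigZ (sigZ x) * dd⁻¹) = (dd * w) * x * (dd * w)⁻¹ := by decide +kernel

/-- the elements of `B₈` -/
def InB8 (x : M) : Prop := x = 1 ∨ x = z ∨ PT x

instance : DecidablePred InB8 := fun x => by unfold InB8; infer_instance

theorem InB8_E : ∀ x : M, InB8 x → InE x := by decide +kernel
theorem InB8_Q : ∀ x : M, InB8 x → InQ x := by decide +kernel
theorem E_Qp_B8 : ∀ x : M, InE x → InQp x → InB8 x := by decide +kernel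
theorem PT_B8t : ∀ x : M, PT x → InB8t x := by decide +kernel
theorem B8t_PT : ∀ x : M, InB8t x → PT x := by decide +kernel
theorem B8_sq : ∀ x : M, InB8 x → x * x = 1 := by decide +kernel
theorem Q_word : ∀ x : M, InQ x → InB8 x ∨ InB8 (x * dd⁻¹) ∨ InB8 (x * w⁻¹) ∨ InB8 (x * (dd * w)⁻¹) := by
  decide +kernel

theorem cases_tau : ∀ x : M, InQ x → PZ x → ∀ τ : M, PT τ → x * τ = τ * x →
    (x.m = false ∧ (τ = t ∨ τ = t') ∧ od x.a ∧ od x.b) ∨ x.m = true := by decide +kernel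
theorem conj_v : ∀ b : M, b.m = false → ¬ od (b * pr U.y U.y' * b⁻¹).a := by decide +kernel
theorem conj_v2 : ∀ b : M, b.m = false → (b * pr U.y U.y' * b⁻¹).m = false ∧
    b * pr U.y U.y' * b⁻¹ * pr U.y U.c = pr U.y U.c * (b * pr U.y U.y' * b⁻¹) := by decide +kernel
theorem cent_w : ∀ x : M, InQ x → x.m = true → ∀ e : M, InE e → ZZ e → x * e = e * x → e = z := by decide +kernel
theorem conj_w_od : ∀ x : M, od x.b → od (w * x * w⁻¹).a := by decide +kernel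

universe u

variable {G : Type u} [Group G] {S : Sylow 2 G} {F : M →* G}

theorem NE_mul {n m : G} (hn : NE F n) (hm : NE F m) : NE F (n * m) := by
  intro x hx
  obtain ⟨x', hx', e⟩ := hm x hx
  obtain ⟨x'', hx'', e'⟩ := hn x' hx'
  exact ⟨x'', hx'', by rw [e', e]; group⟩

theorem NE_F (g : M) : NE F (F g) := (act_F g).ne

/-- the normal subgroup of index two of `C(z)` -/
structure HOne (P : Alt S F) (H₁ : Subgroup G) (R : Sylow 2 H₁) : Prop where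
  le : H₁ ≤ CZ F
  nor : ∀ h ∈ CZ F, ∀ x ∈ H₁, h * x * h⁻¹ ∈ H₁
  mem : ∀ x : M, F x ∈ H₁ ↔ InQp x
  syl : ∀ g : H₁, g ∈ R ↔ ∃ x ∈ Qp, F x = g
  odd : ∀ g ∈ CZ F, Odd (orderOf g) → g ∈ H₁

theorem eq_one_of_odd {X : Type*} [Group X] (f : X →* ℤˣ) {x : X} (h : Odd (orderOf x)) : f x = 1 := by
  rcases Int.units_eq_one_or (f x) with h1 | h1
  · exact h1
  · exfalso
    have h2 : f x ^ orderOf x = 1 := by rw [← map_pow, pow_orderOf_eq_one, map_one]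
    rw [h1, h.neg_one_pow] at h2
    exact absurd h2 (by decide)

variable [Finite G]

theorem exists_HOne (P : Alt S F) : ∃ (H₁ : Subgroup G) (R : Sylow 2 H₁), HOne P H₁ R := by
  obtain ⟨f, hf⟩ := exists_f1 P
  have hS : (S : Subgroup G) ≤ CZ F := by
    intro g hg
    obtain ⟨x, rfl⟩ := (P.range g).1 hg
    exact F_mem_CZ x
  obtain ⟨R, hR⟩ := exists_sylow_map f.ker (S.subtype hS)
  have hm : ∀ g : G, g ∈ f.ker.map (CZ F).subtype ↔ ∃ h : g ∈ CZ F, f ⟨g, h⟩ = 1 := by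
    intro g
    constructor
    · rintro ⟨x, hx, rfl⟩
      exact ⟨x.2, hx⟩
    · rintro ⟨h, h1⟩
      exact ⟨⟨g, h⟩, h1, rfl⟩
  refine ⟨f.ker.map (CZ F).subtype, R, map_subtype_le _, ?_, ?_, ?_, ?_⟩
  · intro h hh x hx
    obtain ⟨hx1, hx2⟩ := (hm x).1 hx
    have h1 : h * x * h⁻¹ ∈ CZ F := mul_mem (mul_mem hh hx1) (inv_mem hh)
    refine (hm _).2 ⟨h1, ?_⟩
    have e : (⟨h * x * h⁻¹, h1⟩ : CZ F) = ⟨h, hh⟩ * ⟨x, hx1⟩ * ⟨h, hh⟩⁻¹ := rfl
    rw [e, map_mul, map_mul, hx2, mul_one, map_inv, mul_inv_cancel]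
  · intro x
    rw [hm, ← hf]
    exact ⟨fun ⟨_, h⟩ => h, fun h => ⟨_, h⟩⟩
  · intro g
    rw [hR]
    constructor
    · rintro ⟨q, hq, hqg⟩
      obtain ⟨x, hx⟩ := (P.range (q : G)).1 hq
      refine ⟨x, ?_, by rw [hx, hqg]⟩
      have h1 : (q : G) ∈ f.ker.map (CZ F).subtype := by rw [hqg]; exact g.2
      obtain ⟨h2, h3⟩ := (hm _).1 h1
      show InQp x
      rw [← hf]
      rw [← h3]
      congr 1
      exact Subtype.ext hx
    · rintro ⟨x, -, hx⟩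
      exact ⟨⟨F x, F_mem_CZ x⟩, (P.range (F x)).2 ⟨x, rfl⟩, hx⟩
  · intro g hg ho
    refine (hm g).2 ⟨hg, eq_one_of_odd f ?_⟩
    rwa [orderOf_mk]

theorem Tsub_le : Tsub ≤ Qp := by
  intro x hx
  rcases hx with rfl | rfl | rfl | rfl <;> (show InQp _; decide)

/-- the value of the second transfer homomorphism at `(y, y')` -/
theorem f2_v (P : Alt S F) {H₁ : Subgroup G} {R : Sylow 2 H₁} (h : HOne P H₁ R) {g : G} (hg : g ∈ H₁) {x τ : M}
    (hx : InQ x) (hgx : g * F (pr U.y U.y') * g⁻¹ = F x) (hgτ : g * F t * g⁻¹ = F τ) : False := by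
  have hgz := h.le hg
  have hPZ : PZ x := PZ_of_conj P hgz hgx (by decide)
  have hPT : PT τ := PT_of_conj P hgz hgτ (by decide)
  have hcomm : x * τ = τ * x := by
    apply P.inj
    rw [map_mul, map_mul, ← hgx, ← hgτ]
    have e : g * F (pr U.y U.y') * g⁻¹ * (g * F t * g⁻¹) = g * (F (pr U.y U.y') * F t) * g⁻¹ := by group
    have e' : g * F t * g⁻¹ * (g * F (pr U.y U.y') * g⁻¹) = g * (F t * F (pr U.y U.y')) * g⁻¹ := by group
    rw [e, e', ← map_mul, ← map_mul, show pr U.y U.y' * t = t * pr U.y U.y' by decide]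
  -- an element of `C(z)` fixing `t` is in `C(t) ∩ C(t')`
  have key : ∀ k : G, k * F z = F z * k → k * F t * k⁻¹ = F t → k ∈ CT F := by
    intro k h1 h2
    have h3 : k * F t = F t * k := by
      calc k * F t = k * F t * k⁻¹ * k := by group
        _ = F t * k := by rw [h2]
    refine mem_CT.2 ⟨h3, ?_⟩
    have e : t' = z * t := by decide
    rw [e, map_mul, ← mul_assoc, h1, mul_assoc, h3, mul_assoc]
  rcases cases_tau x hx hPZ τ hPT hcomm with ⟨hm, hτ, ha, hb⟩ | hm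
  · rcases hτ with rfl | rfl
    · obtain ⟨b, hb, e⟩ := fusion_CT P (key g (mem_CZ.1 hgz) hgτ) rfl hgx
      rw [← e] at ha
      exact conj_v b hb ha
    · have h1 : F w * g * F t * (F w * g)⁻¹ = F t := by
        have e : F w * g * F t * (F w * g)⁻¹ = F w * (g * F t * g⁻¹) * (F w)⁻¹ := by group
        rw [e, hgτ, ← map_mul, ← map_inv, ← map_mul, w_t']
      have h2 : F w * g * F z = F z * (F w * g) := by
        rw [mul_assoc, mem_CZ.1 hgz, ← mul_assoc, ← map_mul, z_comm, map_mul, mul_assoc]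
      have h3 : F w * g * F (pr U.y U.y') * (F w * g)⁻¹ = F (w * x * w⁻¹) := by
        rw [map_mul, map_mul, map_inv, ← hgx]; group
      obtain ⟨b, hb', e⟩ := fusion_CT P (key _ h2 h1) rfl h3
      have h4 := conj_w_od x hb
      rw [← e] at h4
      exact conj_v b hb' h4
  · obtain ⟨m, hmz, hm1, hm2, hmτ⟩ := exists_move P (PT_B8t τ hPT)
    have h1 : m * g * F t * (m * g)⁻¹ = F t := by
      have e : m * g * F t * (m * g)⁻¹ = m * (g * F t * g⁻¹) * m⁻¹ := by group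
      rw [e, hgτ, hmτ]
    have h2 : m * g * F z = F z * (m * g) := by
      rw [mul_assoc, mem_CZ.1 hgz, ← mul_assoc, hmz, mul_assoc]
    obtain ⟨o, ho, b, hb, e⟩ := exists_decomp P (key _ h2 h1)
    obtain ⟨v, hv⟩ : ∃ v, v = b * pr U.y U.y' * b⁻¹ := ⟨_, rfl⟩
    obtain ⟨hvm, hvc⟩ := conj_v2 b hb
    rw [← hv] at hvm hvc
    obtain ⟨g₁, hg₁⟩ : ∃ g₁, g₁ = m * F x * m⁻¹ := ⟨_, rfl⟩
    have h3 : g₁ = o * F v * o⁻¹ := by
      rw [hg₁, ← hgx, hv]
      have e2 : m * (g * F (pr U.y U.y') * g⁻¹) * m⁻¹ = m * g * F (pr U.y U.y') * (m * g)⁻¹ := by group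
      rw [e2, e]
      simp only [map_mul, map_inv]
      group
    obtain ⟨o₁, ho₁⟩ : ∃ o₁, o₁ = g₁ * (F v)⁻¹ := ⟨_, rfl⟩
    have h4 : o₁ ∈ OT F := by
      have e3 : o₁ = o * (F v * o⁻¹ * (F v)⁻¹) := by rw [ho₁, h3]; group
      rw [e3]
      exact mul_mem ho (conj_OT (F_mem_CT hvm) (inv_mem ho))
    have h5 : NE F o₁ := by
      rw [ho₁, hg₁, ← map_inv]
      exact NE_mul (NE_mul (NE_mul hm1 (NE_F x)) hm2) (NE_F _)
    have h6 := comm_of_NE P h4 h5 (pr U.y U.c) (by decide)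
    have h7 : g₁ * F (pr U.y U.c) = F (pr U.y U.c) * g₁ := by
      have e4 : g₁ = o₁ * F v := by rw [ho₁]; group
      rw [e4, mul_assoc, ← map_mul, hvc, map_mul, ← mul_assoc, h6, mul_assoc]
    obtain ⟨e', he', he'2⟩ := hm2 (pr U.y U.c) (by decide)
    rw [inv_inv] at he'2
    have h8 : x * e' = e' * x := by
      apply P.inj
      rw [map_mul, map_mul, he'2]
      have e5 : F x = m⁻¹ * g₁ * m := by rw [hg₁]; group
      rw [e5]
      calc m⁻¹ * g₁ * m * (m⁻¹ * F (pr U.y U.c) * m) = m⁻¹ * (g₁ * F (pr U.y U.c)) * m := by group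
        _ = m⁻¹ * (F (pr U.y U.c) * g₁) * m := by rw [h7]
        _ = _ := by group
    have h9 : ZZ e' := ZZ_of_conj P (g := m⁻¹) (x := pr U.y U.c) (by rw [inv_inv, he'2]) (by decide)
    have h10 := cent_w x hx hm e' he' h9 h8
    rw [h10] at he'2
    have h11 : F (pr U.y U.c) = F z := by
      have e6 : F (pr U.y U.c) = m * F z * m⁻¹ := by rw [he'2]; group
      rw [e6, hmz, mul_inv_cancel_right]
    exact absurd (P.inj h11) (by decide)

/-- the second transfer homomorphism of `C(z)` -/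
theorem exists_f2 (P : Alt S F) {H₁ : Subgroup G} {R : Sylow 2 H₁} (h : HOne P H₁ R) :
    ∃ f : H₁ →* ℤˣ, ∀ (x : M) (hx : F x ∈ H₁), f ⟨F x, hx⟩ = 1 ↔ InQ x := by
  obtain ⟨f, hf1, hf2⟩ := exists_sign H₁ R F P.inj Qp Qs (fun x hx => (h.mem x).2 hx) h.syl
    (fun x hx => InQp_of_InQ x hx) Qs_relIndex
  have hmul : ∀ x y : M, ∀ (hx : F x ∈ H₁) (hy : F y ∈ H₁) (hxy : F (x * y) ∈ H₁),
      f ⟨F (x * y), hxy⟩ = f ⟨F x, hx⟩ * f ⟨F y, hy⟩ := by
    intro x y hx hy hxy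
    rw [← map_mul]
    congr 1
    exact Subtype.ext (map_mul F x y)
  have hB8 : ∀ x : M, InB8 x → ∀ hx : F x ∈ H₁, f ⟨F x, hx⟩ = 1 := by
    intro x hx hxH
    refine hf1 x (InQp_of_InQ _ (InB8_Q x hx)) (B8_sq x hx) (fun g hg x' hx' e => ?_) hxH
    have hgz := h.le hg
    show InQ x'
    rcases hx with rfl | rfl | h1
    · rw [map_one, mul_one, mul_inv_cancel] at e
      have : x' = 1 := P.inj (by rw [← e, map_one])
      rw [this]; decide
    · rw [mem_CZ.1 hgz, mul_inv_cancel_right] at e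
      rw [← P.inj e]; decide
    · exact PT_InQ _ (PT_of_conj P hgz e h1)
  have hQp : ∀ x : M, InQp x → F x ∈ H₁ := fun x hx => (h.mem x).2 hx
  -- the value at `(y, y')`
  have hv : f ⟨F (pr U.y U.y'), hQp _ (by decide)⟩ ≠ 1 := by
    intro h3
    obtain ⟨g, hg, ⟨x, hx, hgx⟩, hgR⟩ := hf2 (pr U.y U.y') (show InQp _ by decide) Tsub Tsub_le (by decide) (by
      intro r hr
      exact InT_comm r _ hr rfl) _ h3
    obtain ⟨τ, -, hτ⟩ := hgR t (Or.inr (Or.inl rfl))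
    exact f2_v P h hg hx hgx hτ
  -- the value at `(y', y')`
  have hdd : f ⟨F dd, hQp _ (by decide)⟩ = 1 := by
    have hw : F w ∈ H₁ := hQp _ (by decide)
    have e1 : f ⟨F (pr U.y' U.y), hQp _ (by decide)⟩ = f ⟨F (pr U.y U.y'), hQp _ (by decide)⟩ := by
      have e2 : (⟨F (pr U.y' U.y), hQp _ (by decide)⟩ : H₁) =
          ⟨F w, hw⟩ * ⟨F (pr U.y U.y'), hQp _ (by decide)⟩ * ⟨F w, hw⟩⁻¹ := by
        apply Subtype.ext
        show F (pr U.y' U.y) = F w * F (pr U.y U.y') * (F w)⁻¹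
        rw [← map_mul, ← map_inv, ← map_mul]
        congr 1
      rw [e2, map_mul, map_mul, map_inv, mul_comm (f ⟨F w, hw⟩), mul_assoc, mul_inv_cancel, mul_one]
    obtain ⟨b, hb, hbe⟩ : ∃ b : M, InB8 b ∧ dd = b * (pr U.y U.y' * pr U.y' U.y) :=
      ⟨dd * (pr U.y U.y' * pr U.y' U.y)⁻¹, by decide, by group⟩
    have e3 : (⟨F dd, hQp _ (by decide)⟩ : H₁) = ⟨F b, hQp _ (InQp_of_InQ _ (InB8_Q b hb))⟩ *
        (⟨F (pr U.y U.y'), hQp _ (by decide)⟩ * ⟨F (pr U.y' U.y), hQp _ (by decide)⟩) := by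
      apply Subtype.ext
      show F dd = F b * (F (pr U.y U.y') * F (pr U.y' U.y))
      rw [← map_mul, ← map_mul, ← hbe]
    rw [e3, map_mul, map_mul, hB8 b hb, e1, one_mul]
    exact Int.units_mul_self _
  -- the value at `w`
  have hw : f ⟨F w, hQp _ (by decide)⟩ = 1 := by
    obtain ⟨ρ, hρ⟩ := P.rhoE
    have hz := rhoZ_comm_z hρ
    have ha := act_rhoZ hρ
    have ha' : Act F (rhoZ F ρ)⁻¹ (fun x => sigZ (sigZ x)) :=
      ha.inv (fun x hx => ⟨InE_sigZ _ (InE_sigZ _ hx), sigZ_three x hx⟩)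
    have h1 : Act F (rhoZ F ρ * F w * (rhoZ F ρ)⁻¹) (fun x => dd * x * dd⁻¹) :=
      ((ha.mul (act_F w)).mul ha').congr (fun x hx => sig_w x hx)
    have h2 : ∀ x, InE x → (F dd)⁻¹ * (rhoZ F ρ * F w * (rhoZ F ρ)⁻¹) * F x =
        F x * ((F dd)⁻¹ * (rhoZ F ρ * F w * (rhoZ F ρ)⁻¹)) := by
      intro x hx
      have h3 : rhoZ F ρ * F w * (rhoZ F ρ)⁻¹ * F x = F dd * F x * (F dd)⁻¹ * (rhoZ F ρ * F w * (rhoZ F ρ)⁻¹) := by
        rw [← map_inv, ← map_mul, ← map_mul, ← (h1 x hx).2]; group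
      rw [mul_assoc, h3]; group
    obtain ⟨o, ho, e, he, h4⟩ := exists_of_centralizes_E P h2
    have hoH : o ∈ H₁ := h.odd o (mem_CZ.2 (comm_z_of_mem_CT (OT_le ho))) (odd_orderOf P ho)
    have hρH : rhoZ F ρ ∈ H₁ := h.odd _ (mem_CZ.2 hz) (odd_rhoZ hρ)
    have hwH : F w ∈ H₁ := hQp _ (by decide)
    have hdH : F dd ∈ H₁ := hQp _ (by decide)
    have heH : F e ∈ H₁ := by
      have e1 : F e = o⁻¹ * ((F dd)⁻¹ * (rhoZ F ρ * F w * (rhoZ F ρ)⁻¹)) := by rw [h4]; group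
      rw [e1]
      exact mul_mem (inv_mem hoH) (mul_mem (inv_mem hdH) (mul_mem (mul_mem hρH hwH) (inv_mem hρH)))
    have h5 : f ⟨F e, heH⟩ = 1 := hB8 e (E_Qp_B8 e he ((h.mem e).1 heH)) heH
    have h6 : f ⟨o, hoH⟩ = 1 := eq_one_of_odd f (by rw [orderOf_mk]; exact odd_orderOf P ho)
    have h7 : (⟨F dd, hdH⟩ : H₁)⁻¹ * (⟨rhoZ F ρ, hρH⟩ * ⟨F w, hwH⟩ * ⟨rhoZ F ρ, hρH⟩⁻¹) = ⟨o, hoH⟩ * ⟨F e, heH⟩ :=
      Subtype.ext h4
    have h8 := congrArg f h7
    simp only [map_mul, map_inv, h5, h6, hdd, inv_one, one_mul] at h8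
    rw [mul_comm (f ⟨rhoZ F ρ, hρH⟩), mul_assoc, mul_inv_cancel, mul_one] at h8
    exact h8
  have hQ : ∀ x : M, InQ x → ∀ hx : F x ∈ H₁, f ⟨F x, hx⟩ = 1 := by
    have hdw : f ⟨F (dd * w), hQp _ (by decide)⟩ = 1 := by
      rw [hmul dd w (hQp _ (by decide)) (hQp _ (by decide)), hdd, hw, one_mul]
    have aux : ∀ x d : M, InB8 (x * d⁻¹) → ∀ hd : F d ∈ H₁, f ⟨F d, hd⟩ = 1 → ∀ hx : F x ∈ H₁, f ⟨F x, hx⟩ = 1 := by
      intro x d h1 hd h2 hx
      have h3 : F (x * d⁻¹) ∈ H₁ := by rw [map_mul, map_inv]; exact mul_mem hx (inv_mem hd)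
      have e : (⟨F x, hx⟩ : H₁) = ⟨F (x * d⁻¹), h3⟩ * ⟨F d, hd⟩ := by
        apply Subtype.ext
        show F x = F (x * d⁻¹) * F d
        rw [← map_mul, inv_mul_cancel_right]
      rw [e, map_mul, hB8 _ h1, h2, one_mul]
    intro x hx hxH
    rcases Q_word x hx with h1 | h1 | h1 | h1
    · exact hB8 x h1 hxH
    · exact aux x _ h1 _ hdd hxH
    · exact aux x _ h1 _ hw hxH
    · exact aux x _ h1 _ hdw hxH
  refine ⟨f, fun x hx => ⟨fun h3 => ?_, fun h3 => hQ x h3 hx⟩⟩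
  by_contra h4
  have hvH : F (pr U.y U.y') ∈ H₁ := hQp _ (by decide)
  have h5 : InQ (x * pr U.y U.y') := by
    rcases Qs_xor x ((h.mem x).1 hx) with h6 | h6
    · exact h6.1
    · exact absurd h6.1 h4
  have h6 := hQ _ h5 (by rw [map_mul]; exact mul_mem hx hvH)
  rw [hmul x _ hx hvH, h3, one_mul] at h6
  exact hv h6

end Cfsg.Agent.LFourA.AltZ2
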