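import Cfsg.Agent.LFourA.AltZ2

/-!
# Case II: the centralizer of `z`, the subgroup `K = O²(C(z))`
-/

set_option autoImplicit false

namespace Cfsg.Agent.LFourA.AltZ3

open Cfsg.Agent.LFourA.AltModel Cfsg.Agent.LFourA.AltPat Cfsg.Agent.LFourA.AltNil Cfsg.Agent.LFourA.AltNilB
  Cfsg.Agent.LFourA.AltNilC Cfsg.Agent.LFourA.AltEAct Cfsg.Agent.LFourA.OddFree Cfsg.Agent.LFourA.AltZ1
  Cfsg.Agent.LFourA.AltZ2 Subgroup

/-- a Sylow 2-subgroup of a normal subgroup -/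
theorem exists_sylow_normal {G : Type*} [Group G] [Finite G] {H K : Subgroup G} (hKH : K ≤ H)
    (hn : ∀ h ∈ H, ∀ x ∈ K, h * x * h⁻¹ ∈ K) (Q : Sylow 2 H) :
    ∃ R : Sylow 2 K, ∀ g : K, g ∈ R ↔ ∃ q ∈ Q, (q : G) = g := by
  have hN : (K.subgroupOf H).Normal := ⟨fun x hx h => hn h h.2 x hx⟩
  have key : ∀ K' : Subgroup G, K' = (K.subgroupOf H).map H.subtype →
      ∃ R : Sylow 2 K', ∀ g : K', g ∈ R ↔ ∃ q ∈ Q, (q : G) = g := by
    rintro _ rfl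
    exact exists_sylow_map _ Q
  exact key K (map_subgroupOf_eq_of_le hKH).symm

universe u

variable {G : Type u} [Group G] {S : Sylow 2 G} {F : M →* G}

/-- `O²(C(z))` -/
def KK (F : M →* G) : Subgroup G := closure {g | g ∈ CZ F ∧ Odd (orderOf g)}

theorem odd_mem_KK {g : G} (hg : g ∈ CZ F) (ho : Odd (orderOf g)) : g ∈ KK F := subset_closure ⟨hg, ho⟩

theorem KK_le : KK F ≤ CZ F := by
  rw [KK, closure_le]
  exact fun g hg => hg.1

theorem conj_KK {h x : G} (hh : h ∈ CZ F) (hx : x ∈ KK F) : h * x * h⁻¹ ∈ KK F := by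
  induction hx using closure_induction with
  | mem y hy =>
    refine subset_closure ⟨mul_mem (mul_mem hh hy.1) (inv_mem hh), ?_⟩
    rw [show h * y * h⁻¹ = MulAut.conj h y from rfl, MulEquiv.orderOf_eq]
    exact hy.2
  | one => rw [mul_one, mul_inv_cancel]; exact one_mem _
  | mul a b _ _ ha hb =>
    have e : h * (a * b) * h⁻¹ = h * a * h⁻¹ * (h * b * h⁻¹) := by group
    rw [e]; exact mul_mem ha hb
  | inv a _ ha =>
    have e : h * a⁻¹ * h⁻¹ = (h * a * h⁻¹)⁻¹ := by group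
    rw [e]; exact inv_mem ha

theorem B8_gen : ∀ x : M, InB8 x → x = 1 ∨ x = t * sigZ t ∨ x = sigZ (t * sigZ t) ∨ x = t * sigZ t * sigZ (t * sigZ t) ∨
    x = z ∨ x = z * (t * sigZ t) ∨ x = z * sigZ (t * sigZ t) ∨ x = z * (t * sigZ t * sigZ (t * sigZ t)) := by
  decide +kernel

/-- the map `sigZ` as conjugation -/
theorem exists_sig (P : Alt S F) {q q' : M} (h : ∀ x : M, InE x → sigZ (q * sigZ (sigZ x) * q⁻¹) = q' * x * q'⁻¹) :
    ∀ ρ : G, RhoE F ρ → ∀ x, InE x → (F q')⁻¹ * (rhoZ F ρ * F q * (rhoZ F ρ)⁻¹) * F x =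
        F x * ((F q')⁻¹ * (rhoZ F ρ * F q * (rhoZ F ρ)⁻¹)) := by
  intro ρ hρ x hx
  have ha := act_rhoZ hρ
  have ha' : Act F (rhoZ F ρ)⁻¹ (fun x => sigZ (sigZ x)) :=
    ha.inv (fun x hx => ⟨InE_sigZ _ (InE_sigZ _ hx), sigZ_three x hx⟩)
  have h1 : Act F (rhoZ F ρ * F q * (rhoZ F ρ)⁻¹) (fun x => q' * x * q'⁻¹) :=
    ((ha.mul (act_F q)).mul ha').congr (fun x hx => h x hx)
  have h3 : rhoZ F ρ * F q * (rhoZ F ρ)⁻¹ * F x = F q' * F x * (F q')⁻¹ * (rhoZ F ρ * F q * (rhoZ F ρ)⁻¹) := by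
    rw [← map_inv, ← map_mul, ← map_mul, ← (h1 x hx).2]; group
  rw [mul_assoc, h3]; group

variable [Finite G]

theorem KK_le_HOne {P : Alt S F} {H₁ : Subgroup G} {R : Sylow 2 H₁} (h : HOne P H₁ R) : KK F ≤ H₁ := by
  rw [KK, closure_le]
  exact fun g hg => h.odd g hg.1 hg.2

/-- `F(Q) ≤ K` -/
theorem F_mem_KK (P : Alt S F) {x : M} (hx : InQ x) : F x ∈ KK F := by
  obtain ⟨H₁, R, h⟩ := exists_HOne P
  obtain ⟨ρ, hρ⟩ := P.rhoE
  have hz := rhoZ_comm_z hρ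
  have ha := act_rhoZ hρ
  have hρK : rhoZ F ρ ∈ KK F := odd_mem_KK (mem_CZ.2 hz) (odd_rhoZ hρ)
  have hρH : rhoZ F ρ ∈ H₁ := KK_le_HOne h hρK
  -- commutators of `E` and `ρ`
  have h1 : ∀ e, InE e → F (e * sigZ e) ∈ KK F := by
    intro e he
    have h2 : F (e * sigZ e) = F e * rhoZ F ρ * (F e)⁻¹ * (rhoZ F ρ)⁻¹ := by
      have h3 : (F e)⁻¹ = F e := by
        rw [← map_inv]
        congr 1
        exact inv_eq_of_mul_eq_one_left (InE_sq e he)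
      rw [h3, map_mul, ← (ha e he).2]; group
    rw [h2]
    exact mul_mem (conj_KK (F_mem_CZ e) hρK) (inv_mem hρK)
  have ha1 : F (t * sigZ t) ∈ KK F := h1 t InE_t
  have ha2 : F (sigZ (t * sigZ t)) ∈ KK F := by
    rw [← (ha _ (by decide)).2]
    exact mul_mem (mul_mem hρK ha1) (inv_mem hρK)
  have hzK : F z ∈ KK F := by
    obtain ⟨q, hq⟩ : ∃ q : M, z = q * (t * sigZ t) * q⁻¹ * (t * sigZ t)⁻¹ := by decide
    rw [hq, map_mul, map_mul, map_mul, map_inv, map_inv]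
    exact mul_mem (conj_KK (F_mem_CZ q) ha1) (inv_mem ha1)
  have hB8 : ∀ x, InB8 x → F x ∈ KK F := by
    intro x hx
    rcases B8_gen x hx with h | h | h | h | h | h | h | h <;> rw [h]
    · rw [map_one]; exact one_mem _
    · exact ha1
    · exact ha2
    · rw [map_mul]; exact mul_mem ha1 ha2
    · exact hzK
    · rw [map_mul]; exact mul_mem hzK ha1
    · rw [map_mul]; exact mul_mem hzK ha2
    · rw [map_mul F z, map_mul F (t * sigZ t)]; exact mul_mem hzK (mul_mem ha1 ha2)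
  -- the other generators
  have key : ∀ q q' : M, InQ q → InQ q' → (∀ x : M, InE x → sigZ (q * sigZ (sigZ x) * q⁻¹) = q' * x * q'⁻¹) →
      F (q' * q⁻¹) ∈ KK F := by
    intro q q' hq hq' hs
    obtain ⟨o, ho, e, he, h4⟩ := exists_of_centralizes_E P (exists_sig P hs ρ hρ)
    have hoz : o ∈ CZ F := mem_CZ.2 (comm_z_of_mem_CT (OT_le ho))
    have hoK : o ∈ KK F := odd_mem_KK hoz (odd_orderOf P ho)
    have hoH : o ∈ H₁ := KK_le_HOne h hoK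
    have hqH : F q ∈ H₁ := (h.mem q).2 (InQp_of_InQ q hq)
    have hqH' : F q' ∈ H₁ := (h.mem q').2 (InQp_of_InQ q' hq')
    have heH : F e ∈ H₁ := by
      have e1 : F e = o⁻¹ * ((F q')⁻¹ * (rhoZ F ρ * F q * (rhoZ F ρ)⁻¹)) := by rw [h4]; group
      rw [e1]
      exact mul_mem (inv_mem hoH) (mul_mem (inv_mem hqH') (mul_mem (mul_mem hρH hqH) (inv_mem hρH)))
    have heK : F e ∈ KK F := hB8 e (E_Qp_B8 e he ((h.mem e).1 heH))
    -- `F q' o F e = ρ F q ρ⁻¹`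
    have e2 : F (q' * q⁻¹) = (F q' * (o * F e) * (F q')⁻¹)⁻¹ * (rhoZ F ρ * (F q * (rhoZ F ρ)⁻¹ * (F q)⁻¹)) := by
      rw [← h4, map_mul, map_inv]; group
    rw [e2]
    exact mul_mem (inv_mem (conj_KK (F_mem_CZ q') (mul_mem hoK heK))) (mul_mem hρK (conj_KK (F_mem_CZ q) (inv_mem hρK)))
  have hk1 : F (dd * w⁻¹) ∈ KK F := key w dd (by decide) (by decide) sig_w
  have hk2 : F (dd * w * dd⁻¹) ∈ KK F := key dd (dd * w) (by decide) (by decide) sig_dd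
  have hw : F w ∈ KK F := by
    obtain ⟨b, hb, hbe⟩ : ∃ b : M, InB8 b ∧ w = b * (dd * w * dd⁻¹) := ⟨w * (dd * w * dd⁻¹)⁻¹, by decide, by group⟩
    rw [hbe, map_mul]
    exact mul_mem (hB8 b hb) hk2
  have hdd : F dd ∈ KK F := by
    have e : F dd = F (dd * w⁻¹) * F w := by rw [← map_mul, inv_mul_cancel_right]
    rw [e]
    exact mul_mem hk1 hw
  have aux : ∀ x d : M, InB8 (x * d⁻¹) → F d ∈ KK F → F x ∈ KK F := by
    intro x d h1 h2
    have e : F x = F (x * d⁻¹) * F d := by rw [← map_mul, inv_mul_cancel_right]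
    rw [e]
    exact mul_mem (hB8 _ h1) h2
  rcases Q_word x hx with h1 | h1 | h1 | h1
  · exact hB8 x h1
  · exact aux x _ h1 hdd
  · exact aux x _ h1 hw
  · exact aux x _ h1 (by rw [map_mul]; exact mul_mem hdd hw)

/-- `K ∩ F(M) = F(Q)` -/
theorem F_mem_KK_iff (P : Alt S F) {x : M} : F x ∈ KK F ↔ InQ x := by
  refine ⟨fun hx => ?_, F_mem_KK P⟩
  obtain ⟨H₁, R, h⟩ := exists_HOne P
  obtain ⟨f, hf⟩ := exists_f2 P h
  have h1 : ∀ g ∈ KK F, ∃ hg : g ∈ H₁, f ⟨g, hg⟩ = 1 := by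
    intro g hg
    induction hg using closure_induction with
    | mem y hy =>
      exact ⟨h.odd y hy.1 hy.2, eq_one_of_odd f (by rw [orderOf_mk]; exact hy.2)⟩
    | one => exact ⟨one_mem _, map_one f⟩
    | mul a b _ _ ha hb =>
      obtain ⟨ha1, ha2⟩ := ha
      obtain ⟨hb1, hb2⟩ := hb
      refine ⟨mul_mem ha1 hb1, ?_⟩
      have e : (⟨a * b, mul_mem ha1 hb1⟩ : H₁) = ⟨a, ha1⟩ * ⟨b, hb1⟩ := rfl
      rw [e, map_mul, ha2, hb2, one_mul]
    | inv a _ ha =>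
      obtain ⟨ha1, ha2⟩ := ha
      refine ⟨inv_mem ha1, ?_⟩
      have e : (⟨a⁻¹, inv_mem ha1⟩ : H₁) = ⟨a, ha1⟩⁻¹ := rfl
      rw [e, map_inv, ha2, inv_one]
  obtain ⟨h2, h3⟩ := h1 _ hx
  exact (hf x h2).1 h3

/-- the Sylow subgroup of `K` -/
theorem exists_sylow_KK (P : Alt S F) : ∃ R : Sylow 2 (KK F), ∀ g : KK F, g ∈ R ↔ ∃ x, InQ x ∧ F x = g := by
  have hS : (S : Subgroup G) ≤ CZ F := by
    intro g hg
    obtain ⟨x, rfl⟩ := (P.range g).1 hg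
    exact F_mem_CZ x
  obtain ⟨R, hR⟩ := exists_sylow_normal KK_le (fun h hh x hx => conj_KK hh hx) (S.subtype hS)
  refine ⟨R, fun g => ?_⟩
  rw [hR]
  constructor
  · rintro ⟨q, hq, hqg⟩
    obtain ⟨x, hx⟩ := (P.range (q : G)).1 hq
    refine ⟨x, ?_, by rw [hx, hqg]⟩
    rw [← F_mem_KK_iff P, hx, hqg]
    exact g.2
  · rintro ⟨x, -, hx⟩
    exact ⟨⟨F x, F_mem_CZ x⟩, (P.range (F x)).2 ⟨x, rfl⟩, hx⟩

end Cfsg.Agent.LFourA.AltZ3
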