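import Cfsg.Agent.LFourA.AltZ3

/-!
# Case II: the centralizer of `z`, the normalizer of the extraspecial group
-/

set_option autoImplicit false

namespace Cfsg.Agent.LFourA.AltZ4

open Cfsg.Agent.LFourA.AltModel Cfsg.Agent.LFourA.AltPat Cfsg.Agent.LFourA.AltNil Cfsg.Agent.LFourA.AltNilB
  Cfsg.Agent.LFourA.AltNilC Cfsg.Agent.LFourA.AltEAct Cfsg.Agent.LFourA.OddFree Cfsg.Agent.LFourA.AltZ1
  Cfsg.Agent.LFourA.AltZ2 Cfsg.Agent.LFourA.AltZ3 Subgroup

theorem InQ_conj : ∀ g x : M, InQ x → InQ (g * x * g⁻¹) := by decide +kernel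
theorem Q_conj_Q : ∀ g : M, InQ g → ∀ x : M, InQ x → g * x * g⁻¹ = x ∨ g * x * g⁻¹ = z * x := by decide +kernel
theorem Q_w : ∀ x : M, InQ x → x.m = true → (∀ b : M, InQ b → b.m = false → x * b * x⁻¹ = w * b * w⁻¹) →
    InT (x * w⁻¹) := by decide +kernel
theorem InT_Q : ∀ x : M, InT x → InQ x := by decide +kernel
theorem InT_sq : ∀ x : M, InT x → x * x = 1 := by decide +kernel

/-- equality modulo `z` -/
def Sm (x y : M) : Prop := x = y ∨ x = z * y

instance (x y : M) : Decidable (Sm x y) := by unfold Sm; infer_instance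

theorem z_sq : z * z = 1 := by decide
theorem Sm_symm {x y : M} (h : Sm x y) : Sm y x := by
  rcases h with h | h
  · exact Or.inl h.symm
  · refine Or.inr ?_
    rw [h, ← mul_assoc, z_sq, one_mul]
theorem Sm_trans {x y v : M} (h : Sm x y) (h' : Sm y v) : Sm x v := by
  rcases h with rfl | rfl <;> rcases h' with rfl | rfl
  · exact Or.inl rfl
  · exact Or.inr rfl
  · exact Or.inr rfl
  · refine Or.inl ?_
    rw [← mul_assoc, z_sq, one_mul]

theorem PT_classes : ∀ a : M, PT a → ∀ b : M, PT b → ¬ Sm b a → ∀ c : M, PT c → ¬ Sm c a → ¬ Sm c b →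
    (a * b * c = 1 ∨ a * b * c = z) ∧ ∀ d : M, PT d → Sm d a ∨ Sm d b ∨ Sm d c := by decide +kernel

/-- commutation -/
def cm (x y : M) : Bool := decide (x * y = y * x)

theorem cm_mul : ∀ v : M, PT v → ∀ x : M, InQ x → ∀ y : M, InQ y → cm (x * y) v = (cm x v == cm y v) := by
  decide +kernel
theorem cm_three : ∀ a : M, PT a → ∀ b : M, PT b → ¬ Sm b a → ∀ c : M, PT c → ¬ Sm c a → ¬ Sm c b →
    ∀ x : M, InQ x → cm x c = (cm x a == cm x b) := by decide +kernel
theorem cm_Sm : ∀ v : M, PT v → ∀ x : M, InQ x → cm x (z * v) = cm x v := by decide +kernel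
theorem cent_B8 : ∀ v : M, PT v → ¬ Sm v t → ∀ x : M, InQ x → cm x t = true → cm x v = true → InB8 x := by
  decide +kernel

universe u

variable {G : Type u} [Group G] {S : Sylow 2 G} {F : M →* G}

/-- `n` normalizes `F(Q)` -/
def NQ (F : M →* G) (n : G) : Prop := ∀ x, InQ x → ∃ x', InQ x' ∧ F x' = n * F x * n⁻¹

theorem NQ.mul {n m : G} (hn : NQ F n) (hm : NQ F m) : NQ F (n * m) := by
  intro x hx
  obtain ⟨x', hx', e⟩ := hm x hx
  obtain ⟨x'', hx'', e'⟩ := hn x' hx'
  exact ⟨x'', hx'', by rw [e', e]; group⟩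

theorem NQ.one : NQ F (1 : G) := fun x hx => ⟨x, hx, by group⟩

theorem NQ.pow {n : G} (hn : NQ F n) (k : ℕ) : NQ F (n ^ k) := by
  induction k with
  | zero => rw [pow_zero]; exact NQ.one
  | succ k ih => rw [pow_succ]; exact ih.mul hn

theorem NQ_F (g : M) : NQ F (F g) := fun x hx => ⟨g * x * g⁻¹, InQ_conj g x hx, by simp only [map_mul, map_inv]⟩

theorem NQ.inv [Finite G] {n : G} (hn : NQ F n) : NQ F n⁻¹ := by
  have h : n⁻¹ = n ^ (orderOf n - 1) := by
    have h1 : 0 < orderOf n := orderOf_pos n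
    apply inv_eq_of_mul_eq_one_left
    rw [← pow_succ, Nat.sub_add_cancel h1, pow_orderOf_eq_one]
  rw [h]
  exact hn.pow _

theorem conj_Sm (P : Alt S F) {n : G} (hn : n ∈ CZ F) {x y x' y' : M} (hx : F x' = n * F x * n⁻¹)
    (hy : F y' = n * F y * n⁻¹) : Sm x' y' ↔ Sm x y := by
  have h1 : F (z * y') = n * F (z * y) * n⁻¹ := (conj_z hn hy.symm).symm
  constructor
  · rintro (h | h)
    · left
      apply P.inj
      rw [h, hy] at hx
      exact (mul_left_cancel (mul_right_cancel hx)).symm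
    · right
      apply P.inj
      rw [h, h1] at hx
      exact (mul_left_cancel (mul_right_cancel hx)).symm
  · rintro (h | h)
    · left
      apply P.inj
      rw [hx, hy, h]
    · right
      apply P.inj
      rw [hx, h1, h]

theorem conj_cm (P : Alt S F) {n : G} {x y x' y' : M} (hx : F x' = n * F x * n⁻¹)
    (hy : F y' = n * F y * n⁻¹) : cm x' y' = cm x y := by
  have h1 : x' * y' = y' * x' ↔ x * y = y * x := NB.rel_comm_iff P hx hy
  unfold cm
  simp only [h1]

/-- the elements of `{t, t'}` -/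
theorem fix_pow {n : G} (hn : n ∈ CZ F) (h : n * F t * n⁻¹ = F t ∨ n * F t * n⁻¹ = F t') (k : ℕ) :
    n ^ k * F t * (n ^ k)⁻¹ = F t ∨ n ^ k * F t * (n ^ k)⁻¹ = F t' := by
  have ht : F t' = F z * F t := by rw [← map_mul]; congr 1
  have ht2 : F t = F z * F t' := by rw [← map_mul]; congr 1
  have hz := mem_CZ.1 hn
  induction k with
  | zero => left; rw [pow_zero]; group
  | succ k ih =>
    have e : n ^ (k + 1) * F t * (n ^ (k + 1))⁻¹ = n * (n ^ k * F t * (n ^ k)⁻¹) * n⁻¹ := by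
      rw [pow_succ']; group
    rw [e]
    rcases ih with ih | ih <;> rw [ih]
    · exact h
    · have e2 : n * F t' * n⁻¹ = F z * (n * F t * n⁻¹) := by rw [ht, ← mul_assoc n, hz]; group
      rw [e2]
      rcases h with h | h <;> rw [h]
      · exact Or.inr ht.symm
      · exact Or.inl ht2.symm

variable [Finite G]

/-- elements of odd order normalizing `F(Q)` and `{t, t'}` centralize `F(Q)` -/
theorem comm_of_fix (P : Alt S F) {n : G} (hn : n ∈ CZ F) (ho : Odd (orderOf n)) (hN : NQ F n)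
    (h : n * F t * n⁻¹ = F t ∨ n * F t * n⁻¹ = F t') (x : M) (hx : InQ x) : n * F x = F x * n := by
  have hz := mem_CZ.1 hn
  obtain ⟨k, hk⟩ := ho
  have hn1 : n ^ (2 * k + 1) = 1 := by rw [← hk, pow_orderOf_eq_one]
  -- `n` centralizes `t`
  have h1 : n * F t * n⁻¹ = F t := by
    rcases h with h | h
    · exact h
    · have h2 : n ^ 2 * F t * (n ^ 2)⁻¹ = F t := by
        have e : n ^ 2 * F t * (n ^ 2)⁻¹ = n * (n * F t * n⁻¹) * n⁻¹ := by rw [pow_two]; group
        have e2 : n * F t' * n⁻¹ = F z * (n * F t * n⁻¹) := by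
          rw [show F t' = F z * F t by rw [← map_mul]; congr 1, ← mul_assoc n, hz]; group
        rw [e, h, e2, h, ← map_mul]; congr 1
      have h3 : Commute (n ^ 2) (F t) := by
        have : n ^ 2 * F t = F t * n ^ 2 := by
          calc n ^ 2 * F t = n ^ 2 * F t * (n ^ 2)⁻¹ * n ^ 2 := by group
            _ = F t * n ^ 2 := by rw [h2]
        exact this
      have h4 := h3.pow_left (k + 1)
      have e3 : (n ^ 2) ^ (k + 1) = n := by
        rw [← pow_mul, show 2 * (k + 1) = 2 * k + 1 + 1 by ring, pow_succ, hn1, one_mul]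
      rw [e3] at h4
      rw [h4.eq, mul_inv_cancel_right]
  have hC : n ∈ CT F := by
    have h3 : n * F t = F t * n := by
      calc n * F t = n * F t * n⁻¹ * n := by group
        _ = F t * n := by rw [h1]
    refine mem_CT.2 ⟨h3, ?_⟩
    have e : t' = z * t := by decide
    rw [e, map_mul, ← mul_assoc, hz, mul_assoc, h3, mul_assoc]
  have hO : n ∈ OT F := mem_OT_of_odd hC (by rw [hk]; exact ⟨k, rfl⟩)
  -- `n` centralizes the part in the base group
  have h2 : ∀ b : M, InQ b → b.m = false → n * F b = F b * n := by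
    intro b hb hbm
    obtain ⟨b', hb', e⟩ := hN b hb
    have h3 : F (b' * b⁻¹) = n * (F b * n⁻¹ * (F b)⁻¹) := by rw [map_mul, e, map_inv]; group
    have h4 : F (b' * b⁻¹) ∈ OT F := by
      rw [h3]
      exact mul_mem hO (conj_OT (F_mem_CT hbm) (inv_mem hO))
    have h5 := mul_inv_eq_one.1 (eq_one_of_F_mem_OT P h4)
    rw [h5] at e
    calc n * F b = n * F b * n⁻¹ * n := by group
      _ = F b * n := by rw [← e]
  -- the element `w`
  obtain ⟨x', hx', hw⟩ := hN w (by decide)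
  have hm : x'.m = true := by
    by_contra hm
    have hm' : x'.m = false := by simpa using hm
    have h3 := h2 x' hx' hm'
    have h4 : F w = F x' := by
      have e : F w = n⁻¹ * F x' * n := by rw [hw]; group
      rw [e, mul_assoc, ← h3, inv_mul_cancel_left]
    rw [← P.inj h4] at hm'
    exact absurd hm' (by decide)
  have hτ : InT (x' * w⁻¹) := by
    refine Q_w x' hx' hm (fun b hb hbm => ?_)
    apply P.inj
    have h3 : w * b * w⁻¹ ∈ Bsub := conj_w_m b hbm
    have h4 := h2 _ (InQ_conj w b hb) h3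
    have h5 := h2 b hb hbm
    have e1 : n * F (w * b * w⁻¹) * n⁻¹ = F (w * b * w⁻¹) := by rw [h4, mul_inv_cancel_right]
    have e2 : n * F b * n⁻¹ = F b := by rw [h5, mul_inv_cancel_right]
    calc F (x' * b * x'⁻¹) = F x' * F b * (F x')⁻¹ := by simp only [map_mul, map_inv]
      _ = n * F w * n⁻¹ * (n * F b * n⁻¹) * (n * F w * n⁻¹)⁻¹ := by rw [hw, e2]
      _ = n * F (w * b * w⁻¹) * n⁻¹ := by simp only [map_mul, map_inv]; group
      _ = _ := e1
  obtain ⟨τ, hτe⟩ : ∃ τ, τ = x' * w⁻¹ := ⟨_, rfl⟩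
  rw [← hτe] at hτ
  have hxw : x' = τ * w := by rw [hτe]; group
  have hτc : n * F τ = F τ * n := h2 τ (InT_Q τ hτ) (by rcases hτ with rfl | rfl | rfl | rfl <;> rfl)
  have hpow : ∀ j : ℕ, n ^ j * F w * (n ^ j)⁻¹ = F (τ ^ j * w) := by
    intro j
    induction j with
    | zero => rw [pow_zero, pow_zero]; simp
    | succ j ih =>
      have e : n ^ (j + 1) * F w * (n ^ (j + 1))⁻¹ = n * (n ^ j * F w * (n ^ j)⁻¹) * n⁻¹ := by
        rw [pow_succ']; group
      have e2 : n * F (τ ^ j) = F (τ ^ j) * n := by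
        rw [map_pow]
        exact (show Commute n (F τ) from hτc).pow_right j
      rw [e, ih, map_mul, ← mul_assoc, e2, mul_assoc, mul_assoc, ← mul_assoc n, ← hw, hxw, ← map_mul, pow_succ,
        mul_assoc]
  have hτ1 : τ = 1 := by
    have h3 := hpow (2 * k + 1)
    rw [hn1, pow_succ, pow_mul, pow_two, InT_sq τ hτ, one_pow, one_mul, one_mul] at h3
    have h4 : F w = F (τ * w) := by rw [← h3]; group
    have h5 := P.inj h4
    exact (mul_eq_right.1 h5.symm)
  have hcw : n * F w = F w * n := by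
    rw [hxw, hτ1, one_mul] at hw
    calc n * F w = n * F w * n⁻¹ * n := by group
      _ = F w * n := by rw [← hw]
  -- conclusion
  by_cases hxm : x.m = false
  · exact h2 x hx hxm
  · have hxm' : x.m = true := by simpa using hxm
    have hmm : ∀ x : M, x.m = true → (x * w⁻¹).m = false := by decide +kernel
    have h3 := h2 (x * w⁻¹) (InQ_mul _ _ hx (by decide)) (hmm x hxm')
    have e : F x = F (x * w⁻¹) * F w := by rw [← map_mul, inv_mul_cancel_right]
    rw [e, ← mul_assoc, h3, mul_assoc, hcw, mul_assoc]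

/-- decomposition of elements of `K` normalizing `F(Q)` -/
theorem exists_odd (P : Alt S F) {n : G} (hn : n ∈ KK F) (hN : NQ F n) :
    ∃ (j : ℕ) (s : M), InQ s ∧ Odd (orderOf (n ^ j)) ∧ n = n ^ j * F s := by
  obtain ⟨R, hR⟩ := exists_sylow_KK P
  have h1 : (⟨n, hn⟩ : KK F) ∈ normalizer (R : Set (KK F)) := by
    show (⟨n, hn⟩ : KK F) ∈ normalizer ((R : Subgroup (KK F)) : Set (KK F))
    rw [mem_normalizer_iff]
    intro h
    constructor
    · intro hh
      obtain ⟨x, hx, hxe⟩ := (hR h).1 hh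
      obtain ⟨x', hx', e⟩ := hN x hx
      exact (hR _).2 ⟨x', hx', by rw [e, hxe]; rfl⟩
    · intro hh
      obtain ⟨x, hx, hxe⟩ := (hR _).1 hh
      obtain ⟨x', hx', e⟩ := hN.inv x hx
      refine (hR _).2 ⟨x', hx', ?_⟩
      rw [e, hxe]
      show n⁻¹ * (n * (h : G) * n⁻¹) * n⁻¹⁻¹ = h
      group
  obtain ⟨j, ho, hs⟩ := exists_odd_part R h1
  obtain ⟨s, hsQ, hse⟩ := (hR _).1 hs
  refine ⟨j, s, hsQ, ?_, ?_⟩
  · rw [← orderOf_coe] at ho
    exact ho
  · rw [hse]
    show n = n ^ j * ((n ^ j)⁻¹ * n)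
    group

/-- elements of `K` normalizing `F(Q)` and `{t, t'}` act trivially modulo `z` -/
theorem triv_of_fix (P : Alt S F) {n : G} (hn : n ∈ KK F) (hN : NQ F n)
    (h : n * F t * n⁻¹ = F t ∨ n * F t * n⁻¹ = F t') (x : M) (hx : InQ x) :
    n * F x * n⁻¹ = F x ∨ n * F x * n⁻¹ = F (z * x) := by
  obtain ⟨j, s, hs, ho, e⟩ := exists_odd P hn hN
  have hnz := KK_le hn
  have h1 := comm_of_fix P (pow_mem hnz j) ho (hN.pow j) (fix_pow hnz h j)
  obtain ⟨m, hm⟩ : ∃ m, m = n ^ j := ⟨_, rfl⟩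
  rw [← hm] at h1 e
  have h2 : n * F x * n⁻¹ = F (s * x * s⁻¹) := by
    have h3 := h1 _ (InQ_conj s x hx)
    have e2 : n * F x * n⁻¹ = m * F (s * x * s⁻¹) * m⁻¹ := by
      rw [e]; simp only [map_mul, map_inv]; group
    rw [e2, h3, mul_inv_cancel_right]
  rw [h2]
  rcases Q_conj_Q s hs x hx with h4 | h4
  · exact Or.inl (by rw [h4])
  · exact Or.inr (by rw [h4])

end Cfsg.Agent.LFourA.AltZ4
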