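import Cfsg.Agent.LFourA.AltZ4
import Cfsg.Agent.LFourA.AltFive

/-!
# Case II: the centralizer of `z`, the quotient of `K` by `⟨z⟩`
-/

set_option autoImplicit false

namespace Cfsg.Agent.LFourA.AltZ5

open Cfsg.Agent.LFourA.AltModel Cfsg.Agent.LFourA.AltPat Cfsg.Agent.LFourA.AltNil Cfsg.Agent.LFourA.AltNilB
  Cfsg.Agent.LFourA.AltNilC Cfsg.Agent.LFourA.AltEAct Cfsg.Agent.LFourA.OddFree Cfsg.Agent.LFourA.AltZ1
  Cfsg.Agent.LFourA.AltZ2 Cfsg.Agent.LFourA.AltZ3 Cfsg.Agent.LFourA.AltZ4 Cfsg.Agent.LFourA.AltFive Subgroup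

theorem Q_comm : ∀ x : M, InQ x → ∀ y : M, InQ y → Sm (x * y) (y * x) := by decide +kernel
theorem Q_sq : ∀ x : M, InQ x → Sm (x * x) 1 := by decide +kernel
theorem PT_cases : ∀ a : M, PT a → ∀ b : M, PT b → ¬ Sm b a → ∀ c : M, PT c → ¬ Sm c a → ¬ Sm c b →
    ∀ d : M, PT d → Sm d a ∨ Sm d b ∨ Sm d c := fun a ha b hb h1 c hc h2 h3 => (PT_classes a ha b hb h1 c hc h2 h3).2

universe u

variable {G : Type u} [Group G] {S : Sylow 2 G} {F : M →* G}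

/-- `{1, z}` as a subgroup of `K` -/
def ZK (F : M →* G) : Subgroup (KK F) where
  carrier := {k | (k : G) = 1 ∨ (k : G) = F z}
  one_mem' := Or.inl rfl
  mul_mem' {a b} ha hb := by
    have hz : F z * F z = 1 := by rw [← map_mul, z_sq, map_one]
    show (a : G) * b = 1 ∨ (a : G) * b = F z
    rcases ha with ha | ha <;> rcases hb with hb | hb <;> rw [ha, hb]
    · left; rw [one_mul]
    · right; rw [one_mul]
    · right; rw [mul_one]
    · left; exact hz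
  inv_mem' {a} ha := by
    have hz : F z * F z = 1 := by rw [← map_mul, z_sq, map_one]
    show (a : G)⁻¹ = 1 ∨ (a : G)⁻¹ = F z
    rcases ha with ha | ha <;> rw [ha]
    · left; rw [inv_one]
    · right; exact inv_eq_of_mul_eq_one_left hz

theorem mem_ZK {k : KK F} : k ∈ ZK F ↔ (k : G) = 1 ∨ (k : G) = F z := Iff.rfl

theorem comm_ZK {k : KK F} (hk : k ∈ ZK F) (g : KK F) : g * k = k * g := by
  apply Subtype.ext
  show (g : G) * k = k * g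
  rcases mem_ZK.1 hk with h | h <;> rw [h]
  · rw [mul_one, one_mul]
  · exact mem_CZ.1 (KK_le g.2)

instance : (ZK F).Normal := ⟨fun k hk g => by rwa [comm_ZK hk g, mul_inv_cancel_right]⟩

/-- `K / ⟨z⟩` -/
abbrev XK (F : M →* G) : Type u := KK F ⧸ ZK F

/-- the quotient map -/
abbrev pi (F : M →* G) : KK F →* XK F := QuotientGroup.mk' (ZK F)

theorem pi_eq_iff {a b : KK F} : pi F a = pi F b ↔ (b : G) = a ∨ (b : G) = F z * a := by
  rw [QuotientGroup.mk'_apply, QuotientGroup.mk'_apply, QuotientGroup.eq, mem_ZK]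
  have h1 : ((a⁻¹ * b : KK F) : G) = (a : G)⁻¹ * b := rfl
  rw [h1]
  have hz := mem_CZ.1 (KK_le a.2)
  constructor
  · rintro (h | h)
    · left; exact (inv_mul_eq_one.1 h).symm
    · right; rw [← hz, ← h, mul_inv_cancel_left]
  · rintro (h | h)
    · left; rw [h, inv_mul_cancel]
    · right; rw [h, ← hz, inv_mul_cancel_left]

theorem pi_F (P : Alt S F) {a b : KK F} {x y : M} (ha : F x = a) (hb : F y = b) : pi F a = pi F b ↔ Sm y x := by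
  rw [pi_eq_iff, ← ha, ← hb, ← map_mul]
  exact ⟨fun h => h.imp (fun h => P.inj h) (fun h => P.inj h), fun h => h.imp (fun h => by rw [h]) (fun h => by rw [h])⟩

variable [Finite G]

/-- the Sylow subgroup of the quotient -/
theorem exists_PX (P : Alt S F) : ∃ PX : Sylow 2 (XK F),
    ∀ y : XK F, y ∈ PX ↔ ∃ (x : M) (k : KK F), InQ x ∧ F x = k ∧ pi F k = y := by
  have h2 : Fact (Nat.Prime 2) := ⟨Nat.prime_two⟩
  obtain ⟨R, hR⟩ := exists_sylow_KK P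
  have hs : Function.Surjective (pi F) := QuotientGroup.mk'_surjective _
  refine ⟨R.mapSurjective hs, fun y => ?_⟩
  have h1 : y ∈ R.mapSurjective hs ↔ ∃ k ∈ R, pi F k = y := Iff.rfl
  rw [h1]
  constructor
  · rintro ⟨k, hk, e⟩
    obtain ⟨x, hx, hxk⟩ := (hR k).1 hk
    exact ⟨x, k, hx, hxk, e⟩
  · rintro ⟨x, k, hx, hxk, e⟩
    exact ⟨k, (hR k).2 ⟨x, hx, hxk⟩, e⟩

/-- an element normalizing the Sylow subgroup of the quotient -/
theorem NQ_of_normalizer (P : Alt S F) {PX : Sylow 2 (XK F)}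
    (hPX : ∀ y : XK F, y ∈ PX ↔ ∃ (x : M) (k : KK F), InQ x ∧ F x = k ∧ pi F k = y) {n : KK F}
    (hn : pi F n ∈ normalizer (PX : Set (XK F))) : NQ F (n : G) := by
  change pi F n ∈ normalizer ((PX : Subgroup (XK F)) : Set (XK F)) at hn
  rw [mem_normalizer_iff] at hn
  intro x hx
  have h1 := (hn (pi F ⟨F x, F_mem_KK P hx⟩)).1 ((hPX _).2 ⟨x, _, hx, rfl, rfl⟩)
  rw [← map_inv, ← map_mul, ← map_mul] at h1
  obtain ⟨x', k, hx', hk, e⟩ := (hPX _).1 h1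
  rcases pi_eq_iff.1 e with h2 | h2
  · exact ⟨x', hx', by rw [hk, ← h2]; rfl⟩
  · refine ⟨z * x', InQ_mul _ _ (by decide) hx', ?_⟩
    rw [map_mul, hk, ← h2]; rfl

/-- the 3-element of the normalizer -/
structure RhoQ (F : M →* G) (ρ : G) : Prop where
  mem : ρ ∈ KK F
  odd : Odd (orderOf ρ)
  nor : NQ F ρ
  mov : ∀ τ : M, F τ = ρ * F t * ρ⁻¹ → ¬ Sm τ t

theorem exists_RhoQ (P : Alt S F) : ∃ ρ : G, RhoQ F ρ := by
  have h2 : Fact (Nat.Prime 2) := ⟨Nat.prime_two⟩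
  obtain ⟨PX, hPX⟩ := exists_PX P
  obtain ⟨ρ, hρ⟩ := P.rhoE
  have ha := act_rhoZ hρ
  have hρK : rhoZ F ρ ∈ KK F := odd_mem_KK (mem_CZ.2 (rhoZ_comm_z hρ)) (odd_rhoZ hρ)
  have htQ : InQ t := by decide
  have hsQ : InQ (sigZ t) := by decide
  have hcomm : IsMulCommutative PX := by
    refine ⟨⟨fun x y => ?_⟩⟩
    obtain ⟨a, k, hq, hk, e⟩ := (hPX _).1 x.2
    obtain ⟨a', k', hq', hk', e'⟩ := (hPX _).1 y.2
    apply Subtype.ext
    show (x : XK F) * y = y * x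
    rw [← e, ← e', ← map_mul, ← map_mul, pi_F P (x := a * a') (y := a' * a)]
    · exact Q_comm _ hq' _ hq
    · rw [map_mul, hk, hk']; rfl
    · rw [map_mul, hk, hk']; rfl
  obtain ⟨n, hn, e⟩ := Sylow.conj_eq_normalizer_conj_of_mem (P := PX) (pi F ⟨F t, F_mem_KK P htQ⟩)
    (pi F ⟨rhoZ F ρ, hρK⟩)⁻¹ ((hPX _).2 ⟨t, _, htQ, rfl, rfl⟩) (by
      rw [inv_inv, ← map_inv, ← map_mul, ← map_mul]
      exact (hPX _).2 ⟨sigZ t, _, hsQ, ((ha t InE_t).2).symm, rfl⟩)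
  rw [inv_inv, ← map_inv, ← map_mul, ← map_mul] at e
  obtain ⟨m, hm⟩ := QuotientGroup.mk'_surjective (ZK F) n⁻¹
  have hmN : pi F m ∈ normalizer (PX : Set (XK F)) := by
    change pi F m = n⁻¹ at hm
    rw [hm]; exact inv_mem hn
  have hNQ := NQ_of_normalizer P hPX hmN
  -- the action on `t`
  have hmt : ∃ τ : M, F τ = m * F t * (m : G)⁻¹ ∧ ¬ Sm τ t := by
    obtain ⟨τ, -, hτ⟩ := hNQ t htQ
    refine ⟨τ, hτ, fun h => ?_⟩
    have h3 : pi F (m * ⟨F t, F_mem_KK P htQ⟩ * m⁻¹) = pi F (⟨rhoZ F ρ, hρK⟩ * ⟨F t, F_mem_KK P htQ⟩ * ⟨rhoZ F ρ, hρK⟩⁻¹) := by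
      rw [e, map_mul, map_mul, map_inv]
      change (QuotientGroup.mk' (ZK F)) m * _ * ((QuotientGroup.mk' (ZK F)) m)⁻¹ = _
      rw [hm, inv_inv]
    rw [pi_F P (x := τ) (y := sigZ t) (by rw [hτ]; rfl) ((ha t InE_t).2).symm] at h3
    have h4 : ¬ Sm (sigZ t) t := by decide
    exact h4 (Sm_trans h3 h)
  obtain ⟨τ, hτ, hτt⟩ := hmt
  obtain ⟨j, s, hs, ho, e2⟩ := exists_odd P m.2 hNQ
  refine ⟨(m : G) ^ j, pow_mem m.2 j, ho, hNQ.pow j, fun τ' hτ' h => ?_⟩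
  -- `m = m^j F s`
  have h5 : F τ = (m : G) ^ j * F (s * t * s⁻¹) * ((m : G) ^ j)⁻¹ := by
    rw [hτ]
    conv_lhs => rw [e2]
    simp only [map_mul, map_inv]; group
  have h6 := (conj_Sm P (pow_mem (KK_le m.2) j) h5 hτ').2 (Q_conj_Q s hs t htQ)
  exact hτt (Sm_trans h6 h)

/-- the four images of `t` under the powers of `ρ` -/
theorem RhoQ.cyc (P : Alt S F) {ρ : G} (h : RhoQ F ρ) : ∃ a b : M, F a = ρ * F t * ρ⁻¹ ∧ F b = ρ * F a * ρ⁻¹ ∧
    PT a ∧ PT b ∧ ¬ Sm a t ∧ ¬ Sm b t ∧ ¬ Sm b a ∧ (∀ c : M, F c = ρ * F b * ρ⁻¹ → c = t) ∧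
    ∀ x : M, InQ x → ρ ^ 3 * F x = F x * ρ ^ 3 := by
  have hz := KK_le h.mem
  obtain ⟨k, hk⟩ := h.odd
  have hn1 : ρ ^ (2 * k + 1) = 1 := by rw [← hk, pow_orderOf_eq_one]
  obtain ⟨a, haQ, ha⟩ := h.nor t (by decide)
  obtain ⟨b, hbQ, hb⟩ := h.nor a haQ
  obtain ⟨c, hcQ, hc⟩ := h.nor b hbQ
  have hPa : PT a := PT_of_conj P hz ha.symm (by decide)
  have hPb : PT b := PT_of_conj P hz hb.symm hPa
  have hPc : PT c := PT_of_conj P hz hc.symm hPb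
  have h1 := h.mov a ha
  have h2 : ¬ Sm b a := fun h3 => h1 ((conj_Sm P hz hb ha).1 h3)
  have h3 : ¬ Sm b t := by
    intro h4
    have e : ρ ^ 2 * F t * (ρ ^ 2)⁻¹ = F b := by rw [hb, ha, pow_two]; group
    have h5 := comm_of_fix P (pow_mem hz 2) (h.odd.of_dvd_nat (orderOf_pow_dvd 2)) (h.nor.pow 2) (by
      rw [e]
      rcases h4 with h4 | h4
      · exact Or.inl (by rw [h4])
      · exact Or.inr (by rw [h4]; congr 1)) t (by decide)
    have h6 := (show Commute (ρ ^ 2) (F t) from h5).pow_left (k + 1)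
    have e3 : (ρ ^ 2) ^ (k + 1) = ρ := by
      rw [← pow_mul, show 2 * (k + 1) = 2 * k + 1 + 1 by ring, pow_succ, hn1, one_mul]
    rw [e3] at h6
    rw [h6.eq, mul_inv_cancel_right] at ha
    exact h1 (Or.inl (P.inj ha))
  have hcb : ¬ Sm c b := fun h4 => h2 ((conj_Sm P hz hc hb).1 h4)
  have hca : ¬ Sm c a := fun h4 => h3 ((conj_Sm P hz hc ha).1 h4)
  have hct : Sm c t := by
    rcases PT_cases t (by decide) a hPa h1 b hPb h3 h2 c hPc with h4 | h4 | h4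
    · exact h4
    · exact absurd h4 hca
    · exact absurd h4 hcb
  have e : ρ ^ 3 * F t * (ρ ^ 3)⁻¹ = F c := by rw [hc, hb, ha, pow_succ, pow_two]; group
  have h5 := comm_of_fix P (pow_mem hz 3) (h.odd.of_dvd_nat (orderOf_pow_dvd 3)) (h.nor.pow 3) (by
      rw [e]
      rcases hct with h4 | h4
      · exact Or.inl (by rw [h4])
      · exact Or.inr (by rw [h4]; congr 1))
  refine ⟨a, b, ha, hb, hPa, hPb, h1, h3, h2, fun c' hc' => ?_, h5⟩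
  apply P.inj
  rw [hc', ← hc, ← e, h5 t (by decide), mul_inv_cancel_right]

/-- `ρ` acts without fixed points modulo `z` -/
theorem RhoQ.fpf (P : Alt S F) {ρ : G} (h : RhoQ F ρ) {x x₁ x₂ : M} (hx : InQ x) (h1 : F x₁ = ρ * F x * ρ⁻¹)
    (h2 : F x₂ = ρ * F x₁ * ρ⁻¹) (hx₁ : InQ x₁) (hx₂ : InQ x₂) : Sm (x * x₁ * x₂) 1 := by
  have hz := KK_le h.mem
  obtain ⟨a, b, ha, hb, hPa, hPb, hat, hbt, hba, hc, h3⟩ := h.cyc P
  have hPt : PT t := by decide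
  have htQ : InQ t := by decide
  have hbt' : F t = ρ * F b * ρ⁻¹ := by
    obtain ⟨c, -, hcc⟩ := h.nor b (PT_InQ b hPb)
    rw [← hc c hcc, hcc]
  -- commutation symbols
  have c1 : cm x₁ a = cm x t := conj_cm P h1 ha
  have c2 : cm x₂ b = cm x₁ a := conj_cm P h2 hb
  have c3 : cm x₁ b = cm x a := conj_cm P h1 hb
  have c4 : cm x₂ t = cm x₁ b := conj_cm P h2 hbt'
  have c5 : cm x₁ t = cm x b := conj_cm P h1 hbt'
  have c6 : cm x₂ a = cm x₁ t := conj_cm P h2 ha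
  have c7 := cm_three t hPt a hPa hat b hPb hbt hba x hx
  have hN : InQ (x * x₁ * x₂) := InQ_mul _ _ (InQ_mul _ _ hx hx₁) hx₂
  have d1 : cm (x * x₁ * x₂) t = true := by
    rw [cm_mul t hPt _ (InQ_mul _ _ hx hx₁) _ hx₂, cm_mul t hPt _ hx _ hx₁, c4, c3, c5, c7]
    generalize cm x t = p
    generalize cm x a = q
    revert p q; decide
  have d2 : cm (x * x₁ * x₂) a = true := by
    rw [cm_mul a hPa _ (InQ_mul _ _ hx hx₁) _ hx₂, cm_mul a hPa _ hx _ hx₁, c1, c6, c5, c7]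
    generalize cm x t = p
    generalize cm x a = q
    revert p q; decide
  have hB := cent_B8 a hPa hat _ hN d1 d2
  -- the image of the product
  have e1 : F (x₁ * x₂ * x) = ρ * F (x * x₁ * x₂) * ρ⁻¹ := by
    have h4 : F x = ρ * F x₂ * ρ⁻¹ := by
      have h5 := h3 x hx
      have h6 : ρ * F x₂ * ρ⁻¹ = ρ ^ 3 * F x * (ρ ^ 3)⁻¹ := by rw [h2, h1, pow_succ, pow_two]; group
      rw [h6, h5, mul_inv_cancel_right]
    calc F (x₁ * x₂ * x) = F x₁ * F x₂ * F x := by rw [map_mul, map_mul]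
      _ = (ρ * F x * ρ⁻¹) * (ρ * F x₁ * ρ⁻¹) * (ρ * F x₂ * ρ⁻¹) := by rw [← h1, ← h2, ← h4]
      _ = ρ * (F x * F x₁ * F x₂) * ρ⁻¹ := by group
      _ = _ := by rw [map_mul, map_mul]
  have e2 : Sm (x₁ * x₂ * x) (x * x₁ * x₂) := by
    have h4 := Q_conj_Q x⁻¹ (InQ_inv _ hx) _ hN
    have e3 : x⁻¹ * (x * x₁ * x₂) * x⁻¹⁻¹ = x₁ * x₂ * x := by group
    rw [e3] at h4
    exact h4
  obtain ⟨N, hNe⟩ : ∃ N, N = x * x₁ * x₂ := ⟨_, rfl⟩
  rw [← hNe] at hB e1 e2 ⊢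
  rcases hB with h4 | h4 | h4
  · exact Or.inl h4
  · exact Or.inr (by rw [h4]; rfl)
  · exfalso
    obtain ⟨N', hNe'⟩ : ∃ N', N' = x₁ * x₂ * x := ⟨_, rfl⟩
    rw [← hNe'] at e1 e2
    rcases PT_cases t hPt a hPa hat b hPb hbt hba N h4 with h5 | h5 | h5
    · exact hat (Sm_trans (Sm_symm ((conj_Sm P hz e1 ha).2 h5)) (Sm_trans e2 h5))
    · exact hba (Sm_trans (Sm_symm ((conj_Sm P hz e1 hb).2 h5)) (Sm_trans e2 h5))
    · exact hbt (Sm_symm (Sm_trans (Sm_symm ((conj_Sm P hz e1 hbt').2 h5)) (Sm_trans e2 h5)))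

end Cfsg.Agent.LFourA.AltZ5
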