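import Cfsg.Agent.LFourA.AltZ5

/-!
# Case II: the centralizer of `z`, `F(Q) O(C(z))` is normal in `C(z)`
-/

set_option autoImplicit false

namespace Cfsg.Agent.LFourA.AltZ6

open Cfsg.Agent.LFourA.AltModel Cfsg.Agent.LFourA.AltPat Cfsg.Agent.LFourA.AltNil Cfsg.Agent.LFourA.AltNilB
  Cfsg.Agent.LFourA.AltNilC Cfsg.Agent.LFourA.AltEAct Cfsg.Agent.LFourA.OddFree Cfsg.Agent.LFourA.AltZ1
  Cfsg.Agent.LFourA.AltZ2 Cfsg.Agent.LFourA.AltZ3 Cfsg.Agent.LFourA.AltZ4 Cfsg.Agent.LFourA.AltZ5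
  Cfsg.Agent.LFourA.AltFive Subgroup

universe u

/-- the odd core of a normal subgroup of a subgroup -/
theorem oddCore_map_le {G : Type*} [Group G] [Finite G] {H K : Subgroup G} (hKH : K ≤ H)
    (hn : ∀ h ∈ H, ∀ x ∈ K, h * x * h⁻¹ ∈ K) :
    (Cfsg.oddCore K).map K.subtype ≤ (Cfsg.oddCore H).map H.subtype := by
  have hN : (K.subgroupOf H).Normal := ⟨fun x hx h => hn h h.2 x hx⟩
  let e : K.subgroupOf H ≃* K := subgroupOfEquivOfLe hKH
  have h1 := Cfsg.Agent.Lib.Cores.map_equiv_pPrimeCore e 2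
  have h2 := Cfsg.Agent.Lib.Cores.map_subtype_pPrimeCore (G := H) 2 (N := K.subgroupOf H) hN
  rintro _ ⟨x, hx, rfl⟩
  change x ∈ Cfsg.pPrimeCore 2 K at hx
  rw [← h1] at hx
  obtain ⟨y, hy, hyx⟩ := hx
  have h3 : (K.subgroupOf H).subtype y ∈ (Cfsg.pPrimeCore 2 (K.subgroupOf H)).map (K.subgroupOf H).subtype :=
    ⟨y, hy, rfl⟩
  rw [h2] at h3
  refine ⟨_, h3.2, ?_⟩
  show ((y : H) : G) = x
  have h4 : ((e y : K) : G) = x := congrArg Subtype.val hyx
  exact h4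

/-- elements of odd order in a central extension of a group of odd order by a 2-group -/
theorem mem_oddCore_of {K X : Type*} [Group K] [Finite K] [Group X] [Finite X] (π : K →* X)
    (hs : Function.Surjective π)
    (hker : IsPGroup 2 π.ker) (hc : ∀ z ∈ π.ker, ∀ g : K, g * z = z * g) {v : K} (hv : π v ∈ Cfsg.oddCore X)
    (ho : Odd (orderOf v)) : v ∈ Cfsg.oddCore K := by
  have h2 : Fact (Nat.Prime 2) := ⟨Nat.prime_two⟩
  have hOn : (Cfsg.oddCore X).Normal := Cfsg.Agent.Lib.Cores.pPrimeCore_normal 2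
  have hOc : (Nat.card (Cfsg.oddCore X)).Coprime 2 := Cfsg.Agent.Lib.Cores.pPrimeCore_coprime 2
  obtain ⟨W, hW⟩ : ∃ W, W = (Cfsg.oddCore X).comap π := ⟨_, rfl⟩
  have hWn : W.Normal := by rw [hW]; infer_instance
  have hWm : ∀ w ∈ W, π w ∈ Cfsg.oddCore X := by
    rw [hW]
    exact fun w hw => hw
  let f : W →* Cfsg.oddCore X := (π.comp W.subtype).codRestrict _ (fun w => hWm w w.2)
  have hf : Function.Surjective f := by
    intro y
    obtain ⟨k, hk⟩ := hs y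
    exact ⟨⟨k, by rw [hW, mem_comap, hk]; exact y.2⟩, Subtype.ext hk⟩
  have hfk : ∀ w : W, w ∈ f.ker → (w : K) ∈ π.ker := by
    intro w hw
    exact congrArg Subtype.val (show f w = 1 from hw)
  have hnc : Cfsg.HasNormalPComplement 2 W := by
    refine SignalizersComponents.CentSylowFStar.hasNormalPComplement_of_central f hf ?_ ?_ ?_
    · intro w
      obtain ⟨k, hk⟩ := hker ⟨_, hfk w w.2⟩
      refine ⟨k, ?_⟩
      apply Subtype.ext
      apply Subtype.ext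
      have h3 : ((w : W) : K) ^ 2 ^ k = 1 := congrArg (fun v : π.ker => (v : K)) hk
      exact h3
    · intro w hw g
      exact Subtype.ext (hc _ (hfk w hw) g)
    · rw [Transfer.NormalPComplement.hasNormalPComplement_iff_coprime]
      exact hOc.of_dvd_left (card_subgroup_dvd_card _)
  have hv1 : v ∈ W := by rw [hW]; exact hv
  have hv2 : (⟨v, hv1⟩ : W) ∈ Cfsg.pResidual 2 W := by
    apply Transfer.NormalPComplement.mem_pResidual_of_coprime
    rw [orderOf_mk]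
    exact Nat.coprime_two_right.2 ho
  rw [Transfer.NormalPComplement.hasNormalPComplement_iff_coprime] at hnc
  have hv3 : (⟨v, hv1⟩ : W) ∈ Cfsg.pPrimeCore 2 W :=
    Cfsg.Agent.Lib.Cores.le_pPrimeCore (Transfer.NormalPComplement.pResidual_normal 2 W) hnc hv2
  have h3 := Cfsg.Agent.Lib.Cores.map_subtype_pPrimeCore (G := K) 2 (N := W) hWn
  have h4 : v ∈ (Cfsg.pPrimeCore 2 W).map W.subtype := ⟨_, hv3, rfl⟩
  rw [h3] at h4
  exact h4.2

variable {G : Type u} [Group G] {S : Sylow 2 G} {F : M →* G}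

/-- `O(C(z))` -/
abbrev OZ (F : M →* G) : Subgroup G := Cfsg.centralizerPPrimeCore 2 (F z)

variable [Finite G]

theorem rr_pi {ρ : KK F} {k : KK F} : rr (pi F ρ) (pi F k) = pi F (ρ * k * ρ⁻¹) := by
  simp only [rr, map_mul, map_inv]

theorem five_ne : (∀ i j : Fin 5, Sm (![1, t, pr U.y U.y, w, dd] i) (![1, t, pr U.y U.y, w, dd] j) → i = j) ∧
    ∀ i : Fin 5, InQ (![1, t, pr U.y U.y, w, dd] i) := by decide

/-- the hypotheses of the five lines theorem -/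
theorem hyp (P : Alt S F) {ρ : G} (h : RhoQ F ρ) {PX : Sylow 2 (XK F)}
    (hPX : ∀ y : XK F, y ∈ PX ↔ ∃ (x : M) (k : KK F), InQ x ∧ F x = k ∧ pi F k = y) :
    Hyp PX (pi F ⟨ρ, h.mem⟩) := by
  have hρz := KK_le h.mem
  -- images
  have him : ∀ (x : M) (k : KK F), InQ x → F x = k → ∃ (x₁ : M), InQ x₁ ∧
      F x₁ = (⟨ρ, h.mem⟩ * k * (⟨ρ, h.mem⟩ : KK F)⁻¹ : KK F) ∧ F x₁ = ρ * F x * ρ⁻¹ := by
    intro x k hx hk
    obtain ⟨x₁, hx₁, e⟩ := h.nor x hx
    exact ⟨x₁, hx₁, by rw [e, hk]; rfl, e⟩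
  refine ⟨?_, ?_, ?_, ?_, ?_, ?_⟩
  · intro a ha b hb
    obtain ⟨x, k, hx, hk, rfl⟩ := (hPX _).1 ha
    obtain ⟨y, l, hy, hl, rfl⟩ := (hPX _).1 hb
    rw [← map_mul, ← map_mul, pi_F P (x := x * y) (y := y * x)]
    · exact Q_comm _ hy _ hx
    · rw [map_mul, hk, hl]; rfl
    · rw [map_mul, hk, hl]; rfl
  · intro a ha
    obtain ⟨x, k, hx, hk, rfl⟩ := (hPX _).1 ha
    rw [← map_mul, ← map_one (pi F), pi_F P (x := x * x) (y := 1)]
    · exact Sm_symm (Q_sq _ hx)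
    · rw [map_mul, hk]; rfl
    · rw [map_one]; rfl
  · intro a ha
    obtain ⟨x, k, hx, hk, rfl⟩ := (hPX _).1 ha
    obtain ⟨x₁, hx₁, e, -⟩ := him x k hx hk
    rw [rr_pi]
    exact (hPX _).2 ⟨x₁, _, hx₁, e, rfl⟩
  · intro a ha
    obtain ⟨x, k, hx, hk, rfl⟩ := (hPX _).1 ha
    obtain ⟨x₁, hx₁, e, e'⟩ := him x k hx hk
    obtain ⟨x₂, hx₂, e2, e2'⟩ := him x₁ _ hx₁ e
    rw [rr_pi, rr_pi, ← map_mul, ← map_mul, ← map_one (pi F), pi_F P (x := x * x₁ * x₂) (y := 1)]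
    · exact Sm_symm (h.fpf P hx e' e2' hx₁ hx₂)
    · rw [map_mul, map_mul, hk, e, e2]; rfl
    · rw [map_one]; rfl
  · intro n hn a ha
    obtain ⟨x, k, hx, hk, rfl⟩ := (hPX _).1 ha
    obtain ⟨m, rfl⟩ := QuotientGroup.mk'_surjective (ZK F) n
    have hNQ := NQ_of_normalizer P hPX hn
    have hmz := KK_le m.2
    obtain ⟨a, b, ha, hb, hPa, hPb, hat, hbt, hba, hc, h3⟩ := h.cyc P
    obtain ⟨τ, hτQ, hτ⟩ := hNQ t (by decide)
    have hPτ : PT τ := PT_of_conj P hmz hτ.symm (by decide)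
    -- the conjugates
    have e0 : ∀ (m' : KK F), NQ F m' → (∀ v : M, F v = m' * F t * (m' : G)⁻¹ → Sm v t) →
        pi F m' * pi F k * (pi F m')⁻¹ = pi F k := by
      intro m' hm' hv
      obtain ⟨v, hvQ, hv'⟩ := hm' t (by decide)
      have h4 := triv_of_fix P m'.2 hm' (by
        rw [← hv']
        rcases hv v hv' with h5 | h5
        · exact Or.inl (by rw [h5])
        · exact Or.inr (by rw [h5]; congr 1)) x hx
      rw [← map_inv, ← map_mul, ← map_mul, pi_eq_iff]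
      have h6 : ((m' * k * m'⁻¹ : KK F) : G) = m' * F x * (m' : G)⁻¹ := by rw [hk]; rfl
      rw [h6, ← hk]
      rcases h4 with h4 | h4 <;> rw [h4]
      · exact Or.inl rfl
      · right
        rw [← map_mul, ← mul_assoc, z_sq, one_mul]
    have hρN : NQ F ((⟨ρ, h.mem⟩ : KK F)⁻¹ : KK F) := by
      show NQ F ρ⁻¹
      exact h.nor.inv
    have hρi : ∀ v v' : M, F v = ρ * F v' * ρ⁻¹ → F v' = ρ⁻¹ * F v * ρ⁻¹⁻¹ := by
      intro v v' e; rw [e]; group
    rcases PT_cases t (by decide) a hPa hat b hPb hbt hba τ hPτ with h4 | h4 | h4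
    · refine Or.inr (Or.inl (e0 m hNQ (fun v hv => ?_)))
      have : v = τ := P.inj (by rw [hv, hτ])
      rw [this]; exact h4
    · -- `ρ⁻¹ m` acts trivially
      have h5 := e0 (⟨ρ, h.mem⟩⁻¹ * m) (hρN.mul hNQ) (fun v hv => by
        have h6 : F v = ρ⁻¹ * F τ * ρ⁻¹⁻¹ := by
          rw [hv, hτ]
          show ρ⁻¹ * m * F t * (ρ⁻¹ * (m : G))⁻¹ = _
          group
        exact (conj_Sm P (inv_mem hρz) h6 (hρi _ _ ha)).2 h4)
      refine Or.inr (Or.inr (Or.inl ?_))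
      rw [rr]
      conv_rhs => rw [← h5]
      simp only [map_mul, map_inv, mul_inv_rev, inv_inv]
      group
    · have h5 := e0 (⟨ρ, h.mem⟩⁻¹ * (⟨ρ, h.mem⟩⁻¹ * m)) (hρN.mul (hρN.mul hNQ)) (fun v hv => by
        have h7 : F v = ρ⁻¹ * (ρ⁻¹ * F τ * ρ⁻¹⁻¹) * ρ⁻¹⁻¹ := by
          rw [hv, hτ]
          show ρ⁻¹ * (ρ⁻¹ * m) * F t * (ρ⁻¹ * (ρ⁻¹ * (m : G)))⁻¹ = _
          simp only [mul_inv_rev, inv_inv, mul_assoc]
        obtain ⟨τ', -, hτ'⟩ := h.nor.inv τ hτQ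
        rw [← hτ'] at h7
        exact (conj_Sm P (inv_mem hρz) h7 (hρi _ _ ha)).2 ((conj_Sm P (inv_mem hρz) hτ' (hρi _ _ hb)).2 h4))
      refine Or.inr (Or.inr (Or.inr ?_))
      rw [rr, rr]
      conv_rhs => rw [← h5]
      simp only [map_mul, map_inv, mul_inv_rev, inv_inv]
      group
  · intro a ha
    by_contra hcon
    push Not at hcon
    classical
    let g : Fin 5 → XK F := fun i => pi F ⟨F (![1, t, pr U.y U.y, w, dd] i), F_mem_KK P (five_ne.2 i)⟩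
    have hg : Function.Injective g := by
      intro i j hij
      exact (five_ne.1 j i ((pi_F P rfl rfl).1 hij)).symm
    have hr : ∀ i, g i ∈ ({1, a, rr (pi F ⟨ρ, h.mem⟩) a, rr (pi F ⟨ρ, h.mem⟩) (rr (pi F ⟨ρ, h.mem⟩) a)} : Finset (XK F)) := by
      intro i
      have h1 := hcon (g i) ((hPX _).2 ⟨_, _, five_ne.2 i, rfl, rfl⟩)
      simp only [Finset.mem_insert, Finset.mem_singleton]
      exact h1
    have h1 : (Finset.univ.image g).card ≤ 4 :=
      (Finset.card_le_card (by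
        intro y hy
        obtain ⟨i, -, rfl⟩ := Finset.mem_image.1 hy
        exact hr i)).trans Finset.card_le_four
    rw [Finset.card_image_of_injective _ hg, Finset.card_univ, Fintype.card_fin] at h1
    omega

/-- **`F(Q) O(C(z))` is normal in `C(z)`.** -/
theorem Q_normal (hC : CommThm.{u}) (P : Alt S F) {g : G} (hg : g ∈ CZ F) {x : M} (hx : InQ x) :
    ∃ y : M, InQ y ∧ ∃ o ∈ OZ F, g * F x * g⁻¹ = F y * o := by
  have h2 : Fact (Nat.Prime 2) := ⟨Nat.prime_two⟩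
  obtain ⟨ρ, hρ⟩ := exists_RhoQ P
  obtain ⟨PX, hPX⟩ := exists_PX P
  have hH := hyp P hρ hPX
  -- elements of `K`
  have hK : ∀ g : KK F, ∀ x : M, InQ x → ∃ y : M, InQ y ∧ ∃ o ∈ OZ F, g * F x * (g : G)⁻¹ = F y * o := by
    intro g x hx
    have h1 := hH.conj_mem hC (pi F g) (pi F ⟨F x, F_mem_KK P hx⟩) ((hPX _).2 ⟨x, _, hx, rfl, rfl⟩)
    have hOn : (Cfsg.oddCore (XK F)).Normal := Cfsg.Agent.Lib.Cores.pPrimeCore_normal 2
    rw [mem_sup_of_normal_right] at h1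
    obtain ⟨b, hb, v, hv, e⟩ := h1
    obtain ⟨y, k, hy, hk, rfl⟩ := (hPX _).1 hb
    -- the element `u`
    obtain ⟨u, hu⟩ : ∃ u : KK F, u = k⁻¹ * (g * ⟨F x, F_mem_KK P hx⟩ * g⁻¹) := ⟨_, rfl⟩
    have hpu : pi F u = v := by
      rw [hu, map_mul, map_mul, map_mul, map_inv, map_inv, ← e, inv_mul_cancel_left]
    have hguk : (g : G) * F x * (g : G)⁻¹ = F y * u := by
      rw [hk, hu]
      show (g : G) * F x * (g : G)⁻¹ = k * ((k : G)⁻¹ * (g * F x * (g : G)⁻¹))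
      group
    -- odd part of `u`
    have hOc : Odd (Nat.card (Cfsg.oddCore (XK F))) :=
      Nat.coprime_two_right.1 (Cfsg.Agent.Lib.Cores.pPrimeCore_coprime 2)
    obtain ⟨N, hN⟩ : ∃ N, N = Nat.card (Cfsg.oddCore (XK F)) := ⟨_, rfl⟩
    rw [← hN] at hOc
    have h3 : pi F (u ^ N) = 1 := by
      rw [map_pow, hpu]
      have h4 : (⟨v, hv⟩ : Cfsg.oddCore (XK F)) ^ N = 1 := by rw [hN]; exact pow_card_eq_one'
      exact congrArg Subtype.val h4
    have h5 : u ^ N ∈ ZK F := (QuotientGroup.eq_one_iff _).1 h3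
    have hker : (pi F).ker = ZK F := QuotientGroup.ker_mk' _
    have hodd : ∀ o : KK F, pi F o ∈ Cfsg.oddCore (XK F) → Odd (orderOf o) → (o : G) ∈ OZ F := by
      intro o ho1 ho2
      have h6 := mem_oddCore_of (pi F) (QuotientGroup.mk'_surjective _) (by
        rw [hker]
        intro k
        refine ⟨1, ?_⟩
        apply Subtype.ext
        apply Subtype.ext
        show ((k : KK F) : G) ^ (2 ^ 1) = 1
        rw [pow_one, pow_two]
        rcases mem_ZK.1 k.2 with h | h <;> rw [h]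
        · rw [one_mul]
        · rw [← map_mul, z_sq, map_one]) (by
        rw [hker]
        exact fun k hk g => comm_ZK hk g) ho1 ho2
      exact oddCore_map_le KK_le (fun h hh x hx => conj_KK hh hx) ⟨o, h6, rfl⟩
    rcases mem_ZK.1 h5 with h6 | h6
    · refine ⟨y, hy, u, hodd u (by rw [hpu]; exact hv) ?_, hguk⟩
      exact hOc.of_dvd_nat (orderOf_dvd_of_pow_eq_one (Subtype.ext h6))
    · -- `u z` has odd order
      have hzK : F z ∈ KK F := F_mem_KK P (by decide)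
      have hzz : F z * F z = 1 := by rw [← map_mul, z_sq, map_one]
      have hzc : Commute (u : G) (F z) := mem_CZ.1 (KK_le u.2)
      refine ⟨y * z, InQ_mul _ _ hy (by decide), (u * ⟨F z, hzK⟩ : KK F), hodd _ ?_ ?_, ?_⟩
      · rw [map_mul, hpu]
        have h7 : pi F ⟨F z, hzK⟩ = 1 := by
          have : (⟨F z, hzK⟩ : KK F) ∈ (pi F).ker := by rw [hker]; exact Or.inr rfl
          exact this
        rw [h7, mul_one]; exact hv
      · refine hOc.of_dvd_nat (orderOf_dvd_of_pow_eq_one (Subtype.ext ?_))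
        show ((u : G) * F z) ^ N = 1
        rw [hzc.mul_pow]
        have h7 : (u : G) ^ N = F z := h6
        obtain ⟨j, hj⟩ := hOc
        have h8 : F z ^ N = F z := by rw [hj, pow_succ, pow_mul, pow_two, hzz, one_pow, one_mul]
        rw [h7, h8, hzz]
      · rw [hguk, map_mul]
        show F y * (u : G) = F y * F z * ((u : G) * F z)
        rw [hzc.eq]
        calc F y * (u : G) = F y * 1 * u := by rw [mul_one]
          _ = F y * (F z * F z) * u := by rw [hzz]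
          _ = _ := by group
  -- Sylow conjugation
  obtain ⟨R, hR⟩ := exists_sylow_KK P
  have hgn : ∀ k, k ∈ KK F ↔ g * k * g⁻¹ ∈ KK F := by
    intro k
    refine ⟨fun h => conj_KK hg h, fun h => ?_⟩
    have h3 := conj_KK (inv_mem hg) h
    have e : g⁻¹ * (g * k * g⁻¹) * g⁻¹⁻¹ = k := by group
    rwa [e] at h3
  let φ : KK F →* KK F := ((MulAut.conj g).toMonoidHom.comp (KK F).subtype).codRestrict (KK F) (fun k => (hgn k).1 k.2)
  have hφ : ∀ k : KK F, (φ k : G) = g * k * g⁻¹ := fun k => rfl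
  have hφs : Function.Surjective φ := by
    intro k
    refine ⟨⟨g⁻¹ * k * g, ?_⟩, Subtype.ext ?_⟩
    · rw [hgn]
      have e : g * (g⁻¹ * (k : G) * g) * g⁻¹ = k := by group
      rw [e]; exact k.2
    · rw [hφ]; group
  obtain ⟨k, hk⟩ := MulAction.exists_smul_eq (KK F) R (R.mapSurjective hφs)
  have h3 : φ ⟨F x, F_mem_KK P hx⟩ ∈ R.mapSurjective hφs := ⟨_, (hR _).2 ⟨x, hx, rfl⟩, rfl⟩
  rw [← hk] at h3
  obtain ⟨r, hr, hre⟩ := h3
  obtain ⟨x', hx', hxr⟩ := (hR _).1 hr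
  obtain ⟨y, hy, o, ho, e⟩ := hK k x' hx'
  refine ⟨y, hy, o, ho, ?_⟩
  rw [← e, hxr]
  have h4 := congrArg Subtype.val hre
  rw [hφ] at h4
  exact h4.symm

end Cfsg.Agent.LFourA.AltZ6
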