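import Cfsg.Agent.LFourA.AltZ6

/-!
# Case II: the structure of the centralizer of `z`
-/

set_option autoImplicit false

namespace Cfsg.Agent.LFourA.AltZ7

open Cfsg.Agent.LFourA.AltModel Cfsg.Agent.LFourA.AltPat Cfsg.Agent.LFourA.AltNil Cfsg.Agent.LFourA.AltNilB
  Cfsg.Agent.LFourA.AltNilC Cfsg.Agent.LFourA.AltEAct Cfsg.Agent.LFourA.OddFree Cfsg.Agent.LFourA.AltZ1
  Cfsg.Agent.LFourA.AltZ2 Cfsg.Agent.LFourA.AltZ3 Cfsg.Agent.LFourA.AltZ4 Cfsg.Agent.LFourA.AltZ5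
  Cfsg.Agent.LFourA.AltZ6 Cfsg.Agent.LFourA.AltFive Subgroup

universe u

theorem M_pow : ∀ x : M, x ^ 8 = 1 := by decide +kernel
theorem cent_Q : ∀ x : M, (∀ q : M, InQ q → x * q = q * x) → x = 1 ∨ x = z := by decide +kernel

variable {G : Type u} [Group G] {S : Sylow 2 G} {F : M →* G}

theorem OZ_le : OZ F ≤ CZ F := map_subtype_le _

variable [Finite G]

theorem OZ_conj {g o : G} (hg : g ∈ CZ F) (ho : o ∈ OZ F) : g * o * g⁻¹ ∈ OZ F := by
  obtain ⟨x, hx, rfl⟩ := ho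
  exact ⟨⟨g, hg⟩ * x * ⟨g, hg⟩⁻¹, (Cfsg.Agent.Lib.Cores.pPrimeCore_normal 2).conj_mem x hx ⟨g, hg⟩, rfl⟩

theorem OZ_odd_card : Odd (Nat.card (OZ F)) := by
  have h1 : Nat.card (OZ F) = Nat.card (Cfsg.pPrimeCore 2 (CZ F)) := by
    rw [OZ, Cfsg.centralizerPPrimeCore, card_map_of_injective (CZ F).subtype_injective]
  rw [h1]
  exact Nat.coprime_two_right.1 (Cfsg.Agent.Lib.Cores.pPrimeCore_coprime 2)

theorem OZ_odd {o : G} (ho : o ∈ OZ F) : Odd (orderOf o) :=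
  OZ_odd_card.of_dvd_nat (Subgroup.orderOf_dvd_natCard _ ho)

theorem OZ_le_KK : OZ F ≤ KK F := fun _ ho => odd_mem_KK (OZ_le ho) (OZ_odd ho)

theorem orderOf_F_dvd (x : M) : orderOf (F x) ∣ 2 ^ 3 := by
  apply orderOf_dvd_of_pow_eq_one
  rw [← map_pow]
  have h := M_pow x
  rw [show (2 : ℕ) ^ 3 = 8 by norm_num, h, map_one]

theorem eq_one_of_F_odd (P : Alt S F) {x : M} (h : Odd (orderOf (F x))) : x = 1 := by
  have h1 : orderOf (F x) = 1 :=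
    Nat.eq_one_of_dvd_coprimes (Nat.Coprime.pow_right 3 (Nat.coprime_two_right.2 h)) dvd_rfl (orderOf_F_dvd x)
  apply P.inj
  rw [map_one]
  exact orderOf_eq_one_iff.1 h1

theorem eq_one_of_F_mem_OZ (P : Alt S F) {x : M} (h : F x ∈ OZ F) : x = 1 := eq_one_of_F_odd P (OZ_odd h)

/-- the subgroup `F(Q) O(C(z))` -/
theorem frat (hC : CommThm.{u}) (P : Alt S F) {d : G} (hd : d ∈ CZ F) :
    ∃ n ∈ CZ F, ∃ o ∈ OZ F, d = n * o ∧ NQ F n := by
  have h2 : Fact (Nat.Prime 2) := ⟨Nat.prime_two⟩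
  let Y := CZ F
  let FZ : M →* Y := F.codRestrict (CZ F) F_mem_CZ
  obtain ⟨QZ, hQZ⟩ : ∃ QZ : Subgroup Y, QZ = Qs.map FZ := ⟨_, rfl⟩
  have hQm : ∀ y : Y, y ∈ QZ ↔ ∃ x : M, InQ x ∧ F x = y := by
    intro y
    rw [hQZ]
    constructor
    · rintro ⟨x, hx, rfl⟩
      exact ⟨x, hx, rfl⟩
    · rintro ⟨x, hx, e⟩
      exact ⟨x, hx, Subtype.ext e⟩
  obtain ⟨O, hO⟩ : ∃ O : Subgroup Y, O = Cfsg.pPrimeCore 2 Y := ⟨_, rfl⟩
  have hOn : O.Normal := by rw [hO]; exact Cfsg.Agent.Lib.Cores.pPrimeCore_normal 2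
  have hOm : ∀ o : G, o ∈ OZ F → ∃ h : o ∈ Y, (⟨o, h⟩ : Y) ∈ O := by
    rintro _ ⟨o, ho, rfl⟩
    exact ⟨o.2, by rw [hO]; exact ho⟩
  have hOm' : ∀ o : Y, o ∈ O → (o : G) ∈ OZ F := by
    intro o ho
    rw [hO] at ho
    exact ⟨o, ho, rfl⟩
  have hN : (QZ ⊔ O).Normal := by
    refine ⟨fun y hy g => ?_⟩
    rw [mem_sup_of_normal_right] at hy ⊢
    obtain ⟨q, hq, o, ho, rfl⟩ := hy
    obtain ⟨x, hx, hxq⟩ := (hQm q).1 hq
    obtain ⟨y, hy, o', ho', e⟩ := Q_normal hC P g.2 hx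
    obtain ⟨h1, h3⟩ := hOm o' ho'
    refine ⟨FZ y, (hQm _).2 ⟨y, hy, rfl⟩, ⟨o', h1⟩ * (g * o * g⁻¹), mul_mem h3 (hOn.conj_mem o ho g), ?_⟩
    apply Subtype.ext
    show F y * (o' * (g * (o : G) * (g : G)⁻¹)) = g * (q * o) * (g : G)⁻¹
    rw [← mul_assoc, ← e, hxq]; group
  -- the Sylow subgroup
  have hp : IsPGroup 2 (QZ.subgroupOf (QZ ⊔ O)) := by
    have h3 : IsPGroup 2 QZ := by
      rw [hQZ]
      have h4 : IsPGroup 2 (Qs.map FZ) := by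
        intro y
        obtain ⟨x, hx, hxy⟩ := y.2
        refine ⟨3, Subtype.ext ?_⟩
        show (y : Y) ^ 2 ^ 3 = 1
        rw [← hxy, ← map_pow, show (2 : ℕ) ^ 3 = 8 by norm_num, M_pow, map_one]
      exact h4
    exact h3.comap_subtype
  have hidx : ¬ 2 ∣ (QZ.subgroupOf (QZ ⊔ O)).index := by
    have h3 : (QZ.subgroupOf (QZ ⊔ O)).index = QZ.relIndex O :=
      Cfsg.Agent.Lib.SylowNormalInf.relIndex_sup_of_normal QZ O
    rw [h3]
    intro h4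
    have h5 : 2 ∣ Nat.card O := h4.trans (by
      rw [relIndex]; exact index_dvd_card _)
    rw [hO] at h5
    have h6 := Nat.coprime_two_right.1 (Cfsg.Agent.Lib.Cores.pPrimeCore_coprime (G := Y) 2)
    rw [← Nat.not_even_iff_odd, even_iff_two_dvd] at h6
    exact h6 h5
  have hf := Sylow.normalizer_sup_eq_top (hp.toSylow hidx)
  have hm : ((hp.toSylow hidx : Sylow 2 (QZ ⊔ O : Subgroup Y)) : Subgroup (QZ ⊔ O : Subgroup Y)).map
      (QZ ⊔ O : Subgroup Y).subtype = QZ := by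
    show (QZ.subgroupOf (QZ ⊔ O)).map (QZ ⊔ O : Subgroup Y).subtype = QZ
    rw [subgroupOf_map_subtype]
    exact inf_eq_left.2 le_sup_left
  rw [hm] at hf
  -- decompose `d`
  have hd1 : (⟨d, hd⟩ : Y) ∈ normalizer (QZ : Set Y) ⊔ (QZ ⊔ O) := by rw [hf]; exact mem_top _
  rw [← sup_assoc, sup_eq_left.2 (le_normalizer : QZ ≤ normalizer (QZ : Set Y)), mem_sup_of_normal_right] at hd1
  obtain ⟨n, hn, o, ho, e⟩ := hd1
  refine ⟨n, n.2, o, hOm' o ho, (congrArg Subtype.val e).symm, fun x hx => ?_⟩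
  rw [mem_normalizer_iff] at hn
  obtain ⟨y, hy, e2⟩ := (hQm _).1 ((hn (FZ x)).1 ((hQm _).2 ⟨x, hx, rfl⟩))
  exact ⟨y, hy, e2⟩

/-- odd elements of `C(z)` centralizing `F(Q)` are in the core -/
theorem mem_OZ_of_cent (hC : CommThm.{u}) (P : Alt S F) {c : G} (hc : c ∈ CZ F) (ho : Odd (orderOf c))
    (hcQ : ∀ x, InQ x → c * F x = F x * c) : c ∈ OZ F := by
  have h2 : Fact (Nat.Prime 2) := ⟨Nat.prime_two⟩
  have hS : (S : Subgroup G) ≤ CZ F := by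
    intro g hg
    obtain ⟨x, rfl⟩ := (P.range g).1 hg
    exact F_mem_CZ x
  have hOn : (Cfsg.oddCore (CZ F)).Normal := Cfsg.Agent.Lib.Cores.pPrimeCore_normal 2
  set π := QuotientGroup.mk' (Cfsg.oddCore (CZ F)) with hπ
  have hs : Function.Surjective π := QuotientGroup.mk'_surjective _
  have hO : Cfsg.oddCore (CZ F ⧸ Cfsg.oddCore (CZ F)) = ⊥ := Cfsg.Agent.Lib.Cores.pPrimeCore_quotient_pPrimeCore 2
  let FZ : M →* CZ F := F.codRestrict (CZ F) F_mem_CZ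
  have hπ1 : ∀ y : CZ F, π y = 1 ↔ (y : G) ∈ OZ F := by
    intro y
    rw [hπ, QuotientGroup.mk'_apply, QuotientGroup.eq_one_iff]
    constructor
    · intro h; exact ⟨y, h, rfl⟩
    · rintro ⟨y', hy', e⟩
      have : y' = y := Subtype.ext e
      rw [← this]; exact hy'
  let N : Subgroup (CZ F ⧸ Cfsg.oddCore (CZ F)) :=
    { carrier := {y | ∀ x : M, InQ x → y * π (FZ x) = π (FZ x) * y}
      one_mem' := fun x _ => by rw [one_mul, mul_one]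
      mul_mem' := fun {a b} ha hb x hx => by rw [mul_assoc, hb x hx, ← mul_assoc, ha x hx, mul_assoc]
      inv_mem' := fun {a} ha x hx => by rw [inv_mul_eq_iff_eq_mul, ← mul_assoc, ha x hx, mul_inv_cancel_right] }
  have hNm : ∀ y, y ∈ N ↔ ∀ x : M, InQ x → y * π (FZ x) = π (FZ x) * y := fun y => Iff.rfl
  have hNn : N.Normal := by
    refine ⟨fun y hy g => ?_⟩
    obtain ⟨g, rfl⟩ := hs g
    rw [hNm] at hy ⊢
    intro x hx
    obtain ⟨x', hx', o, ho, e⟩ := Q_normal hC P (inv_mem g.2) hx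
    have h3 : (π g)⁻¹ * π (FZ x) * π g = π (FZ x') := by
      rw [← map_inv, ← map_mul, ← map_mul, ← mul_inv_eq_one, ← map_inv, ← map_mul, hπ1]
      have h4 : ((g⁻¹ * FZ x * g * (FZ x')⁻¹ : CZ F) : G) = F x' * o * (F x')⁻¹ := by
        show (g : G)⁻¹ * F x * g * (F x')⁻¹ = _
        rw [← e]; group
      rw [h4]
      exact OZ_conj (F_mem_CZ x') ho
    have h4 : π (FZ x) = π g * π (FZ x') * (π g)⁻¹ := by rw [← h3]; group
    rw [h4]
    calc π g * y * (π g)⁻¹ * (π g * π (FZ x') * (π g)⁻¹) = π g * (y * π (FZ x')) * (π g)⁻¹ := by group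
      _ = π g * (π (FZ x') * y) * (π g)⁻¹ := by rw [hy x' hx']
      _ = _ := by group
  have h3 := le_of_central hO ((S.subtype hS).mapSurjective hs) N (by
    intro y hy hyS g hg
    obtain ⟨s, hs', hsy⟩ : ∃ s ∈ S.subtype hS, π s = y := hyS
    obtain ⟨x, hx⟩ := (P.range (s : G)).1 hs'
    have hsx : s = FZ x := Subtype.ext hx.symm
    -- `x` centralizes `Q`
    have h4 : x = 1 ∨ x = z := by
      apply cent_Q
      intro q hq
      have h5 := (hNm y).1 hy q hq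
      rw [← hsy, hsx, ← map_mul, ← map_mul, ← map_mul, ← map_mul, ← mul_inv_eq_one, ← map_inv, ← map_mul, hπ1] at h5
      have h6 : ((FZ (x * q) * (FZ (q * x))⁻¹ : CZ F) : G) = F (x * q * (q * x)⁻¹) := by
        show F (x * q) * (F (q * x))⁻¹ = _
        rw [← map_inv, ← map_mul]
      rw [h6] at h5
      exact mul_inv_eq_one.1 (eq_one_of_F_mem_OZ P h5)
    have h7 : InQ x := by rcases h4 with rfl | rfl <;> decide
    rw [← hsy, hsx]
    exact (hNm g).1 hg x h7)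
  have h4 : π ⟨c, hc⟩ ∈ N := by
    intro x hx
    rw [← map_mul, ← map_mul]
    congr 1
    exact Subtype.ext (hcQ x hx)
  obtain ⟨s, hs', hsc⟩ : ∃ s ∈ S.subtype hS, π s = π ⟨c, hc⟩ := h3 h4
  -- orders
  have h5 : orderOf (π ⟨c, hc⟩) ∣ orderOf c := by
    rw [← orderOf_mk c hc]
    exact orderOf_map_dvd π _
  have h6 : orderOf (π ⟨c, hc⟩) ∣ 2 ^ 3 := by
    rw [← hsc]
    obtain ⟨x, hx⟩ := (P.range (s : G)).1 hs'
    refine (orderOf_map_dvd π s).trans ?_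
    rw [← orderOf_coe, ← hx]
    exact orderOf_F_dvd x
  have h7 : orderOf (π ⟨c, hc⟩) = 1 :=
    Nat.eq_one_of_dvd_coprimes (Nat.Coprime.pow_right 3 (Nat.coprime_two_right.2 ho)) h5 h6
  exact (hπ1 _).1 (orderOf_eq_one_iff.1 h7)

end Cfsg.Agent.LFourA.AltZ7
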