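import Cfsg.Agent.LFourA.AltZ7

/-!
# Case II: `BZ`, the decomposition and the solvability of the centralizer of `z`
-/

set_option autoImplicit false

namespace Cfsg.Agent.LFourA.AltZ8

open Cfsg.Agent.LFourA.AltModel Cfsg.Agent.LFourA.AltPat Cfsg.Agent.LFourA.AltNil Cfsg.Agent.LFourA.AltNilB
  Cfsg.Agent.LFourA.AltNilC Cfsg.Agent.LFourA.AltEAct Cfsg.Agent.LFourA.OddFree Cfsg.Agent.LFourA.AltZ1
  Cfsg.Agent.LFourA.AltZ2 Cfsg.Agent.LFourA.AltZ3 Cfsg.Agent.LFourA.AltZ4 Cfsg.Agent.LFourA.AltZ5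
  Cfsg.Agent.LFourA.AltZ6 Cfsg.Agent.LFourA.AltZ7 Cfsg.Agent.LFourA.AltFive Subgroup

universe u

theorem Sm_mul {x y x' y' : M} (h : Sm x y) (h' : Sm x' y') : Sm (x * x') (y * y') := by
  rcases h with rfl | rfl <;> rcases h' with rfl | rfl
  · exact Or.inl rfl
  · right; rw [← mul_assoc, z_comm, mul_assoc]
  · right; rw [mul_assoc]
  · left
    have h1 : y * z = z * y := z_comm y
    calc z * y * (z * y') = z * (y * z) * y' := by group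
      _ = z * z * y * y' := by rw [h1]; group
      _ = y * y' := by rw [z_sq, one_mul]

theorem exists_v : ∀ x : M, x * x = 1 → ∃ v : M, InQ v ∧ v ≠ 1 ∧ v ≠ z ∧ v * x = x * v := by decide +kernel

variable {G : Type u} [Group G] {S : Sylow 2 G} {F : M →* G}

variable [Finite G]

/-- elements of `F(M) O(C(z))` of odd order -/
theorem odd_mul (P : Alt S F) {s : M} {o c : G} (ho : o ∈ OZ F) (hc : c = F s * o) (hodd : Odd (orderOf c)) :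
    c ∈ OZ F := by
  have h1 : ∀ k : ℕ, ∃ o' ∈ OZ F, c ^ k = F (s ^ k) * o' := by
    intro k
    induction k with
    | zero => exact ⟨1, one_mem _, by rw [pow_zero, pow_zero, map_one, one_mul]⟩
    | succ k ih =>
      obtain ⟨o', ho', e⟩ := ih
      refine ⟨(F s)⁻¹ * o' * F s * o, mul_mem ?_ ho, ?_⟩
      · have h3 := OZ_conj (inv_mem (F_mem_CZ s)) ho'
        rwa [inv_inv] at h3
      · rw [pow_succ, e, hc, pow_succ, map_mul]; group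
  obtain ⟨o', ho', e⟩ := h1 (orderOf c)
  rw [pow_orderOf_eq_one] at e
  have h3 : F (s ^ orderOf c) ∈ OZ F := by
    have : F (s ^ orderOf c) = o'⁻¹ := eq_inv_of_mul_eq_one_left e.symm
    rw [this]; exact inv_mem ho'
  have h4 := eq_one_of_F_mem_OZ P h3
  have h5 : orderOf s ∣ orderOf c := orderOf_dvd_of_pow_eq_one h4
  have h6 : s = 1 := by
    apply eq_one_of_F_odd P
    rw [orderOf_injective F P.inj]
    exact hodd.of_dvd_nat h5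
  rw [hc, h6, map_one, one_mul]
  exact ho

/-- the action on the pairs of `B₈` -/
theorem move3 (P : Alt S F) {ρ : G} (hρ : RhoQ F ρ) {n : G} (hn : n ∈ CZ F) (hN : NQ F n) :
    ∃ i : ℕ, i < 3 ∧ ((ρ ^ i)⁻¹ * n * F t * ((ρ ^ i)⁻¹ * n)⁻¹ = F t ∨
      (ρ ^ i)⁻¹ * n * F t * ((ρ ^ i)⁻¹ * n)⁻¹ = F t') := by
  have hρz := KK_le hρ.mem
  obtain ⟨a, b, ha, hb, hPa, hPb, hat, hbt, hba, hc, h3⟩ := hρ.cyc P
  obtain ⟨τ, hτQ, hτ⟩ := hN t (by decide)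
  have hPτ : PT τ := PT_of_conj P hn hτ.symm (by decide)
  have key : ∀ v : M, Sm v t → F v = F t ∨ F v = F t' := by
    rintro v (h | h)
    · exact Or.inl (by rw [h])
    · exact Or.inr (by rw [h]; congr 1)
  have hρi : ∀ v v' : M, F v = ρ * F v' * ρ⁻¹ → F v' = ρ⁻¹ * F v * ρ⁻¹⁻¹ := by
    intro v v' e; rw [e]; group
  rcases PT_cases t (by decide) a hPa hat b hPb hbt hba τ hPτ with h4 | h4 | h4
  · refine ⟨0, by norm_num, ?_⟩
    have e : (ρ ^ 0)⁻¹ * n * F t * ((ρ ^ 0)⁻¹ * n)⁻¹ = F τ := by rw [hτ, pow_zero]; group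
    rw [e]
    exact key τ h4
  · refine ⟨1, by norm_num, ?_⟩
    obtain ⟨v, -, hv⟩ := hρ.nor.inv τ hτQ
    have e : (ρ ^ 1)⁻¹ * n * F t * ((ρ ^ 1)⁻¹ * n)⁻¹ = F v := by
      rw [hv, hτ, pow_one]
      simp only [mul_inv_rev, inv_inv, mul_assoc]
    rw [e]
    exact key v ((conj_Sm P (inv_mem hρz) hv (hρi _ _ ha)).2 h4)
  · refine ⟨2, by norm_num, ?_⟩
    obtain ⟨v, hvQ, hv⟩ := hρ.nor.inv τ hτQ
    obtain ⟨v', -, hv'⟩ := hρ.nor.inv v hvQ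
    have e : (ρ ^ 2)⁻¹ * n * F t * ((ρ ^ 2)⁻¹ * n)⁻¹ = F v' := by
      rw [hv', hv, hτ, pow_two]
      simp only [mul_inv_rev, inv_inv, mul_assoc]
    rw [e]
    exact key v' ((conj_Sm P (inv_mem hρz) hv' (hρi _ _ ha)).2 ((conj_Sm P (inv_mem hρz) hv (hρi _ _ hb)).2 h4))

/-- **odd elements of `C(z)` act fixed point freely on `Q / ⟨z⟩`.** -/
theorem fpf (hC : CommThm.{u}) (P : Alt S F) {d : G} (hd : d ∈ CZ F) (ho : Odd (orderOf d)) {v : M} (hv : InQ v)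
    (hv1 : v ≠ 1) (hvz : v ≠ z) (h : d * F v * d⁻¹ * (F v)⁻¹ ∈ OZ F) : d ∈ OZ F := by
  obtain ⟨ρ, hρ⟩ := exists_RhoQ P
  obtain ⟨n, hn, o, hoZ, e, hN⟩ := frat hC P hd
  have hdK : d ∈ KK F := odd_mem_KK hd ho
  have hnK : n ∈ KK F := by
    have e2 : n = d * o⁻¹ := by rw [e]; group
    rw [e2]
    exact mul_mem hdK (inv_mem (OZ_le_KK hoZ))
  -- `n` centralizes `v`
  obtain ⟨v', hv'Q, hv'⟩ := hN v hv
  have hvv : v' = v := by
    apply mul_inv_eq_one.1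
    apply eq_one_of_F_mem_OZ P
    have h1 : F (v' * v⁻¹) = (n * (o * (F v * o⁻¹ * (F v)⁻¹)) * n⁻¹)⁻¹ * (d * F v * d⁻¹ * (F v)⁻¹) := by
      rw [map_mul, hv', map_inv, e]; group
    rw [h1]
    exact mul_mem (inv_mem (OZ_conj hn (mul_mem hoZ (OZ_conj (F_mem_CZ v) (inv_mem hoZ))))) h
  rw [hvv] at hv'
  -- the power of `ρ`
  obtain ⟨i, hi, hfix⟩ := move3 P hρ hn hN
  have hni : (ρ ^ i)⁻¹ * n ∈ KK F := mul_mem (inv_mem (pow_mem hρ.mem i)) hnK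
  have hNi : NQ F ((ρ ^ i)⁻¹ * n) := (hρ.nor.pow i).inv.mul hN
  have h1 := triv_of_fix P hni hNi hfix v hv
  have hρz := KK_le hρ.mem
  obtain ⟨x₁, hx₁, e1⟩ := hρ.nor v hv
  obtain ⟨x₂, hx₂, e2⟩ := hρ.nor x₁ hx₁
  have hf := hρ.fpf P hv e1 e2 hx₁ hx₂
  have h3 : F v = ρ * F x₂ * ρ⁻¹ := by
    obtain ⟨-, -, -, -, -, -, -, -, -, -, h3⟩ := hρ.cyc P
    have h4 : ρ * F x₂ * ρ⁻¹ = ρ ^ 3 * F v * (ρ ^ 3)⁻¹ := by rw [e2, e1, pow_succ, pow_two]; group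
    rw [h4, h3 v hv, mul_inv_cancel_right]
  have hi0 : i = 0 := by
    by_contra hne
    -- `x₁ ~ v`
    have h4 : (ρ ^ i)⁻¹ * F v * ρ ^ i = F v ∨ (ρ ^ i)⁻¹ * F v * ρ ^ i = F (z * v) := by
      have e3 : (ρ ^ i)⁻¹ * n * F v * ((ρ ^ i)⁻¹ * n)⁻¹ = (ρ ^ i)⁻¹ * (n * F v * n⁻¹) * ρ ^ i := by group
      rw [e3, ← hv'] at h1
      exact h1
    have h5 : Sm x₁ v := by
      have hcases : i = 1 ∨ i = 2 := by omega
      rcases hcases with rfl | rfl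
      · -- `ρ⁻¹ v ρ ~ v`
        have h6 : ∃ u : M, F u = ρ⁻¹ * F v * ρ ∧ Sm u v := by
          rw [pow_one] at h4
          rcases h4 with h4 | h4
          · exact ⟨v, h4.symm, Or.inl rfl⟩
          · exact ⟨z * v, h4.symm, Or.inr rfl⟩
        obtain ⟨u, hu, hus⟩ := h6
        have h7 : F v = ρ * F u * ρ⁻¹ := by rw [hu]; group
        exact Sm_symm ((conj_Sm P hρz h7 e1).2 hus)
      · have h6 : ∃ u : M, F u = ρ⁻¹ * (ρ⁻¹ * F v * ρ) * ρ ∧ Sm u v := by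
          have e4 : (ρ ^ 2)⁻¹ * F v * ρ ^ 2 = ρ⁻¹ * (ρ⁻¹ * F v * ρ) * ρ := by
            rw [pow_two]; simp only [mul_inv_rev, mul_assoc]
          rw [e4] at h4
          rcases h4 with h4 | h4
          · exact ⟨v, h4.symm, Or.inl rfl⟩
          · exact ⟨z * v, h4.symm, Or.inr rfl⟩
        obtain ⟨u, hu, hus⟩ := h6
        -- `u = x₁`
        have h7 : F u = F x₁ := by
          rw [hu, h3, e2]; group
        rw [← P.inj h7]
        exact hus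
    have h8 : Sm x₂ v := Sm_trans ((conj_Sm P hρz e2 e1).2 h5) h5
    have h9 : Sm (v * x₁ * x₂) (v * v * v) := Sm_mul (Sm_mul (Or.inl rfl) h5) h8
    have h10 : Sm (v * v * v) v := by
      have := Sm_mul (Q_sq v hv) (Or.inl rfl : Sm v v)
      rwa [one_mul] at this
    rcases Sm_trans (Sm_symm h10) (Sm_trans (Sm_symm h9) hf) with h11 | h11
    · exact hv1 h11
    · exact hvz (by rw [h11, mul_one])
  rw [hi0, pow_zero, inv_one, one_mul] at hfix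
  obtain ⟨j, s, hs, hoj, e3⟩ := exists_odd P hnK hN
  have hc := comm_of_fix P (pow_mem hn j) hoj (hN.pow j) (fix_pow hn hfix j)
  have hm := mem_OZ_of_cent hC P (pow_mem hn j) hoj hc
  refine odd_mul P (s := s) (o := (F s)⁻¹ * n ^ j * F s * o) (mul_mem ?_ hoZ) ?_ ho
  · have h4 := OZ_conj (inv_mem (F_mem_CZ s)) hm
    rwa [inv_inv] at h4
  · have e4 : d = n ^ j * F s * o := by rw [← e3]; exact e
    rw [e4]; group

/-- `O(C(t) ∩ C(t')) ≤ O(C(z))` -/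
theorem OT_le_OZ (hC : CommThm.{u}) (P : Alt S F) : OT F ≤ OZ F := by
  intro o ho
  have h1 := OT_le ho
  refine fpf hC P (mem_CZ.2 (comm_z_of_mem_CT h1)) (odd_orderOf P ho) (v := t) (by decide) (by decide) (by decide) ?_
  rw [(mem_CT.1 h1).1, mul_inv_cancel_right, mul_inv_cancel]
  exact one_mem _

/-- conjugation into the model -/
theorem exists_conj_CZ (P : Alt S F) {x : G} (hx : x ∈ CZ F) (hxx : x * x = 1) :
    ∃ g ∈ CZ F, ∃ y : M, g * x * g⁻¹ = F y := by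
  have h2 : Fact (Nat.Prime 2) := ⟨Nat.prime_two⟩
  have hS : (S : Subgroup G) ≤ CZ F := by
    intro g hg
    obtain ⟨x, rfl⟩ := (P.range g).1 hg
    exact F_mem_CZ x
  have h3 : IsPGroup 2 (zpowers (⟨x, hx⟩ : CZ F)) := by
    rw [IsPGroup.iff_card, Nat.card_zpowers]
    obtain ⟨k, -, hk⟩ := (Nat.dvd_prime_pow Nat.prime_two).1 (orderOf_dvd_of_pow_eq_one (x := (⟨x, hx⟩ : CZ F))
      (n := 2 ^ 1) (by rw [pow_one, pow_two]; exact Subtype.ext hxx))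
    exact ⟨k, hk⟩
  obtain ⟨Q, hQ⟩ := h3.exists_le_sylow
  obtain ⟨g, hg⟩ := MulAction.exists_smul_eq (CZ F) Q (S.subtype hS)
  have h4 : g * ⟨x, hx⟩ * g⁻¹ ∈ S.subtype hS := by
    rw [← hg]
    exact Subgroup.smul_mem_pointwise_smul _ (MulAut.conj g) (Q : Subgroup (CZ F)) (hQ (mem_zpowers _))
  obtain ⟨y, hy⟩ := (P.range _).1 h4
  exact ⟨g, g.2, y, hy.symm⟩

/-- **odd subgroups of `C(x) ∩ C(z)`** -/
theorem bz_aux (hC : CommThm.{u}) (P : Alt S F) {x : G} (hx : x ∈ CZ F) (hxx : x * x = 1) (D : Subgroup G)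
    (hD : ∀ d ∈ D, Odd (orderOf d)) (hDz : D ≤ CZ F)
    (hDn : ∀ g ∈ CZ F, g * x = x * g → ∀ d ∈ D, g * d * g⁻¹ ∈ D) : D ≤ OZ F := by
  intro d hd
  obtain ⟨g, hg, y, hy⟩ := exists_conj_CZ P hx hxx
  have hyy : y * y = 1 := by
    apply P.inj
    rw [map_mul, ← hy, map_one]
    have e : g * x * g⁻¹ * (g * x * g⁻¹) = g * (x * x) * g⁻¹ := by group
    rw [e, hxx, mul_one, mul_inv_cancel]
  obtain ⟨v, hv, hv1, hvz, hvy⟩ := exists_v y hyy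
  -- `u = g⁻¹ F v g` commutes with `x`
  have h1 : g⁻¹ * F v * g ∈ CZ F := mul_mem (mul_mem (inv_mem hg) (F_mem_CZ v)) hg
  have h2 : g⁻¹ * F v * g * x = x * (g⁻¹ * F v * g) := by
    have e : x = g⁻¹ * F y * g := by rw [← hy]; group
    rw [e]
    calc g⁻¹ * F v * g * (g⁻¹ * F y * g) = g⁻¹ * (F v * F y) * g := by group
      _ = g⁻¹ * (F y * F v) * g := by rw [← map_mul, hvy, map_mul]
      _ = _ := by group
  have hdz := hDz hd
  have hd' : g * d * g⁻¹ ∈ CZ F := mul_mem (mul_mem hg hdz) (inv_mem hg)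
  have ho' : Odd (orderOf (g * d * g⁻¹)) := by
    rw [show g * d * g⁻¹ = MulAut.conj g d from rfl, MulEquiv.orderOf_eq]
    exact hD d hd
  -- the commutator
  have h3 : d * (g⁻¹ * F v * g) * d⁻¹ * (g⁻¹ * F v * g)⁻¹ ∈ D := by
    have h4 := hDn _ h1 h2 d⁻¹ (inv_mem hd)
    have e : d * (g⁻¹ * F v * g) * d⁻¹ * (g⁻¹ * F v * g)⁻¹ = d * (g⁻¹ * F v * g * d⁻¹ * (g⁻¹ * F v * g)⁻¹) := by group
    rw [e]
    exact mul_mem hd h4
  have h5 : g * d * g⁻¹ * F v * (g * d * g⁻¹)⁻¹ * (F v)⁻¹ ∈ OZ F := by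
    have e : g * d * g⁻¹ * F v * (g * d * g⁻¹)⁻¹ * (F v)⁻¹ =
        g * (d * (g⁻¹ * F v * g) * d⁻¹ * (g⁻¹ * F v * g)⁻¹) * g⁻¹ := by group
    obtain ⟨s, hs, o, hoZ, e2⟩ := Q_normal hC P hd' hv
    refine odd_mul P (s := s * v⁻¹) (o := F v * o * (F v)⁻¹) (OZ_conj (F_mem_CZ v) hoZ) ?_ ?_
    · rw [e2, map_mul, map_inv]; group
    · rw [e, show g * (d * (g⁻¹ * F v * g) * d⁻¹ * (g⁻¹ * F v * g)⁻¹) * g⁻¹ =
        MulAut.conj g (d * (g⁻¹ * F v * g) * d⁻¹ * (g⁻¹ * F v * g)⁻¹) from rfl, MulEquiv.orderOf_eq]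
      exact hD _ h3
  have h6 := fpf hC P hd' ho' hv hv1 hvz h5
  have h7 := OZ_conj (inv_mem hg) h6
  have e : g⁻¹ * (g * d * g⁻¹) * g⁻¹⁻¹ = d := by group
  rwa [e] at h7

/-- **balance at `z`** -/
theorem bz (hC : CommThm.{u}) (P : Alt S F) {x : G} (hx : x ∈ CZ F) (hxx : x * x = 1) :
    Cfsg.centralizerPPrimeCore 2 x ⊓ CZ F ≤ OZ F := by
  apply bz_aux hC P hx hxx
  · rintro d ⟨⟨d', hd', rfl⟩, -⟩
    have h1 : Odd (Nat.card (Cfsg.pPrimeCore 2 (centralizer ({x} : Set G)))) :=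
      Nat.coprime_two_right.1 (Cfsg.Agent.Lib.Cores.pPrimeCore_coprime 2)
    have h3 : orderOf (d' : G) = orderOf (⟨d', hd'⟩ : Cfsg.pPrimeCore 2 (centralizer ({x} : Set G))) := by
      rw [orderOf_coe]
      exact (orderOf_mk d' hd').symm
    show Odd (orderOf (d' : G))
    rw [h3]
    exact h1.of_dvd_nat (orderOf_dvd_natCard _)
  · exact inf_le_right
  · rintro g hg hgx d ⟨⟨d', hd', rfl⟩, hdz⟩
    refine ⟨⟨⟨g, mem_centralizer_singleton_iff.2 hgx⟩ * d' * ⟨g, mem_centralizer_singleton_iff.2 hgx⟩⁻¹,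
      (Cfsg.Agent.Lib.Cores.pPrimeCore_normal 2).conj_mem _ hd' _, rfl⟩, ?_⟩
    exact (CZ F).mul_mem ((CZ F).mul_mem hg hdz) ((CZ F).inv_mem hg)

/-- **the decomposition of `C(z)`** -/
theorem decomp (hC : CommThm.{u}) (P : Alt S F) {ρ : G} (hρ : RhoE F ρ) {d : G} (hd : d ∈ CZ F) :
    ∃ (i : ℕ) (m : M), ∃ o ∈ OZ F, d = rhoZ F ρ ^ i * F m * o := by
  have hz : rhoZ F ρ ∈ CZ F := mem_CZ.2 (rhoZ_comm_z hρ)
  have ha := act_rhoZ hρ
  obtain ⟨n, hn, o, hoZ, e, hN⟩ := frat hC P hd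
  obtain ⟨τ, hτQ, hτ⟩ := hN t (by decide)
  have hPτ : PT τ := PT_of_conj P hn hτ.symm (by decide)
  have hcyc : ∀ τ : M, PT τ → (τ = t ∨ τ = t') ∨ (sigZ τ = t ∨ sigZ τ = t') ∨ (sigZ (sigZ τ) = t ∨ sigZ (sigZ τ) = t') := by
    decide +kernel
  -- move `τ` into `{t, t'}` by a power of `rhoZ`
  have h1 : ∃ i : ℕ, rhoZ F ρ ^ i * n * F t * (rhoZ F ρ ^ i * n)⁻¹ = F t ∨
      rhoZ F ρ ^ i * n * F t * (rhoZ F ρ ^ i * n)⁻¹ = F t' := by
    have hE := (PT_B8t τ hPτ).1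
    rcases hcyc τ hPτ with h | h | h
    · refine ⟨0, ?_⟩
      have e2 : rhoZ F ρ ^ 0 * n * F t * (rhoZ F ρ ^ 0 * n)⁻¹ = F τ := by rw [hτ, pow_zero]; group
      rw [e2]
      exact h.imp (fun h => by rw [h]) (fun h => by rw [h])
    · refine ⟨1, ?_⟩
      have e2 : rhoZ F ρ ^ 1 * n * F t * (rhoZ F ρ ^ 1 * n)⁻¹ = F (sigZ τ) := by
        rw [← (ha τ hE).2, hτ, pow_one]; group
      rw [e2]
      exact h.imp (fun h => by rw [h]) (fun h => by rw [h])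
    · refine ⟨2, ?_⟩
      have e2 : rhoZ F ρ ^ 2 * n * F t * (rhoZ F ρ ^ 2 * n)⁻¹ = F (sigZ (sigZ τ)) := by
        rw [← (ha _ (ha τ hE).1).2, ← (ha τ hE).2, hτ, pow_two]; group
      rw [e2]
      exact h.imp (fun h => by rw [h]) (fun h => by rw [h])
  obtain ⟨i, hi⟩ := h1
  -- an element of `C(t) ∩ C(t')`
  have h2 : ∃ j : M, F j * (rhoZ F ρ ^ i * n) ∈ CT F := by
    have key : ∀ k : G, k * F z = F z * k → k * F t * k⁻¹ = F t → k ∈ CT F := by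
      intro k h1 h2
      have h3 : k * F t = F t * k := by
        calc k * F t = k * F t * k⁻¹ * k := by group
          _ = F t * k := by rw [h2]
      refine mem_CT.2 ⟨h3, ?_⟩
      have e : t' = z * t := by decide
      rw [e, map_mul, ← mul_assoc, h1, mul_assoc, h3, mul_assoc]
    have hmz : rhoZ F ρ ^ i * n ∈ CZ F := mul_mem (pow_mem hz i) hn
    rcases hi with hi | hi
    · refine ⟨1, ?_⟩
      rw [map_one, one_mul]
      exact key _ (mem_CZ.1 hmz) hi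
    · refine ⟨w, key _ (mem_CZ.1 (mul_mem (F_mem_CZ w) hmz)) ?_⟩
      have e2 : F w * (rhoZ F ρ ^ i * n) * F t * (F w * (rhoZ F ρ ^ i * n))⁻¹ =
          F w * (rhoZ F ρ ^ i * n * F t * (rhoZ F ρ ^ i * n)⁻¹) * (F w)⁻¹ := by group
      rw [e2, hi, ← map_mul, ← map_inv, ← map_mul, w_t']
  obtain ⟨j, hj⟩ := h2
  obtain ⟨o', ho', b, hb, e2⟩ := exists_decomp P hj
  have ho'Z := OT_le_OZ hC P ho'
  -- the inverse power of `rhoZ`
  obtain ⟨i', hi'⟩ : ∃ i' : ℕ, (rhoZ F ρ ^ i)⁻¹ = rhoZ F ρ ^ i' := by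
    have h4 : 0 < orderOf (rhoZ F ρ ^ i) := orderOf_pos _
    refine ⟨i * (orderOf (rhoZ F ρ ^ i) - 1), ?_⟩
    rw [pow_mul]
    apply inv_eq_of_mul_eq_one_left
    rw [← pow_succ, Nat.sub_add_cancel h4, pow_orderOf_eq_one]
  refine ⟨i', j⁻¹ * b, (F b)⁻¹ * o' * F b * o, mul_mem ?_ hoZ, ?_⟩
  · have h4 := OZ_conj (inv_mem (F_mem_CZ b)) ho'Z
    rwa [inv_inv] at h4
  · have e3 : n = (rhoZ F ρ ^ i)⁻¹ * ((F j)⁻¹ * (o' * F b)) := by rw [← e2]; group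
    rw [e, e3, hi', map_mul, map_inv]; group

end Cfsg.Agent.LFourA.AltZ8
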