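import Cfsg.Agent.LFourA.AltZ8

/-!
# Case II: the centralizer of `z` is solvable
-/

set_option autoImplicit false

namespace Cfsg.Agent.LFourA.AltZ9

open Cfsg.Agent.LFourA.AltModel Cfsg.Agent.LFourA.AltPat Cfsg.Agent.LFourA.AltNil Cfsg.Agent.LFourA.AltNilB
  Cfsg.Agent.LFourA.AltNilC Cfsg.Agent.LFourA.AltEAct Cfsg.Agent.LFourA.OddFree Cfsg.Agent.LFourA.AltZ1
  Cfsg.Agent.LFourA.AltZ2 Cfsg.Agent.LFourA.AltZ3 Cfsg.Agent.LFourA.AltZ4 Cfsg.Agent.LFourA.AltZ5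
  Cfsg.Agent.LFourA.AltZ6 Cfsg.Agent.LFourA.AltZ7 Cfsg.Agent.LFourA.AltZ8 Cfsg.Agent.LFourA.AltFive Subgroup

universe u

/-- the odd order theorem (S0205) -/
def FT : Prop := ∀ (X : Type u) [Group X] [Finite X], Odd (Nat.card X) → Group.IsSolvable X

theorem solv_step {G : Type u} [Group G] {N K : Subgroup G} (hNK : N ≤ K)
    (hn : ∀ k ∈ K, ∀ x ∈ N, k * x * k⁻¹ ∈ N) (hN : Group.IsSolvable N)
    (hq : ∀ h : (N.subgroupOf K).Normal, Group.IsSolvable (K ⧸ N.subgroupOf K)) : Group.IsSolvable K := by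
  have hN' : (N.subgroupOf K).Normal := ⟨fun x hx k => hn k k.2 x hx⟩
  have h1 : Group.IsSolvable (N.subgroupOf K) :=
    Group.isSolvable_of_isSolvable_injective (f := (subgroupOfEquivOfLe hNK).toMonoidHom)
      (subgroupOfEquivOfLe hNK).injective
  have h2 := hq hN'
  exact (Group.isSolvable_iff_subgroup_quotient (N.subgroupOf K)).2 ⟨h1, h2⟩

theorem solv_two {G : Type u} [Group G] [Finite G] {N K : Subgroup G}
    (h : ∀ k ∈ K, ∃ j : ℕ, k ^ 2 ^ j ∈ N) (hn : (N.subgroupOf K).Normal) : Group.IsSolvable (K ⧸ N.subgroupOf K) := by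
  have h2 : Fact (Nat.Prime 2) := ⟨Nat.prime_two⟩
  have hp : IsPGroup 2 (K ⧸ N.subgroupOf K) := by
    intro y
    obtain ⟨k, rfl⟩ := QuotientGroup.mk_surjective y
    obtain ⟨j, hj⟩ := h k k.2
    refine ⟨j, ?_⟩
    rw [← QuotientGroup.mk_pow, QuotientGroup.eq_one_iff]
    exact hj
  have := hp.isNilpotent
  infer_instance

theorem solv_odd (hFT : FT.{u}) {G : Type u} [Group G] [Finite G] {N K : Subgroup G}
    (h : Odd (N.relIndex K)) (hn : (N.subgroupOf K).Normal) : Group.IsSolvable (K ⧸ N.subgroupOf K) :=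
  hFT _ h

variable {G : Type u} [Group G] {S : Sylow 2 G} {F : M →* G}

variable [Finite G]

/-- **`C(z)` is solvable.** -/
theorem solvable (hFT : FT.{u}) (hC : CommThm.{u}) (P : Alt S F) : Group.IsSolvable (CZ F) := by
  have h2 : Fact (Nat.Prime 2) := ⟨Nat.prime_two⟩
  -- the subgroup `F(Q) O(C(z))`
  let L : Subgroup G :=
    { carrier := {g | ∃ x : M, InQ x ∧ ∃ o ∈ OZ F, g = F x * o}
      one_mem' := ⟨1, by decide, 1, one_mem _, by rw [map_one, one_mul]⟩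
      mul_mem' := by
        rintro _ _ ⟨x, hx, o, ho, rfl⟩ ⟨y, hy, o', ho', rfl⟩
        refine ⟨x * y, InQ_mul _ _ hx hy, (F y)⁻¹ * o * F y * o', mul_mem ?_ ho', ?_⟩
        · have h4 := OZ_conj (inv_mem (F_mem_CZ y)) ho
          rwa [inv_inv] at h4
        · rw [map_mul]; group
      inv_mem' := by
        rintro _ ⟨x, hx, o, ho, rfl⟩
        refine ⟨x⁻¹, InQ_inv _ hx, F x * o⁻¹ * (F x)⁻¹, OZ_conj (F_mem_CZ x) (inv_mem ho), ?_⟩
        rw [map_inv]; group }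
  have hLm : ∀ g, g ∈ L ↔ ∃ x : M, InQ x ∧ ∃ o ∈ OZ F, g = F x * o := fun g => Iff.rfl
  have hOL : OZ F ≤ L := fun o ho => ⟨1, by decide, o, ho, by rw [map_one, one_mul]⟩
  have hLz : L ≤ CZ F := by
    rintro _ ⟨x, -, o, ho, rfl⟩
    exact mul_mem (F_mem_CZ x) (OZ_le ho)
  have hLK : L ≤ KK F := by
    rintro _ ⟨x, hx, o, ho, rfl⟩
    exact mul_mem (F_mem_KK P hx) (OZ_le_KK ho)
  have hLn : ∀ k ∈ CZ F, ∀ x ∈ L, k * x * k⁻¹ ∈ L := by
    rintro k hk _ ⟨x, hx, o, ho, rfl⟩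
    obtain ⟨y, hy, o', ho', e⟩ := Q_normal hC P hk hx
    refine ⟨y, hy, o' * (k * o * k⁻¹), mul_mem ho' (OZ_conj hk ho), ?_⟩
    calc k * (F x * o) * k⁻¹ = k * F x * k⁻¹ * (k * o * k⁻¹) := by group
      _ = F y * o' * (k * o * k⁻¹) := by rw [e]
      _ = _ := by rw [mul_assoc]
  have h1 : Group.IsSolvable (OZ F) := hFT _ OZ_odd_card
  have h3 : Group.IsSolvable L := by
    refine solv_step hOL (fun k hk x hx => OZ_conj (hLz hk) hx) h1 (solv_two ?_)
    rintro _ ⟨x, hx, o, ho, rfl⟩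
    have h4 : ∀ k : ℕ, ∃ o' ∈ OZ F, (F x * o) ^ k = F (x ^ k) * o' := by
      intro k
      induction k with
      | zero => exact ⟨1, one_mem _, by rw [pow_zero, pow_zero, map_one, one_mul]⟩
      | succ k ih =>
        obtain ⟨o', ho', e⟩ := ih
        refine ⟨(F x)⁻¹ * o' * F x * o, mul_mem ?_ ho, ?_⟩
        · have h3 := OZ_conj (inv_mem (F_mem_CZ x)) ho'
          rwa [inv_inv] at h3
        · rw [pow_succ, e, pow_succ, map_mul]; group
    refine ⟨3, ?_⟩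
    obtain ⟨o', ho', e⟩ := h4 8
    rw [show (2 : ℕ) ^ 3 = 8 by norm_num, e, M_pow, map_one, one_mul]
    exact ho'
  have h4 : Group.IsSolvable (KK F) := by
    refine solv_step hLK (fun k hk x hx => hLn k (KK_le hk) x hx) h3 (solv_odd hFT ?_)
    obtain ⟨R, hR⟩ := exists_sylow_KK P
    have h5 : (R : Subgroup (KK F)) ≤ L.subgroupOf (KK F) := by
      intro g hg
      obtain ⟨x, hx, e⟩ := (hR g).1 hg
      exact ⟨x, hx, 1, one_mem _, by rw [mul_one, e]; rfl⟩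
    have h6 : L.relIndex (KK F) ∣ (R : Subgroup (KK F)).index := index_dvd_of_le h5
    have h7 : ¬ 2 ∣ (R : Subgroup (KK F)).index := R.not_dvd_index
    rw [← Nat.not_even_iff_odd, even_iff_two_dvd]
    exact fun h => h7 (h.trans h6)
  refine solv_step KK_le (fun k hk x hx => conj_KK hk hx) h4 (solv_two ?_)
  intro k hk
  obtain ⟨e, m, hm, hmo⟩ := Nat.exists_eq_two_pow_mul_odd (n := orderOf k) (orderOf_pos k).ne'
  refine ⟨e, odd_mem_KK (pow_mem hk _) ?_⟩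
  refine hm.of_dvd_nat (orderOf_dvd_of_pow_eq_one ?_)
  rw [← pow_mul, ← hmo, pow_orderOf_eq_one]

end Cfsg.Agent.LFourA.AltZ9
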