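import Mathlib
import Cfsg.Agent.LFourA.FieldCent

/-!
# Generation of `PSL(2,F)` from centralizers of involutions inside a field centralizer
-/

set_option autoImplicit false

namespace Cfsg.Agent.LFourA.FieldInv

open Matrix Cfsg.Agent.Lib.SL2Mat Cfsg.Agent.Lib.AutSL2 Cfsg.Agent.Lib.AutSL2Out
  Cfsg.Agent.Lib.PSL2Torus Cfsg.Agent.Lib.PSL2Inv Cfsg.Agent.LFourA.GLGen

section traceless

variable {K : Type*} [Field K]

theorem trace_zero {u : GL (Fin 2) K} {a : K} (hu : u.1 * u.1 = a • (1 : Matrix (Fin 2) (Fin 2) K))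
    (hns : ∀ c : K, u.1 ≠ c • (1 : Matrix (Fin 2) (Fin 2) K)) :
    u.1 1 1 = -u.1 0 0 ∧ a = -u.1.det := by
  have e00 := congrFun (congrFun hu 0) 0
  have e01 := congrFun (congrFun hu 0) 1
  have e10 := congrFun (congrFun hu 1) 0
  have e11 := congrFun (congrFun hu 1) 1
  rw [mat_mul] at e00 e01 e10 e11
  change _ = a * 1 at e00
  change _ = a * 0 at e01
  change _ = a * 0 at e10
  change _ = a * 1 at e11
  have h1 : u.1 1 1 = -u.1 0 0 := by
    by_contra hne
    have ht : u.1 0 0 + u.1 1 1 ≠ 0 := fun h0 => hne (eq_neg_of_add_eq_zero_right h0)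
    have h01 : u.1 0 1 = 0 := by
      have : (u.1 0 0 + u.1 1 1) * u.1 0 1 = 0 := by linear_combination e01
      exact (mul_eq_zero.1 this).resolve_left ht
    have h10 : u.1 1 0 = 0 := by
      have : (u.1 0 0 + u.1 1 1) * u.1 1 0 = 0 := by linear_combination e10
      exact (mul_eq_zero.1 this).resolve_left ht
    have h00 : u.1 0 0 = u.1 1 1 := by
      have : (u.1 0 0 + u.1 1 1) * (u.1 0 0 - u.1 1 1) = 0 := by linear_combination e00 - e11
      exact sub_eq_zero.1 ((mul_eq_zero.1 this).resolve_left ht)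
    apply hns (u.1 0 0)
    refine mat_ext ?_ ?_ ?_ ?_
    · change u.1 0 0 = u.1 0 0 * 1; rw [mul_one]
    · change u.1 0 1 = u.1 0 0 * 0; rw [h01, mul_zero]
    · change u.1 1 0 = u.1 0 0 * 0; rw [h10, mul_zero]
    · change u.1 1 1 = u.1 0 0 * 1; rw [mul_one, h00]
  refine ⟨h1, ?_⟩
  rw [det_fin_two, h1]
  linear_combination -e00

/-- commuting traceless matrices have the same discriminant modulo squares -/
theorem det_mul_of_comm (h2 : (2 : K) ≠ 0) {u v : GL (Fin 2) K} (hu : u.1 1 1 = -u.1 0 0)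
    (hv : v.1 1 1 = -v.1 0 0) (hc : u.1 * v.1 = v.1 * u.1) :
    ∃ s : K, s ^ 2 = u.1.det * v.1.det := by
  have e00 := congrFun (congrFun hc 0) 0
  have e01 := congrFun (congrFun hc 0) 1
  have e10 := congrFun (congrFun hc 1) 0
  rw [mat_mul, mat_mul] at e00 e01 e10
  rw [hu, hv] at e01 e10
  refine ⟨u.1 0 0 * v.1 0 0 + u.1 0 1 * v.1 1 0, ?_⟩
  rw [det_fin_two, det_fin_two, hu, hv]
  have k1 : u.1 0 1 * v.1 1 0 = v.1 0 1 * u.1 1 0 := by linear_combination e00
  have k2 : u.1 0 0 * v.1 0 1 = v.1 0 0 * u.1 0 1 := by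
    have : 2 * (u.1 0 0 * v.1 0 1 - v.1 0 0 * u.1 0 1) = 0 := by linear_combination e01
    exact sub_eq_zero.1 ((mul_eq_zero.1 this).resolve_left h2)
  have k3 : u.1 0 0 * v.1 1 0 = v.1 0 0 * u.1 1 0 := by
    have : 2 * (u.1 0 0 * v.1 1 0 - v.1 0 0 * u.1 1 0) = 0 := by linear_combination -e10
    exact sub_eq_zero.1 ((mul_eq_zero.1 this).resolve_left h2)
  generalize u.1 0 0 = a at *
  generalize u.1 0 1 = b at *
  generalize u.1 1 0 = c at *
  generalize v.1 0 0 = a' at *
  generalize v.1 0 1 = b' at *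
  generalize v.1 1 0 = c' at *
  linear_combination b * c' * k1 - a * c' * k2 + a' * b * k3

end traceless

section gen

variable {F : Type*} [Field F] [Finite F] {L : Type*} [Group L]
  {π : Matrix.SpecialLinearGroup (Fin 2) F →* L} {α : MulAut L} {σ : F ≃+* F} {K : Subfield F}

omit [Finite F] in
theorem two_ne (h : FInv π α σ K) : (2 : K) ≠ 0 := by
  intro h0
  apply h.two
  have h1 : K.subtype 2 = K.subtype 0 := by rw [h0]
  rwa [map_ofNat, map_zero] at h1

theorem exists_ne_of_card {k : Type*} [Field k] [Finite k] (hk : 3 < Nat.card k) :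
    ∃ a : k, a ≠ 0 ∧ a ^ 2 ≠ 1 := by
  classical
  by_contra hcon
  push Not at hcon
  have := Fintype.ofFinite k
  have hsub : (Finset.univ : Finset k) ⊆ {0, 1, -1} := by
    intro a _
    by_cases ha : a = 0
    · simp [ha]
    · have h1 := hcon a ha
      have h2 : (a - 1) * (a + 1) = 0 := by linear_combination h1
      rcases mul_eq_zero.1 h2 with h3 | h3
      · simp [sub_eq_zero.1 h3]
      · simp [eq_neg_of_add_eq_zero_left h3]
  have h1 := Finset.card_le_card hsub
  rw [Finset.card_univ, ← Nat.card_eq_fintype_card] at h1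
  have h3 : ({0, 1, -1} : Finset k).card ≤ 3 := Finset.card_le_three
  omega

/-- The fixed points of `α` are generated by the centralizers (in them) of two commuting involutions,
one in `PSL(2,K)`, the other one outside. -/
theorem FInv.le_of_centralizers (h : FInv π α σ K) (hK : 3 < Nat.card K) (M : Subgroup L) {t v : L}
    (ht1 : t ≠ 1) (htt : t * t = 1) (hαt : α t = t) (hv1 : v ≠ 1) (hvv : v * v = 1) (hαv : α v = v)
    (htv : t * v = v * t) (ht : t ∈ h.sub.range) (hv : v ∉ h.sub.range)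
    (hMt : ∀ z, α z = z → z * t = t * z → z ∈ M) (hMv : ∀ z, α z = z → z * v = v * z → z ∈ M) :
    ∀ z, α z = z → z ∈ M := by
  have h2K := two_ne h
  obtain ⟨u₁, rfl⟩ := h.exists_psi hαt
  obtain ⟨u₂, rfl⟩ := h.exists_psi hαv
  have hns : ∀ u : GL (Fin 2) K, h.psi u ≠ 1 → ∀ c : K, u.1 ≠ c • (1 : Matrix (Fin 2) (Fin 2) K) :=
    fun u hu c hc => hu (h.psi_eq_one_iff.2 ⟨c, hc⟩)
  obtain ⟨a, ha⟩ := h.psi_eq_one_iff.1 (by rw [map_mul]; exact htt : h.psi (u₁ * u₁) = 1)
  obtain ⟨b, hb⟩ := h.psi_eq_one_iff.1 (by rw [map_mul]; exact hvv : h.psi (u₂ * u₂) = 1)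
  rw [Units.val_mul] at ha hb
  obtain ⟨htr1, had⟩ := trace_zero ha (hns u₁ ht1)
  obtain ⟨htr2, hbd⟩ := trace_zero hb (hns u₂ hv1)
  rw [h.psi_mem_sub] at ht hv
  -- anticommutation
  have hanti : u₁.1 * u₂.1 = -(u₂.1 * u₁.1) := by
    have h1 : h.psi (u₁ * u₂ * (u₂ * u₁)⁻¹) = 1 := by
      rw [map_mul, map_inv, map_mul, map_mul, htv, mul_inv_cancel]
    obtain ⟨c, hc⟩ := h.psi_eq_one_iff.1 h1
    have h3 : (u₁ * u₂).1 = c • (u₂ * u₁).1 := by
      have h5 : u₁ * u₂ = (u₁ * u₂ * (u₂ * u₁)⁻¹) * (u₂ * u₁) := by group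
      have h6 : (u₁ * u₂).1 = (u₁ * u₂ * (u₂ * u₁)⁻¹).1 * (u₂ * u₁).1 := by
        rw [← Units.val_mul, ← h5]
      rw [h6, hc, Matrix.smul_mul, Matrix.one_mul]
    have hc2 : (c - 1) * (c + 1) = 0 := by
      have h5 := congrArg Matrix.det h3
      rw [Matrix.det_smul, Fintype.card_fin, Units.val_mul, Units.val_mul, Matrix.det_mul,
        Matrix.det_mul, mul_comm u₂.1.det] at h5
      have h6 : u₁.1.det * u₂.1.det ≠ 0 := mul_ne_zero (gl_det_ne _) (gl_det_ne _)
      have h7 : (c ^ 2 - 1) * (u₁.1.det * u₂.1.det) = 0 := by linear_combination -h5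
      have h8 := (mul_eq_zero.1 h7).resolve_right h6
      linear_combination h8
    rw [Units.val_mul, Units.val_mul] at h3
    rcases mul_eq_zero.1 hc2 with h5 | h5
    · exfalso
      rw [sub_eq_zero.1 h5, one_smul] at h3
      obtain ⟨s, hs⟩ := det_mul_of_comm h2K htr1 htr2 h3
      obtain ⟨r, hr⟩ := ht
      have hr0 : r ≠ 0 := by
        rintro rfl
        apply gl_det_ne u₁
        rw [← hr]; ring
      apply hv
      refine ⟨s / r, ?_⟩
      rw [div_pow, hs, hr, mul_div_assoc, mul_comm, div_mul_cancel₀ _ (gl_det_ne u₁)]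
    · rw [eq_neg_of_add_eq_zero_left h5, neg_smul, one_smul] at h3
      exact h3
  -- the subgroup of `GL(2,K)`
  have hcomm : ∀ (u y : GL (Fin 2) K), (y.1 * u.1 = u.1 * y.1 ∨ y.1 * u.1 = -(u.1 * y.1)) →
      h.psi y * h.psi u = h.psi u * h.psi y := by
    intro u y hy
    rw [← map_mul, ← map_mul]
    rcases hy with hy | hy
    · apply congrArg
      apply Units.ext
      exact hy
    · apply h.psi_scalar (c := -1)
      rw [neg_smul, one_smul]
      exact hy
  have hc1 : ∀ y : GL (Fin 2) K, y.1 * u₁.1 = u₁.1 * y.1 ∨ y.1 * u₁.1 = -(u₁.1 * y.1) →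
      y ∈ M.comap h.psi := fun y hy => hMt _ (h.psi_mem y) (hcomm u₁ y hy)
  have hc2 : ∀ y : GL (Fin 2) K, y.1 * u₂.1 = u₂.1 * y.1 ∨ y.1 * u₂.1 = -(u₂.1 * y.1) →
      y ∈ M.comap h.psi := fun y hy => hMv _ (h.psi_mem y) (hcomm u₂ y hy)
  have hanti' : u₂.1 * u₁.1 = -(u₁.1 * u₂.1) := by rw [hanti, neg_neg]
  have hne : ∃ x : K, x ≠ 0 ∧ x ^ 2 ≠ 1 := exists_ne_of_card hK
  have htop : M.comap h.psi = ⊤ := by
    obtain ⟨r, hr⟩ := ht
    have hr0 : r ≠ 0 := by
      rintro rfl
      apply gl_det_ne u₁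
      rw [← hr]; ring
    by_cases hm : ∃ i : K, i ^ 2 = -1
    · obtain ⟨i, hi⟩ := hm
      have hi0 : i ≠ 0 := by
        rintro rfl
        have : (1 : K) = 0 := by linear_combination hi
        exact one_ne_zero this
      refine eq_top_of_pair h2K (s := i * r) (d := b) (mul_ne_zero hi0 hr0) ?_ hne _ ?_ hb hanti
        hc1 hc2
      · intro x hx
        apply hv
        refine ⟨i * x, ?_⟩
        rw [mul_pow, hi, hx, hbd]; ring
      · rw [ha, mul_pow, hi, hr, had]
        congr 1; ring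
    · -- `-1` is not a square
      have hsq : ∃ s : K, s ^ 2 = b := by
        have := Fintype.ofFinite K
        have hchar : ringChar K ≠ 2 := by
          intro h3
          apply h2K
          have : CharP K 2 := by rw [← h3]; exact ringChar.charP K
          exact CharTwo.two_eq_zero
        have hm1 : ¬ IsSquare (-1 : K) := by
          rintro ⟨i, hi⟩
          exact hm ⟨i, by rw [pow_two, ← hi]⟩
        have hdet : ¬ IsSquare (u₂.1.det) := by
          rintro ⟨i, hi⟩
          exact hv ⟨i, by rw [pow_two, ← hi]⟩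
        have h5 : IsSquare b := by
          rw [hbd, ← neg_one_mul]
          have hn1 : (-1 : K) ≠ 0 := by simp
          rw [FiniteField.isSquare_iff hchar (mul_ne_zero hn1 (gl_det_ne u₂)), mul_pow]
          rcases FiniteField.pow_dichotomy hchar hn1 with h6 | h6
          · exact absurd ((FiniteField.isSquare_iff hchar hn1).2 h6) hm1
          · rcases FiniteField.pow_dichotomy hchar (gl_det_ne u₂) with h7 | h7
            · exact absurd ((FiniteField.isSquare_iff hchar (gl_det_ne u₂)).2 h7) hdet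
            · rw [h6, h7]; ring
        obtain ⟨s, hs⟩ := h5
        exact ⟨s, by rw [pow_two, ← hs]⟩
      obtain ⟨s, hs⟩ := hsq
      have hs0 : s ≠ 0 := by
        rintro rfl
        apply gl_det_ne u₂
        have : u₂.1.det = -b := by rw [hbd, neg_neg]
        rw [this, ← hs]; ring
      refine eq_top_of_pair h2K (s := s) (d := a) hs0 ?_ hne _ ?_ ha hanti' hc2 hc1
      · intro x hx
        apply hm
        refine ⟨x / r, ?_⟩
        rw [div_pow, hx, hr, had, neg_div, div_self (gl_det_ne u₁)]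
      · rw [hb, hs]
  intro z hz
  obtain ⟨Y, rfl⟩ := h.exists_psi hz
  have : Y ∈ M.comap h.psi := by rw [htop]; trivial
  exact this

/-- conjugation of a root element by a triangular matrix -/
theorem tri_conj {F : Type*} [Field F] {g : Matrix.SpecialLinearGroup (Fin 2) F} (h10 : ent g 1 0 = 0)
    (k : F) : g * up k * g⁻¹ = up (ent g 0 0 ^ 2 * k) := by
  rw [mul_inv_eq_iff_eq_mul]
  have hd := det_eq g
  rw [h10, mul_zero, sub_zero] at hd
  refine ext_ent ?_ ?_ ?_ ?_ <;> simp only [ent_mul, up_00, up_01, up_10, up_11, h10]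
  · ring
  · linear_combination -(ent g 0 0 * k) * hd
  · ring
  · ring

/-- A subgroup of `L` containing the fixed points of `α` and some other element is `L`. -/
theorem FInv.eq_top_of_le (h : FInv π α σ K) (M : Subgroup L) (hP : ∀ z, α z = z → z ∈ M) {ρ : L}
    (hρ : ρ ∈ M) (hne : α ρ ≠ ρ) : M = ⊤ := by
  have h2 := h.two
  obtain ⟨M', hM'⟩ : ∃ M' : Subgroup (Matrix.SpecialLinearGroup (Fin 2) F), M' = M.comap π := ⟨_, rfl⟩
  have hS : ∀ x, (fieldAut σ x = x ∨ fieldAut σ x = -x) → x ∈ M' := by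
    intro x hx
    rw [hM']
    exact hP _ ((h.alpha_eq_iff x).2 hx)
  obtain ⟨x₀, rfl⟩ := h.surj ρ
  have hx₀ : x₀ ∈ M' := by rw [hM']; exact hρ
  rw [ne_eq, h.alpha_eq_iff] at hne
  -- an element moving the point `∞` out of the projective line over `K`
  obtain ⟨x, hxM, hx⟩ : ∃ x ∈ M', ent x 0 0 * σ (ent x 1 0) ≠ σ (ent x 0 0) * ent x 1 0 := by
    by_contra hcon
    push Not at hcon
    apply hne
    have hjm : jm F ∈ M' := by
      apply hS
      left
      refine ext_ent ?_ ?_ ?_ ?_ <;> simp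
    have hlo : lo (1 : F) ∈ M' := by
      apply hS
      left
      rw [fieldAut_lo, map_one]
    have e1 := hcon x₀ hx₀
    have e2 := hcon _ (M'.mul_mem hx₀ hjm)
    have e3 := hcon _ (M'.mul_mem hx₀ hlo)
    simp only [ent_mul, jm_00, jm_10, lo_00, lo_10, mul_zero, mul_one, zero_add, map_add] at e2 e3
    have hD := det_eq x₀
    have e4 : ent x₀ 0 0 * σ (ent x₀ 1 1) + ent x₀ 0 1 * σ (ent x₀ 1 0) =
        σ (ent x₀ 0 0) * ent x₀ 1 1 + σ (ent x₀ 0 1) * ent x₀ 1 0 := by
      linear_combination e3 - e1 - e2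
    obtain ⟨l, hl⟩ : ∃ l, l = σ (ent x₀ 0 0) * ent x₀ 1 1 - ent x₀ 0 1 * σ (ent x₀ 1 0) := ⟨_, rfl⟩
    have hl' : l = ent x₀ 0 0 * σ (ent x₀ 1 1) - ent x₀ 1 0 * σ (ent x₀ 0 1) := by
      rw [hl]; linear_combination -e4
    apply eq_or_neg_of_smul (c := l)
    refine mat_ext ?_ ?_ ?_ ?_
    · change σ (ent x₀ 0 0) = l * ent x₀ 0 0
      rw [hl]; linear_combination -σ (ent x₀ 0 0) * hD + ent x₀ 0 1 * e1
    · change σ (ent x₀ 0 1) = l * ent x₀ 0 1
      rw [hl']; linear_combination -σ (ent x₀ 0 1) * hD - ent x₀ 0 0 * e2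
    · change σ (ent x₀ 1 0) = l * ent x₀ 1 0
      rw [hl]; linear_combination -σ (ent x₀ 1 0) * hD + ent x₀ 1 1 * e1
    · change σ (ent x₀ 1 1) = l * ent x₀ 1 1
      rw [hl']; linear_combination -σ (ent x₀ 1 1) * hD - ent x₀ 1 0 * e2
  -- the root elements in `M'`
  have hadd : ∀ f g : F, up f ∈ M' → up g ∈ M' → up (f + g) ∈ M' := by
    intro f g hf hg
    rw [← up_mul]
    exact M'.mul_mem hf hg
  have hmul : ∀ k f : F, σ k = k → up f ∈ M' → up (k * f) ∈ M' := by
    intro k f hk hf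
    by_cases hk0 : k = 0
    · rw [hk0, zero_mul, up_zero]
      exact M'.one_mem
    · obtain ⟨e, he⟩ := h.exists_sqrt hk
      have he0 : e ≠ 0 := by
        rintro rfl
        exact hk0 (by rw [← he, mul_zero])
      have hσe : σ e = e ∨ σ e = -e := by
        have h3 : (σ e - e) * (σ e + e) = 0 := by
          have h5 : σ e * σ e = e * e := by rw [← map_mul, he, hk]
          linear_combination h5
        rcases mul_eq_zero.1 h3 with h5 | h5
        · exact Or.inl (sub_eq_zero.1 h5)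
        · exact Or.inr (eq_neg_of_add_eq_zero_left h5)
      have hdg : dg e he0 ∈ M' := by
        apply hS
        have hneg : ∀ (y : Matrix.SpecialLinearGroup (Fin 2) F) i j, ent (-y) i j = -ent y i j :=
          fun _ _ _ => rfl
        rcases hσe with h3 | h3
        · left
          refine ext_ent ?_ ?_ ?_ ?_ <;> simp [h3]
        · right
          refine ext_ent ?_ ?_ ?_ ?_ <;> simp [h3, hneg]
      have h3 : dg e he0 * up f * (dg e he0)⁻¹ = up (k * f) := by
        rw [dg_up, mul_inv_cancel_right, pow_two, he]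
      rw [← h3]
      exact M'.mul_mem (M'.mul_mem hdg hf) (M'.inv_mem hdg)
  have hone : up (1 : F) ∈ M' := by
    apply hS
    left
    rw [fieldAut_up, map_one]
  -- the key element
  have hkey : ∀ μ : F, μ ≠ 0 → up (μ / σ μ) ∈ M' := by
    intro μ hμ
    obtain ⟨D, hD⟩ : ∃ D, D = ent x 0 0 * σ (ent x 1 0) - ent x 1 0 * σ (ent x 0 0) := ⟨_, rfl⟩
    have hD0 : D ≠ 0 := by
      intro h0
      apply hx
      rw [h0] at hD
      linear_combination -hD
    have hσμ : σ μ ≠ 0 := by rwa [ne_eq, map_eq_zero]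
    have hσσ := h.inv
    have hσD : σ D = -D := by
      rw [hD, map_sub, map_mul, map_mul, hσσ, hσσ]; ring
    have hσDi : σ D⁻¹ = -D⁻¹ := by rw [map_inv₀, hσD, inv_neg]
    obtain ⟨e, he⟩ := h.exists_sqrt (d := (μ * σ μ)⁻¹) (by
      rw [map_inv₀, map_mul, hσσ, mul_comm])
    have he' : e * e * (μ * σ μ) = 1 := by
      rw [he, inv_mul_cancel₀ (mul_ne_zero hμ hσμ)]
    have hσe : σ e = e ∨ σ e = -e := by
      have h3 : (σ e - e) * (σ e + e) = 0 := by
        have h5 : σ e * σ e = e * e := by rw [← map_mul, he, map_inv₀, map_mul, hσσ, mul_comm]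
        linear_combination h5
      rcases mul_eq_zero.1 h3 with h5 | h5
      · exact Or.inl (sub_eq_zero.1 h5)
      · exact Or.inr (eq_neg_of_add_eq_zero_left h5)
    -- generalize the entries of `x`
    obtain ⟨a, ha⟩ : ∃ a, a = ent x 0 0 := ⟨_, rfl⟩
    obtain ⟨c, hc⟩ : ∃ c, c = ent x 1 0 := ⟨_, rfl⟩
    rw [← ha, ← hc] at hD
    have hDD : D⁻¹ * D = 1 := inv_mul_cancel₀ hD0
    let y : Matrix.SpecialLinearGroup (Fin 2) F := Cfsg.Agent.Lib.SL2Mat.mk
      (e * D⁻¹ * (a * μ * σ c - σ a * σ μ * c)) (e * D⁻¹ * (σ a * σ μ * a - a * μ * σ a))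
      (e * D⁻¹ * (c * μ * σ c - σ c * σ μ * c)) (e * D⁻¹ * (σ c * σ μ * a - c * μ * σ a)) (by
        have h3 : (a * μ * σ c - σ a * σ μ * c) * (σ c * σ μ * a - c * μ * σ a) -
            (σ a * σ μ * a - a * μ * σ a) * (c * μ * σ c - σ c * σ μ * c) = μ * σ μ * D ^ 2 := by
          rw [hD]; ring
        calc _ = e * e * (D⁻¹ * D⁻¹) * ((a * μ * σ c - σ a * σ μ * c) * (σ c * σ μ * a - c * μ * σ a) -
            (σ a * σ μ * a - a * μ * σ a) * (c * μ * σ c - σ c * σ μ * c)) := by ring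
          _ = (e * e * (μ * σ μ)) * (D⁻¹ * D) ^ 2 := by rw [h3]; ring
          _ = 1 := by rw [he', hDD]; ring)
    have hy : y ∈ M' := by
      apply hS
      have hneg : ∀ (y : Matrix.SpecialLinearGroup (Fin 2) F) i j, ent (-y) i j = -ent y i j :=
        fun _ _ _ => rfl
      rcases hσe with h3 | h3
      · left
        refine ext_ent ?_ ?_ ?_ ?_ <;>
          simp only [y, fieldAut_ent, mk_00, mk_01, mk_10, mk_11, map_mul, map_sub, h3, hσDi, hσσ] <;>
          ring
      · right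
        refine ext_ent ?_ ?_ ?_ ?_ <;>
          simp only [y, hneg, fieldAut_ent, mk_00, mk_01, mk_10, mk_11, map_mul, map_sub, h3, hσDi,
            hσσ] <;> ring
    have hg : x⁻¹ * y * x ∈ M' := M'.mul_mem (M'.mul_mem (M'.inv_mem hxM) hy) hxM
    have hdx := det_eq x
    rw [← ha, ← hc] at hdx
    -- first column of `y x`
    have c0 : ent (y * x) 0 0 = e * μ * a := by
      rw [ent_mul, ← ha, ← hc]
      change e * D⁻¹ * (a * μ * σ c - σ a * σ μ * c) * a +
        e * D⁻¹ * (σ a * σ μ * a - a * μ * σ a) * c = _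
      have : e * D⁻¹ * (a * μ * σ c - σ a * σ μ * c) * a +
        e * D⁻¹ * (σ a * σ μ * a - a * μ * σ a) * c = e * μ * a * (D⁻¹ * D) := by rw [hD]; ring
      rw [this, hDD, mul_one]
    have c1 : ent (y * x) 1 0 = e * μ * c := by
      rw [ent_mul, ← ha, ← hc]
      change e * D⁻¹ * (c * μ * σ c - σ c * σ μ * c) * a +
        e * D⁻¹ * (σ c * σ μ * a - c * μ * σ a) * c = _
      have : e * D⁻¹ * (c * μ * σ c - σ c * σ μ * c) * a +
        e * D⁻¹ * (σ c * σ μ * a - c * μ * σ a) * c = e * μ * c * (D⁻¹ * D) := by rw [hD]; ring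
      rw [this, hDD, mul_one]
    have g0 : ent (x⁻¹ * y * x) 0 0 = e * μ := by
      rw [mul_assoc, ent_mul, c0, c1, ent_inv, mk_00, mk_01]
      linear_combination (e * μ) * hdx
    have g1 : ent (x⁻¹ * y * x) 1 0 = 0 := by
      rw [mul_assoc, ent_mul, c0, c1, ent_inv, mk_10, mk_11, ← ha, ← hc]
      ring
    have h3 := tri_conj g1 1
    rw [g0] at h3
    have h5 : (e * μ) ^ 2 * 1 = μ / σ μ := by
      rw [eq_div_iff hσμ]
      linear_combination μ * he'
    rw [← h5, ← h3]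
    exact M'.mul_mem (M'.mul_mem hg hone) (M'.inv_mem hg)
  -- all root elements
  obtain ⟨μ, hμ0, hμ⟩ : ∃ μ : F, μ ≠ 0 ∧ σ μ * σ μ ≠ μ * μ := by
    obtain ⟨a, ha⟩ := h.ne
    by_cases h3 : σ a = -a
    · refine ⟨a + 1, ?_, ?_⟩
      · intro h5
        have h6 : a = -1 := eq_neg_of_add_eq_zero_left h5
        apply ha
        rw [h6, map_neg, map_one]
      · rw [map_add, map_one, h3]
        intro h5
        have h6 : 2 * (2 * a) = 0 := by linear_combination -h5
        have h7 : a = 0 := by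
          have := (mul_eq_zero.1 h6).resolve_left h2
          exact (mul_eq_zero.1 this).resolve_left h2
        apply ha
        rw [h7, map_zero]
    · refine ⟨a, ?_, ?_⟩
      · rintro rfl
        exact ha (map_zero σ)
      · intro h5
        have h6 : (σ a - a) * (σ a + a) = 0 := by linear_combination h5
        rcases mul_eq_zero.1 h6 with h7 | h7
        · exact ha (sub_eq_zero.1 h7)
        · exact h3 (eq_neg_of_add_eq_zero_left h7)
  have hσμ : σ μ ≠ 0 := by rwa [ne_eq, map_eq_zero]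
  obtain ⟨ε, hε⟩ : ∃ ε, ε = μ / σ μ := ⟨_, rfl⟩
  have hεM : up ε ∈ M' := by rw [hε]; exact hkey μ hμ0
  have hσε : ε - σ ε ≠ 0 := by
    intro h3
    apply hμ
    have h5 : μ / σ μ = σ μ / μ := by
      have h6 : σ ε = σ μ / μ := by rw [hε, map_div₀, h.inv]
      rw [← h6, ← hε]
      exact sub_eq_zero.1 h3
    rw [div_eq_div_iff hσμ hμ0] at h5
    exact h5.symm
  have hup : ∀ f : F, up f ∈ M' := by
    intro f
    obtain ⟨k, hk⟩ : ∃ k, k = (f - σ f) / (ε - σ ε) := ⟨_, rfl⟩
    have hσk : σ k = k := by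
      rw [hk, map_div₀, map_sub, map_sub, h.inv, h.inv, ← neg_sub f, ← neg_sub ε, neg_div_neg_eq]
    have hσl : σ (f - k * ε) = f - k * ε := by
      have : k * (ε - σ ε) = f - σ f := by rw [hk, div_mul_cancel₀ _ hσε]
      rw [map_sub, map_mul, hσk]
      linear_combination this
    have h3 : f = (f - k * ε) * 1 + k * ε := by ring
    rw [h3]
    exact hadd _ _ (hmul _ _ hσl hone) (hmul _ _ hσk hεM)
  have hjm : jm F ∈ M' := by
    apply hS
    left
    refine ext_ent ?_ ?_ ?_ ?_ <;> simp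
  have hlo : ∀ f : F, lo f ∈ M' := by
    intro f
    have h3 : lo f = jm F * up (-f) * (jm F)⁻¹ := by
      rw [eq_mul_inv_iff_mul_eq]
      refine ext_ent ?_ ?_ ?_ ?_ <;> simp [ent_mul]
    rw [h3]
    exact M'.mul_mem (M'.mul_mem hjm (hup _)) (M'.inv_mem hjm)
  rw [eq_top_iff]
  intro z _
  obtain ⟨w, rfl⟩ := h.surj z
  obtain ⟨a, b, c, d, rfl⟩ := exists_up_lo w
  have : up a * lo b * up c * lo d ∈ M' :=
    M'.mul_mem (M'.mul_mem (M'.mul_mem (hup a) (hlo b)) (hup c)) (hlo d)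
  rwa [hM'] at this

end gen

end Cfsg.Agent.LFourA.FieldInv
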